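import Cfsg.Agent.H35.T1690.PTab

set_option autoImplicit false
set_option linter.all false
set_option Elab.async false

namespace Cfsg.Agent.H35

theorem t1690_pchk_1200 : allR t1690_pf 306936 6 (1200 * 2 ^ 6) = true := by decide +kernel
theorem t1690_pchk_1201 : allR t1690_pf 306936 6 (1201 * 2 ^ 6) = true := by decide +kernel
theorem t1690_pchk_1202 : allR t1690_pf 306936 6 (1202 * 2 ^ 6) = true := by decide +kernel
theorem t1690_pchk_1203 : allR t1690_pf 306936 6 (1203 * 2 ^ 6) = true := by decide +kernel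
theorem t1690_pchk_1204 : allR t1690_pf 306936 6 (1204 * 2 ^ 6) = true := by decide +kernel
theorem t1690_pchk_1205 : allR t1690_pf 306936 6 (1205 * 2 ^ 6) = true := by decide +kernel
theorem t1690_pchk_1206 : allR t1690_pf 306936 6 (1206 * 2 ^ 6) = true := by decide +kernel
theorem t1690_pchk_1207 : allR t1690_pf 306936 6 (1207 * 2 ^ 6) = true := by decide +kernel
theorem t1690_pchk_1208 : allR t1690_pf 306936 6 (1208 * 2 ^ 6) = true := by decide +kernel
theorem t1690_pchk_1209 : allR t1690_pf 306936 6 (1209 * 2 ^ 6) = true := by decide +kernel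
theorem t1690_pchk_1210 : allR t1690_pf 306936 6 (1210 * 2 ^ 6) = true := by decide +kernel
theorem t1690_pchk_1211 : allR t1690_pf 306936 6 (1211 * 2 ^ 6) = true := by decide +kernel
theorem t1690_pchk_1212 : allR t1690_pf 306936 6 (1212 * 2 ^ 6) = true := by decide +kernel
theorem t1690_pchk_1213 : allR t1690_pf 306936 6 (1213 * 2 ^ 6) = true := by decide +kernel
theorem t1690_pchk_1214 : allR t1690_pf 306936 6 (1214 * 2 ^ 6) = true := by decide +kernel
theorem t1690_pchk_1215 : allR t1690_pf 306936 6 (1215 * 2 ^ 6) = true := by decide +kernel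
theorem t1690_pchk_1216 : allR t1690_pf 306936 6 (1216 * 2 ^ 6) = true := by decide +kernel
theorem t1690_pchk_1217 : allR t1690_pf 306936 6 (1217 * 2 ^ 6) = true := by decide +kernel
theorem t1690_pchk_1218 : allR t1690_pf 306936 6 (1218 * 2 ^ 6) = true := by decide +kernel
theorem t1690_pchk_1219 : allR t1690_pf 306936 6 (1219 * 2 ^ 6) = true := by decide +kernel
theorem t1690_pchk_1220 : allR t1690_pf 306936 6 (1220 * 2 ^ 6) = true := by decide +kernel
theorem t1690_pchk_1221 : allR t1690_pf 306936 6 (1221 * 2 ^ 6) = true := by decide +kernel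
theorem t1690_pchk_1222 : allR t1690_pf 306936 6 (1222 * 2 ^ 6) = true := by decide +kernel
theorem t1690_pchk_1223 : allR t1690_pf 306936 6 (1223 * 2 ^ 6) = true := by decide +kernel
theorem t1690_pchk_1224 : allR t1690_pf 306936 6 (1224 * 2 ^ 6) = true := by decide +kernel
theorem t1690_pchk_1225 : allR t1690_pf 306936 6 (1225 * 2 ^ 6) = true := by decide +kernel
theorem t1690_pchk_1226 : allR t1690_pf 306936 6 (1226 * 2 ^ 6) = true := by decide +kernel
theorem t1690_pchk_1227 : allR t1690_pf 306936 6 (1227 * 2 ^ 6) = true := by decide +kernel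
theorem t1690_pchk_1228 : allR t1690_pf 306936 6 (1228 * 2 ^ 6) = true := by decide +kernel
theorem t1690_pchk_1229 : allR t1690_pf 306936 6 (1229 * 2 ^ 6) = true := by decide +kernel
theorem t1690_pchk_1230 : allR t1690_pf 306936 6 (1230 * 2 ^ 6) = true := by decide +kernel
theorem t1690_pchk_1231 : allR t1690_pf 306936 6 (1231 * 2 ^ 6) = true := by decide +kernel
theorem t1690_pchk_1232 : allR t1690_pf 306936 6 (1232 * 2 ^ 6) = true := by decide +kernel
theorem t1690_pchk_1233 : allR t1690_pf 306936 6 (1233 * 2 ^ 6) = true := by decide +kernel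
theorem t1690_pchk_1234 : allR t1690_pf 306936 6 (1234 * 2 ^ 6) = true := by decide +kernel
theorem t1690_pchk_1235 : allR t1690_pf 306936 6 (1235 * 2 ^ 6) = true := by decide +kernel
theorem t1690_pchk_1236 : allR t1690_pf 306936 6 (1236 * 2 ^ 6) = true := by decide +kernel
theorem t1690_pchk_1237 : allR t1690_pf 306936 6 (1237 * 2 ^ 6) = true := by decide +kernel
theorem t1690_pchk_1238 : allR t1690_pf 306936 6 (1238 * 2 ^ 6) = true := by decide +kernel
theorem t1690_pchk_1239 : allR t1690_pf 306936 6 (1239 * 2 ^ 6) = true := by decide +kernel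
theorem t1690_pchk_1240 : allR t1690_pf 306936 6 (1240 * 2 ^ 6) = true := by decide +kernel
theorem t1690_pchk_1241 : allR t1690_pf 306936 6 (1241 * 2 ^ 6) = true := by decide +kernel
theorem t1690_pchk_1242 : allR t1690_pf 306936 6 (1242 * 2 ^ 6) = true := by decide +kernel
theorem t1690_pchk_1243 : allR t1690_pf 306936 6 (1243 * 2 ^ 6) = true := by decide +kernel
theorem t1690_pchk_1244 : allR t1690_pf 306936 6 (1244 * 2 ^ 6) = true := by decide +kernel
theorem t1690_pchk_1245 : allR t1690_pf 306936 6 (1245 * 2 ^ 6) = true := by decide +kernel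
theorem t1690_pchk_1246 : allR t1690_pf 306936 6 (1246 * 2 ^ 6) = true := by decide +kernel
theorem t1690_pchk_1247 : allR t1690_pf 306936 6 (1247 * 2 ^ 6) = true := by decide +kernel
theorem t1690_pchk_1248 : allR t1690_pf 306936 6 (1248 * 2 ^ 6) = true := by decide +kernel
theorem t1690_pchk_1249 : allR t1690_pf 306936 6 (1249 * 2 ^ 6) = true := by decide +kernel
theorem t1690_pchk_1250 : allR t1690_pf 306936 6 (1250 * 2 ^ 6) = true := by decide +kernel
theorem t1690_pchk_1251 : allR t1690_pf 306936 6 (1251 * 2 ^ 6) = true := by decide +kernel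
theorem t1690_pchk_1252 : allR t1690_pf 306936 6 (1252 * 2 ^ 6) = true := by decide +kernel
theorem t1690_pchk_1253 : allR t1690_pf 306936 6 (1253 * 2 ^ 6) = true := by decide +kernel
theorem t1690_pchk_1254 : allR t1690_pf 306936 6 (1254 * 2 ^ 6) = true := by decide +kernel
theorem t1690_pchk_1255 : allR t1690_pf 306936 6 (1255 * 2 ^ 6) = true := by decide +kernel
theorem t1690_pchk_1256 : allR t1690_pf 306936 6 (1256 * 2 ^ 6) = true := by decide +kernel
theorem t1690_pchk_1257 : allR t1690_pf 306936 6 (1257 * 2 ^ 6) = true := by decide +kernel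
theorem t1690_pchk_1258 : allR t1690_pf 306936 6 (1258 * 2 ^ 6) = true := by decide +kernel
theorem t1690_pchk_1259 : allR t1690_pf 306936 6 (1259 * 2 ^ 6) = true := by decide +kernel
theorem t1690_pchk_1260 : allR t1690_pf 306936 6 (1260 * 2 ^ 6) = true := by decide +kernel
theorem t1690_pchk_1261 : allR t1690_pf 306936 6 (1261 * 2 ^ 6) = true := by decide +kernel
theorem t1690_pchk_1262 : allR t1690_pf 306936 6 (1262 * 2 ^ 6) = true := by decide +kernel
theorem t1690_pchk_1263 : allR t1690_pf 306936 6 (1263 * 2 ^ 6) = true := by decide +kernel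
theorem t1690_pchk_1264 : allR t1690_pf 306936 6 (1264 * 2 ^ 6) = true := by decide +kernel
theorem t1690_pchk_1265 : allR t1690_pf 306936 6 (1265 * 2 ^ 6) = true := by decide +kernel
theorem t1690_pchk_1266 : allR t1690_pf 306936 6 (1266 * 2 ^ 6) = true := by decide +kernel
theorem t1690_pchk_1267 : allR t1690_pf 306936 6 (1267 * 2 ^ 6) = true := by decide +kernel
theorem t1690_pchk_1268 : allR t1690_pf 306936 6 (1268 * 2 ^ 6) = true := by decide +kernel
theorem t1690_pchk_1269 : allR t1690_pf 306936 6 (1269 * 2 ^ 6) = true := by decide +kernel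
theorem t1690_pchk_1270 : allR t1690_pf 306936 6 (1270 * 2 ^ 6) = true := by decide +kernel
theorem t1690_pchk_1271 : allR t1690_pf 306936 6 (1271 * 2 ^ 6) = true := by decide +kernel
theorem t1690_pchk_1272 : allR t1690_pf 306936 6 (1272 * 2 ^ 6) = true := by decide +kernel
theorem t1690_pchk_1273 : allR t1690_pf 306936 6 (1273 * 2 ^ 6) = true := by decide +kernel
theorem t1690_pchk_1274 : allR t1690_pf 306936 6 (1274 * 2 ^ 6) = true := by decide +kernel
theorem t1690_pchk_1275 : allR t1690_pf 306936 6 (1275 * 2 ^ 6) = true := by decide +kernel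
theorem t1690_pchk_1276 : allR t1690_pf 306936 6 (1276 * 2 ^ 6) = true := by decide +kernel
theorem t1690_pchk_1277 : allR t1690_pf 306936 6 (1277 * 2 ^ 6) = true := by decide +kernel
theorem t1690_pchk_1278 : allR t1690_pf 306936 6 (1278 * 2 ^ 6) = true := by decide +kernel
theorem t1690_pchk_1279 : allR t1690_pf 306936 6 (1279 * 2 ^ 6) = true := by decide +kernel
theorem t1690_pchk_1280 : allR t1690_pf 306936 6 (1280 * 2 ^ 6) = true := by decide +kernel
theorem t1690_pchk_1281 : allR t1690_pf 306936 6 (1281 * 2 ^ 6) = true := by decide +kernel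
theorem t1690_pchk_1282 : allR t1690_pf 306936 6 (1282 * 2 ^ 6) = true := by decide +kernel
theorem t1690_pchk_1283 : allR t1690_pf 306936 6 (1283 * 2 ^ 6) = true := by decide +kernel
theorem t1690_pchk_1284 : allR t1690_pf 306936 6 (1284 * 2 ^ 6) = true := by decide +kernel
theorem t1690_pchk_1285 : allR t1690_pf 306936 6 (1285 * 2 ^ 6) = true := by decide +kernel
theorem t1690_pchk_1286 : allR t1690_pf 306936 6 (1286 * 2 ^ 6) = true := by decide +kernel
theorem t1690_pchk_1287 : allR t1690_pf 306936 6 (1287 * 2 ^ 6) = true := by decide +kernel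
theorem t1690_pchk_1288 : allR t1690_pf 306936 6 (1288 * 2 ^ 6) = true := by decide +kernel
theorem t1690_pchk_1289 : allR t1690_pf 306936 6 (1289 * 2 ^ 6) = true := by decide +kernel
theorem t1690_pchk_1290 : allR t1690_pf 306936 6 (1290 * 2 ^ 6) = true := by decide +kernel
theorem t1690_pchk_1291 : allR t1690_pf 306936 6 (1291 * 2 ^ 6) = true := by decide +kernel
theorem t1690_pchk_1292 : allR t1690_pf 306936 6 (1292 * 2 ^ 6) = true := by decide +kernel
theorem t1690_pchk_1293 : allR t1690_pf 306936 6 (1293 * 2 ^ 6) = true := by decide +kernel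
theorem t1690_pchk_1294 : allR t1690_pf 306936 6 (1294 * 2 ^ 6) = true := by decide +kernel
theorem t1690_pchk_1295 : allR t1690_pf 306936 6 (1295 * 2 ^ 6) = true := by decide +kernel
theorem t1690_pchk_1296 : allR t1690_pf 306936 6 (1296 * 2 ^ 6) = true := by decide +kernel
theorem t1690_pchk_1297 : allR t1690_pf 306936 6 (1297 * 2 ^ 6) = true := by decide +kernel
theorem t1690_pchk_1298 : allR t1690_pf 306936 6 (1298 * 2 ^ 6) = true := by decide +kernel
theorem t1690_pchk_1299 : allR t1690_pf 306936 6 (1299 * 2 ^ 6) = true := by decide +kernel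
theorem t1690_pchk_1300 : allR t1690_pf 306936 6 (1300 * 2 ^ 6) = true := by decide +kernel
theorem t1690_pchk_1301 : allR t1690_pf 306936 6 (1301 * 2 ^ 6) = true := by decide +kernel
theorem t1690_pchk_1302 : allR t1690_pf 306936 6 (1302 * 2 ^ 6) = true := by decide +kernel
theorem t1690_pchk_1303 : allR t1690_pf 306936 6 (1303 * 2 ^ 6) = true := by decide +kernel
theorem t1690_pchk_1304 : allR t1690_pf 306936 6 (1304 * 2 ^ 6) = true := by decide +kernel
theorem t1690_pchk_1305 : allR t1690_pf 306936 6 (1305 * 2 ^ 6) = true := by decide +kernel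
theorem t1690_pchk_1306 : allR t1690_pf 306936 6 (1306 * 2 ^ 6) = true := by decide +kernel
theorem t1690_pchk_1307 : allR t1690_pf 306936 6 (1307 * 2 ^ 6) = true := by decide +kernel
theorem t1690_pchk_1308 : allR t1690_pf 306936 6 (1308 * 2 ^ 6) = true := by decide +kernel
theorem t1690_pchk_1309 : allR t1690_pf 306936 6 (1309 * 2 ^ 6) = true := by decide +kernel
theorem t1690_pchk_1310 : allR t1690_pf 306936 6 (1310 * 2 ^ 6) = true := by decide +kernel
theorem t1690_pchk_1311 : allR t1690_pf 306936 6 (1311 * 2 ^ 6) = true := by decide +kernel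
theorem t1690_pchk_1312 : allR t1690_pf 306936 6 (1312 * 2 ^ 6) = true := by decide +kernel
theorem t1690_pchk_1313 : allR t1690_pf 306936 6 (1313 * 2 ^ 6) = true := by decide +kernel
theorem t1690_pchk_1314 : allR t1690_pf 306936 6 (1314 * 2 ^ 6) = true := by decide +kernel
theorem t1690_pchk_1315 : allR t1690_pf 306936 6 (1315 * 2 ^ 6) = true := by decide +kernel
theorem t1690_pchk_1316 : allR t1690_pf 306936 6 (1316 * 2 ^ 6) = true := by decide +kernel
theorem t1690_pchk_1317 : allR t1690_pf 306936 6 (1317 * 2 ^ 6) = true := by decide +kernel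
theorem t1690_pchk_1318 : allR t1690_pf 306936 6 (1318 * 2 ^ 6) = true := by decide +kernel
theorem t1690_pchk_1319 : allR t1690_pf 306936 6 (1319 * 2 ^ 6) = true := by decide +kernel

theorem t1690_pfile_10 : ∀ k, k < 1320 → 1200 ≤ k → allR t1690_pf 306936 6 (k * 2 ^ 6) = true := by
  intro k h1 h2
  interval_cases k
  · exact t1690_pchk_1200
  · exact t1690_pchk_1201
  · exact t1690_pchk_1202
  · exact t1690_pchk_1203
  · exact t1690_pchk_1204
  · exact t1690_pchk_1205
  · exact t1690_pchk_1206
  · exact t1690_pchk_1207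
  · exact t1690_pchk_1208
  · exact t1690_pchk_1209
  · exact t1690_pchk_1210
  · exact t1690_pchk_1211
  · exact t1690_pchk_1212
  · exact t1690_pchk_1213
  · exact t1690_pchk_1214
  · exact t1690_pchk_1215
  · exact t1690_pchk_1216
  · exact t1690_pchk_1217
  · exact t1690_pchk_1218
  · exact t1690_pchk_1219
  · exact t1690_pchk_1220
  · exact t1690_pchk_1221
  · exact t1690_pchk_1222
  · exact t1690_pchk_1223
  · exact t1690_pchk_1224
  · exact t1690_pchk_1225
  · exact t1690_pchk_1226
  · exact t1690_pchk_1227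
  · exact t1690_pchk_1228
  · exact t1690_pchk_1229
  · exact t1690_pchk_1230
  · exact t1690_pchk_1231
  · exact t1690_pchk_1232
  · exact t1690_pchk_1233
  · exact t1690_pchk_1234
  · exact t1690_pchk_1235
  · exact t1690_pchk_1236
  · exact t1690_pchk_1237
  · exact t1690_pchk_1238
  · exact t1690_pchk_1239
  · exact t1690_pchk_1240
  · exact t1690_pchk_1241
  · exact t1690_pchk_1242
  · exact t1690_pchk_1243
  · exact t1690_pchk_1244
  · exact t1690_pchk_1245
  · exact t1690_pchk_1246
  · exact t1690_pchk_1247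
  · exact t1690_pchk_1248
  · exact t1690_pchk_1249
  · exact t1690_pchk_1250
  · exact t1690_pchk_1251
  · exact t1690_pchk_1252
  · exact t1690_pchk_1253
  · exact t1690_pchk_1254
  · exact t1690_pchk_1255
  · exact t1690_pchk_1256
  · exact t1690_pchk_1257
  · exact t1690_pchk_1258
  · exact t1690_pchk_1259
  · exact t1690_pchk_1260
  · exact t1690_pchk_1261
  · exact t1690_pchk_1262
  · exact t1690_pchk_1263
  · exact t1690_pchk_1264
  · exact t1690_pchk_1265
  · exact t1690_pchk_1266
  · exact t1690_pchk_1267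
  · exact t1690_pchk_1268
  · exact t1690_pchk_1269
  · exact t1690_pchk_1270
  · exact t1690_pchk_1271
  · exact t1690_pchk_1272
  · exact t1690_pchk_1273
  · exact t1690_pchk_1274
  · exact t1690_pchk_1275
  · exact t1690_pchk_1276
  · exact t1690_pchk_1277
  · exact t1690_pchk_1278
  · exact t1690_pchk_1279
  · exact t1690_pchk_1280
  · exact t1690_pchk_1281
  · exact t1690_pchk_1282
  · exact t1690_pchk_1283
  · exact t1690_pchk_1284
  · exact t1690_pchk_1285
  · exact t1690_pchk_1286
  · exact t1690_pchk_1287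
  · exact t1690_pchk_1288
  · exact t1690_pchk_1289
  · exact t1690_pchk_1290
  · exact t1690_pchk_1291
  · exact t1690_pchk_1292
  · exact t1690_pchk_1293
  · exact t1690_pchk_1294
  · exact t1690_pchk_1295
  · exact t1690_pchk_1296
  · exact t1690_pchk_1297
  · exact t1690_pchk_1298
  · exact t1690_pchk_1299
  · exact t1690_pchk_1300
  · exact t1690_pchk_1301
  · exact t1690_pchk_1302
  · exact t1690_pchk_1303
  · exact t1690_pchk_1304
  · exact t1690_pchk_1305
  · exact t1690_pchk_1306
  · exact t1690_pchk_1307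
  · exact t1690_pchk_1308
  · exact t1690_pchk_1309
  · exact t1690_pchk_1310
  · exact t1690_pchk_1311
  · exact t1690_pchk_1312
  · exact t1690_pchk_1313
  · exact t1690_pchk_1314
  · exact t1690_pchk_1315
  · exact t1690_pchk_1316
  · exact t1690_pchk_1317
  · exact t1690_pchk_1318
  · exact t1690_pchk_1319

end Cfsg.Agent.H35
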