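import Cfsg.Agent.H35.T1690.PTab

set_option autoImplicit false
set_option linter.all false
set_option Elab.async false

namespace Cfsg.Agent.H35

theorem t1690_pchk_1320 : allR t1690_pf 306936 6 (1320 * 2 ^ 6) = true := by decide +kernel
theorem t1690_pchk_1321 : allR t1690_pf 306936 6 (1321 * 2 ^ 6) = true := by decide +kernel
theorem t1690_pchk_1322 : allR t1690_pf 306936 6 (1322 * 2 ^ 6) = true := by decide +kernel
theorem t1690_pchk_1323 : allR t1690_pf 306936 6 (1323 * 2 ^ 6) = true := by decide +kernel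
theorem t1690_pchk_1324 : allR t1690_pf 306936 6 (1324 * 2 ^ 6) = true := by decide +kernel
theorem t1690_pchk_1325 : allR t1690_pf 306936 6 (1325 * 2 ^ 6) = true := by decide +kernel
theorem t1690_pchk_1326 : allR t1690_pf 306936 6 (1326 * 2 ^ 6) = true := by decide +kernel
theorem t1690_pchk_1327 : allR t1690_pf 306936 6 (1327 * 2 ^ 6) = true := by decide +kernel
theorem t1690_pchk_1328 : allR t1690_pf 306936 6 (1328 * 2 ^ 6) = true := by decide +kernel
theorem t1690_pchk_1329 : allR t1690_pf 306936 6 (1329 * 2 ^ 6) = true := by decide +kernel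
theorem t1690_pchk_1330 : allR t1690_pf 306936 6 (1330 * 2 ^ 6) = true := by decide +kernel
theorem t1690_pchk_1331 : allR t1690_pf 306936 6 (1331 * 2 ^ 6) = true := by decide +kernel
theorem t1690_pchk_1332 : allR t1690_pf 306936 6 (1332 * 2 ^ 6) = true := by decide +kernel
theorem t1690_pchk_1333 : allR t1690_pf 306936 6 (1333 * 2 ^ 6) = true := by decide +kernel
theorem t1690_pchk_1334 : allR t1690_pf 306936 6 (1334 * 2 ^ 6) = true := by decide +kernel
theorem t1690_pchk_1335 : allR t1690_pf 306936 6 (1335 * 2 ^ 6) = true := by decide +kernel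
theorem t1690_pchk_1336 : allR t1690_pf 306936 6 (1336 * 2 ^ 6) = true := by decide +kernel
theorem t1690_pchk_1337 : allR t1690_pf 306936 6 (1337 * 2 ^ 6) = true := by decide +kernel
theorem t1690_pchk_1338 : allR t1690_pf 306936 6 (1338 * 2 ^ 6) = true := by decide +kernel
theorem t1690_pchk_1339 : allR t1690_pf 306936 6 (1339 * 2 ^ 6) = true := by decide +kernel
theorem t1690_pchk_1340 : allR t1690_pf 306936 6 (1340 * 2 ^ 6) = true := by decide +kernel
theorem t1690_pchk_1341 : allR t1690_pf 306936 6 (1341 * 2 ^ 6) = true := by decide +kernel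
theorem t1690_pchk_1342 : allR t1690_pf 306936 6 (1342 * 2 ^ 6) = true := by decide +kernel
theorem t1690_pchk_1343 : allR t1690_pf 306936 6 (1343 * 2 ^ 6) = true := by decide +kernel
theorem t1690_pchk_1344 : allR t1690_pf 306936 6 (1344 * 2 ^ 6) = true := by decide +kernel
theorem t1690_pchk_1345 : allR t1690_pf 306936 6 (1345 * 2 ^ 6) = true := by decide +kernel
theorem t1690_pchk_1346 : allR t1690_pf 306936 6 (1346 * 2 ^ 6) = true := by decide +kernel
theorem t1690_pchk_1347 : allR t1690_pf 306936 6 (1347 * 2 ^ 6) = true := by decide +kernel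
theorem t1690_pchk_1348 : allR t1690_pf 306936 6 (1348 * 2 ^ 6) = true := by decide +kernel
theorem t1690_pchk_1349 : allR t1690_pf 306936 6 (1349 * 2 ^ 6) = true := by decide +kernel
theorem t1690_pchk_1350 : allR t1690_pf 306936 6 (1350 * 2 ^ 6) = true := by decide +kernel
theorem t1690_pchk_1351 : allR t1690_pf 306936 6 (1351 * 2 ^ 6) = true := by decide +kernel
theorem t1690_pchk_1352 : allR t1690_pf 306936 6 (1352 * 2 ^ 6) = true := by decide +kernel
theorem t1690_pchk_1353 : allR t1690_pf 306936 6 (1353 * 2 ^ 6) = true := by decide +kernel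
theorem t1690_pchk_1354 : allR t1690_pf 306936 6 (1354 * 2 ^ 6) = true := by decide +kernel
theorem t1690_pchk_1355 : allR t1690_pf 306936 6 (1355 * 2 ^ 6) = true := by decide +kernel
theorem t1690_pchk_1356 : allR t1690_pf 306936 6 (1356 * 2 ^ 6) = true := by decide +kernel
theorem t1690_pchk_1357 : allR t1690_pf 306936 6 (1357 * 2 ^ 6) = true := by decide +kernel
theorem t1690_pchk_1358 : allR t1690_pf 306936 6 (1358 * 2 ^ 6) = true := by decide +kernel
theorem t1690_pchk_1359 : allR t1690_pf 306936 6 (1359 * 2 ^ 6) = true := by decide +kernel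
theorem t1690_pchk_1360 : allR t1690_pf 306936 6 (1360 * 2 ^ 6) = true := by decide +kernel
theorem t1690_pchk_1361 : allR t1690_pf 306936 6 (1361 * 2 ^ 6) = true := by decide +kernel
theorem t1690_pchk_1362 : allR t1690_pf 306936 6 (1362 * 2 ^ 6) = true := by decide +kernel
theorem t1690_pchk_1363 : allR t1690_pf 306936 6 (1363 * 2 ^ 6) = true := by decide +kernel
theorem t1690_pchk_1364 : allR t1690_pf 306936 6 (1364 * 2 ^ 6) = true := by decide +kernel
theorem t1690_pchk_1365 : allR t1690_pf 306936 6 (1365 * 2 ^ 6) = true := by decide +kernel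
theorem t1690_pchk_1366 : allR t1690_pf 306936 6 (1366 * 2 ^ 6) = true := by decide +kernel
theorem t1690_pchk_1367 : allR t1690_pf 306936 6 (1367 * 2 ^ 6) = true := by decide +kernel
theorem t1690_pchk_1368 : allR t1690_pf 306936 6 (1368 * 2 ^ 6) = true := by decide +kernel
theorem t1690_pchk_1369 : allR t1690_pf 306936 6 (1369 * 2 ^ 6) = true := by decide +kernel
theorem t1690_pchk_1370 : allR t1690_pf 306936 6 (1370 * 2 ^ 6) = true := by decide +kernel
theorem t1690_pchk_1371 : allR t1690_pf 306936 6 (1371 * 2 ^ 6) = true := by decide +kernel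
theorem t1690_pchk_1372 : allR t1690_pf 306936 6 (1372 * 2 ^ 6) = true := by decide +kernel
theorem t1690_pchk_1373 : allR t1690_pf 306936 6 (1373 * 2 ^ 6) = true := by decide +kernel
theorem t1690_pchk_1374 : allR t1690_pf 306936 6 (1374 * 2 ^ 6) = true := by decide +kernel
theorem t1690_pchk_1375 : allR t1690_pf 306936 6 (1375 * 2 ^ 6) = true := by decide +kernel
theorem t1690_pchk_1376 : allR t1690_pf 306936 6 (1376 * 2 ^ 6) = true := by decide +kernel
theorem t1690_pchk_1377 : allR t1690_pf 306936 6 (1377 * 2 ^ 6) = true := by decide +kernel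
theorem t1690_pchk_1378 : allR t1690_pf 306936 6 (1378 * 2 ^ 6) = true := by decide +kernel
theorem t1690_pchk_1379 : allR t1690_pf 306936 6 (1379 * 2 ^ 6) = true := by decide +kernel
theorem t1690_pchk_1380 : allR t1690_pf 306936 6 (1380 * 2 ^ 6) = true := by decide +kernel
theorem t1690_pchk_1381 : allR t1690_pf 306936 6 (1381 * 2 ^ 6) = true := by decide +kernel
theorem t1690_pchk_1382 : allR t1690_pf 306936 6 (1382 * 2 ^ 6) = true := by decide +kernel
theorem t1690_pchk_1383 : allR t1690_pf 306936 6 (1383 * 2 ^ 6) = true := by decide +kernel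
theorem t1690_pchk_1384 : allR t1690_pf 306936 6 (1384 * 2 ^ 6) = true := by decide +kernel
theorem t1690_pchk_1385 : allR t1690_pf 306936 6 (1385 * 2 ^ 6) = true := by decide +kernel
theorem t1690_pchk_1386 : allR t1690_pf 306936 6 (1386 * 2 ^ 6) = true := by decide +kernel
theorem t1690_pchk_1387 : allR t1690_pf 306936 6 (1387 * 2 ^ 6) = true := by decide +kernel
theorem t1690_pchk_1388 : allR t1690_pf 306936 6 (1388 * 2 ^ 6) = true := by decide +kernel
theorem t1690_pchk_1389 : allR t1690_pf 306936 6 (1389 * 2 ^ 6) = true := by decide +kernel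
theorem t1690_pchk_1390 : allR t1690_pf 306936 6 (1390 * 2 ^ 6) = true := by decide +kernel
theorem t1690_pchk_1391 : allR t1690_pf 306936 6 (1391 * 2 ^ 6) = true := by decide +kernel
theorem t1690_pchk_1392 : allR t1690_pf 306936 6 (1392 * 2 ^ 6) = true := by decide +kernel
theorem t1690_pchk_1393 : allR t1690_pf 306936 6 (1393 * 2 ^ 6) = true := by decide +kernel
theorem t1690_pchk_1394 : allR t1690_pf 306936 6 (1394 * 2 ^ 6) = true := by decide +kernel
theorem t1690_pchk_1395 : allR t1690_pf 306936 6 (1395 * 2 ^ 6) = true := by decide +kernel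
theorem t1690_pchk_1396 : allR t1690_pf 306936 6 (1396 * 2 ^ 6) = true := by decide +kernel
theorem t1690_pchk_1397 : allR t1690_pf 306936 6 (1397 * 2 ^ 6) = true := by decide +kernel
theorem t1690_pchk_1398 : allR t1690_pf 306936 6 (1398 * 2 ^ 6) = true := by decide +kernel
theorem t1690_pchk_1399 : allR t1690_pf 306936 6 (1399 * 2 ^ 6) = true := by decide +kernel
theorem t1690_pchk_1400 : allR t1690_pf 306936 6 (1400 * 2 ^ 6) = true := by decide +kernel
theorem t1690_pchk_1401 : allR t1690_pf 306936 6 (1401 * 2 ^ 6) = true := by decide +kernel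
theorem t1690_pchk_1402 : allR t1690_pf 306936 6 (1402 * 2 ^ 6) = true := by decide +kernel
theorem t1690_pchk_1403 : allR t1690_pf 306936 6 (1403 * 2 ^ 6) = true := by decide +kernel
theorem t1690_pchk_1404 : allR t1690_pf 306936 6 (1404 * 2 ^ 6) = true := by decide +kernel
theorem t1690_pchk_1405 : allR t1690_pf 306936 6 (1405 * 2 ^ 6) = true := by decide +kernel
theorem t1690_pchk_1406 : allR t1690_pf 306936 6 (1406 * 2 ^ 6) = true := by decide +kernel
theorem t1690_pchk_1407 : allR t1690_pf 306936 6 (1407 * 2 ^ 6) = true := by decide +kernel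
theorem t1690_pchk_1408 : allR t1690_pf 306936 6 (1408 * 2 ^ 6) = true := by decide +kernel
theorem t1690_pchk_1409 : allR t1690_pf 306936 6 (1409 * 2 ^ 6) = true := by decide +kernel
theorem t1690_pchk_1410 : allR t1690_pf 306936 6 (1410 * 2 ^ 6) = true := by decide +kernel
theorem t1690_pchk_1411 : allR t1690_pf 306936 6 (1411 * 2 ^ 6) = true := by decide +kernel
theorem t1690_pchk_1412 : allR t1690_pf 306936 6 (1412 * 2 ^ 6) = true := by decide +kernel
theorem t1690_pchk_1413 : allR t1690_pf 306936 6 (1413 * 2 ^ 6) = true := by decide +kernel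
theorem t1690_pchk_1414 : allR t1690_pf 306936 6 (1414 * 2 ^ 6) = true := by decide +kernel
theorem t1690_pchk_1415 : allR t1690_pf 306936 6 (1415 * 2 ^ 6) = true := by decide +kernel
theorem t1690_pchk_1416 : allR t1690_pf 306936 6 (1416 * 2 ^ 6) = true := by decide +kernel
theorem t1690_pchk_1417 : allR t1690_pf 306936 6 (1417 * 2 ^ 6) = true := by decide +kernel
theorem t1690_pchk_1418 : allR t1690_pf 306936 6 (1418 * 2 ^ 6) = true := by decide +kernel
theorem t1690_pchk_1419 : allR t1690_pf 306936 6 (1419 * 2 ^ 6) = true := by decide +kernel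
theorem t1690_pchk_1420 : allR t1690_pf 306936 6 (1420 * 2 ^ 6) = true := by decide +kernel
theorem t1690_pchk_1421 : allR t1690_pf 306936 6 (1421 * 2 ^ 6) = true := by decide +kernel
theorem t1690_pchk_1422 : allR t1690_pf 306936 6 (1422 * 2 ^ 6) = true := by decide +kernel
theorem t1690_pchk_1423 : allR t1690_pf 306936 6 (1423 * 2 ^ 6) = true := by decide +kernel
theorem t1690_pchk_1424 : allR t1690_pf 306936 6 (1424 * 2 ^ 6) = true := by decide +kernel
theorem t1690_pchk_1425 : allR t1690_pf 306936 6 (1425 * 2 ^ 6) = true := by decide +kernel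
theorem t1690_pchk_1426 : allR t1690_pf 306936 6 (1426 * 2 ^ 6) = true := by decide +kernel
theorem t1690_pchk_1427 : allR t1690_pf 306936 6 (1427 * 2 ^ 6) = true := by decide +kernel
theorem t1690_pchk_1428 : allR t1690_pf 306936 6 (1428 * 2 ^ 6) = true := by decide +kernel
theorem t1690_pchk_1429 : allR t1690_pf 306936 6 (1429 * 2 ^ 6) = true := by decide +kernel
theorem t1690_pchk_1430 : allR t1690_pf 306936 6 (1430 * 2 ^ 6) = true := by decide +kernel
theorem t1690_pchk_1431 : allR t1690_pf 306936 6 (1431 * 2 ^ 6) = true := by decide +kernel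
theorem t1690_pchk_1432 : allR t1690_pf 306936 6 (1432 * 2 ^ 6) = true := by decide +kernel
theorem t1690_pchk_1433 : allR t1690_pf 306936 6 (1433 * 2 ^ 6) = true := by decide +kernel
theorem t1690_pchk_1434 : allR t1690_pf 306936 6 (1434 * 2 ^ 6) = true := by decide +kernel
theorem t1690_pchk_1435 : allR t1690_pf 306936 6 (1435 * 2 ^ 6) = true := by decide +kernel
theorem t1690_pchk_1436 : allR t1690_pf 306936 6 (1436 * 2 ^ 6) = true := by decide +kernel
theorem t1690_pchk_1437 : allR t1690_pf 306936 6 (1437 * 2 ^ 6) = true := by decide +kernel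
theorem t1690_pchk_1438 : allR t1690_pf 306936 6 (1438 * 2 ^ 6) = true := by decide +kernel
theorem t1690_pchk_1439 : allR t1690_pf 306936 6 (1439 * 2 ^ 6) = true := by decide +kernel

theorem t1690_pfile_11 : ∀ k, k < 1440 → 1320 ≤ k → allR t1690_pf 306936 6 (k * 2 ^ 6) = true := by
  intro k h1 h2
  interval_cases k
  · exact t1690_pchk_1320
  · exact t1690_pchk_1321
  · exact t1690_pchk_1322
  · exact t1690_pchk_1323
  · exact t1690_pchk_1324
  · exact t1690_pchk_1325
  · exact t1690_pchk_1326
  · exact t1690_pchk_1327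
  · exact t1690_pchk_1328
  · exact t1690_pchk_1329
  · exact t1690_pchk_1330
  · exact t1690_pchk_1331
  · exact t1690_pchk_1332
  · exact t1690_pchk_1333
  · exact t1690_pchk_1334
  · exact t1690_pchk_1335
  · exact t1690_pchk_1336
  · exact t1690_pchk_1337
  · exact t1690_pchk_1338
  · exact t1690_pchk_1339
  · exact t1690_pchk_1340
  · exact t1690_pchk_1341
  · exact t1690_pchk_1342
  · exact t1690_pchk_1343
  · exact t1690_pchk_1344
  · exact t1690_pchk_1345
  · exact t1690_pchk_1346
  · exact t1690_pchk_1347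
  · exact t1690_pchk_1348
  · exact t1690_pchk_1349
  · exact t1690_pchk_1350
  · exact t1690_pchk_1351
  · exact t1690_pchk_1352
  · exact t1690_pchk_1353
  · exact t1690_pchk_1354
  · exact t1690_pchk_1355
  · exact t1690_pchk_1356
  · exact t1690_pchk_1357
  · exact t1690_pchk_1358
  · exact t1690_pchk_1359
  · exact t1690_pchk_1360
  · exact t1690_pchk_1361
  · exact t1690_pchk_1362
  · exact t1690_pchk_1363
  · exact t1690_pchk_1364
  · exact t1690_pchk_1365
  · exact t1690_pchk_1366
  · exact t1690_pchk_1367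
  · exact t1690_pchk_1368
  · exact t1690_pchk_1369
  · exact t1690_pchk_1370
  · exact t1690_pchk_1371
  · exact t1690_pchk_1372
  · exact t1690_pchk_1373
  · exact t1690_pchk_1374
  · exact t1690_pchk_1375
  · exact t1690_pchk_1376
  · exact t1690_pchk_1377
  · exact t1690_pchk_1378
  · exact t1690_pchk_1379
  · exact t1690_pchk_1380
  · exact t1690_pchk_1381
  · exact t1690_pchk_1382
  · exact t1690_pchk_1383
  · exact t1690_pchk_1384
  · exact t1690_pchk_1385
  · exact t1690_pchk_1386
  · exact t1690_pchk_1387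
  · exact t1690_pchk_1388
  · exact t1690_pchk_1389
  · exact t1690_pchk_1390
  · exact t1690_pchk_1391
  · exact t1690_pchk_1392
  · exact t1690_pchk_1393
  · exact t1690_pchk_1394
  · exact t1690_pchk_1395
  · exact t1690_pchk_1396
  · exact t1690_pchk_1397
  · exact t1690_pchk_1398
  · exact t1690_pchk_1399
  · exact t1690_pchk_1400
  · exact t1690_pchk_1401
  · exact t1690_pchk_1402
  · exact t1690_pchk_1403
  · exact t1690_pchk_1404
  · exact t1690_pchk_1405
  · exact t1690_pchk_1406
  · exact t1690_pchk_1407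
  · exact t1690_pchk_1408
  · exact t1690_pchk_1409
  · exact t1690_pchk_1410
  · exact t1690_pchk_1411
  · exact t1690_pchk_1412
  · exact t1690_pchk_1413
  · exact t1690_pchk_1414
  · exact t1690_pchk_1415
  · exact t1690_pchk_1416
  · exact t1690_pchk_1417
  · exact t1690_pchk_1418
  · exact t1690_pchk_1419
  · exact t1690_pchk_1420
  · exact t1690_pchk_1421
  · exact t1690_pchk_1422
  · exact t1690_pchk_1423
  · exact t1690_pchk_1424
  · exact t1690_pchk_1425
  · exact t1690_pchk_1426
  · exact t1690_pchk_1427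
  · exact t1690_pchk_1428
  · exact t1690_pchk_1429
  · exact t1690_pchk_1430
  · exact t1690_pchk_1431
  · exact t1690_pchk_1432
  · exact t1690_pchk_1433
  · exact t1690_pchk_1434
  · exact t1690_pchk_1435
  · exact t1690_pchk_1436
  · exact t1690_pchk_1437
  · exact t1690_pchk_1438
  · exact t1690_pchk_1439

end Cfsg.Agent.H35
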