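import Cfsg.Agent.H35.T1690.PTab

set_option autoImplicit false
set_option linter.all false
set_option Elab.async false

namespace Cfsg.Agent.H35

theorem t1690_pchk_1440 : allR t1690_pf 306936 6 (1440 * 2 ^ 6) = true := by decide +kernel
theorem t1690_pchk_1441 : allR t1690_pf 306936 6 (1441 * 2 ^ 6) = true := by decide +kernel
theorem t1690_pchk_1442 : allR t1690_pf 306936 6 (1442 * 2 ^ 6) = true := by decide +kernel
theorem t1690_pchk_1443 : allR t1690_pf 306936 6 (1443 * 2 ^ 6) = true := by decide +kernel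
theorem t1690_pchk_1444 : allR t1690_pf 306936 6 (1444 * 2 ^ 6) = true := by decide +kernel
theorem t1690_pchk_1445 : allR t1690_pf 306936 6 (1445 * 2 ^ 6) = true := by decide +kernel
theorem t1690_pchk_1446 : allR t1690_pf 306936 6 (1446 * 2 ^ 6) = true := by decide +kernel
theorem t1690_pchk_1447 : allR t1690_pf 306936 6 (1447 * 2 ^ 6) = true := by decide +kernel
theorem t1690_pchk_1448 : allR t1690_pf 306936 6 (1448 * 2 ^ 6) = true := by decide +kernel
theorem t1690_pchk_1449 : allR t1690_pf 306936 6 (1449 * 2 ^ 6) = true := by decide +kernel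
theorem t1690_pchk_1450 : allR t1690_pf 306936 6 (1450 * 2 ^ 6) = true := by decide +kernel
theorem t1690_pchk_1451 : allR t1690_pf 306936 6 (1451 * 2 ^ 6) = true := by decide +kernel
theorem t1690_pchk_1452 : allR t1690_pf 306936 6 (1452 * 2 ^ 6) = true := by decide +kernel
theorem t1690_pchk_1453 : allR t1690_pf 306936 6 (1453 * 2 ^ 6) = true := by decide +kernel
theorem t1690_pchk_1454 : allR t1690_pf 306936 6 (1454 * 2 ^ 6) = true := by decide +kernel
theorem t1690_pchk_1455 : allR t1690_pf 306936 6 (1455 * 2 ^ 6) = true := by decide +kernel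
theorem t1690_pchk_1456 : allR t1690_pf 306936 6 (1456 * 2 ^ 6) = true := by decide +kernel
theorem t1690_pchk_1457 : allR t1690_pf 306936 6 (1457 * 2 ^ 6) = true := by decide +kernel
theorem t1690_pchk_1458 : allR t1690_pf 306936 6 (1458 * 2 ^ 6) = true := by decide +kernel
theorem t1690_pchk_1459 : allR t1690_pf 306936 6 (1459 * 2 ^ 6) = true := by decide +kernel
theorem t1690_pchk_1460 : allR t1690_pf 306936 6 (1460 * 2 ^ 6) = true := by decide +kernel
theorem t1690_pchk_1461 : allR t1690_pf 306936 6 (1461 * 2 ^ 6) = true := by decide +kernel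
theorem t1690_pchk_1462 : allR t1690_pf 306936 6 (1462 * 2 ^ 6) = true := by decide +kernel
theorem t1690_pchk_1463 : allR t1690_pf 306936 6 (1463 * 2 ^ 6) = true := by decide +kernel
theorem t1690_pchk_1464 : allR t1690_pf 306936 6 (1464 * 2 ^ 6) = true := by decide +kernel
theorem t1690_pchk_1465 : allR t1690_pf 306936 6 (1465 * 2 ^ 6) = true := by decide +kernel
theorem t1690_pchk_1466 : allR t1690_pf 306936 6 (1466 * 2 ^ 6) = true := by decide +kernel
theorem t1690_pchk_1467 : allR t1690_pf 306936 6 (1467 * 2 ^ 6) = true := by decide +kernel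
theorem t1690_pchk_1468 : allR t1690_pf 306936 6 (1468 * 2 ^ 6) = true := by decide +kernel
theorem t1690_pchk_1469 : allR t1690_pf 306936 6 (1469 * 2 ^ 6) = true := by decide +kernel
theorem t1690_pchk_1470 : allR t1690_pf 306936 6 (1470 * 2 ^ 6) = true := by decide +kernel
theorem t1690_pchk_1471 : allR t1690_pf 306936 6 (1471 * 2 ^ 6) = true := by decide +kernel
theorem t1690_pchk_1472 : allR t1690_pf 306936 6 (1472 * 2 ^ 6) = true := by decide +kernel
theorem t1690_pchk_1473 : allR t1690_pf 306936 6 (1473 * 2 ^ 6) = true := by decide +kernel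
theorem t1690_pchk_1474 : allR t1690_pf 306936 6 (1474 * 2 ^ 6) = true := by decide +kernel
theorem t1690_pchk_1475 : allR t1690_pf 306936 6 (1475 * 2 ^ 6) = true := by decide +kernel
theorem t1690_pchk_1476 : allR t1690_pf 306936 6 (1476 * 2 ^ 6) = true := by decide +kernel
theorem t1690_pchk_1477 : allR t1690_pf 306936 6 (1477 * 2 ^ 6) = true := by decide +kernel
theorem t1690_pchk_1478 : allR t1690_pf 306936 6 (1478 * 2 ^ 6) = true := by decide +kernel
theorem t1690_pchk_1479 : allR t1690_pf 306936 6 (1479 * 2 ^ 6) = true := by decide +kernel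
theorem t1690_pchk_1480 : allR t1690_pf 306936 6 (1480 * 2 ^ 6) = true := by decide +kernel
theorem t1690_pchk_1481 : allR t1690_pf 306936 6 (1481 * 2 ^ 6) = true := by decide +kernel
theorem t1690_pchk_1482 : allR t1690_pf 306936 6 (1482 * 2 ^ 6) = true := by decide +kernel
theorem t1690_pchk_1483 : allR t1690_pf 306936 6 (1483 * 2 ^ 6) = true := by decide +kernel
theorem t1690_pchk_1484 : allR t1690_pf 306936 6 (1484 * 2 ^ 6) = true := by decide +kernel
theorem t1690_pchk_1485 : allR t1690_pf 306936 6 (1485 * 2 ^ 6) = true := by decide +kernel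
theorem t1690_pchk_1486 : allR t1690_pf 306936 6 (1486 * 2 ^ 6) = true := by decide +kernel
theorem t1690_pchk_1487 : allR t1690_pf 306936 6 (1487 * 2 ^ 6) = true := by decide +kernel
theorem t1690_pchk_1488 : allR t1690_pf 306936 6 (1488 * 2 ^ 6) = true := by decide +kernel
theorem t1690_pchk_1489 : allR t1690_pf 306936 6 (1489 * 2 ^ 6) = true := by decide +kernel
theorem t1690_pchk_1490 : allR t1690_pf 306936 6 (1490 * 2 ^ 6) = true := by decide +kernel
theorem t1690_pchk_1491 : allR t1690_pf 306936 6 (1491 * 2 ^ 6) = true := by decide +kernel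
theorem t1690_pchk_1492 : allR t1690_pf 306936 6 (1492 * 2 ^ 6) = true := by decide +kernel
theorem t1690_pchk_1493 : allR t1690_pf 306936 6 (1493 * 2 ^ 6) = true := by decide +kernel
theorem t1690_pchk_1494 : allR t1690_pf 306936 6 (1494 * 2 ^ 6) = true := by decide +kernel
theorem t1690_pchk_1495 : allR t1690_pf 306936 6 (1495 * 2 ^ 6) = true := by decide +kernel
theorem t1690_pchk_1496 : allR t1690_pf 306936 6 (1496 * 2 ^ 6) = true := by decide +kernel
theorem t1690_pchk_1497 : allR t1690_pf 306936 6 (1497 * 2 ^ 6) = true := by decide +kernel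
theorem t1690_pchk_1498 : allR t1690_pf 306936 6 (1498 * 2 ^ 6) = true := by decide +kernel
theorem t1690_pchk_1499 : allR t1690_pf 306936 6 (1499 * 2 ^ 6) = true := by decide +kernel
theorem t1690_pchk_1500 : allR t1690_pf 306936 6 (1500 * 2 ^ 6) = true := by decide +kernel
theorem t1690_pchk_1501 : allR t1690_pf 306936 6 (1501 * 2 ^ 6) = true := by decide +kernel
theorem t1690_pchk_1502 : allR t1690_pf 306936 6 (1502 * 2 ^ 6) = true := by decide +kernel
theorem t1690_pchk_1503 : allR t1690_pf 306936 6 (1503 * 2 ^ 6) = true := by decide +kernel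
theorem t1690_pchk_1504 : allR t1690_pf 306936 6 (1504 * 2 ^ 6) = true := by decide +kernel
theorem t1690_pchk_1505 : allR t1690_pf 306936 6 (1505 * 2 ^ 6) = true := by decide +kernel
theorem t1690_pchk_1506 : allR t1690_pf 306936 6 (1506 * 2 ^ 6) = true := by decide +kernel
theorem t1690_pchk_1507 : allR t1690_pf 306936 6 (1507 * 2 ^ 6) = true := by decide +kernel
theorem t1690_pchk_1508 : allR t1690_pf 306936 6 (1508 * 2 ^ 6) = true := by decide +kernel
theorem t1690_pchk_1509 : allR t1690_pf 306936 6 (1509 * 2 ^ 6) = true := by decide +kernel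
theorem t1690_pchk_1510 : allR t1690_pf 306936 6 (1510 * 2 ^ 6) = true := by decide +kernel
theorem t1690_pchk_1511 : allR t1690_pf 306936 6 (1511 * 2 ^ 6) = true := by decide +kernel
theorem t1690_pchk_1512 : allR t1690_pf 306936 6 (1512 * 2 ^ 6) = true := by decide +kernel
theorem t1690_pchk_1513 : allR t1690_pf 306936 6 (1513 * 2 ^ 6) = true := by decide +kernel
theorem t1690_pchk_1514 : allR t1690_pf 306936 6 (1514 * 2 ^ 6) = true := by decide +kernel
theorem t1690_pchk_1515 : allR t1690_pf 306936 6 (1515 * 2 ^ 6) = true := by decide +kernel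
theorem t1690_pchk_1516 : allR t1690_pf 306936 6 (1516 * 2 ^ 6) = true := by decide +kernel
theorem t1690_pchk_1517 : allR t1690_pf 306936 6 (1517 * 2 ^ 6) = true := by decide +kernel
theorem t1690_pchk_1518 : allR t1690_pf 306936 6 (1518 * 2 ^ 6) = true := by decide +kernel
theorem t1690_pchk_1519 : allR t1690_pf 306936 6 (1519 * 2 ^ 6) = true := by decide +kernel
theorem t1690_pchk_1520 : allR t1690_pf 306936 6 (1520 * 2 ^ 6) = true := by decide +kernel
theorem t1690_pchk_1521 : allR t1690_pf 306936 6 (1521 * 2 ^ 6) = true := by decide +kernel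
theorem t1690_pchk_1522 : allR t1690_pf 306936 6 (1522 * 2 ^ 6) = true := by decide +kernel
theorem t1690_pchk_1523 : allR t1690_pf 306936 6 (1523 * 2 ^ 6) = true := by decide +kernel
theorem t1690_pchk_1524 : allR t1690_pf 306936 6 (1524 * 2 ^ 6) = true := by decide +kernel
theorem t1690_pchk_1525 : allR t1690_pf 306936 6 (1525 * 2 ^ 6) = true := by decide +kernel
theorem t1690_pchk_1526 : allR t1690_pf 306936 6 (1526 * 2 ^ 6) = true := by decide +kernel
theorem t1690_pchk_1527 : allR t1690_pf 306936 6 (1527 * 2 ^ 6) = true := by decide +kernel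
theorem t1690_pchk_1528 : allR t1690_pf 306936 6 (1528 * 2 ^ 6) = true := by decide +kernel
theorem t1690_pchk_1529 : allR t1690_pf 306936 6 (1529 * 2 ^ 6) = true := by decide +kernel
theorem t1690_pchk_1530 : allR t1690_pf 306936 6 (1530 * 2 ^ 6) = true := by decide +kernel
theorem t1690_pchk_1531 : allR t1690_pf 306936 6 (1531 * 2 ^ 6) = true := by decide +kernel
theorem t1690_pchk_1532 : allR t1690_pf 306936 6 (1532 * 2 ^ 6) = true := by decide +kernel
theorem t1690_pchk_1533 : allR t1690_pf 306936 6 (1533 * 2 ^ 6) = true := by decide +kernel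
theorem t1690_pchk_1534 : allR t1690_pf 306936 6 (1534 * 2 ^ 6) = true := by decide +kernel
theorem t1690_pchk_1535 : allR t1690_pf 306936 6 (1535 * 2 ^ 6) = true := by decide +kernel
theorem t1690_pchk_1536 : allR t1690_pf 306936 6 (1536 * 2 ^ 6) = true := by decide +kernel
theorem t1690_pchk_1537 : allR t1690_pf 306936 6 (1537 * 2 ^ 6) = true := by decide +kernel
theorem t1690_pchk_1538 : allR t1690_pf 306936 6 (1538 * 2 ^ 6) = true := by decide +kernel
theorem t1690_pchk_1539 : allR t1690_pf 306936 6 (1539 * 2 ^ 6) = true := by decide +kernel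
theorem t1690_pchk_1540 : allR t1690_pf 306936 6 (1540 * 2 ^ 6) = true := by decide +kernel
theorem t1690_pchk_1541 : allR t1690_pf 306936 6 (1541 * 2 ^ 6) = true := by decide +kernel
theorem t1690_pchk_1542 : allR t1690_pf 306936 6 (1542 * 2 ^ 6) = true := by decide +kernel
theorem t1690_pchk_1543 : allR t1690_pf 306936 6 (1543 * 2 ^ 6) = true := by decide +kernel
theorem t1690_pchk_1544 : allR t1690_pf 306936 6 (1544 * 2 ^ 6) = true := by decide +kernel
theorem t1690_pchk_1545 : allR t1690_pf 306936 6 (1545 * 2 ^ 6) = true := by decide +kernel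
theorem t1690_pchk_1546 : allR t1690_pf 306936 6 (1546 * 2 ^ 6) = true := by decide +kernel
theorem t1690_pchk_1547 : allR t1690_pf 306936 6 (1547 * 2 ^ 6) = true := by decide +kernel
theorem t1690_pchk_1548 : allR t1690_pf 306936 6 (1548 * 2 ^ 6) = true := by decide +kernel
theorem t1690_pchk_1549 : allR t1690_pf 306936 6 (1549 * 2 ^ 6) = true := by decide +kernel
theorem t1690_pchk_1550 : allR t1690_pf 306936 6 (1550 * 2 ^ 6) = true := by decide +kernel
theorem t1690_pchk_1551 : allR t1690_pf 306936 6 (1551 * 2 ^ 6) = true := by decide +kernel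
theorem t1690_pchk_1552 : allR t1690_pf 306936 6 (1552 * 2 ^ 6) = true := by decide +kernel
theorem t1690_pchk_1553 : allR t1690_pf 306936 6 (1553 * 2 ^ 6) = true := by decide +kernel
theorem t1690_pchk_1554 : allR t1690_pf 306936 6 (1554 * 2 ^ 6) = true := by decide +kernel
theorem t1690_pchk_1555 : allR t1690_pf 306936 6 (1555 * 2 ^ 6) = true := by decide +kernel
theorem t1690_pchk_1556 : allR t1690_pf 306936 6 (1556 * 2 ^ 6) = true := by decide +kernel
theorem t1690_pchk_1557 : allR t1690_pf 306936 6 (1557 * 2 ^ 6) = true := by decide +kernel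
theorem t1690_pchk_1558 : allR t1690_pf 306936 6 (1558 * 2 ^ 6) = true := by decide +kernel
theorem t1690_pchk_1559 : allR t1690_pf 306936 6 (1559 * 2 ^ 6) = true := by decide +kernel

theorem t1690_pfile_12 : ∀ k, k < 1560 → 1440 ≤ k → allR t1690_pf 306936 6 (k * 2 ^ 6) = true := by
  intro k h1 h2
  interval_cases k
  · exact t1690_pchk_1440
  · exact t1690_pchk_1441
  · exact t1690_pchk_1442
  · exact t1690_pchk_1443
  · exact t1690_pchk_1444
  · exact t1690_pchk_1445
  · exact t1690_pchk_1446
  · exact t1690_pchk_1447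
  · exact t1690_pchk_1448
  · exact t1690_pchk_1449
  · exact t1690_pchk_1450
  · exact t1690_pchk_1451
  · exact t1690_pchk_1452
  · exact t1690_pchk_1453
  · exact t1690_pchk_1454
  · exact t1690_pchk_1455
  · exact t1690_pchk_1456
  · exact t1690_pchk_1457
  · exact t1690_pchk_1458
  · exact t1690_pchk_1459
  · exact t1690_pchk_1460
  · exact t1690_pchk_1461
  · exact t1690_pchk_1462
  · exact t1690_pchk_1463
  · exact t1690_pchk_1464
  · exact t1690_pchk_1465
  · exact t1690_pchk_1466
  · exact t1690_pchk_1467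
  · exact t1690_pchk_1468
  · exact t1690_pchk_1469
  · exact t1690_pchk_1470
  · exact t1690_pchk_1471
  · exact t1690_pchk_1472
  · exact t1690_pchk_1473
  · exact t1690_pchk_1474
  · exact t1690_pchk_1475
  · exact t1690_pchk_1476
  · exact t1690_pchk_1477
  · exact t1690_pchk_1478
  · exact t1690_pchk_1479
  · exact t1690_pchk_1480
  · exact t1690_pchk_1481
  · exact t1690_pchk_1482
  · exact t1690_pchk_1483
  · exact t1690_pchk_1484
  · exact t1690_pchk_1485
  · exact t1690_pchk_1486
  · exact t1690_pchk_1487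
  · exact t1690_pchk_1488
  · exact t1690_pchk_1489
  · exact t1690_pchk_1490
  · exact t1690_pchk_1491
  · exact t1690_pchk_1492
  · exact t1690_pchk_1493
  · exact t1690_pchk_1494
  · exact t1690_pchk_1495
  · exact t1690_pchk_1496
  · exact t1690_pchk_1497
  · exact t1690_pchk_1498
  · exact t1690_pchk_1499
  · exact t1690_pchk_1500
  · exact t1690_pchk_1501
  · exact t1690_pchk_1502
  · exact t1690_pchk_1503
  · exact t1690_pchk_1504
  · exact t1690_pchk_1505
  · exact t1690_pchk_1506
  · exact t1690_pchk_1507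
  · exact t1690_pchk_1508
  · exact t1690_pchk_1509
  · exact t1690_pchk_1510
  · exact t1690_pchk_1511
  · exact t1690_pchk_1512
  · exact t1690_pchk_1513
  · exact t1690_pchk_1514
  · exact t1690_pchk_1515
  · exact t1690_pchk_1516
  · exact t1690_pchk_1517
  · exact t1690_pchk_1518
  · exact t1690_pchk_1519
  · exact t1690_pchk_1520
  · exact t1690_pchk_1521
  · exact t1690_pchk_1522
  · exact t1690_pchk_1523
  · exact t1690_pchk_1524
  · exact t1690_pchk_1525
  · exact t1690_pchk_1526
  · exact t1690_pchk_1527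
  · exact t1690_pchk_1528
  · exact t1690_pchk_1529
  · exact t1690_pchk_1530
  · exact t1690_pchk_1531
  · exact t1690_pchk_1532
  · exact t1690_pchk_1533
  · exact t1690_pchk_1534
  · exact t1690_pchk_1535
  · exact t1690_pchk_1536
  · exact t1690_pchk_1537
  · exact t1690_pchk_1538
  · exact t1690_pchk_1539
  · exact t1690_pchk_1540
  · exact t1690_pchk_1541
  · exact t1690_pchk_1542
  · exact t1690_pchk_1543
  · exact t1690_pchk_1544
  · exact t1690_pchk_1545
  · exact t1690_pchk_1546
  · exact t1690_pchk_1547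
  · exact t1690_pchk_1548
  · exact t1690_pchk_1549
  · exact t1690_pchk_1550
  · exact t1690_pchk_1551
  · exact t1690_pchk_1552
  · exact t1690_pchk_1553
  · exact t1690_pchk_1554
  · exact t1690_pchk_1555
  · exact t1690_pchk_1556
  · exact t1690_pchk_1557
  · exact t1690_pchk_1558
  · exact t1690_pchk_1559

end Cfsg.Agent.H35
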