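import Cfsg.Agent.H35.T1690.PTab

set_option autoImplicit false
set_option linter.all false
set_option Elab.async false

namespace Cfsg.Agent.H35

theorem t1690_pchk_1800 : allR t1690_pf 306936 6 (1800 * 2 ^ 6) = true := by decide +kernel
theorem t1690_pchk_1801 : allR t1690_pf 306936 6 (1801 * 2 ^ 6) = true := by decide +kernel
theorem t1690_pchk_1802 : allR t1690_pf 306936 6 (1802 * 2 ^ 6) = true := by decide +kernel
theorem t1690_pchk_1803 : allR t1690_pf 306936 6 (1803 * 2 ^ 6) = true := by decide +kernel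
theorem t1690_pchk_1804 : allR t1690_pf 306936 6 (1804 * 2 ^ 6) = true := by decide +kernel
theorem t1690_pchk_1805 : allR t1690_pf 306936 6 (1805 * 2 ^ 6) = true := by decide +kernel
theorem t1690_pchk_1806 : allR t1690_pf 306936 6 (1806 * 2 ^ 6) = true := by decide +kernel
theorem t1690_pchk_1807 : allR t1690_pf 306936 6 (1807 * 2 ^ 6) = true := by decide +kernel
theorem t1690_pchk_1808 : allR t1690_pf 306936 6 (1808 * 2 ^ 6) = true := by decide +kernel
theorem t1690_pchk_1809 : allR t1690_pf 306936 6 (1809 * 2 ^ 6) = true := by decide +kernel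
theorem t1690_pchk_1810 : allR t1690_pf 306936 6 (1810 * 2 ^ 6) = true := by decide +kernel
theorem t1690_pchk_1811 : allR t1690_pf 306936 6 (1811 * 2 ^ 6) = true := by decide +kernel
theorem t1690_pchk_1812 : allR t1690_pf 306936 6 (1812 * 2 ^ 6) = true := by decide +kernel
theorem t1690_pchk_1813 : allR t1690_pf 306936 6 (1813 * 2 ^ 6) = true := by decide +kernel
theorem t1690_pchk_1814 : allR t1690_pf 306936 6 (1814 * 2 ^ 6) = true := by decide +kernel
theorem t1690_pchk_1815 : allR t1690_pf 306936 6 (1815 * 2 ^ 6) = true := by decide +kernel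
theorem t1690_pchk_1816 : allR t1690_pf 306936 6 (1816 * 2 ^ 6) = true := by decide +kernel
theorem t1690_pchk_1817 : allR t1690_pf 306936 6 (1817 * 2 ^ 6) = true := by decide +kernel
theorem t1690_pchk_1818 : allR t1690_pf 306936 6 (1818 * 2 ^ 6) = true := by decide +kernel
theorem t1690_pchk_1819 : allR t1690_pf 306936 6 (1819 * 2 ^ 6) = true := by decide +kernel
theorem t1690_pchk_1820 : allR t1690_pf 306936 6 (1820 * 2 ^ 6) = true := by decide +kernel
theorem t1690_pchk_1821 : allR t1690_pf 306936 6 (1821 * 2 ^ 6) = true := by decide +kernel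
theorem t1690_pchk_1822 : allR t1690_pf 306936 6 (1822 * 2 ^ 6) = true := by decide +kernel
theorem t1690_pchk_1823 : allR t1690_pf 306936 6 (1823 * 2 ^ 6) = true := by decide +kernel
theorem t1690_pchk_1824 : allR t1690_pf 306936 6 (1824 * 2 ^ 6) = true := by decide +kernel
theorem t1690_pchk_1825 : allR t1690_pf 306936 6 (1825 * 2 ^ 6) = true := by decide +kernel
theorem t1690_pchk_1826 : allR t1690_pf 306936 6 (1826 * 2 ^ 6) = true := by decide +kernel
theorem t1690_pchk_1827 : allR t1690_pf 306936 6 (1827 * 2 ^ 6) = true := by decide +kernel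
theorem t1690_pchk_1828 : allR t1690_pf 306936 6 (1828 * 2 ^ 6) = true := by decide +kernel
theorem t1690_pchk_1829 : allR t1690_pf 306936 6 (1829 * 2 ^ 6) = true := by decide +kernel
theorem t1690_pchk_1830 : allR t1690_pf 306936 6 (1830 * 2 ^ 6) = true := by decide +kernel
theorem t1690_pchk_1831 : allR t1690_pf 306936 6 (1831 * 2 ^ 6) = true := by decide +kernel
theorem t1690_pchk_1832 : allR t1690_pf 306936 6 (1832 * 2 ^ 6) = true := by decide +kernel
theorem t1690_pchk_1833 : allR t1690_pf 306936 6 (1833 * 2 ^ 6) = true := by decide +kernel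
theorem t1690_pchk_1834 : allR t1690_pf 306936 6 (1834 * 2 ^ 6) = true := by decide +kernel
theorem t1690_pchk_1835 : allR t1690_pf 306936 6 (1835 * 2 ^ 6) = true := by decide +kernel
theorem t1690_pchk_1836 : allR t1690_pf 306936 6 (1836 * 2 ^ 6) = true := by decide +kernel
theorem t1690_pchk_1837 : allR t1690_pf 306936 6 (1837 * 2 ^ 6) = true := by decide +kernel
theorem t1690_pchk_1838 : allR t1690_pf 306936 6 (1838 * 2 ^ 6) = true := by decide +kernel
theorem t1690_pchk_1839 : allR t1690_pf 306936 6 (1839 * 2 ^ 6) = true := by decide +kernel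
theorem t1690_pchk_1840 : allR t1690_pf 306936 6 (1840 * 2 ^ 6) = true := by decide +kernel
theorem t1690_pchk_1841 : allR t1690_pf 306936 6 (1841 * 2 ^ 6) = true := by decide +kernel
theorem t1690_pchk_1842 : allR t1690_pf 306936 6 (1842 * 2 ^ 6) = true := by decide +kernel
theorem t1690_pchk_1843 : allR t1690_pf 306936 6 (1843 * 2 ^ 6) = true := by decide +kernel
theorem t1690_pchk_1844 : allR t1690_pf 306936 6 (1844 * 2 ^ 6) = true := by decide +kernel
theorem t1690_pchk_1845 : allR t1690_pf 306936 6 (1845 * 2 ^ 6) = true := by decide +kernel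
theorem t1690_pchk_1846 : allR t1690_pf 306936 6 (1846 * 2 ^ 6) = true := by decide +kernel
theorem t1690_pchk_1847 : allR t1690_pf 306936 6 (1847 * 2 ^ 6) = true := by decide +kernel
theorem t1690_pchk_1848 : allR t1690_pf 306936 6 (1848 * 2 ^ 6) = true := by decide +kernel
theorem t1690_pchk_1849 : allR t1690_pf 306936 6 (1849 * 2 ^ 6) = true := by decide +kernel
theorem t1690_pchk_1850 : allR t1690_pf 306936 6 (1850 * 2 ^ 6) = true := by decide +kernel
theorem t1690_pchk_1851 : allR t1690_pf 306936 6 (1851 * 2 ^ 6) = true := by decide +kernel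
theorem t1690_pchk_1852 : allR t1690_pf 306936 6 (1852 * 2 ^ 6) = true := by decide +kernel
theorem t1690_pchk_1853 : allR t1690_pf 306936 6 (1853 * 2 ^ 6) = true := by decide +kernel
theorem t1690_pchk_1854 : allR t1690_pf 306936 6 (1854 * 2 ^ 6) = true := by decide +kernel
theorem t1690_pchk_1855 : allR t1690_pf 306936 6 (1855 * 2 ^ 6) = true := by decide +kernel
theorem t1690_pchk_1856 : allR t1690_pf 306936 6 (1856 * 2 ^ 6) = true := by decide +kernel
theorem t1690_pchk_1857 : allR t1690_pf 306936 6 (1857 * 2 ^ 6) = true := by decide +kernel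
theorem t1690_pchk_1858 : allR t1690_pf 306936 6 (1858 * 2 ^ 6) = true := by decide +kernel
theorem t1690_pchk_1859 : allR t1690_pf 306936 6 (1859 * 2 ^ 6) = true := by decide +kernel
theorem t1690_pchk_1860 : allR t1690_pf 306936 6 (1860 * 2 ^ 6) = true := by decide +kernel
theorem t1690_pchk_1861 : allR t1690_pf 306936 6 (1861 * 2 ^ 6) = true := by decide +kernel
theorem t1690_pchk_1862 : allR t1690_pf 306936 6 (1862 * 2 ^ 6) = true := by decide +kernel
theorem t1690_pchk_1863 : allR t1690_pf 306936 6 (1863 * 2 ^ 6) = true := by decide +kernel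
theorem t1690_pchk_1864 : allR t1690_pf 306936 6 (1864 * 2 ^ 6) = true := by decide +kernel
theorem t1690_pchk_1865 : allR t1690_pf 306936 6 (1865 * 2 ^ 6) = true := by decide +kernel
theorem t1690_pchk_1866 : allR t1690_pf 306936 6 (1866 * 2 ^ 6) = true := by decide +kernel
theorem t1690_pchk_1867 : allR t1690_pf 306936 6 (1867 * 2 ^ 6) = true := by decide +kernel
theorem t1690_pchk_1868 : allR t1690_pf 306936 6 (1868 * 2 ^ 6) = true := by decide +kernel
theorem t1690_pchk_1869 : allR t1690_pf 306936 6 (1869 * 2 ^ 6) = true := by decide +kernel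
theorem t1690_pchk_1870 : allR t1690_pf 306936 6 (1870 * 2 ^ 6) = true := by decide +kernel
theorem t1690_pchk_1871 : allR t1690_pf 306936 6 (1871 * 2 ^ 6) = true := by decide +kernel
theorem t1690_pchk_1872 : allR t1690_pf 306936 6 (1872 * 2 ^ 6) = true := by decide +kernel
theorem t1690_pchk_1873 : allR t1690_pf 306936 6 (1873 * 2 ^ 6) = true := by decide +kernel
theorem t1690_pchk_1874 : allR t1690_pf 306936 6 (1874 * 2 ^ 6) = true := by decide +kernel
theorem t1690_pchk_1875 : allR t1690_pf 306936 6 (1875 * 2 ^ 6) = true := by decide +kernel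
theorem t1690_pchk_1876 : allR t1690_pf 306936 6 (1876 * 2 ^ 6) = true := by decide +kernel
theorem t1690_pchk_1877 : allR t1690_pf 306936 6 (1877 * 2 ^ 6) = true := by decide +kernel
theorem t1690_pchk_1878 : allR t1690_pf 306936 6 (1878 * 2 ^ 6) = true := by decide +kernel
theorem t1690_pchk_1879 : allR t1690_pf 306936 6 (1879 * 2 ^ 6) = true := by decide +kernel
theorem t1690_pchk_1880 : allR t1690_pf 306936 6 (1880 * 2 ^ 6) = true := by decide +kernel
theorem t1690_pchk_1881 : allR t1690_pf 306936 6 (1881 * 2 ^ 6) = true := by decide +kernel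
theorem t1690_pchk_1882 : allR t1690_pf 306936 6 (1882 * 2 ^ 6) = true := by decide +kernel
theorem t1690_pchk_1883 : allR t1690_pf 306936 6 (1883 * 2 ^ 6) = true := by decide +kernel
theorem t1690_pchk_1884 : allR t1690_pf 306936 6 (1884 * 2 ^ 6) = true := by decide +kernel
theorem t1690_pchk_1885 : allR t1690_pf 306936 6 (1885 * 2 ^ 6) = true := by decide +kernel
theorem t1690_pchk_1886 : allR t1690_pf 306936 6 (1886 * 2 ^ 6) = true := by decide +kernel
theorem t1690_pchk_1887 : allR t1690_pf 306936 6 (1887 * 2 ^ 6) = true := by decide +kernel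
theorem t1690_pchk_1888 : allR t1690_pf 306936 6 (1888 * 2 ^ 6) = true := by decide +kernel
theorem t1690_pchk_1889 : allR t1690_pf 306936 6 (1889 * 2 ^ 6) = true := by decide +kernel
theorem t1690_pchk_1890 : allR t1690_pf 306936 6 (1890 * 2 ^ 6) = true := by decide +kernel
theorem t1690_pchk_1891 : allR t1690_pf 306936 6 (1891 * 2 ^ 6) = true := by decide +kernel
theorem t1690_pchk_1892 : allR t1690_pf 306936 6 (1892 * 2 ^ 6) = true := by decide +kernel
theorem t1690_pchk_1893 : allR t1690_pf 306936 6 (1893 * 2 ^ 6) = true := by decide +kernel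
theorem t1690_pchk_1894 : allR t1690_pf 306936 6 (1894 * 2 ^ 6) = true := by decide +kernel
theorem t1690_pchk_1895 : allR t1690_pf 306936 6 (1895 * 2 ^ 6) = true := by decide +kernel
theorem t1690_pchk_1896 : allR t1690_pf 306936 6 (1896 * 2 ^ 6) = true := by decide +kernel
theorem t1690_pchk_1897 : allR t1690_pf 306936 6 (1897 * 2 ^ 6) = true := by decide +kernel
theorem t1690_pchk_1898 : allR t1690_pf 306936 6 (1898 * 2 ^ 6) = true := by decide +kernel
theorem t1690_pchk_1899 : allR t1690_pf 306936 6 (1899 * 2 ^ 6) = true := by decide +kernel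
theorem t1690_pchk_1900 : allR t1690_pf 306936 6 (1900 * 2 ^ 6) = true := by decide +kernel
theorem t1690_pchk_1901 : allR t1690_pf 306936 6 (1901 * 2 ^ 6) = true := by decide +kernel
theorem t1690_pchk_1902 : allR t1690_pf 306936 6 (1902 * 2 ^ 6) = true := by decide +kernel
theorem t1690_pchk_1903 : allR t1690_pf 306936 6 (1903 * 2 ^ 6) = true := by decide +kernel
theorem t1690_pchk_1904 : allR t1690_pf 306936 6 (1904 * 2 ^ 6) = true := by decide +kernel
theorem t1690_pchk_1905 : allR t1690_pf 306936 6 (1905 * 2 ^ 6) = true := by decide +kernel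
theorem t1690_pchk_1906 : allR t1690_pf 306936 6 (1906 * 2 ^ 6) = true := by decide +kernel
theorem t1690_pchk_1907 : allR t1690_pf 306936 6 (1907 * 2 ^ 6) = true := by decide +kernel
theorem t1690_pchk_1908 : allR t1690_pf 306936 6 (1908 * 2 ^ 6) = true := by decide +kernel
theorem t1690_pchk_1909 : allR t1690_pf 306936 6 (1909 * 2 ^ 6) = true := by decide +kernel
theorem t1690_pchk_1910 : allR t1690_pf 306936 6 (1910 * 2 ^ 6) = true := by decide +kernel
theorem t1690_pchk_1911 : allR t1690_pf 306936 6 (1911 * 2 ^ 6) = true := by decide +kernel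
theorem t1690_pchk_1912 : allR t1690_pf 306936 6 (1912 * 2 ^ 6) = true := by decide +kernel
theorem t1690_pchk_1913 : allR t1690_pf 306936 6 (1913 * 2 ^ 6) = true := by decide +kernel
theorem t1690_pchk_1914 : allR t1690_pf 306936 6 (1914 * 2 ^ 6) = true := by decide +kernel
theorem t1690_pchk_1915 : allR t1690_pf 306936 6 (1915 * 2 ^ 6) = true := by decide +kernel
theorem t1690_pchk_1916 : allR t1690_pf 306936 6 (1916 * 2 ^ 6) = true := by decide +kernel
theorem t1690_pchk_1917 : allR t1690_pf 306936 6 (1917 * 2 ^ 6) = true := by decide +kernel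
theorem t1690_pchk_1918 : allR t1690_pf 306936 6 (1918 * 2 ^ 6) = true := by decide +kernel
theorem t1690_pchk_1919 : allR t1690_pf 306936 6 (1919 * 2 ^ 6) = true := by decide +kernel

theorem t1690_pfile_15 : ∀ k, k < 1920 → 1800 ≤ k → allR t1690_pf 306936 6 (k * 2 ^ 6) = true := by
  intro k h1 h2
  interval_cases k
  · exact t1690_pchk_1800
  · exact t1690_pchk_1801
  · exact t1690_pchk_1802
  · exact t1690_pchk_1803
  · exact t1690_pchk_1804
  · exact t1690_pchk_1805
  · exact t1690_pchk_1806
  · exact t1690_pchk_1807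
  · exact t1690_pchk_1808
  · exact t1690_pchk_1809
  · exact t1690_pchk_1810
  · exact t1690_pchk_1811
  · exact t1690_pchk_1812
  · exact t1690_pchk_1813
  · exact t1690_pchk_1814
  · exact t1690_pchk_1815
  · exact t1690_pchk_1816
  · exact t1690_pchk_1817
  · exact t1690_pchk_1818
  · exact t1690_pchk_1819
  · exact t1690_pchk_1820
  · exact t1690_pchk_1821
  · exact t1690_pchk_1822
  · exact t1690_pchk_1823
  · exact t1690_pchk_1824
  · exact t1690_pchk_1825
  · exact t1690_pchk_1826
  · exact t1690_pchk_1827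
  · exact t1690_pchk_1828
  · exact t1690_pchk_1829
  · exact t1690_pchk_1830
  · exact t1690_pchk_1831
  · exact t1690_pchk_1832
  · exact t1690_pchk_1833
  · exact t1690_pchk_1834
  · exact t1690_pchk_1835
  · exact t1690_pchk_1836
  · exact t1690_pchk_1837
  · exact t1690_pchk_1838
  · exact t1690_pchk_1839
  · exact t1690_pchk_1840
  · exact t1690_pchk_1841
  · exact t1690_pchk_1842
  · exact t1690_pchk_1843
  · exact t1690_pchk_1844
  · exact t1690_pchk_1845
  · exact t1690_pchk_1846
  · exact t1690_pchk_1847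
  · exact t1690_pchk_1848
  · exact t1690_pchk_1849
  · exact t1690_pchk_1850
  · exact t1690_pchk_1851
  · exact t1690_pchk_1852
  · exact t1690_pchk_1853
  · exact t1690_pchk_1854
  · exact t1690_pchk_1855
  · exact t1690_pchk_1856
  · exact t1690_pchk_1857
  · exact t1690_pchk_1858
  · exact t1690_pchk_1859
  · exact t1690_pchk_1860
  · exact t1690_pchk_1861
  · exact t1690_pchk_1862
  · exact t1690_pchk_1863
  · exact t1690_pchk_1864
  · exact t1690_pchk_1865
  · exact t1690_pchk_1866
  · exact t1690_pchk_1867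
  · exact t1690_pchk_1868
  · exact t1690_pchk_1869
  · exact t1690_pchk_1870
  · exact t1690_pchk_1871
  · exact t1690_pchk_1872
  · exact t1690_pchk_1873
  · exact t1690_pchk_1874
  · exact t1690_pchk_1875
  · exact t1690_pchk_1876
  · exact t1690_pchk_1877
  · exact t1690_pchk_1878
  · exact t1690_pchk_1879
  · exact t1690_pchk_1880
  · exact t1690_pchk_1881
  · exact t1690_pchk_1882
  · exact t1690_pchk_1883
  · exact t1690_pchk_1884
  · exact t1690_pchk_1885
  · exact t1690_pchk_1886
  · exact t1690_pchk_1887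
  · exact t1690_pchk_1888
  · exact t1690_pchk_1889
  · exact t1690_pchk_1890
  · exact t1690_pchk_1891
  · exact t1690_pchk_1892
  · exact t1690_pchk_1893
  · exact t1690_pchk_1894
  · exact t1690_pchk_1895
  · exact t1690_pchk_1896
  · exact t1690_pchk_1897
  · exact t1690_pchk_1898
  · exact t1690_pchk_1899
  · exact t1690_pchk_1900
  · exact t1690_pchk_1901
  · exact t1690_pchk_1902
  · exact t1690_pchk_1903
  · exact t1690_pchk_1904
  · exact t1690_pchk_1905
  · exact t1690_pchk_1906
  · exact t1690_pchk_1907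
  · exact t1690_pchk_1908
  · exact t1690_pchk_1909
  · exact t1690_pchk_1910
  · exact t1690_pchk_1911
  · exact t1690_pchk_1912
  · exact t1690_pchk_1913
  · exact t1690_pchk_1914
  · exact t1690_pchk_1915
  · exact t1690_pchk_1916
  · exact t1690_pchk_1917
  · exact t1690_pchk_1918
  · exact t1690_pchk_1919

end Cfsg.Agent.H35
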