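import Cfsg.Agent.H35.T1690.PTab

set_option autoImplicit false
set_option linter.all false
set_option Elab.async false

namespace Cfsg.Agent.H35

theorem t1690_pchk_1920 : allR t1690_pf 306936 6 (1920 * 2 ^ 6) = true := by decide +kernel
theorem t1690_pchk_1921 : allR t1690_pf 306936 6 (1921 * 2 ^ 6) = true := by decide +kernel
theorem t1690_pchk_1922 : allR t1690_pf 306936 6 (1922 * 2 ^ 6) = true := by decide +kernel
theorem t1690_pchk_1923 : allR t1690_pf 306936 6 (1923 * 2 ^ 6) = true := by decide +kernel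
theorem t1690_pchk_1924 : allR t1690_pf 306936 6 (1924 * 2 ^ 6) = true := by decide +kernel
theorem t1690_pchk_1925 : allR t1690_pf 306936 6 (1925 * 2 ^ 6) = true := by decide +kernel
theorem t1690_pchk_1926 : allR t1690_pf 306936 6 (1926 * 2 ^ 6) = true := by decide +kernel
theorem t1690_pchk_1927 : allR t1690_pf 306936 6 (1927 * 2 ^ 6) = true := by decide +kernel
theorem t1690_pchk_1928 : allR t1690_pf 306936 6 (1928 * 2 ^ 6) = true := by decide +kernel
theorem t1690_pchk_1929 : allR t1690_pf 306936 6 (1929 * 2 ^ 6) = true := by decide +kernel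
theorem t1690_pchk_1930 : allR t1690_pf 306936 6 (1930 * 2 ^ 6) = true := by decide +kernel
theorem t1690_pchk_1931 : allR t1690_pf 306936 6 (1931 * 2 ^ 6) = true := by decide +kernel
theorem t1690_pchk_1932 : allR t1690_pf 306936 6 (1932 * 2 ^ 6) = true := by decide +kernel
theorem t1690_pchk_1933 : allR t1690_pf 306936 6 (1933 * 2 ^ 6) = true := by decide +kernel
theorem t1690_pchk_1934 : allR t1690_pf 306936 6 (1934 * 2 ^ 6) = true := by decide +kernel
theorem t1690_pchk_1935 : allR t1690_pf 306936 6 (1935 * 2 ^ 6) = true := by decide +kernel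
theorem t1690_pchk_1936 : allR t1690_pf 306936 6 (1936 * 2 ^ 6) = true := by decide +kernel
theorem t1690_pchk_1937 : allR t1690_pf 306936 6 (1937 * 2 ^ 6) = true := by decide +kernel
theorem t1690_pchk_1938 : allR t1690_pf 306936 6 (1938 * 2 ^ 6) = true := by decide +kernel
theorem t1690_pchk_1939 : allR t1690_pf 306936 6 (1939 * 2 ^ 6) = true := by decide +kernel
theorem t1690_pchk_1940 : allR t1690_pf 306936 6 (1940 * 2 ^ 6) = true := by decide +kernel
theorem t1690_pchk_1941 : allR t1690_pf 306936 6 (1941 * 2 ^ 6) = true := by decide +kernel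
theorem t1690_pchk_1942 : allR t1690_pf 306936 6 (1942 * 2 ^ 6) = true := by decide +kernel
theorem t1690_pchk_1943 : allR t1690_pf 306936 6 (1943 * 2 ^ 6) = true := by decide +kernel
theorem t1690_pchk_1944 : allR t1690_pf 306936 6 (1944 * 2 ^ 6) = true := by decide +kernel
theorem t1690_pchk_1945 : allR t1690_pf 306936 6 (1945 * 2 ^ 6) = true := by decide +kernel
theorem t1690_pchk_1946 : allR t1690_pf 306936 6 (1946 * 2 ^ 6) = true := by decide +kernel
theorem t1690_pchk_1947 : allR t1690_pf 306936 6 (1947 * 2 ^ 6) = true := by decide +kernel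
theorem t1690_pchk_1948 : allR t1690_pf 306936 6 (1948 * 2 ^ 6) = true := by decide +kernel
theorem t1690_pchk_1949 : allR t1690_pf 306936 6 (1949 * 2 ^ 6) = true := by decide +kernel
theorem t1690_pchk_1950 : allR t1690_pf 306936 6 (1950 * 2 ^ 6) = true := by decide +kernel
theorem t1690_pchk_1951 : allR t1690_pf 306936 6 (1951 * 2 ^ 6) = true := by decide +kernel
theorem t1690_pchk_1952 : allR t1690_pf 306936 6 (1952 * 2 ^ 6) = true := by decide +kernel
theorem t1690_pchk_1953 : allR t1690_pf 306936 6 (1953 * 2 ^ 6) = true := by decide +kernel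
theorem t1690_pchk_1954 : allR t1690_pf 306936 6 (1954 * 2 ^ 6) = true := by decide +kernel
theorem t1690_pchk_1955 : allR t1690_pf 306936 6 (1955 * 2 ^ 6) = true := by decide +kernel
theorem t1690_pchk_1956 : allR t1690_pf 306936 6 (1956 * 2 ^ 6) = true := by decide +kernel
theorem t1690_pchk_1957 : allR t1690_pf 306936 6 (1957 * 2 ^ 6) = true := by decide +kernel
theorem t1690_pchk_1958 : allR t1690_pf 306936 6 (1958 * 2 ^ 6) = true := by decide +kernel
theorem t1690_pchk_1959 : allR t1690_pf 306936 6 (1959 * 2 ^ 6) = true := by decide +kernel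
theorem t1690_pchk_1960 : allR t1690_pf 306936 6 (1960 * 2 ^ 6) = true := by decide +kernel
theorem t1690_pchk_1961 : allR t1690_pf 306936 6 (1961 * 2 ^ 6) = true := by decide +kernel
theorem t1690_pchk_1962 : allR t1690_pf 306936 6 (1962 * 2 ^ 6) = true := by decide +kernel
theorem t1690_pchk_1963 : allR t1690_pf 306936 6 (1963 * 2 ^ 6) = true := by decide +kernel
theorem t1690_pchk_1964 : allR t1690_pf 306936 6 (1964 * 2 ^ 6) = true := by decide +kernel
theorem t1690_pchk_1965 : allR t1690_pf 306936 6 (1965 * 2 ^ 6) = true := by decide +kernel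
theorem t1690_pchk_1966 : allR t1690_pf 306936 6 (1966 * 2 ^ 6) = true := by decide +kernel
theorem t1690_pchk_1967 : allR t1690_pf 306936 6 (1967 * 2 ^ 6) = true := by decide +kernel
theorem t1690_pchk_1968 : allR t1690_pf 306936 6 (1968 * 2 ^ 6) = true := by decide +kernel
theorem t1690_pchk_1969 : allR t1690_pf 306936 6 (1969 * 2 ^ 6) = true := by decide +kernel
theorem t1690_pchk_1970 : allR t1690_pf 306936 6 (1970 * 2 ^ 6) = true := by decide +kernel
theorem t1690_pchk_1971 : allR t1690_pf 306936 6 (1971 * 2 ^ 6) = true := by decide +kernel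
theorem t1690_pchk_1972 : allR t1690_pf 306936 6 (1972 * 2 ^ 6) = true := by decide +kernel
theorem t1690_pchk_1973 : allR t1690_pf 306936 6 (1973 * 2 ^ 6) = true := by decide +kernel
theorem t1690_pchk_1974 : allR t1690_pf 306936 6 (1974 * 2 ^ 6) = true := by decide +kernel
theorem t1690_pchk_1975 : allR t1690_pf 306936 6 (1975 * 2 ^ 6) = true := by decide +kernel
theorem t1690_pchk_1976 : allR t1690_pf 306936 6 (1976 * 2 ^ 6) = true := by decide +kernel
theorem t1690_pchk_1977 : allR t1690_pf 306936 6 (1977 * 2 ^ 6) = true := by decide +kernel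
theorem t1690_pchk_1978 : allR t1690_pf 306936 6 (1978 * 2 ^ 6) = true := by decide +kernel
theorem t1690_pchk_1979 : allR t1690_pf 306936 6 (1979 * 2 ^ 6) = true := by decide +kernel
theorem t1690_pchk_1980 : allR t1690_pf 306936 6 (1980 * 2 ^ 6) = true := by decide +kernel
theorem t1690_pchk_1981 : allR t1690_pf 306936 6 (1981 * 2 ^ 6) = true := by decide +kernel
theorem t1690_pchk_1982 : allR t1690_pf 306936 6 (1982 * 2 ^ 6) = true := by decide +kernel
theorem t1690_pchk_1983 : allR t1690_pf 306936 6 (1983 * 2 ^ 6) = true := by decide +kernel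
theorem t1690_pchk_1984 : allR t1690_pf 306936 6 (1984 * 2 ^ 6) = true := by decide +kernel
theorem t1690_pchk_1985 : allR t1690_pf 306936 6 (1985 * 2 ^ 6) = true := by decide +kernel
theorem t1690_pchk_1986 : allR t1690_pf 306936 6 (1986 * 2 ^ 6) = true := by decide +kernel
theorem t1690_pchk_1987 : allR t1690_pf 306936 6 (1987 * 2 ^ 6) = true := by decide +kernel
theorem t1690_pchk_1988 : allR t1690_pf 306936 6 (1988 * 2 ^ 6) = true := by decide +kernel
theorem t1690_pchk_1989 : allR t1690_pf 306936 6 (1989 * 2 ^ 6) = true := by decide +kernel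
theorem t1690_pchk_1990 : allR t1690_pf 306936 6 (1990 * 2 ^ 6) = true := by decide +kernel
theorem t1690_pchk_1991 : allR t1690_pf 306936 6 (1991 * 2 ^ 6) = true := by decide +kernel
theorem t1690_pchk_1992 : allR t1690_pf 306936 6 (1992 * 2 ^ 6) = true := by decide +kernel
theorem t1690_pchk_1993 : allR t1690_pf 306936 6 (1993 * 2 ^ 6) = true := by decide +kernel
theorem t1690_pchk_1994 : allR t1690_pf 306936 6 (1994 * 2 ^ 6) = true := by decide +kernel
theorem t1690_pchk_1995 : allR t1690_pf 306936 6 (1995 * 2 ^ 6) = true := by decide +kernel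
theorem t1690_pchk_1996 : allR t1690_pf 306936 6 (1996 * 2 ^ 6) = true := by decide +kernel
theorem t1690_pchk_1997 : allR t1690_pf 306936 6 (1997 * 2 ^ 6) = true := by decide +kernel
theorem t1690_pchk_1998 : allR t1690_pf 306936 6 (1998 * 2 ^ 6) = true := by decide +kernel
theorem t1690_pchk_1999 : allR t1690_pf 306936 6 (1999 * 2 ^ 6) = true := by decide +kernel
theorem t1690_pchk_2000 : allR t1690_pf 306936 6 (2000 * 2 ^ 6) = true := by decide +kernel
theorem t1690_pchk_2001 : allR t1690_pf 306936 6 (2001 * 2 ^ 6) = true := by decide +kernel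
theorem t1690_pchk_2002 : allR t1690_pf 306936 6 (2002 * 2 ^ 6) = true := by decide +kernel
theorem t1690_pchk_2003 : allR t1690_pf 306936 6 (2003 * 2 ^ 6) = true := by decide +kernel
theorem t1690_pchk_2004 : allR t1690_pf 306936 6 (2004 * 2 ^ 6) = true := by decide +kernel
theorem t1690_pchk_2005 : allR t1690_pf 306936 6 (2005 * 2 ^ 6) = true := by decide +kernel
theorem t1690_pchk_2006 : allR t1690_pf 306936 6 (2006 * 2 ^ 6) = true := by decide +kernel
theorem t1690_pchk_2007 : allR t1690_pf 306936 6 (2007 * 2 ^ 6) = true := by decide +kernel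
theorem t1690_pchk_2008 : allR t1690_pf 306936 6 (2008 * 2 ^ 6) = true := by decide +kernel
theorem t1690_pchk_2009 : allR t1690_pf 306936 6 (2009 * 2 ^ 6) = true := by decide +kernel
theorem t1690_pchk_2010 : allR t1690_pf 306936 6 (2010 * 2 ^ 6) = true := by decide +kernel
theorem t1690_pchk_2011 : allR t1690_pf 306936 6 (2011 * 2 ^ 6) = true := by decide +kernel
theorem t1690_pchk_2012 : allR t1690_pf 306936 6 (2012 * 2 ^ 6) = true := by decide +kernel
theorem t1690_pchk_2013 : allR t1690_pf 306936 6 (2013 * 2 ^ 6) = true := by decide +kernel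
theorem t1690_pchk_2014 : allR t1690_pf 306936 6 (2014 * 2 ^ 6) = true := by decide +kernel
theorem t1690_pchk_2015 : allR t1690_pf 306936 6 (2015 * 2 ^ 6) = true := by decide +kernel
theorem t1690_pchk_2016 : allR t1690_pf 306936 6 (2016 * 2 ^ 6) = true := by decide +kernel
theorem t1690_pchk_2017 : allR t1690_pf 306936 6 (2017 * 2 ^ 6) = true := by decide +kernel
theorem t1690_pchk_2018 : allR t1690_pf 306936 6 (2018 * 2 ^ 6) = true := by decide +kernel
theorem t1690_pchk_2019 : allR t1690_pf 306936 6 (2019 * 2 ^ 6) = true := by decide +kernel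
theorem t1690_pchk_2020 : allR t1690_pf 306936 6 (2020 * 2 ^ 6) = true := by decide +kernel
theorem t1690_pchk_2021 : allR t1690_pf 306936 6 (2021 * 2 ^ 6) = true := by decide +kernel
theorem t1690_pchk_2022 : allR t1690_pf 306936 6 (2022 * 2 ^ 6) = true := by decide +kernel
theorem t1690_pchk_2023 : allR t1690_pf 306936 6 (2023 * 2 ^ 6) = true := by decide +kernel
theorem t1690_pchk_2024 : allR t1690_pf 306936 6 (2024 * 2 ^ 6) = true := by decide +kernel
theorem t1690_pchk_2025 : allR t1690_pf 306936 6 (2025 * 2 ^ 6) = true := by decide +kernel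
theorem t1690_pchk_2026 : allR t1690_pf 306936 6 (2026 * 2 ^ 6) = true := by decide +kernel
theorem t1690_pchk_2027 : allR t1690_pf 306936 6 (2027 * 2 ^ 6) = true := by decide +kernel
theorem t1690_pchk_2028 : allR t1690_pf 306936 6 (2028 * 2 ^ 6) = true := by decide +kernel
theorem t1690_pchk_2029 : allR t1690_pf 306936 6 (2029 * 2 ^ 6) = true := by decide +kernel
theorem t1690_pchk_2030 : allR t1690_pf 306936 6 (2030 * 2 ^ 6) = true := by decide +kernel
theorem t1690_pchk_2031 : allR t1690_pf 306936 6 (2031 * 2 ^ 6) = true := by decide +kernel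
theorem t1690_pchk_2032 : allR t1690_pf 306936 6 (2032 * 2 ^ 6) = true := by decide +kernel
theorem t1690_pchk_2033 : allR t1690_pf 306936 6 (2033 * 2 ^ 6) = true := by decide +kernel
theorem t1690_pchk_2034 : allR t1690_pf 306936 6 (2034 * 2 ^ 6) = true := by decide +kernel
theorem t1690_pchk_2035 : allR t1690_pf 306936 6 (2035 * 2 ^ 6) = true := by decide +kernel
theorem t1690_pchk_2036 : allR t1690_pf 306936 6 (2036 * 2 ^ 6) = true := by decide +kernel
theorem t1690_pchk_2037 : allR t1690_pf 306936 6 (2037 * 2 ^ 6) = true := by decide +kernel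
theorem t1690_pchk_2038 : allR t1690_pf 306936 6 (2038 * 2 ^ 6) = true := by decide +kernel
theorem t1690_pchk_2039 : allR t1690_pf 306936 6 (2039 * 2 ^ 6) = true := by decide +kernel

theorem t1690_pfile_16 : ∀ k, k < 2040 → 1920 ≤ k → allR t1690_pf 306936 6 (k * 2 ^ 6) = true := by
  intro k h1 h2
  interval_cases k
  · exact t1690_pchk_1920
  · exact t1690_pchk_1921
  · exact t1690_pchk_1922
  · exact t1690_pchk_1923
  · exact t1690_pchk_1924
  · exact t1690_pchk_1925
  · exact t1690_pchk_1926
  · exact t1690_pchk_1927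
  · exact t1690_pchk_1928
  · exact t1690_pchk_1929
  · exact t1690_pchk_1930
  · exact t1690_pchk_1931
  · exact t1690_pchk_1932
  · exact t1690_pchk_1933
  · exact t1690_pchk_1934
  · exact t1690_pchk_1935
  · exact t1690_pchk_1936
  · exact t1690_pchk_1937
  · exact t1690_pchk_1938
  · exact t1690_pchk_1939
  · exact t1690_pchk_1940
  · exact t1690_pchk_1941
  · exact t1690_pchk_1942
  · exact t1690_pchk_1943
  · exact t1690_pchk_1944
  · exact t1690_pchk_1945
  · exact t1690_pchk_1946
  · exact t1690_pchk_1947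
  · exact t1690_pchk_1948
  · exact t1690_pchk_1949
  · exact t1690_pchk_1950
  · exact t1690_pchk_1951
  · exact t1690_pchk_1952
  · exact t1690_pchk_1953
  · exact t1690_pchk_1954
  · exact t1690_pchk_1955
  · exact t1690_pchk_1956
  · exact t1690_pchk_1957
  · exact t1690_pchk_1958
  · exact t1690_pchk_1959
  · exact t1690_pchk_1960
  · exact t1690_pchk_1961
  · exact t1690_pchk_1962
  · exact t1690_pchk_1963
  · exact t1690_pchk_1964
  · exact t1690_pchk_1965
  · exact t1690_pchk_1966
  · exact t1690_pchk_1967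
  · exact t1690_pchk_1968
  · exact t1690_pchk_1969
  · exact t1690_pchk_1970
  · exact t1690_pchk_1971
  · exact t1690_pchk_1972
  · exact t1690_pchk_1973
  · exact t1690_pchk_1974
  · exact t1690_pchk_1975
  · exact t1690_pchk_1976
  · exact t1690_pchk_1977
  · exact t1690_pchk_1978
  · exact t1690_pchk_1979
  · exact t1690_pchk_1980
  · exact t1690_pchk_1981
  · exact t1690_pchk_1982
  · exact t1690_pchk_1983
  · exact t1690_pchk_1984
  · exact t1690_pchk_1985
  · exact t1690_pchk_1986
  · exact t1690_pchk_1987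
  · exact t1690_pchk_1988
  · exact t1690_pchk_1989
  · exact t1690_pchk_1990
  · exact t1690_pchk_1991
  · exact t1690_pchk_1992
  · exact t1690_pchk_1993
  · exact t1690_pchk_1994
  · exact t1690_pchk_1995
  · exact t1690_pchk_1996
  · exact t1690_pchk_1997
  · exact t1690_pchk_1998
  · exact t1690_pchk_1999
  · exact t1690_pchk_2000
  · exact t1690_pchk_2001
  · exact t1690_pchk_2002
  · exact t1690_pchk_2003
  · exact t1690_pchk_2004
  · exact t1690_pchk_2005
  · exact t1690_pchk_2006
  · exact t1690_pchk_2007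
  · exact t1690_pchk_2008
  · exact t1690_pchk_2009
  · exact t1690_pchk_2010
  · exact t1690_pchk_2011
  · exact t1690_pchk_2012
  · exact t1690_pchk_2013
  · exact t1690_pchk_2014
  · exact t1690_pchk_2015
  · exact t1690_pchk_2016
  · exact t1690_pchk_2017
  · exact t1690_pchk_2018
  · exact t1690_pchk_2019
  · exact t1690_pchk_2020
  · exact t1690_pchk_2021
  · exact t1690_pchk_2022
  · exact t1690_pchk_2023
  · exact t1690_pchk_2024
  · exact t1690_pchk_2025
  · exact t1690_pchk_2026
  · exact t1690_pchk_2027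
  · exact t1690_pchk_2028
  · exact t1690_pchk_2029
  · exact t1690_pchk_2030
  · exact t1690_pchk_2031
  · exact t1690_pchk_2032
  · exact t1690_pchk_2033
  · exact t1690_pchk_2034
  · exact t1690_pchk_2035
  · exact t1690_pchk_2036
  · exact t1690_pchk_2037
  · exact t1690_pchk_2038
  · exact t1690_pchk_2039

end Cfsg.Agent.H35
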