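import Cfsg.Agent.H35.T1690.PTab

set_option autoImplicit false
set_option linter.all false
set_option Elab.async false

namespace Cfsg.Agent.H35

theorem t1690_pchk_2040 : allR t1690_pf 306936 6 (2040 * 2 ^ 6) = true := by decide +kernel
theorem t1690_pchk_2041 : allR t1690_pf 306936 6 (2041 * 2 ^ 6) = true := by decide +kernel
theorem t1690_pchk_2042 : allR t1690_pf 306936 6 (2042 * 2 ^ 6) = true := by decide +kernel
theorem t1690_pchk_2043 : allR t1690_pf 306936 6 (2043 * 2 ^ 6) = true := by decide +kernel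
theorem t1690_pchk_2044 : allR t1690_pf 306936 6 (2044 * 2 ^ 6) = true := by decide +kernel
theorem t1690_pchk_2045 : allR t1690_pf 306936 6 (2045 * 2 ^ 6) = true := by decide +kernel
theorem t1690_pchk_2046 : allR t1690_pf 306936 6 (2046 * 2 ^ 6) = true := by decide +kernel
theorem t1690_pchk_2047 : allR t1690_pf 306936 6 (2047 * 2 ^ 6) = true := by decide +kernel
theorem t1690_pchk_2048 : allR t1690_pf 306936 6 (2048 * 2 ^ 6) = true := by decide +kernel
theorem t1690_pchk_2049 : allR t1690_pf 306936 6 (2049 * 2 ^ 6) = true := by decide +kernel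
theorem t1690_pchk_2050 : allR t1690_pf 306936 6 (2050 * 2 ^ 6) = true := by decide +kernel
theorem t1690_pchk_2051 : allR t1690_pf 306936 6 (2051 * 2 ^ 6) = true := by decide +kernel
theorem t1690_pchk_2052 : allR t1690_pf 306936 6 (2052 * 2 ^ 6) = true := by decide +kernel
theorem t1690_pchk_2053 : allR t1690_pf 306936 6 (2053 * 2 ^ 6) = true := by decide +kernel
theorem t1690_pchk_2054 : allR t1690_pf 306936 6 (2054 * 2 ^ 6) = true := by decide +kernel
theorem t1690_pchk_2055 : allR t1690_pf 306936 6 (2055 * 2 ^ 6) = true := by decide +kernel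
theorem t1690_pchk_2056 : allR t1690_pf 306936 6 (2056 * 2 ^ 6) = true := by decide +kernel
theorem t1690_pchk_2057 : allR t1690_pf 306936 6 (2057 * 2 ^ 6) = true := by decide +kernel
theorem t1690_pchk_2058 : allR t1690_pf 306936 6 (2058 * 2 ^ 6) = true := by decide +kernel
theorem t1690_pchk_2059 : allR t1690_pf 306936 6 (2059 * 2 ^ 6) = true := by decide +kernel
theorem t1690_pchk_2060 : allR t1690_pf 306936 6 (2060 * 2 ^ 6) = true := by decide +kernel
theorem t1690_pchk_2061 : allR t1690_pf 306936 6 (2061 * 2 ^ 6) = true := by decide +kernel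
theorem t1690_pchk_2062 : allR t1690_pf 306936 6 (2062 * 2 ^ 6) = true := by decide +kernel
theorem t1690_pchk_2063 : allR t1690_pf 306936 6 (2063 * 2 ^ 6) = true := by decide +kernel
theorem t1690_pchk_2064 : allR t1690_pf 306936 6 (2064 * 2 ^ 6) = true := by decide +kernel
theorem t1690_pchk_2065 : allR t1690_pf 306936 6 (2065 * 2 ^ 6) = true := by decide +kernel
theorem t1690_pchk_2066 : allR t1690_pf 306936 6 (2066 * 2 ^ 6) = true := by decide +kernel
theorem t1690_pchk_2067 : allR t1690_pf 306936 6 (2067 * 2 ^ 6) = true := by decide +kernel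
theorem t1690_pchk_2068 : allR t1690_pf 306936 6 (2068 * 2 ^ 6) = true := by decide +kernel
theorem t1690_pchk_2069 : allR t1690_pf 306936 6 (2069 * 2 ^ 6) = true := by decide +kernel
theorem t1690_pchk_2070 : allR t1690_pf 306936 6 (2070 * 2 ^ 6) = true := by decide +kernel
theorem t1690_pchk_2071 : allR t1690_pf 306936 6 (2071 * 2 ^ 6) = true := by decide +kernel
theorem t1690_pchk_2072 : allR t1690_pf 306936 6 (2072 * 2 ^ 6) = true := by decide +kernel
theorem t1690_pchk_2073 : allR t1690_pf 306936 6 (2073 * 2 ^ 6) = true := by decide +kernel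
theorem t1690_pchk_2074 : allR t1690_pf 306936 6 (2074 * 2 ^ 6) = true := by decide +kernel
theorem t1690_pchk_2075 : allR t1690_pf 306936 6 (2075 * 2 ^ 6) = true := by decide +kernel
theorem t1690_pchk_2076 : allR t1690_pf 306936 6 (2076 * 2 ^ 6) = true := by decide +kernel
theorem t1690_pchk_2077 : allR t1690_pf 306936 6 (2077 * 2 ^ 6) = true := by decide +kernel
theorem t1690_pchk_2078 : allR t1690_pf 306936 6 (2078 * 2 ^ 6) = true := by decide +kernel
theorem t1690_pchk_2079 : allR t1690_pf 306936 6 (2079 * 2 ^ 6) = true := by decide +kernel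
theorem t1690_pchk_2080 : allR t1690_pf 306936 6 (2080 * 2 ^ 6) = true := by decide +kernel
theorem t1690_pchk_2081 : allR t1690_pf 306936 6 (2081 * 2 ^ 6) = true := by decide +kernel
theorem t1690_pchk_2082 : allR t1690_pf 306936 6 (2082 * 2 ^ 6) = true := by decide +kernel
theorem t1690_pchk_2083 : allR t1690_pf 306936 6 (2083 * 2 ^ 6) = true := by decide +kernel
theorem t1690_pchk_2084 : allR t1690_pf 306936 6 (2084 * 2 ^ 6) = true := by decide +kernel
theorem t1690_pchk_2085 : allR t1690_pf 306936 6 (2085 * 2 ^ 6) = true := by decide +kernel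
theorem t1690_pchk_2086 : allR t1690_pf 306936 6 (2086 * 2 ^ 6) = true := by decide +kernel
theorem t1690_pchk_2087 : allR t1690_pf 306936 6 (2087 * 2 ^ 6) = true := by decide +kernel
theorem t1690_pchk_2088 : allR t1690_pf 306936 6 (2088 * 2 ^ 6) = true := by decide +kernel
theorem t1690_pchk_2089 : allR t1690_pf 306936 6 (2089 * 2 ^ 6) = true := by decide +kernel
theorem t1690_pchk_2090 : allR t1690_pf 306936 6 (2090 * 2 ^ 6) = true := by decide +kernel
theorem t1690_pchk_2091 : allR t1690_pf 306936 6 (2091 * 2 ^ 6) = true := by decide +kernel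
theorem t1690_pchk_2092 : allR t1690_pf 306936 6 (2092 * 2 ^ 6) = true := by decide +kernel
theorem t1690_pchk_2093 : allR t1690_pf 306936 6 (2093 * 2 ^ 6) = true := by decide +kernel
theorem t1690_pchk_2094 : allR t1690_pf 306936 6 (2094 * 2 ^ 6) = true := by decide +kernel
theorem t1690_pchk_2095 : allR t1690_pf 306936 6 (2095 * 2 ^ 6) = true := by decide +kernel
theorem t1690_pchk_2096 : allR t1690_pf 306936 6 (2096 * 2 ^ 6) = true := by decide +kernel
theorem t1690_pchk_2097 : allR t1690_pf 306936 6 (2097 * 2 ^ 6) = true := by decide +kernel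
theorem t1690_pchk_2098 : allR t1690_pf 306936 6 (2098 * 2 ^ 6) = true := by decide +kernel
theorem t1690_pchk_2099 : allR t1690_pf 306936 6 (2099 * 2 ^ 6) = true := by decide +kernel
theorem t1690_pchk_2100 : allR t1690_pf 306936 6 (2100 * 2 ^ 6) = true := by decide +kernel
theorem t1690_pchk_2101 : allR t1690_pf 306936 6 (2101 * 2 ^ 6) = true := by decide +kernel
theorem t1690_pchk_2102 : allR t1690_pf 306936 6 (2102 * 2 ^ 6) = true := by decide +kernel
theorem t1690_pchk_2103 : allR t1690_pf 306936 6 (2103 * 2 ^ 6) = true := by decide +kernel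
theorem t1690_pchk_2104 : allR t1690_pf 306936 6 (2104 * 2 ^ 6) = true := by decide +kernel
theorem t1690_pchk_2105 : allR t1690_pf 306936 6 (2105 * 2 ^ 6) = true := by decide +kernel
theorem t1690_pchk_2106 : allR t1690_pf 306936 6 (2106 * 2 ^ 6) = true := by decide +kernel
theorem t1690_pchk_2107 : allR t1690_pf 306936 6 (2107 * 2 ^ 6) = true := by decide +kernel
theorem t1690_pchk_2108 : allR t1690_pf 306936 6 (2108 * 2 ^ 6) = true := by decide +kernel
theorem t1690_pchk_2109 : allR t1690_pf 306936 6 (2109 * 2 ^ 6) = true := by decide +kernel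
theorem t1690_pchk_2110 : allR t1690_pf 306936 6 (2110 * 2 ^ 6) = true := by decide +kernel
theorem t1690_pchk_2111 : allR t1690_pf 306936 6 (2111 * 2 ^ 6) = true := by decide +kernel
theorem t1690_pchk_2112 : allR t1690_pf 306936 6 (2112 * 2 ^ 6) = true := by decide +kernel
theorem t1690_pchk_2113 : allR t1690_pf 306936 6 (2113 * 2 ^ 6) = true := by decide +kernel
theorem t1690_pchk_2114 : allR t1690_pf 306936 6 (2114 * 2 ^ 6) = true := by decide +kernel
theorem t1690_pchk_2115 : allR t1690_pf 306936 6 (2115 * 2 ^ 6) = true := by decide +kernel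
theorem t1690_pchk_2116 : allR t1690_pf 306936 6 (2116 * 2 ^ 6) = true := by decide +kernel
theorem t1690_pchk_2117 : allR t1690_pf 306936 6 (2117 * 2 ^ 6) = true := by decide +kernel
theorem t1690_pchk_2118 : allR t1690_pf 306936 6 (2118 * 2 ^ 6) = true := by decide +kernel
theorem t1690_pchk_2119 : allR t1690_pf 306936 6 (2119 * 2 ^ 6) = true := by decide +kernel
theorem t1690_pchk_2120 : allR t1690_pf 306936 6 (2120 * 2 ^ 6) = true := by decide +kernel
theorem t1690_pchk_2121 : allR t1690_pf 306936 6 (2121 * 2 ^ 6) = true := by decide +kernel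
theorem t1690_pchk_2122 : allR t1690_pf 306936 6 (2122 * 2 ^ 6) = true := by decide +kernel
theorem t1690_pchk_2123 : allR t1690_pf 306936 6 (2123 * 2 ^ 6) = true := by decide +kernel
theorem t1690_pchk_2124 : allR t1690_pf 306936 6 (2124 * 2 ^ 6) = true := by decide +kernel
theorem t1690_pchk_2125 : allR t1690_pf 306936 6 (2125 * 2 ^ 6) = true := by decide +kernel
theorem t1690_pchk_2126 : allR t1690_pf 306936 6 (2126 * 2 ^ 6) = true := by decide +kernel
theorem t1690_pchk_2127 : allR t1690_pf 306936 6 (2127 * 2 ^ 6) = true := by decide +kernel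
theorem t1690_pchk_2128 : allR t1690_pf 306936 6 (2128 * 2 ^ 6) = true := by decide +kernel
theorem t1690_pchk_2129 : allR t1690_pf 306936 6 (2129 * 2 ^ 6) = true := by decide +kernel
theorem t1690_pchk_2130 : allR t1690_pf 306936 6 (2130 * 2 ^ 6) = true := by decide +kernel
theorem t1690_pchk_2131 : allR t1690_pf 306936 6 (2131 * 2 ^ 6) = true := by decide +kernel
theorem t1690_pchk_2132 : allR t1690_pf 306936 6 (2132 * 2 ^ 6) = true := by decide +kernel
theorem t1690_pchk_2133 : allR t1690_pf 306936 6 (2133 * 2 ^ 6) = true := by decide +kernel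
theorem t1690_pchk_2134 : allR t1690_pf 306936 6 (2134 * 2 ^ 6) = true := by decide +kernel
theorem t1690_pchk_2135 : allR t1690_pf 306936 6 (2135 * 2 ^ 6) = true := by decide +kernel
theorem t1690_pchk_2136 : allR t1690_pf 306936 6 (2136 * 2 ^ 6) = true := by decide +kernel
theorem t1690_pchk_2137 : allR t1690_pf 306936 6 (2137 * 2 ^ 6) = true := by decide +kernel
theorem t1690_pchk_2138 : allR t1690_pf 306936 6 (2138 * 2 ^ 6) = true := by decide +kernel
theorem t1690_pchk_2139 : allR t1690_pf 306936 6 (2139 * 2 ^ 6) = true := by decide +kernel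
theorem t1690_pchk_2140 : allR t1690_pf 306936 6 (2140 * 2 ^ 6) = true := by decide +kernel
theorem t1690_pchk_2141 : allR t1690_pf 306936 6 (2141 * 2 ^ 6) = true := by decide +kernel
theorem t1690_pchk_2142 : allR t1690_pf 306936 6 (2142 * 2 ^ 6) = true := by decide +kernel
theorem t1690_pchk_2143 : allR t1690_pf 306936 6 (2143 * 2 ^ 6) = true := by decide +kernel
theorem t1690_pchk_2144 : allR t1690_pf 306936 6 (2144 * 2 ^ 6) = true := by decide +kernel
theorem t1690_pchk_2145 : allR t1690_pf 306936 6 (2145 * 2 ^ 6) = true := by decide +kernel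
theorem t1690_pchk_2146 : allR t1690_pf 306936 6 (2146 * 2 ^ 6) = true := by decide +kernel
theorem t1690_pchk_2147 : allR t1690_pf 306936 6 (2147 * 2 ^ 6) = true := by decide +kernel
theorem t1690_pchk_2148 : allR t1690_pf 306936 6 (2148 * 2 ^ 6) = true := by decide +kernel
theorem t1690_pchk_2149 : allR t1690_pf 306936 6 (2149 * 2 ^ 6) = true := by decide +kernel
theorem t1690_pchk_2150 : allR t1690_pf 306936 6 (2150 * 2 ^ 6) = true := by decide +kernel
theorem t1690_pchk_2151 : allR t1690_pf 306936 6 (2151 * 2 ^ 6) = true := by decide +kernel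
theorem t1690_pchk_2152 : allR t1690_pf 306936 6 (2152 * 2 ^ 6) = true := by decide +kernel
theorem t1690_pchk_2153 : allR t1690_pf 306936 6 (2153 * 2 ^ 6) = true := by decide +kernel
theorem t1690_pchk_2154 : allR t1690_pf 306936 6 (2154 * 2 ^ 6) = true := by decide +kernel
theorem t1690_pchk_2155 : allR t1690_pf 306936 6 (2155 * 2 ^ 6) = true := by decide +kernel
theorem t1690_pchk_2156 : allR t1690_pf 306936 6 (2156 * 2 ^ 6) = true := by decide +kernel
theorem t1690_pchk_2157 : allR t1690_pf 306936 6 (2157 * 2 ^ 6) = true := by decide +kernel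
theorem t1690_pchk_2158 : allR t1690_pf 306936 6 (2158 * 2 ^ 6) = true := by decide +kernel
theorem t1690_pchk_2159 : allR t1690_pf 306936 6 (2159 * 2 ^ 6) = true := by decide +kernel

theorem t1690_pfile_17 : ∀ k, k < 2160 → 2040 ≤ k → allR t1690_pf 306936 6 (k * 2 ^ 6) = true := by
  intro k h1 h2
  interval_cases k
  · exact t1690_pchk_2040
  · exact t1690_pchk_2041
  · exact t1690_pchk_2042
  · exact t1690_pchk_2043
  · exact t1690_pchk_2044
  · exact t1690_pchk_2045
  · exact t1690_pchk_2046
  · exact t1690_pchk_2047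
  · exact t1690_pchk_2048
  · exact t1690_pchk_2049
  · exact t1690_pchk_2050
  · exact t1690_pchk_2051
  · exact t1690_pchk_2052
  · exact t1690_pchk_2053
  · exact t1690_pchk_2054
  · exact t1690_pchk_2055
  · exact t1690_pchk_2056
  · exact t1690_pchk_2057
  · exact t1690_pchk_2058
  · exact t1690_pchk_2059
  · exact t1690_pchk_2060
  · exact t1690_pchk_2061
  · exact t1690_pchk_2062
  · exact t1690_pchk_2063
  · exact t1690_pchk_2064
  · exact t1690_pchk_2065
  · exact t1690_pchk_2066
  · exact t1690_pchk_2067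
  · exact t1690_pchk_2068
  · exact t1690_pchk_2069
  · exact t1690_pchk_2070
  · exact t1690_pchk_2071
  · exact t1690_pchk_2072
  · exact t1690_pchk_2073
  · exact t1690_pchk_2074
  · exact t1690_pchk_2075
  · exact t1690_pchk_2076
  · exact t1690_pchk_2077
  · exact t1690_pchk_2078
  · exact t1690_pchk_2079
  · exact t1690_pchk_2080
  · exact t1690_pchk_2081
  · exact t1690_pchk_2082
  · exact t1690_pchk_2083
  · exact t1690_pchk_2084
  · exact t1690_pchk_2085
  · exact t1690_pchk_2086
  · exact t1690_pchk_2087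
  · exact t1690_pchk_2088
  · exact t1690_pchk_2089
  · exact t1690_pchk_2090
  · exact t1690_pchk_2091
  · exact t1690_pchk_2092
  · exact t1690_pchk_2093
  · exact t1690_pchk_2094
  · exact t1690_pchk_2095
  · exact t1690_pchk_2096
  · exact t1690_pchk_2097
  · exact t1690_pchk_2098
  · exact t1690_pchk_2099
  · exact t1690_pchk_2100
  · exact t1690_pchk_2101
  · exact t1690_pchk_2102
  · exact t1690_pchk_2103
  · exact t1690_pchk_2104
  · exact t1690_pchk_2105
  · exact t1690_pchk_2106
  · exact t1690_pchk_2107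
  · exact t1690_pchk_2108
  · exact t1690_pchk_2109
  · exact t1690_pchk_2110
  · exact t1690_pchk_2111
  · exact t1690_pchk_2112
  · exact t1690_pchk_2113
  · exact t1690_pchk_2114
  · exact t1690_pchk_2115
  · exact t1690_pchk_2116
  · exact t1690_pchk_2117
  · exact t1690_pchk_2118
  · exact t1690_pchk_2119
  · exact t1690_pchk_2120
  · exact t1690_pchk_2121
  · exact t1690_pchk_2122
  · exact t1690_pchk_2123
  · exact t1690_pchk_2124
  · exact t1690_pchk_2125
  · exact t1690_pchk_2126
  · exact t1690_pchk_2127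
  · exact t1690_pchk_2128
  · exact t1690_pchk_2129
  · exact t1690_pchk_2130
  · exact t1690_pchk_2131
  · exact t1690_pchk_2132
  · exact t1690_pchk_2133
  · exact t1690_pchk_2134
  · exact t1690_pchk_2135
  · exact t1690_pchk_2136
  · exact t1690_pchk_2137
  · exact t1690_pchk_2138
  · exact t1690_pchk_2139
  · exact t1690_pchk_2140
  · exact t1690_pchk_2141
  · exact t1690_pchk_2142
  · exact t1690_pchk_2143
  · exact t1690_pchk_2144
  · exact t1690_pchk_2145
  · exact t1690_pchk_2146
  · exact t1690_pchk_2147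
  · exact t1690_pchk_2148
  · exact t1690_pchk_2149
  · exact t1690_pchk_2150
  · exact t1690_pchk_2151
  · exact t1690_pchk_2152
  · exact t1690_pchk_2153
  · exact t1690_pchk_2154
  · exact t1690_pchk_2155
  · exact t1690_pchk_2156
  · exact t1690_pchk_2157
  · exact t1690_pchk_2158
  · exact t1690_pchk_2159

end Cfsg.Agent.H35
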