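import Cfsg.Agent.H35.T1690.PTab

set_option autoImplicit false
set_option linter.all false
set_option Elab.async false

namespace Cfsg.Agent.H35

theorem t1690_pchk_2160 : allR t1690_pf 306936 6 (2160 * 2 ^ 6) = true := by decide +kernel
theorem t1690_pchk_2161 : allR t1690_pf 306936 6 (2161 * 2 ^ 6) = true := by decide +kernel
theorem t1690_pchk_2162 : allR t1690_pf 306936 6 (2162 * 2 ^ 6) = true := by decide +kernel
theorem t1690_pchk_2163 : allR t1690_pf 306936 6 (2163 * 2 ^ 6) = true := by decide +kernel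
theorem t1690_pchk_2164 : allR t1690_pf 306936 6 (2164 * 2 ^ 6) = true := by decide +kernel
theorem t1690_pchk_2165 : allR t1690_pf 306936 6 (2165 * 2 ^ 6) = true := by decide +kernel
theorem t1690_pchk_2166 : allR t1690_pf 306936 6 (2166 * 2 ^ 6) = true := by decide +kernel
theorem t1690_pchk_2167 : allR t1690_pf 306936 6 (2167 * 2 ^ 6) = true := by decide +kernel
theorem t1690_pchk_2168 : allR t1690_pf 306936 6 (2168 * 2 ^ 6) = true := by decide +kernel
theorem t1690_pchk_2169 : allR t1690_pf 306936 6 (2169 * 2 ^ 6) = true := by decide +kernel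
theorem t1690_pchk_2170 : allR t1690_pf 306936 6 (2170 * 2 ^ 6) = true := by decide +kernel
theorem t1690_pchk_2171 : allR t1690_pf 306936 6 (2171 * 2 ^ 6) = true := by decide +kernel
theorem t1690_pchk_2172 : allR t1690_pf 306936 6 (2172 * 2 ^ 6) = true := by decide +kernel
theorem t1690_pchk_2173 : allR t1690_pf 306936 6 (2173 * 2 ^ 6) = true := by decide +kernel
theorem t1690_pchk_2174 : allR t1690_pf 306936 6 (2174 * 2 ^ 6) = true := by decide +kernel
theorem t1690_pchk_2175 : allR t1690_pf 306936 6 (2175 * 2 ^ 6) = true := by decide +kernel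
theorem t1690_pchk_2176 : allR t1690_pf 306936 6 (2176 * 2 ^ 6) = true := by decide +kernel
theorem t1690_pchk_2177 : allR t1690_pf 306936 6 (2177 * 2 ^ 6) = true := by decide +kernel
theorem t1690_pchk_2178 : allR t1690_pf 306936 6 (2178 * 2 ^ 6) = true := by decide +kernel
theorem t1690_pchk_2179 : allR t1690_pf 306936 6 (2179 * 2 ^ 6) = true := by decide +kernel
theorem t1690_pchk_2180 : allR t1690_pf 306936 6 (2180 * 2 ^ 6) = true := by decide +kernel
theorem t1690_pchk_2181 : allR t1690_pf 306936 6 (2181 * 2 ^ 6) = true := by decide +kernel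
theorem t1690_pchk_2182 : allR t1690_pf 306936 6 (2182 * 2 ^ 6) = true := by decide +kernel
theorem t1690_pchk_2183 : allR t1690_pf 306936 6 (2183 * 2 ^ 6) = true := by decide +kernel
theorem t1690_pchk_2184 : allR t1690_pf 306936 6 (2184 * 2 ^ 6) = true := by decide +kernel
theorem t1690_pchk_2185 : allR t1690_pf 306936 6 (2185 * 2 ^ 6) = true := by decide +kernel
theorem t1690_pchk_2186 : allR t1690_pf 306936 6 (2186 * 2 ^ 6) = true := by decide +kernel
theorem t1690_pchk_2187 : allR t1690_pf 306936 6 (2187 * 2 ^ 6) = true := by decide +kernel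
theorem t1690_pchk_2188 : allR t1690_pf 306936 6 (2188 * 2 ^ 6) = true := by decide +kernel
theorem t1690_pchk_2189 : allR t1690_pf 306936 6 (2189 * 2 ^ 6) = true := by decide +kernel
theorem t1690_pchk_2190 : allR t1690_pf 306936 6 (2190 * 2 ^ 6) = true := by decide +kernel
theorem t1690_pchk_2191 : allR t1690_pf 306936 6 (2191 * 2 ^ 6) = true := by decide +kernel
theorem t1690_pchk_2192 : allR t1690_pf 306936 6 (2192 * 2 ^ 6) = true := by decide +kernel
theorem t1690_pchk_2193 : allR t1690_pf 306936 6 (2193 * 2 ^ 6) = true := by decide +kernel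
theorem t1690_pchk_2194 : allR t1690_pf 306936 6 (2194 * 2 ^ 6) = true := by decide +kernel
theorem t1690_pchk_2195 : allR t1690_pf 306936 6 (2195 * 2 ^ 6) = true := by decide +kernel
theorem t1690_pchk_2196 : allR t1690_pf 306936 6 (2196 * 2 ^ 6) = true := by decide +kernel
theorem t1690_pchk_2197 : allR t1690_pf 306936 6 (2197 * 2 ^ 6) = true := by decide +kernel
theorem t1690_pchk_2198 : allR t1690_pf 306936 6 (2198 * 2 ^ 6) = true := by decide +kernel
theorem t1690_pchk_2199 : allR t1690_pf 306936 6 (2199 * 2 ^ 6) = true := by decide +kernel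
theorem t1690_pchk_2200 : allR t1690_pf 306936 6 (2200 * 2 ^ 6) = true := by decide +kernel
theorem t1690_pchk_2201 : allR t1690_pf 306936 6 (2201 * 2 ^ 6) = true := by decide +kernel
theorem t1690_pchk_2202 : allR t1690_pf 306936 6 (2202 * 2 ^ 6) = true := by decide +kernel
theorem t1690_pchk_2203 : allR t1690_pf 306936 6 (2203 * 2 ^ 6) = true := by decide +kernel
theorem t1690_pchk_2204 : allR t1690_pf 306936 6 (2204 * 2 ^ 6) = true := by decide +kernel
theorem t1690_pchk_2205 : allR t1690_pf 306936 6 (2205 * 2 ^ 6) = true := by decide +kernel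
theorem t1690_pchk_2206 : allR t1690_pf 306936 6 (2206 * 2 ^ 6) = true := by decide +kernel
theorem t1690_pchk_2207 : allR t1690_pf 306936 6 (2207 * 2 ^ 6) = true := by decide +kernel
theorem t1690_pchk_2208 : allR t1690_pf 306936 6 (2208 * 2 ^ 6) = true := by decide +kernel
theorem t1690_pchk_2209 : allR t1690_pf 306936 6 (2209 * 2 ^ 6) = true := by decide +kernel
theorem t1690_pchk_2210 : allR t1690_pf 306936 6 (2210 * 2 ^ 6) = true := by decide +kernel
theorem t1690_pchk_2211 : allR t1690_pf 306936 6 (2211 * 2 ^ 6) = true := by decide +kernel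
theorem t1690_pchk_2212 : allR t1690_pf 306936 6 (2212 * 2 ^ 6) = true := by decide +kernel
theorem t1690_pchk_2213 : allR t1690_pf 306936 6 (2213 * 2 ^ 6) = true := by decide +kernel
theorem t1690_pchk_2214 : allR t1690_pf 306936 6 (2214 * 2 ^ 6) = true := by decide +kernel
theorem t1690_pchk_2215 : allR t1690_pf 306936 6 (2215 * 2 ^ 6) = true := by decide +kernel
theorem t1690_pchk_2216 : allR t1690_pf 306936 6 (2216 * 2 ^ 6) = true := by decide +kernel
theorem t1690_pchk_2217 : allR t1690_pf 306936 6 (2217 * 2 ^ 6) = true := by decide +kernel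
theorem t1690_pchk_2218 : allR t1690_pf 306936 6 (2218 * 2 ^ 6) = true := by decide +kernel
theorem t1690_pchk_2219 : allR t1690_pf 306936 6 (2219 * 2 ^ 6) = true := by decide +kernel
theorem t1690_pchk_2220 : allR t1690_pf 306936 6 (2220 * 2 ^ 6) = true := by decide +kernel
theorem t1690_pchk_2221 : allR t1690_pf 306936 6 (2221 * 2 ^ 6) = true := by decide +kernel
theorem t1690_pchk_2222 : allR t1690_pf 306936 6 (2222 * 2 ^ 6) = true := by decide +kernel
theorem t1690_pchk_2223 : allR t1690_pf 306936 6 (2223 * 2 ^ 6) = true := by decide +kernel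
theorem t1690_pchk_2224 : allR t1690_pf 306936 6 (2224 * 2 ^ 6) = true := by decide +kernel
theorem t1690_pchk_2225 : allR t1690_pf 306936 6 (2225 * 2 ^ 6) = true := by decide +kernel
theorem t1690_pchk_2226 : allR t1690_pf 306936 6 (2226 * 2 ^ 6) = true := by decide +kernel
theorem t1690_pchk_2227 : allR t1690_pf 306936 6 (2227 * 2 ^ 6) = true := by decide +kernel
theorem t1690_pchk_2228 : allR t1690_pf 306936 6 (2228 * 2 ^ 6) = true := by decide +kernel
theorem t1690_pchk_2229 : allR t1690_pf 306936 6 (2229 * 2 ^ 6) = true := by decide +kernel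
theorem t1690_pchk_2230 : allR t1690_pf 306936 6 (2230 * 2 ^ 6) = true := by decide +kernel
theorem t1690_pchk_2231 : allR t1690_pf 306936 6 (2231 * 2 ^ 6) = true := by decide +kernel
theorem t1690_pchk_2232 : allR t1690_pf 306936 6 (2232 * 2 ^ 6) = true := by decide +kernel
theorem t1690_pchk_2233 : allR t1690_pf 306936 6 (2233 * 2 ^ 6) = true := by decide +kernel
theorem t1690_pchk_2234 : allR t1690_pf 306936 6 (2234 * 2 ^ 6) = true := by decide +kernel
theorem t1690_pchk_2235 : allR t1690_pf 306936 6 (2235 * 2 ^ 6) = true := by decide +kernel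
theorem t1690_pchk_2236 : allR t1690_pf 306936 6 (2236 * 2 ^ 6) = true := by decide +kernel
theorem t1690_pchk_2237 : allR t1690_pf 306936 6 (2237 * 2 ^ 6) = true := by decide +kernel
theorem t1690_pchk_2238 : allR t1690_pf 306936 6 (2238 * 2 ^ 6) = true := by decide +kernel
theorem t1690_pchk_2239 : allR t1690_pf 306936 6 (2239 * 2 ^ 6) = true := by decide +kernel
theorem t1690_pchk_2240 : allR t1690_pf 306936 6 (2240 * 2 ^ 6) = true := by decide +kernel
theorem t1690_pchk_2241 : allR t1690_pf 306936 6 (2241 * 2 ^ 6) = true := by decide +kernel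
theorem t1690_pchk_2242 : allR t1690_pf 306936 6 (2242 * 2 ^ 6) = true := by decide +kernel
theorem t1690_pchk_2243 : allR t1690_pf 306936 6 (2243 * 2 ^ 6) = true := by decide +kernel
theorem t1690_pchk_2244 : allR t1690_pf 306936 6 (2244 * 2 ^ 6) = true := by decide +kernel
theorem t1690_pchk_2245 : allR t1690_pf 306936 6 (2245 * 2 ^ 6) = true := by decide +kernel
theorem t1690_pchk_2246 : allR t1690_pf 306936 6 (2246 * 2 ^ 6) = true := by decide +kernel
theorem t1690_pchk_2247 : allR t1690_pf 306936 6 (2247 * 2 ^ 6) = true := by decide +kernel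
theorem t1690_pchk_2248 : allR t1690_pf 306936 6 (2248 * 2 ^ 6) = true := by decide +kernel
theorem t1690_pchk_2249 : allR t1690_pf 306936 6 (2249 * 2 ^ 6) = true := by decide +kernel
theorem t1690_pchk_2250 : allR t1690_pf 306936 6 (2250 * 2 ^ 6) = true := by decide +kernel
theorem t1690_pchk_2251 : allR t1690_pf 306936 6 (2251 * 2 ^ 6) = true := by decide +kernel
theorem t1690_pchk_2252 : allR t1690_pf 306936 6 (2252 * 2 ^ 6) = true := by decide +kernel
theorem t1690_pchk_2253 : allR t1690_pf 306936 6 (2253 * 2 ^ 6) = true := by decide +kernel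
theorem t1690_pchk_2254 : allR t1690_pf 306936 6 (2254 * 2 ^ 6) = true := by decide +kernel
theorem t1690_pchk_2255 : allR t1690_pf 306936 6 (2255 * 2 ^ 6) = true := by decide +kernel
theorem t1690_pchk_2256 : allR t1690_pf 306936 6 (2256 * 2 ^ 6) = true := by decide +kernel
theorem t1690_pchk_2257 : allR t1690_pf 306936 6 (2257 * 2 ^ 6) = true := by decide +kernel
theorem t1690_pchk_2258 : allR t1690_pf 306936 6 (2258 * 2 ^ 6) = true := by decide +kernel
theorem t1690_pchk_2259 : allR t1690_pf 306936 6 (2259 * 2 ^ 6) = true := by decide +kernel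
theorem t1690_pchk_2260 : allR t1690_pf 306936 6 (2260 * 2 ^ 6) = true := by decide +kernel
theorem t1690_pchk_2261 : allR t1690_pf 306936 6 (2261 * 2 ^ 6) = true := by decide +kernel
theorem t1690_pchk_2262 : allR t1690_pf 306936 6 (2262 * 2 ^ 6) = true := by decide +kernel
theorem t1690_pchk_2263 : allR t1690_pf 306936 6 (2263 * 2 ^ 6) = true := by decide +kernel
theorem t1690_pchk_2264 : allR t1690_pf 306936 6 (2264 * 2 ^ 6) = true := by decide +kernel
theorem t1690_pchk_2265 : allR t1690_pf 306936 6 (2265 * 2 ^ 6) = true := by decide +kernel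
theorem t1690_pchk_2266 : allR t1690_pf 306936 6 (2266 * 2 ^ 6) = true := by decide +kernel
theorem t1690_pchk_2267 : allR t1690_pf 306936 6 (2267 * 2 ^ 6) = true := by decide +kernel
theorem t1690_pchk_2268 : allR t1690_pf 306936 6 (2268 * 2 ^ 6) = true := by decide +kernel
theorem t1690_pchk_2269 : allR t1690_pf 306936 6 (2269 * 2 ^ 6) = true := by decide +kernel
theorem t1690_pchk_2270 : allR t1690_pf 306936 6 (2270 * 2 ^ 6) = true := by decide +kernel
theorem t1690_pchk_2271 : allR t1690_pf 306936 6 (2271 * 2 ^ 6) = true := by decide +kernel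
theorem t1690_pchk_2272 : allR t1690_pf 306936 6 (2272 * 2 ^ 6) = true := by decide +kernel
theorem t1690_pchk_2273 : allR t1690_pf 306936 6 (2273 * 2 ^ 6) = true := by decide +kernel
theorem t1690_pchk_2274 : allR t1690_pf 306936 6 (2274 * 2 ^ 6) = true := by decide +kernel
theorem t1690_pchk_2275 : allR t1690_pf 306936 6 (2275 * 2 ^ 6) = true := by decide +kernel
theorem t1690_pchk_2276 : allR t1690_pf 306936 6 (2276 * 2 ^ 6) = true := by decide +kernel
theorem t1690_pchk_2277 : allR t1690_pf 306936 6 (2277 * 2 ^ 6) = true := by decide +kernel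
theorem t1690_pchk_2278 : allR t1690_pf 306936 6 (2278 * 2 ^ 6) = true := by decide +kernel
theorem t1690_pchk_2279 : allR t1690_pf 306936 6 (2279 * 2 ^ 6) = true := by decide +kernel

theorem t1690_pfile_18 : ∀ k, k < 2280 → 2160 ≤ k → allR t1690_pf 306936 6 (k * 2 ^ 6) = true := by
  intro k h1 h2
  interval_cases k
  · exact t1690_pchk_2160
  · exact t1690_pchk_2161
  · exact t1690_pchk_2162
  · exact t1690_pchk_2163
  · exact t1690_pchk_2164
  · exact t1690_pchk_2165
  · exact t1690_pchk_2166
  · exact t1690_pchk_2167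
  · exact t1690_pchk_2168
  · exact t1690_pchk_2169
  · exact t1690_pchk_2170
  · exact t1690_pchk_2171
  · exact t1690_pchk_2172
  · exact t1690_pchk_2173
  · exact t1690_pchk_2174
  · exact t1690_pchk_2175
  · exact t1690_pchk_2176
  · exact t1690_pchk_2177
  · exact t1690_pchk_2178
  · exact t1690_pchk_2179
  · exact t1690_pchk_2180
  · exact t1690_pchk_2181
  · exact t1690_pchk_2182
  · exact t1690_pchk_2183
  · exact t1690_pchk_2184
  · exact t1690_pchk_2185
  · exact t1690_pchk_2186
  · exact t1690_pchk_2187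
  · exact t1690_pchk_2188
  · exact t1690_pchk_2189
  · exact t1690_pchk_2190
  · exact t1690_pchk_2191
  · exact t1690_pchk_2192
  · exact t1690_pchk_2193
  · exact t1690_pchk_2194
  · exact t1690_pchk_2195
  · exact t1690_pchk_2196
  · exact t1690_pchk_2197
  · exact t1690_pchk_2198
  · exact t1690_pchk_2199
  · exact t1690_pchk_2200
  · exact t1690_pchk_2201
  · exact t1690_pchk_2202
  · exact t1690_pchk_2203
  · exact t1690_pchk_2204
  · exact t1690_pchk_2205
  · exact t1690_pchk_2206
  · exact t1690_pchk_2207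
  · exact t1690_pchk_2208
  · exact t1690_pchk_2209
  · exact t1690_pchk_2210
  · exact t1690_pchk_2211
  · exact t1690_pchk_2212
  · exact t1690_pchk_2213
  · exact t1690_pchk_2214
  · exact t1690_pchk_2215
  · exact t1690_pchk_2216
  · exact t1690_pchk_2217
  · exact t1690_pchk_2218
  · exact t1690_pchk_2219
  · exact t1690_pchk_2220
  · exact t1690_pchk_2221
  · exact t1690_pchk_2222
  · exact t1690_pchk_2223
  · exact t1690_pchk_2224
  · exact t1690_pchk_2225
  · exact t1690_pchk_2226
  · exact t1690_pchk_2227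
  · exact t1690_pchk_2228
  · exact t1690_pchk_2229
  · exact t1690_pchk_2230
  · exact t1690_pchk_2231
  · exact t1690_pchk_2232
  · exact t1690_pchk_2233
  · exact t1690_pchk_2234
  · exact t1690_pchk_2235
  · exact t1690_pchk_2236
  · exact t1690_pchk_2237
  · exact t1690_pchk_2238
  · exact t1690_pchk_2239
  · exact t1690_pchk_2240
  · exact t1690_pchk_2241
  · exact t1690_pchk_2242
  · exact t1690_pchk_2243
  · exact t1690_pchk_2244
  · exact t1690_pchk_2245
  · exact t1690_pchk_2246
  · exact t1690_pchk_2247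
  · exact t1690_pchk_2248
  · exact t1690_pchk_2249
  · exact t1690_pchk_2250
  · exact t1690_pchk_2251
  · exact t1690_pchk_2252
  · exact t1690_pchk_2253
  · exact t1690_pchk_2254
  · exact t1690_pchk_2255
  · exact t1690_pchk_2256
  · exact t1690_pchk_2257
  · exact t1690_pchk_2258
  · exact t1690_pchk_2259
  · exact t1690_pchk_2260
  · exact t1690_pchk_2261
  · exact t1690_pchk_2262
  · exact t1690_pchk_2263
  · exact t1690_pchk_2264
  · exact t1690_pchk_2265
  · exact t1690_pchk_2266
  · exact t1690_pchk_2267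
  · exact t1690_pchk_2268
  · exact t1690_pchk_2269
  · exact t1690_pchk_2270
  · exact t1690_pchk_2271
  · exact t1690_pchk_2272
  · exact t1690_pchk_2273
  · exact t1690_pchk_2274
  · exact t1690_pchk_2275
  · exact t1690_pchk_2276
  · exact t1690_pchk_2277
  · exact t1690_pchk_2278
  · exact t1690_pchk_2279

end Cfsg.Agent.H35
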