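import Cfsg.Agent.H35.T1690.PTab

set_option autoImplicit false
set_option linter.all false
set_option Elab.async false

namespace Cfsg.Agent.H35

theorem t1690_pchk_2280 : allR t1690_pf 306936 6 (2280 * 2 ^ 6) = true := by decide +kernel
theorem t1690_pchk_2281 : allR t1690_pf 306936 6 (2281 * 2 ^ 6) = true := by decide +kernel
theorem t1690_pchk_2282 : allR t1690_pf 306936 6 (2282 * 2 ^ 6) = true := by decide +kernel
theorem t1690_pchk_2283 : allR t1690_pf 306936 6 (2283 * 2 ^ 6) = true := by decide +kernel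
theorem t1690_pchk_2284 : allR t1690_pf 306936 6 (2284 * 2 ^ 6) = true := by decide +kernel
theorem t1690_pchk_2285 : allR t1690_pf 306936 6 (2285 * 2 ^ 6) = true := by decide +kernel
theorem t1690_pchk_2286 : allR t1690_pf 306936 6 (2286 * 2 ^ 6) = true := by decide +kernel
theorem t1690_pchk_2287 : allR t1690_pf 306936 6 (2287 * 2 ^ 6) = true := by decide +kernel
theorem t1690_pchk_2288 : allR t1690_pf 306936 6 (2288 * 2 ^ 6) = true := by decide +kernel
theorem t1690_pchk_2289 : allR t1690_pf 306936 6 (2289 * 2 ^ 6) = true := by decide +kernel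
theorem t1690_pchk_2290 : allR t1690_pf 306936 6 (2290 * 2 ^ 6) = true := by decide +kernel
theorem t1690_pchk_2291 : allR t1690_pf 306936 6 (2291 * 2 ^ 6) = true := by decide +kernel
theorem t1690_pchk_2292 : allR t1690_pf 306936 6 (2292 * 2 ^ 6) = true := by decide +kernel
theorem t1690_pchk_2293 : allR t1690_pf 306936 6 (2293 * 2 ^ 6) = true := by decide +kernel
theorem t1690_pchk_2294 : allR t1690_pf 306936 6 (2294 * 2 ^ 6) = true := by decide +kernel
theorem t1690_pchk_2295 : allR t1690_pf 306936 6 (2295 * 2 ^ 6) = true := by decide +kernel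
theorem t1690_pchk_2296 : allR t1690_pf 306936 6 (2296 * 2 ^ 6) = true := by decide +kernel
theorem t1690_pchk_2297 : allR t1690_pf 306936 6 (2297 * 2 ^ 6) = true := by decide +kernel
theorem t1690_pchk_2298 : allR t1690_pf 306936 6 (2298 * 2 ^ 6) = true := by decide +kernel
theorem t1690_pchk_2299 : allR t1690_pf 306936 6 (2299 * 2 ^ 6) = true := by decide +kernel
theorem t1690_pchk_2300 : allR t1690_pf 306936 6 (2300 * 2 ^ 6) = true := by decide +kernel
theorem t1690_pchk_2301 : allR t1690_pf 306936 6 (2301 * 2 ^ 6) = true := by decide +kernel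
theorem t1690_pchk_2302 : allR t1690_pf 306936 6 (2302 * 2 ^ 6) = true := by decide +kernel
theorem t1690_pchk_2303 : allR t1690_pf 306936 6 (2303 * 2 ^ 6) = true := by decide +kernel
theorem t1690_pchk_2304 : allR t1690_pf 306936 6 (2304 * 2 ^ 6) = true := by decide +kernel
theorem t1690_pchk_2305 : allR t1690_pf 306936 6 (2305 * 2 ^ 6) = true := by decide +kernel
theorem t1690_pchk_2306 : allR t1690_pf 306936 6 (2306 * 2 ^ 6) = true := by decide +kernel
theorem t1690_pchk_2307 : allR t1690_pf 306936 6 (2307 * 2 ^ 6) = true := by decide +kernel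
theorem t1690_pchk_2308 : allR t1690_pf 306936 6 (2308 * 2 ^ 6) = true := by decide +kernel
theorem t1690_pchk_2309 : allR t1690_pf 306936 6 (2309 * 2 ^ 6) = true := by decide +kernel
theorem t1690_pchk_2310 : allR t1690_pf 306936 6 (2310 * 2 ^ 6) = true := by decide +kernel
theorem t1690_pchk_2311 : allR t1690_pf 306936 6 (2311 * 2 ^ 6) = true := by decide +kernel
theorem t1690_pchk_2312 : allR t1690_pf 306936 6 (2312 * 2 ^ 6) = true := by decide +kernel
theorem t1690_pchk_2313 : allR t1690_pf 306936 6 (2313 * 2 ^ 6) = true := by decide +kernel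
theorem t1690_pchk_2314 : allR t1690_pf 306936 6 (2314 * 2 ^ 6) = true := by decide +kernel
theorem t1690_pchk_2315 : allR t1690_pf 306936 6 (2315 * 2 ^ 6) = true := by decide +kernel
theorem t1690_pchk_2316 : allR t1690_pf 306936 6 (2316 * 2 ^ 6) = true := by decide +kernel
theorem t1690_pchk_2317 : allR t1690_pf 306936 6 (2317 * 2 ^ 6) = true := by decide +kernel
theorem t1690_pchk_2318 : allR t1690_pf 306936 6 (2318 * 2 ^ 6) = true := by decide +kernel
theorem t1690_pchk_2319 : allR t1690_pf 306936 6 (2319 * 2 ^ 6) = true := by decide +kernel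
theorem t1690_pchk_2320 : allR t1690_pf 306936 6 (2320 * 2 ^ 6) = true := by decide +kernel
theorem t1690_pchk_2321 : allR t1690_pf 306936 6 (2321 * 2 ^ 6) = true := by decide +kernel
theorem t1690_pchk_2322 : allR t1690_pf 306936 6 (2322 * 2 ^ 6) = true := by decide +kernel
theorem t1690_pchk_2323 : allR t1690_pf 306936 6 (2323 * 2 ^ 6) = true := by decide +kernel
theorem t1690_pchk_2324 : allR t1690_pf 306936 6 (2324 * 2 ^ 6) = true := by decide +kernel
theorem t1690_pchk_2325 : allR t1690_pf 306936 6 (2325 * 2 ^ 6) = true := by decide +kernel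
theorem t1690_pchk_2326 : allR t1690_pf 306936 6 (2326 * 2 ^ 6) = true := by decide +kernel
theorem t1690_pchk_2327 : allR t1690_pf 306936 6 (2327 * 2 ^ 6) = true := by decide +kernel
theorem t1690_pchk_2328 : allR t1690_pf 306936 6 (2328 * 2 ^ 6) = true := by decide +kernel
theorem t1690_pchk_2329 : allR t1690_pf 306936 6 (2329 * 2 ^ 6) = true := by decide +kernel
theorem t1690_pchk_2330 : allR t1690_pf 306936 6 (2330 * 2 ^ 6) = true := by decide +kernel
theorem t1690_pchk_2331 : allR t1690_pf 306936 6 (2331 * 2 ^ 6) = true := by decide +kernel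
theorem t1690_pchk_2332 : allR t1690_pf 306936 6 (2332 * 2 ^ 6) = true := by decide +kernel
theorem t1690_pchk_2333 : allR t1690_pf 306936 6 (2333 * 2 ^ 6) = true := by decide +kernel
theorem t1690_pchk_2334 : allR t1690_pf 306936 6 (2334 * 2 ^ 6) = true := by decide +kernel
theorem t1690_pchk_2335 : allR t1690_pf 306936 6 (2335 * 2 ^ 6) = true := by decide +kernel
theorem t1690_pchk_2336 : allR t1690_pf 306936 6 (2336 * 2 ^ 6) = true := by decide +kernel
theorem t1690_pchk_2337 : allR t1690_pf 306936 6 (2337 * 2 ^ 6) = true := by decide +kernel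
theorem t1690_pchk_2338 : allR t1690_pf 306936 6 (2338 * 2 ^ 6) = true := by decide +kernel
theorem t1690_pchk_2339 : allR t1690_pf 306936 6 (2339 * 2 ^ 6) = true := by decide +kernel
theorem t1690_pchk_2340 : allR t1690_pf 306936 6 (2340 * 2 ^ 6) = true := by decide +kernel
theorem t1690_pchk_2341 : allR t1690_pf 306936 6 (2341 * 2 ^ 6) = true := by decide +kernel
theorem t1690_pchk_2342 : allR t1690_pf 306936 6 (2342 * 2 ^ 6) = true := by decide +kernel
theorem t1690_pchk_2343 : allR t1690_pf 306936 6 (2343 * 2 ^ 6) = true := by decide +kernel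
theorem t1690_pchk_2344 : allR t1690_pf 306936 6 (2344 * 2 ^ 6) = true := by decide +kernel
theorem t1690_pchk_2345 : allR t1690_pf 306936 6 (2345 * 2 ^ 6) = true := by decide +kernel
theorem t1690_pchk_2346 : allR t1690_pf 306936 6 (2346 * 2 ^ 6) = true := by decide +kernel
theorem t1690_pchk_2347 : allR t1690_pf 306936 6 (2347 * 2 ^ 6) = true := by decide +kernel
theorem t1690_pchk_2348 : allR t1690_pf 306936 6 (2348 * 2 ^ 6) = true := by decide +kernel
theorem t1690_pchk_2349 : allR t1690_pf 306936 6 (2349 * 2 ^ 6) = true := by decide +kernel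
theorem t1690_pchk_2350 : allR t1690_pf 306936 6 (2350 * 2 ^ 6) = true := by decide +kernel
theorem t1690_pchk_2351 : allR t1690_pf 306936 6 (2351 * 2 ^ 6) = true := by decide +kernel
theorem t1690_pchk_2352 : allR t1690_pf 306936 6 (2352 * 2 ^ 6) = true := by decide +kernel
theorem t1690_pchk_2353 : allR t1690_pf 306936 6 (2353 * 2 ^ 6) = true := by decide +kernel
theorem t1690_pchk_2354 : allR t1690_pf 306936 6 (2354 * 2 ^ 6) = true := by decide +kernel
theorem t1690_pchk_2355 : allR t1690_pf 306936 6 (2355 * 2 ^ 6) = true := by decide +kernel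
theorem t1690_pchk_2356 : allR t1690_pf 306936 6 (2356 * 2 ^ 6) = true := by decide +kernel
theorem t1690_pchk_2357 : allR t1690_pf 306936 6 (2357 * 2 ^ 6) = true := by decide +kernel
theorem t1690_pchk_2358 : allR t1690_pf 306936 6 (2358 * 2 ^ 6) = true := by decide +kernel
theorem t1690_pchk_2359 : allR t1690_pf 306936 6 (2359 * 2 ^ 6) = true := by decide +kernel
theorem t1690_pchk_2360 : allR t1690_pf 306936 6 (2360 * 2 ^ 6) = true := by decide +kernel
theorem t1690_pchk_2361 : allR t1690_pf 306936 6 (2361 * 2 ^ 6) = true := by decide +kernel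
theorem t1690_pchk_2362 : allR t1690_pf 306936 6 (2362 * 2 ^ 6) = true := by decide +kernel
theorem t1690_pchk_2363 : allR t1690_pf 306936 6 (2363 * 2 ^ 6) = true := by decide +kernel
theorem t1690_pchk_2364 : allR t1690_pf 306936 6 (2364 * 2 ^ 6) = true := by decide +kernel
theorem t1690_pchk_2365 : allR t1690_pf 306936 6 (2365 * 2 ^ 6) = true := by decide +kernel
theorem t1690_pchk_2366 : allR t1690_pf 306936 6 (2366 * 2 ^ 6) = true := by decide +kernel
theorem t1690_pchk_2367 : allR t1690_pf 306936 6 (2367 * 2 ^ 6) = true := by decide +kernel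
theorem t1690_pchk_2368 : allR t1690_pf 306936 6 (2368 * 2 ^ 6) = true := by decide +kernel
theorem t1690_pchk_2369 : allR t1690_pf 306936 6 (2369 * 2 ^ 6) = true := by decide +kernel
theorem t1690_pchk_2370 : allR t1690_pf 306936 6 (2370 * 2 ^ 6) = true := by decide +kernel
theorem t1690_pchk_2371 : allR t1690_pf 306936 6 (2371 * 2 ^ 6) = true := by decide +kernel
theorem t1690_pchk_2372 : allR t1690_pf 306936 6 (2372 * 2 ^ 6) = true := by decide +kernel
theorem t1690_pchk_2373 : allR t1690_pf 306936 6 (2373 * 2 ^ 6) = true := by decide +kernel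
theorem t1690_pchk_2374 : allR t1690_pf 306936 6 (2374 * 2 ^ 6) = true := by decide +kernel
theorem t1690_pchk_2375 : allR t1690_pf 306936 6 (2375 * 2 ^ 6) = true := by decide +kernel
theorem t1690_pchk_2376 : allR t1690_pf 306936 6 (2376 * 2 ^ 6) = true := by decide +kernel
theorem t1690_pchk_2377 : allR t1690_pf 306936 6 (2377 * 2 ^ 6) = true := by decide +kernel
theorem t1690_pchk_2378 : allR t1690_pf 306936 6 (2378 * 2 ^ 6) = true := by decide +kernel
theorem t1690_pchk_2379 : allR t1690_pf 306936 6 (2379 * 2 ^ 6) = true := by decide +kernel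
theorem t1690_pchk_2380 : allR t1690_pf 306936 6 (2380 * 2 ^ 6) = true := by decide +kernel
theorem t1690_pchk_2381 : allR t1690_pf 306936 6 (2381 * 2 ^ 6) = true := by decide +kernel
theorem t1690_pchk_2382 : allR t1690_pf 306936 6 (2382 * 2 ^ 6) = true := by decide +kernel
theorem t1690_pchk_2383 : allR t1690_pf 306936 6 (2383 * 2 ^ 6) = true := by decide +kernel
theorem t1690_pchk_2384 : allR t1690_pf 306936 6 (2384 * 2 ^ 6) = true := by decide +kernel
theorem t1690_pchk_2385 : allR t1690_pf 306936 6 (2385 * 2 ^ 6) = true := by decide +kernel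
theorem t1690_pchk_2386 : allR t1690_pf 306936 6 (2386 * 2 ^ 6) = true := by decide +kernel
theorem t1690_pchk_2387 : allR t1690_pf 306936 6 (2387 * 2 ^ 6) = true := by decide +kernel
theorem t1690_pchk_2388 : allR t1690_pf 306936 6 (2388 * 2 ^ 6) = true := by decide +kernel
theorem t1690_pchk_2389 : allR t1690_pf 306936 6 (2389 * 2 ^ 6) = true := by decide +kernel
theorem t1690_pchk_2390 : allR t1690_pf 306936 6 (2390 * 2 ^ 6) = true := by decide +kernel
theorem t1690_pchk_2391 : allR t1690_pf 306936 6 (2391 * 2 ^ 6) = true := by decide +kernel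
theorem t1690_pchk_2392 : allR t1690_pf 306936 6 (2392 * 2 ^ 6) = true := by decide +kernel
theorem t1690_pchk_2393 : allR t1690_pf 306936 6 (2393 * 2 ^ 6) = true := by decide +kernel
theorem t1690_pchk_2394 : allR t1690_pf 306936 6 (2394 * 2 ^ 6) = true := by decide +kernel
theorem t1690_pchk_2395 : allR t1690_pf 306936 6 (2395 * 2 ^ 6) = true := by decide +kernel
theorem t1690_pchk_2396 : allR t1690_pf 306936 6 (2396 * 2 ^ 6) = true := by decide +kernel
theorem t1690_pchk_2397 : allR t1690_pf 306936 6 (2397 * 2 ^ 6) = true := by decide +kernel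
theorem t1690_pchk_2398 : allR t1690_pf 306936 6 (2398 * 2 ^ 6) = true := by decide +kernel
theorem t1690_pchk_2399 : allR t1690_pf 306936 6 (2399 * 2 ^ 6) = true := by decide +kernel

theorem t1690_pfile_19 : ∀ k, k < 2400 → 2280 ≤ k → allR t1690_pf 306936 6 (k * 2 ^ 6) = true := by
  intro k h1 h2
  interval_cases k
  · exact t1690_pchk_2280
  · exact t1690_pchk_2281
  · exact t1690_pchk_2282
  · exact t1690_pchk_2283
  · exact t1690_pchk_2284
  · exact t1690_pchk_2285
  · exact t1690_pchk_2286
  · exact t1690_pchk_2287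
  · exact t1690_pchk_2288
  · exact t1690_pchk_2289
  · exact t1690_pchk_2290
  · exact t1690_pchk_2291
  · exact t1690_pchk_2292
  · exact t1690_pchk_2293
  · exact t1690_pchk_2294
  · exact t1690_pchk_2295
  · exact t1690_pchk_2296
  · exact t1690_pchk_2297
  · exact t1690_pchk_2298
  · exact t1690_pchk_2299
  · exact t1690_pchk_2300
  · exact t1690_pchk_2301
  · exact t1690_pchk_2302
  · exact t1690_pchk_2303
  · exact t1690_pchk_2304
  · exact t1690_pchk_2305
  · exact t1690_pchk_2306
  · exact t1690_pchk_2307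
  · exact t1690_pchk_2308
  · exact t1690_pchk_2309
  · exact t1690_pchk_2310
  · exact t1690_pchk_2311
  · exact t1690_pchk_2312
  · exact t1690_pchk_2313
  · exact t1690_pchk_2314
  · exact t1690_pchk_2315
  · exact t1690_pchk_2316
  · exact t1690_pchk_2317
  · exact t1690_pchk_2318
  · exact t1690_pchk_2319
  · exact t1690_pchk_2320
  · exact t1690_pchk_2321
  · exact t1690_pchk_2322
  · exact t1690_pchk_2323
  · exact t1690_pchk_2324
  · exact t1690_pchk_2325
  · exact t1690_pchk_2326
  · exact t1690_pchk_2327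
  · exact t1690_pchk_2328
  · exact t1690_pchk_2329
  · exact t1690_pchk_2330
  · exact t1690_pchk_2331
  · exact t1690_pchk_2332
  · exact t1690_pchk_2333
  · exact t1690_pchk_2334
  · exact t1690_pchk_2335
  · exact t1690_pchk_2336
  · exact t1690_pchk_2337
  · exact t1690_pchk_2338
  · exact t1690_pchk_2339
  · exact t1690_pchk_2340
  · exact t1690_pchk_2341
  · exact t1690_pchk_2342
  · exact t1690_pchk_2343
  · exact t1690_pchk_2344
  · exact t1690_pchk_2345
  · exact t1690_pchk_2346
  · exact t1690_pchk_2347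
  · exact t1690_pchk_2348
  · exact t1690_pchk_2349
  · exact t1690_pchk_2350
  · exact t1690_pchk_2351
  · exact t1690_pchk_2352
  · exact t1690_pchk_2353
  · exact t1690_pchk_2354
  · exact t1690_pchk_2355
  · exact t1690_pchk_2356
  · exact t1690_pchk_2357
  · exact t1690_pchk_2358
  · exact t1690_pchk_2359
  · exact t1690_pchk_2360
  · exact t1690_pchk_2361
  · exact t1690_pchk_2362
  · exact t1690_pchk_2363
  · exact t1690_pchk_2364
  · exact t1690_pchk_2365
  · exact t1690_pchk_2366
  · exact t1690_pchk_2367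
  · exact t1690_pchk_2368
  · exact t1690_pchk_2369
  · exact t1690_pchk_2370
  · exact t1690_pchk_2371
  · exact t1690_pchk_2372
  · exact t1690_pchk_2373
  · exact t1690_pchk_2374
  · exact t1690_pchk_2375
  · exact t1690_pchk_2376
  · exact t1690_pchk_2377
  · exact t1690_pchk_2378
  · exact t1690_pchk_2379
  · exact t1690_pchk_2380
  · exact t1690_pchk_2381
  · exact t1690_pchk_2382
  · exact t1690_pchk_2383
  · exact t1690_pchk_2384
  · exact t1690_pchk_2385
  · exact t1690_pchk_2386
  · exact t1690_pchk_2387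
  · exact t1690_pchk_2388
  · exact t1690_pchk_2389
  · exact t1690_pchk_2390
  · exact t1690_pchk_2391
  · exact t1690_pchk_2392
  · exact t1690_pchk_2393
  · exact t1690_pchk_2394
  · exact t1690_pchk_2395
  · exact t1690_pchk_2396
  · exact t1690_pchk_2397
  · exact t1690_pchk_2398
  · exact t1690_pchk_2399

end Cfsg.Agent.H35
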