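import Cfsg.Agent.H35.T1690.PTab

set_option autoImplicit false
set_option linter.all false
set_option Elab.async false

namespace Cfsg.Agent.H35

theorem t1690_pchk_2400 : allR t1690_pf 306936 6 (2400 * 2 ^ 6) = true := by decide +kernel
theorem t1690_pchk_2401 : allR t1690_pf 306936 6 (2401 * 2 ^ 6) = true := by decide +kernel
theorem t1690_pchk_2402 : allR t1690_pf 306936 6 (2402 * 2 ^ 6) = true := by decide +kernel
theorem t1690_pchk_2403 : allR t1690_pf 306936 6 (2403 * 2 ^ 6) = true := by decide +kernel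
theorem t1690_pchk_2404 : allR t1690_pf 306936 6 (2404 * 2 ^ 6) = true := by decide +kernel
theorem t1690_pchk_2405 : allR t1690_pf 306936 6 (2405 * 2 ^ 6) = true := by decide +kernel
theorem t1690_pchk_2406 : allR t1690_pf 306936 6 (2406 * 2 ^ 6) = true := by decide +kernel
theorem t1690_pchk_2407 : allR t1690_pf 306936 6 (2407 * 2 ^ 6) = true := by decide +kernel
theorem t1690_pchk_2408 : allR t1690_pf 306936 6 (2408 * 2 ^ 6) = true := by decide +kernel
theorem t1690_pchk_2409 : allR t1690_pf 306936 6 (2409 * 2 ^ 6) = true := by decide +kernel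
theorem t1690_pchk_2410 : allR t1690_pf 306936 6 (2410 * 2 ^ 6) = true := by decide +kernel
theorem t1690_pchk_2411 : allR t1690_pf 306936 6 (2411 * 2 ^ 6) = true := by decide +kernel
theorem t1690_pchk_2412 : allR t1690_pf 306936 6 (2412 * 2 ^ 6) = true := by decide +kernel
theorem t1690_pchk_2413 : allR t1690_pf 306936 6 (2413 * 2 ^ 6) = true := by decide +kernel
theorem t1690_pchk_2414 : allR t1690_pf 306936 6 (2414 * 2 ^ 6) = true := by decide +kernel
theorem t1690_pchk_2415 : allR t1690_pf 306936 6 (2415 * 2 ^ 6) = true := by decide +kernel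
theorem t1690_pchk_2416 : allR t1690_pf 306936 6 (2416 * 2 ^ 6) = true := by decide +kernel
theorem t1690_pchk_2417 : allR t1690_pf 306936 6 (2417 * 2 ^ 6) = true := by decide +kernel
theorem t1690_pchk_2418 : allR t1690_pf 306936 6 (2418 * 2 ^ 6) = true := by decide +kernel
theorem t1690_pchk_2419 : allR t1690_pf 306936 6 (2419 * 2 ^ 6) = true := by decide +kernel
theorem t1690_pchk_2420 : allR t1690_pf 306936 6 (2420 * 2 ^ 6) = true := by decide +kernel
theorem t1690_pchk_2421 : allR t1690_pf 306936 6 (2421 * 2 ^ 6) = true := by decide +kernel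
theorem t1690_pchk_2422 : allR t1690_pf 306936 6 (2422 * 2 ^ 6) = true := by decide +kernel
theorem t1690_pchk_2423 : allR t1690_pf 306936 6 (2423 * 2 ^ 6) = true := by decide +kernel
theorem t1690_pchk_2424 : allR t1690_pf 306936 6 (2424 * 2 ^ 6) = true := by decide +kernel
theorem t1690_pchk_2425 : allR t1690_pf 306936 6 (2425 * 2 ^ 6) = true := by decide +kernel
theorem t1690_pchk_2426 : allR t1690_pf 306936 6 (2426 * 2 ^ 6) = true := by decide +kernel
theorem t1690_pchk_2427 : allR t1690_pf 306936 6 (2427 * 2 ^ 6) = true := by decide +kernel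
theorem t1690_pchk_2428 : allR t1690_pf 306936 6 (2428 * 2 ^ 6) = true := by decide +kernel
theorem t1690_pchk_2429 : allR t1690_pf 306936 6 (2429 * 2 ^ 6) = true := by decide +kernel
theorem t1690_pchk_2430 : allR t1690_pf 306936 6 (2430 * 2 ^ 6) = true := by decide +kernel
theorem t1690_pchk_2431 : allR t1690_pf 306936 6 (2431 * 2 ^ 6) = true := by decide +kernel
theorem t1690_pchk_2432 : allR t1690_pf 306936 6 (2432 * 2 ^ 6) = true := by decide +kernel
theorem t1690_pchk_2433 : allR t1690_pf 306936 6 (2433 * 2 ^ 6) = true := by decide +kernel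
theorem t1690_pchk_2434 : allR t1690_pf 306936 6 (2434 * 2 ^ 6) = true := by decide +kernel
theorem t1690_pchk_2435 : allR t1690_pf 306936 6 (2435 * 2 ^ 6) = true := by decide +kernel
theorem t1690_pchk_2436 : allR t1690_pf 306936 6 (2436 * 2 ^ 6) = true := by decide +kernel
theorem t1690_pchk_2437 : allR t1690_pf 306936 6 (2437 * 2 ^ 6) = true := by decide +kernel
theorem t1690_pchk_2438 : allR t1690_pf 306936 6 (2438 * 2 ^ 6) = true := by decide +kernel
theorem t1690_pchk_2439 : allR t1690_pf 306936 6 (2439 * 2 ^ 6) = true := by decide +kernel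
theorem t1690_pchk_2440 : allR t1690_pf 306936 6 (2440 * 2 ^ 6) = true := by decide +kernel
theorem t1690_pchk_2441 : allR t1690_pf 306936 6 (2441 * 2 ^ 6) = true := by decide +kernel
theorem t1690_pchk_2442 : allR t1690_pf 306936 6 (2442 * 2 ^ 6) = true := by decide +kernel
theorem t1690_pchk_2443 : allR t1690_pf 306936 6 (2443 * 2 ^ 6) = true := by decide +kernel
theorem t1690_pchk_2444 : allR t1690_pf 306936 6 (2444 * 2 ^ 6) = true := by decide +kernel
theorem t1690_pchk_2445 : allR t1690_pf 306936 6 (2445 * 2 ^ 6) = true := by decide +kernel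
theorem t1690_pchk_2446 : allR t1690_pf 306936 6 (2446 * 2 ^ 6) = true := by decide +kernel
theorem t1690_pchk_2447 : allR t1690_pf 306936 6 (2447 * 2 ^ 6) = true := by decide +kernel
theorem t1690_pchk_2448 : allR t1690_pf 306936 6 (2448 * 2 ^ 6) = true := by decide +kernel
theorem t1690_pchk_2449 : allR t1690_pf 306936 6 (2449 * 2 ^ 6) = true := by decide +kernel
theorem t1690_pchk_2450 : allR t1690_pf 306936 6 (2450 * 2 ^ 6) = true := by decide +kernel
theorem t1690_pchk_2451 : allR t1690_pf 306936 6 (2451 * 2 ^ 6) = true := by decide +kernel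
theorem t1690_pchk_2452 : allR t1690_pf 306936 6 (2452 * 2 ^ 6) = true := by decide +kernel
theorem t1690_pchk_2453 : allR t1690_pf 306936 6 (2453 * 2 ^ 6) = true := by decide +kernel
theorem t1690_pchk_2454 : allR t1690_pf 306936 6 (2454 * 2 ^ 6) = true := by decide +kernel
theorem t1690_pchk_2455 : allR t1690_pf 306936 6 (2455 * 2 ^ 6) = true := by decide +kernel
theorem t1690_pchk_2456 : allR t1690_pf 306936 6 (2456 * 2 ^ 6) = true := by decide +kernel
theorem t1690_pchk_2457 : allR t1690_pf 306936 6 (2457 * 2 ^ 6) = true := by decide +kernel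
theorem t1690_pchk_2458 : allR t1690_pf 306936 6 (2458 * 2 ^ 6) = true := by decide +kernel
theorem t1690_pchk_2459 : allR t1690_pf 306936 6 (2459 * 2 ^ 6) = true := by decide +kernel
theorem t1690_pchk_2460 : allR t1690_pf 306936 6 (2460 * 2 ^ 6) = true := by decide +kernel
theorem t1690_pchk_2461 : allR t1690_pf 306936 6 (2461 * 2 ^ 6) = true := by decide +kernel
theorem t1690_pchk_2462 : allR t1690_pf 306936 6 (2462 * 2 ^ 6) = true := by decide +kernel
theorem t1690_pchk_2463 : allR t1690_pf 306936 6 (2463 * 2 ^ 6) = true := by decide +kernel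
theorem t1690_pchk_2464 : allR t1690_pf 306936 6 (2464 * 2 ^ 6) = true := by decide +kernel
theorem t1690_pchk_2465 : allR t1690_pf 306936 6 (2465 * 2 ^ 6) = true := by decide +kernel
theorem t1690_pchk_2466 : allR t1690_pf 306936 6 (2466 * 2 ^ 6) = true := by decide +kernel
theorem t1690_pchk_2467 : allR t1690_pf 306936 6 (2467 * 2 ^ 6) = true := by decide +kernel
theorem t1690_pchk_2468 : allR t1690_pf 306936 6 (2468 * 2 ^ 6) = true := by decide +kernel
theorem t1690_pchk_2469 : allR t1690_pf 306936 6 (2469 * 2 ^ 6) = true := by decide +kernel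
theorem t1690_pchk_2470 : allR t1690_pf 306936 6 (2470 * 2 ^ 6) = true := by decide +kernel
theorem t1690_pchk_2471 : allR t1690_pf 306936 6 (2471 * 2 ^ 6) = true := by decide +kernel
theorem t1690_pchk_2472 : allR t1690_pf 306936 6 (2472 * 2 ^ 6) = true := by decide +kernel
theorem t1690_pchk_2473 : allR t1690_pf 306936 6 (2473 * 2 ^ 6) = true := by decide +kernel
theorem t1690_pchk_2474 : allR t1690_pf 306936 6 (2474 * 2 ^ 6) = true := by decide +kernel
theorem t1690_pchk_2475 : allR t1690_pf 306936 6 (2475 * 2 ^ 6) = true := by decide +kernel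
theorem t1690_pchk_2476 : allR t1690_pf 306936 6 (2476 * 2 ^ 6) = true := by decide +kernel
theorem t1690_pchk_2477 : allR t1690_pf 306936 6 (2477 * 2 ^ 6) = true := by decide +kernel
theorem t1690_pchk_2478 : allR t1690_pf 306936 6 (2478 * 2 ^ 6) = true := by decide +kernel
theorem t1690_pchk_2479 : allR t1690_pf 306936 6 (2479 * 2 ^ 6) = true := by decide +kernel
theorem t1690_pchk_2480 : allR t1690_pf 306936 6 (2480 * 2 ^ 6) = true := by decide +kernel
theorem t1690_pchk_2481 : allR t1690_pf 306936 6 (2481 * 2 ^ 6) = true := by decide +kernel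
theorem t1690_pchk_2482 : allR t1690_pf 306936 6 (2482 * 2 ^ 6) = true := by decide +kernel
theorem t1690_pchk_2483 : allR t1690_pf 306936 6 (2483 * 2 ^ 6) = true := by decide +kernel
theorem t1690_pchk_2484 : allR t1690_pf 306936 6 (2484 * 2 ^ 6) = true := by decide +kernel
theorem t1690_pchk_2485 : allR t1690_pf 306936 6 (2485 * 2 ^ 6) = true := by decide +kernel
theorem t1690_pchk_2486 : allR t1690_pf 306936 6 (2486 * 2 ^ 6) = true := by decide +kernel
theorem t1690_pchk_2487 : allR t1690_pf 306936 6 (2487 * 2 ^ 6) = true := by decide +kernel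
theorem t1690_pchk_2488 : allR t1690_pf 306936 6 (2488 * 2 ^ 6) = true := by decide +kernel
theorem t1690_pchk_2489 : allR t1690_pf 306936 6 (2489 * 2 ^ 6) = true := by decide +kernel
theorem t1690_pchk_2490 : allR t1690_pf 306936 6 (2490 * 2 ^ 6) = true := by decide +kernel
theorem t1690_pchk_2491 : allR t1690_pf 306936 6 (2491 * 2 ^ 6) = true := by decide +kernel
theorem t1690_pchk_2492 : allR t1690_pf 306936 6 (2492 * 2 ^ 6) = true := by decide +kernel
theorem t1690_pchk_2493 : allR t1690_pf 306936 6 (2493 * 2 ^ 6) = true := by decide +kernel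
theorem t1690_pchk_2494 : allR t1690_pf 306936 6 (2494 * 2 ^ 6) = true := by decide +kernel
theorem t1690_pchk_2495 : allR t1690_pf 306936 6 (2495 * 2 ^ 6) = true := by decide +kernel
theorem t1690_pchk_2496 : allR t1690_pf 306936 6 (2496 * 2 ^ 6) = true := by decide +kernel
theorem t1690_pchk_2497 : allR t1690_pf 306936 6 (2497 * 2 ^ 6) = true := by decide +kernel
theorem t1690_pchk_2498 : allR t1690_pf 306936 6 (2498 * 2 ^ 6) = true := by decide +kernel
theorem t1690_pchk_2499 : allR t1690_pf 306936 6 (2499 * 2 ^ 6) = true := by decide +kernel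
theorem t1690_pchk_2500 : allR t1690_pf 306936 6 (2500 * 2 ^ 6) = true := by decide +kernel
theorem t1690_pchk_2501 : allR t1690_pf 306936 6 (2501 * 2 ^ 6) = true := by decide +kernel
theorem t1690_pchk_2502 : allR t1690_pf 306936 6 (2502 * 2 ^ 6) = true := by decide +kernel
theorem t1690_pchk_2503 : allR t1690_pf 306936 6 (2503 * 2 ^ 6) = true := by decide +kernel
theorem t1690_pchk_2504 : allR t1690_pf 306936 6 (2504 * 2 ^ 6) = true := by decide +kernel
theorem t1690_pchk_2505 : allR t1690_pf 306936 6 (2505 * 2 ^ 6) = true := by decide +kernel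
theorem t1690_pchk_2506 : allR t1690_pf 306936 6 (2506 * 2 ^ 6) = true := by decide +kernel
theorem t1690_pchk_2507 : allR t1690_pf 306936 6 (2507 * 2 ^ 6) = true := by decide +kernel
theorem t1690_pchk_2508 : allR t1690_pf 306936 6 (2508 * 2 ^ 6) = true := by decide +kernel
theorem t1690_pchk_2509 : allR t1690_pf 306936 6 (2509 * 2 ^ 6) = true := by decide +kernel
theorem t1690_pchk_2510 : allR t1690_pf 306936 6 (2510 * 2 ^ 6) = true := by decide +kernel
theorem t1690_pchk_2511 : allR t1690_pf 306936 6 (2511 * 2 ^ 6) = true := by decide +kernel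
theorem t1690_pchk_2512 : allR t1690_pf 306936 6 (2512 * 2 ^ 6) = true := by decide +kernel
theorem t1690_pchk_2513 : allR t1690_pf 306936 6 (2513 * 2 ^ 6) = true := by decide +kernel
theorem t1690_pchk_2514 : allR t1690_pf 306936 6 (2514 * 2 ^ 6) = true := by decide +kernel
theorem t1690_pchk_2515 : allR t1690_pf 306936 6 (2515 * 2 ^ 6) = true := by decide +kernel
theorem t1690_pchk_2516 : allR t1690_pf 306936 6 (2516 * 2 ^ 6) = true := by decide +kernel
theorem t1690_pchk_2517 : allR t1690_pf 306936 6 (2517 * 2 ^ 6) = true := by decide +kernel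
theorem t1690_pchk_2518 : allR t1690_pf 306936 6 (2518 * 2 ^ 6) = true := by decide +kernel
theorem t1690_pchk_2519 : allR t1690_pf 306936 6 (2519 * 2 ^ 6) = true := by decide +kernel

theorem t1690_pfile_20 : ∀ k, k < 2520 → 2400 ≤ k → allR t1690_pf 306936 6 (k * 2 ^ 6) = true := by
  intro k h1 h2
  interval_cases k
  · exact t1690_pchk_2400
  · exact t1690_pchk_2401
  · exact t1690_pchk_2402
  · exact t1690_pchk_2403
  · exact t1690_pchk_2404
  · exact t1690_pchk_2405
  · exact t1690_pchk_2406
  · exact t1690_pchk_2407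
  · exact t1690_pchk_2408
  · exact t1690_pchk_2409
  · exact t1690_pchk_2410
  · exact t1690_pchk_2411
  · exact t1690_pchk_2412
  · exact t1690_pchk_2413
  · exact t1690_pchk_2414
  · exact t1690_pchk_2415
  · exact t1690_pchk_2416
  · exact t1690_pchk_2417
  · exact t1690_pchk_2418
  · exact t1690_pchk_2419
  · exact t1690_pchk_2420
  · exact t1690_pchk_2421
  · exact t1690_pchk_2422
  · exact t1690_pchk_2423
  · exact t1690_pchk_2424
  · exact t1690_pchk_2425
  · exact t1690_pchk_2426
  · exact t1690_pchk_2427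
  · exact t1690_pchk_2428
  · exact t1690_pchk_2429
  · exact t1690_pchk_2430
  · exact t1690_pchk_2431
  · exact t1690_pchk_2432
  · exact t1690_pchk_2433
  · exact t1690_pchk_2434
  · exact t1690_pchk_2435
  · exact t1690_pchk_2436
  · exact t1690_pchk_2437
  · exact t1690_pchk_2438
  · exact t1690_pchk_2439
  · exact t1690_pchk_2440
  · exact t1690_pchk_2441
  · exact t1690_pchk_2442
  · exact t1690_pchk_2443
  · exact t1690_pchk_2444
  · exact t1690_pchk_2445
  · exact t1690_pchk_2446
  · exact t1690_pchk_2447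
  · exact t1690_pchk_2448
  · exact t1690_pchk_2449
  · exact t1690_pchk_2450
  · exact t1690_pchk_2451
  · exact t1690_pchk_2452
  · exact t1690_pchk_2453
  · exact t1690_pchk_2454
  · exact t1690_pchk_2455
  · exact t1690_pchk_2456
  · exact t1690_pchk_2457
  · exact t1690_pchk_2458
  · exact t1690_pchk_2459
  · exact t1690_pchk_2460
  · exact t1690_pchk_2461
  · exact t1690_pchk_2462
  · exact t1690_pchk_2463
  · exact t1690_pchk_2464
  · exact t1690_pchk_2465
  · exact t1690_pchk_2466
  · exact t1690_pchk_2467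
  · exact t1690_pchk_2468
  · exact t1690_pchk_2469
  · exact t1690_pchk_2470
  · exact t1690_pchk_2471
  · exact t1690_pchk_2472
  · exact t1690_pchk_2473
  · exact t1690_pchk_2474
  · exact t1690_pchk_2475
  · exact t1690_pchk_2476
  · exact t1690_pchk_2477
  · exact t1690_pchk_2478
  · exact t1690_pchk_2479
  · exact t1690_pchk_2480
  · exact t1690_pchk_2481
  · exact t1690_pchk_2482
  · exact t1690_pchk_2483
  · exact t1690_pchk_2484
  · exact t1690_pchk_2485
  · exact t1690_pchk_2486
  · exact t1690_pchk_2487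
  · exact t1690_pchk_2488
  · exact t1690_pchk_2489
  · exact t1690_pchk_2490
  · exact t1690_pchk_2491
  · exact t1690_pchk_2492
  · exact t1690_pchk_2493
  · exact t1690_pchk_2494
  · exact t1690_pchk_2495
  · exact t1690_pchk_2496
  · exact t1690_pchk_2497
  · exact t1690_pchk_2498
  · exact t1690_pchk_2499
  · exact t1690_pchk_2500
  · exact t1690_pchk_2501
  · exact t1690_pchk_2502
  · exact t1690_pchk_2503
  · exact t1690_pchk_2504
  · exact t1690_pchk_2505
  · exact t1690_pchk_2506
  · exact t1690_pchk_2507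
  · exact t1690_pchk_2508
  · exact t1690_pchk_2509
  · exact t1690_pchk_2510
  · exact t1690_pchk_2511
  · exact t1690_pchk_2512
  · exact t1690_pchk_2513
  · exact t1690_pchk_2514
  · exact t1690_pchk_2515
  · exact t1690_pchk_2516
  · exact t1690_pchk_2517
  · exact t1690_pchk_2518
  · exact t1690_pchk_2519

end Cfsg.Agent.H35
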