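import Cfsg.Agent.H35.T1690.PTab

set_option autoImplicit false
set_option linter.all false
set_option Elab.async false

namespace Cfsg.Agent.H35

theorem t1690_pchk_2520 : allR t1690_pf 306936 6 (2520 * 2 ^ 6) = true := by decide +kernel
theorem t1690_pchk_2521 : allR t1690_pf 306936 6 (2521 * 2 ^ 6) = true := by decide +kernel
theorem t1690_pchk_2522 : allR t1690_pf 306936 6 (2522 * 2 ^ 6) = true := by decide +kernel
theorem t1690_pchk_2523 : allR t1690_pf 306936 6 (2523 * 2 ^ 6) = true := by decide +kernel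
theorem t1690_pchk_2524 : allR t1690_pf 306936 6 (2524 * 2 ^ 6) = true := by decide +kernel
theorem t1690_pchk_2525 : allR t1690_pf 306936 6 (2525 * 2 ^ 6) = true := by decide +kernel
theorem t1690_pchk_2526 : allR t1690_pf 306936 6 (2526 * 2 ^ 6) = true := by decide +kernel
theorem t1690_pchk_2527 : allR t1690_pf 306936 6 (2527 * 2 ^ 6) = true := by decide +kernel
theorem t1690_pchk_2528 : allR t1690_pf 306936 6 (2528 * 2 ^ 6) = true := by decide +kernel
theorem t1690_pchk_2529 : allR t1690_pf 306936 6 (2529 * 2 ^ 6) = true := by decide +kernel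
theorem t1690_pchk_2530 : allR t1690_pf 306936 6 (2530 * 2 ^ 6) = true := by decide +kernel
theorem t1690_pchk_2531 : allR t1690_pf 306936 6 (2531 * 2 ^ 6) = true := by decide +kernel
theorem t1690_pchk_2532 : allR t1690_pf 306936 6 (2532 * 2 ^ 6) = true := by decide +kernel
theorem t1690_pchk_2533 : allR t1690_pf 306936 6 (2533 * 2 ^ 6) = true := by decide +kernel
theorem t1690_pchk_2534 : allR t1690_pf 306936 6 (2534 * 2 ^ 6) = true := by decide +kernel
theorem t1690_pchk_2535 : allR t1690_pf 306936 6 (2535 * 2 ^ 6) = true := by decide +kernel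
theorem t1690_pchk_2536 : allR t1690_pf 306936 6 (2536 * 2 ^ 6) = true := by decide +kernel
theorem t1690_pchk_2537 : allR t1690_pf 306936 6 (2537 * 2 ^ 6) = true := by decide +kernel
theorem t1690_pchk_2538 : allR t1690_pf 306936 6 (2538 * 2 ^ 6) = true := by decide +kernel
theorem t1690_pchk_2539 : allR t1690_pf 306936 6 (2539 * 2 ^ 6) = true := by decide +kernel
theorem t1690_pchk_2540 : allR t1690_pf 306936 6 (2540 * 2 ^ 6) = true := by decide +kernel
theorem t1690_pchk_2541 : allR t1690_pf 306936 6 (2541 * 2 ^ 6) = true := by decide +kernel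
theorem t1690_pchk_2542 : allR t1690_pf 306936 6 (2542 * 2 ^ 6) = true := by decide +kernel
theorem t1690_pchk_2543 : allR t1690_pf 306936 6 (2543 * 2 ^ 6) = true := by decide +kernel
theorem t1690_pchk_2544 : allR t1690_pf 306936 6 (2544 * 2 ^ 6) = true := by decide +kernel
theorem t1690_pchk_2545 : allR t1690_pf 306936 6 (2545 * 2 ^ 6) = true := by decide +kernel
theorem t1690_pchk_2546 : allR t1690_pf 306936 6 (2546 * 2 ^ 6) = true := by decide +kernel
theorem t1690_pchk_2547 : allR t1690_pf 306936 6 (2547 * 2 ^ 6) = true := by decide +kernel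
theorem t1690_pchk_2548 : allR t1690_pf 306936 6 (2548 * 2 ^ 6) = true := by decide +kernel
theorem t1690_pchk_2549 : allR t1690_pf 306936 6 (2549 * 2 ^ 6) = true := by decide +kernel
theorem t1690_pchk_2550 : allR t1690_pf 306936 6 (2550 * 2 ^ 6) = true := by decide +kernel
theorem t1690_pchk_2551 : allR t1690_pf 306936 6 (2551 * 2 ^ 6) = true := by decide +kernel
theorem t1690_pchk_2552 : allR t1690_pf 306936 6 (2552 * 2 ^ 6) = true := by decide +kernel
theorem t1690_pchk_2553 : allR t1690_pf 306936 6 (2553 * 2 ^ 6) = true := by decide +kernel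
theorem t1690_pchk_2554 : allR t1690_pf 306936 6 (2554 * 2 ^ 6) = true := by decide +kernel
theorem t1690_pchk_2555 : allR t1690_pf 306936 6 (2555 * 2 ^ 6) = true := by decide +kernel
theorem t1690_pchk_2556 : allR t1690_pf 306936 6 (2556 * 2 ^ 6) = true := by decide +kernel
theorem t1690_pchk_2557 : allR t1690_pf 306936 6 (2557 * 2 ^ 6) = true := by decide +kernel
theorem t1690_pchk_2558 : allR t1690_pf 306936 6 (2558 * 2 ^ 6) = true := by decide +kernel
theorem t1690_pchk_2559 : allR t1690_pf 306936 6 (2559 * 2 ^ 6) = true := by decide +kernel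
theorem t1690_pchk_2560 : allR t1690_pf 306936 6 (2560 * 2 ^ 6) = true := by decide +kernel
theorem t1690_pchk_2561 : allR t1690_pf 306936 6 (2561 * 2 ^ 6) = true := by decide +kernel
theorem t1690_pchk_2562 : allR t1690_pf 306936 6 (2562 * 2 ^ 6) = true := by decide +kernel
theorem t1690_pchk_2563 : allR t1690_pf 306936 6 (2563 * 2 ^ 6) = true := by decide +kernel
theorem t1690_pchk_2564 : allR t1690_pf 306936 6 (2564 * 2 ^ 6) = true := by decide +kernel
theorem t1690_pchk_2565 : allR t1690_pf 306936 6 (2565 * 2 ^ 6) = true := by decide +kernel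
theorem t1690_pchk_2566 : allR t1690_pf 306936 6 (2566 * 2 ^ 6) = true := by decide +kernel
theorem t1690_pchk_2567 : allR t1690_pf 306936 6 (2567 * 2 ^ 6) = true := by decide +kernel
theorem t1690_pchk_2568 : allR t1690_pf 306936 6 (2568 * 2 ^ 6) = true := by decide +kernel
theorem t1690_pchk_2569 : allR t1690_pf 306936 6 (2569 * 2 ^ 6) = true := by decide +kernel
theorem t1690_pchk_2570 : allR t1690_pf 306936 6 (2570 * 2 ^ 6) = true := by decide +kernel
theorem t1690_pchk_2571 : allR t1690_pf 306936 6 (2571 * 2 ^ 6) = true := by decide +kernel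
theorem t1690_pchk_2572 : allR t1690_pf 306936 6 (2572 * 2 ^ 6) = true := by decide +kernel
theorem t1690_pchk_2573 : allR t1690_pf 306936 6 (2573 * 2 ^ 6) = true := by decide +kernel
theorem t1690_pchk_2574 : allR t1690_pf 306936 6 (2574 * 2 ^ 6) = true := by decide +kernel
theorem t1690_pchk_2575 : allR t1690_pf 306936 6 (2575 * 2 ^ 6) = true := by decide +kernel
theorem t1690_pchk_2576 : allR t1690_pf 306936 6 (2576 * 2 ^ 6) = true := by decide +kernel
theorem t1690_pchk_2577 : allR t1690_pf 306936 6 (2577 * 2 ^ 6) = true := by decide +kernel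
theorem t1690_pchk_2578 : allR t1690_pf 306936 6 (2578 * 2 ^ 6) = true := by decide +kernel
theorem t1690_pchk_2579 : allR t1690_pf 306936 6 (2579 * 2 ^ 6) = true := by decide +kernel
theorem t1690_pchk_2580 : allR t1690_pf 306936 6 (2580 * 2 ^ 6) = true := by decide +kernel
theorem t1690_pchk_2581 : allR t1690_pf 306936 6 (2581 * 2 ^ 6) = true := by decide +kernel
theorem t1690_pchk_2582 : allR t1690_pf 306936 6 (2582 * 2 ^ 6) = true := by decide +kernel
theorem t1690_pchk_2583 : allR t1690_pf 306936 6 (2583 * 2 ^ 6) = true := by decide +kernel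
theorem t1690_pchk_2584 : allR t1690_pf 306936 6 (2584 * 2 ^ 6) = true := by decide +kernel
theorem t1690_pchk_2585 : allR t1690_pf 306936 6 (2585 * 2 ^ 6) = true := by decide +kernel
theorem t1690_pchk_2586 : allR t1690_pf 306936 6 (2586 * 2 ^ 6) = true := by decide +kernel
theorem t1690_pchk_2587 : allR t1690_pf 306936 6 (2587 * 2 ^ 6) = true := by decide +kernel
theorem t1690_pchk_2588 : allR t1690_pf 306936 6 (2588 * 2 ^ 6) = true := by decide +kernel
theorem t1690_pchk_2589 : allR t1690_pf 306936 6 (2589 * 2 ^ 6) = true := by decide +kernel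
theorem t1690_pchk_2590 : allR t1690_pf 306936 6 (2590 * 2 ^ 6) = true := by decide +kernel
theorem t1690_pchk_2591 : allR t1690_pf 306936 6 (2591 * 2 ^ 6) = true := by decide +kernel
theorem t1690_pchk_2592 : allR t1690_pf 306936 6 (2592 * 2 ^ 6) = true := by decide +kernel
theorem t1690_pchk_2593 : allR t1690_pf 306936 6 (2593 * 2 ^ 6) = true := by decide +kernel
theorem t1690_pchk_2594 : allR t1690_pf 306936 6 (2594 * 2 ^ 6) = true := by decide +kernel
theorem t1690_pchk_2595 : allR t1690_pf 306936 6 (2595 * 2 ^ 6) = true := by decide +kernel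
theorem t1690_pchk_2596 : allR t1690_pf 306936 6 (2596 * 2 ^ 6) = true := by decide +kernel
theorem t1690_pchk_2597 : allR t1690_pf 306936 6 (2597 * 2 ^ 6) = true := by decide +kernel
theorem t1690_pchk_2598 : allR t1690_pf 306936 6 (2598 * 2 ^ 6) = true := by decide +kernel
theorem t1690_pchk_2599 : allR t1690_pf 306936 6 (2599 * 2 ^ 6) = true := by decide +kernel
theorem t1690_pchk_2600 : allR t1690_pf 306936 6 (2600 * 2 ^ 6) = true := by decide +kernel
theorem t1690_pchk_2601 : allR t1690_pf 306936 6 (2601 * 2 ^ 6) = true := by decide +kernel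
theorem t1690_pchk_2602 : allR t1690_pf 306936 6 (2602 * 2 ^ 6) = true := by decide +kernel
theorem t1690_pchk_2603 : allR t1690_pf 306936 6 (2603 * 2 ^ 6) = true := by decide +kernel
theorem t1690_pchk_2604 : allR t1690_pf 306936 6 (2604 * 2 ^ 6) = true := by decide +kernel
theorem t1690_pchk_2605 : allR t1690_pf 306936 6 (2605 * 2 ^ 6) = true := by decide +kernel
theorem t1690_pchk_2606 : allR t1690_pf 306936 6 (2606 * 2 ^ 6) = true := by decide +kernel
theorem t1690_pchk_2607 : allR t1690_pf 306936 6 (2607 * 2 ^ 6) = true := by decide +kernel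
theorem t1690_pchk_2608 : allR t1690_pf 306936 6 (2608 * 2 ^ 6) = true := by decide +kernel
theorem t1690_pchk_2609 : allR t1690_pf 306936 6 (2609 * 2 ^ 6) = true := by decide +kernel
theorem t1690_pchk_2610 : allR t1690_pf 306936 6 (2610 * 2 ^ 6) = true := by decide +kernel
theorem t1690_pchk_2611 : allR t1690_pf 306936 6 (2611 * 2 ^ 6) = true := by decide +kernel
theorem t1690_pchk_2612 : allR t1690_pf 306936 6 (2612 * 2 ^ 6) = true := by decide +kernel
theorem t1690_pchk_2613 : allR t1690_pf 306936 6 (2613 * 2 ^ 6) = true := by decide +kernel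
theorem t1690_pchk_2614 : allR t1690_pf 306936 6 (2614 * 2 ^ 6) = true := by decide +kernel
theorem t1690_pchk_2615 : allR t1690_pf 306936 6 (2615 * 2 ^ 6) = true := by decide +kernel
theorem t1690_pchk_2616 : allR t1690_pf 306936 6 (2616 * 2 ^ 6) = true := by decide +kernel
theorem t1690_pchk_2617 : allR t1690_pf 306936 6 (2617 * 2 ^ 6) = true := by decide +kernel
theorem t1690_pchk_2618 : allR t1690_pf 306936 6 (2618 * 2 ^ 6) = true := by decide +kernel
theorem t1690_pchk_2619 : allR t1690_pf 306936 6 (2619 * 2 ^ 6) = true := by decide +kernel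
theorem t1690_pchk_2620 : allR t1690_pf 306936 6 (2620 * 2 ^ 6) = true := by decide +kernel
theorem t1690_pchk_2621 : allR t1690_pf 306936 6 (2621 * 2 ^ 6) = true := by decide +kernel
theorem t1690_pchk_2622 : allR t1690_pf 306936 6 (2622 * 2 ^ 6) = true := by decide +kernel
theorem t1690_pchk_2623 : allR t1690_pf 306936 6 (2623 * 2 ^ 6) = true := by decide +kernel
theorem t1690_pchk_2624 : allR t1690_pf 306936 6 (2624 * 2 ^ 6) = true := by decide +kernel
theorem t1690_pchk_2625 : allR t1690_pf 306936 6 (2625 * 2 ^ 6) = true := by decide +kernel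
theorem t1690_pchk_2626 : allR t1690_pf 306936 6 (2626 * 2 ^ 6) = true := by decide +kernel
theorem t1690_pchk_2627 : allR t1690_pf 306936 6 (2627 * 2 ^ 6) = true := by decide +kernel
theorem t1690_pchk_2628 : allR t1690_pf 306936 6 (2628 * 2 ^ 6) = true := by decide +kernel
theorem t1690_pchk_2629 : allR t1690_pf 306936 6 (2629 * 2 ^ 6) = true := by decide +kernel
theorem t1690_pchk_2630 : allR t1690_pf 306936 6 (2630 * 2 ^ 6) = true := by decide +kernel
theorem t1690_pchk_2631 : allR t1690_pf 306936 6 (2631 * 2 ^ 6) = true := by decide +kernel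
theorem t1690_pchk_2632 : allR t1690_pf 306936 6 (2632 * 2 ^ 6) = true := by decide +kernel
theorem t1690_pchk_2633 : allR t1690_pf 306936 6 (2633 * 2 ^ 6) = true := by decide +kernel
theorem t1690_pchk_2634 : allR t1690_pf 306936 6 (2634 * 2 ^ 6) = true := by decide +kernel
theorem t1690_pchk_2635 : allR t1690_pf 306936 6 (2635 * 2 ^ 6) = true := by decide +kernel
theorem t1690_pchk_2636 : allR t1690_pf 306936 6 (2636 * 2 ^ 6) = true := by decide +kernel
theorem t1690_pchk_2637 : allR t1690_pf 306936 6 (2637 * 2 ^ 6) = true := by decide +kernel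
theorem t1690_pchk_2638 : allR t1690_pf 306936 6 (2638 * 2 ^ 6) = true := by decide +kernel
theorem t1690_pchk_2639 : allR t1690_pf 306936 6 (2639 * 2 ^ 6) = true := by decide +kernel

theorem t1690_pfile_21 : ∀ k, k < 2640 → 2520 ≤ k → allR t1690_pf 306936 6 (k * 2 ^ 6) = true := by
  intro k h1 h2
  interval_cases k
  · exact t1690_pchk_2520
  · exact t1690_pchk_2521
  · exact t1690_pchk_2522
  · exact t1690_pchk_2523
  · exact t1690_pchk_2524
  · exact t1690_pchk_2525
  · exact t1690_pchk_2526
  · exact t1690_pchk_2527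
  · exact t1690_pchk_2528
  · exact t1690_pchk_2529
  · exact t1690_pchk_2530
  · exact t1690_pchk_2531
  · exact t1690_pchk_2532
  · exact t1690_pchk_2533
  · exact t1690_pchk_2534
  · exact t1690_pchk_2535
  · exact t1690_pchk_2536
  · exact t1690_pchk_2537
  · exact t1690_pchk_2538
  · exact t1690_pchk_2539
  · exact t1690_pchk_2540
  · exact t1690_pchk_2541
  · exact t1690_pchk_2542
  · exact t1690_pchk_2543
  · exact t1690_pchk_2544
  · exact t1690_pchk_2545
  · exact t1690_pchk_2546
  · exact t1690_pchk_2547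
  · exact t1690_pchk_2548
  · exact t1690_pchk_2549
  · exact t1690_pchk_2550
  · exact t1690_pchk_2551
  · exact t1690_pchk_2552
  · exact t1690_pchk_2553
  · exact t1690_pchk_2554
  · exact t1690_pchk_2555
  · exact t1690_pchk_2556
  · exact t1690_pchk_2557
  · exact t1690_pchk_2558
  · exact t1690_pchk_2559
  · exact t1690_pchk_2560
  · exact t1690_pchk_2561
  · exact t1690_pchk_2562
  · exact t1690_pchk_2563
  · exact t1690_pchk_2564
  · exact t1690_pchk_2565
  · exact t1690_pchk_2566
  · exact t1690_pchk_2567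
  · exact t1690_pchk_2568
  · exact t1690_pchk_2569
  · exact t1690_pchk_2570
  · exact t1690_pchk_2571
  · exact t1690_pchk_2572
  · exact t1690_pchk_2573
  · exact t1690_pchk_2574
  · exact t1690_pchk_2575
  · exact t1690_pchk_2576
  · exact t1690_pchk_2577
  · exact t1690_pchk_2578
  · exact t1690_pchk_2579
  · exact t1690_pchk_2580
  · exact t1690_pchk_2581
  · exact t1690_pchk_2582
  · exact t1690_pchk_2583
  · exact t1690_pchk_2584
  · exact t1690_pchk_2585
  · exact t1690_pchk_2586
  · exact t1690_pchk_2587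
  · exact t1690_pchk_2588
  · exact t1690_pchk_2589
  · exact t1690_pchk_2590
  · exact t1690_pchk_2591
  · exact t1690_pchk_2592
  · exact t1690_pchk_2593
  · exact t1690_pchk_2594
  · exact t1690_pchk_2595
  · exact t1690_pchk_2596
  · exact t1690_pchk_2597
  · exact t1690_pchk_2598
  · exact t1690_pchk_2599
  · exact t1690_pchk_2600
  · exact t1690_pchk_2601
  · exact t1690_pchk_2602
  · exact t1690_pchk_2603
  · exact t1690_pchk_2604
  · exact t1690_pchk_2605
  · exact t1690_pchk_2606
  · exact t1690_pchk_2607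
  · exact t1690_pchk_2608
  · exact t1690_pchk_2609
  · exact t1690_pchk_2610
  · exact t1690_pchk_2611
  · exact t1690_pchk_2612
  · exact t1690_pchk_2613
  · exact t1690_pchk_2614
  · exact t1690_pchk_2615
  · exact t1690_pchk_2616
  · exact t1690_pchk_2617
  · exact t1690_pchk_2618
  · exact t1690_pchk_2619
  · exact t1690_pchk_2620
  · exact t1690_pchk_2621
  · exact t1690_pchk_2622
  · exact t1690_pchk_2623
  · exact t1690_pchk_2624
  · exact t1690_pchk_2625
  · exact t1690_pchk_2626
  · exact t1690_pchk_2627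
  · exact t1690_pchk_2628
  · exact t1690_pchk_2629
  · exact t1690_pchk_2630
  · exact t1690_pchk_2631
  · exact t1690_pchk_2632
  · exact t1690_pchk_2633
  · exact t1690_pchk_2634
  · exact t1690_pchk_2635
  · exact t1690_pchk_2636
  · exact t1690_pchk_2637
  · exact t1690_pchk_2638
  · exact t1690_pchk_2639

end Cfsg.Agent.H35
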