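import Cfsg.Agent.H35.T1690.PTab

set_option autoImplicit false
set_option linter.all false
set_option Elab.async false

namespace Cfsg.Agent.H35

theorem t1690_pchk_2640 : allR t1690_pf 306936 6 (2640 * 2 ^ 6) = true := by decide +kernel
theorem t1690_pchk_2641 : allR t1690_pf 306936 6 (2641 * 2 ^ 6) = true := by decide +kernel
theorem t1690_pchk_2642 : allR t1690_pf 306936 6 (2642 * 2 ^ 6) = true := by decide +kernel
theorem t1690_pchk_2643 : allR t1690_pf 306936 6 (2643 * 2 ^ 6) = true := by decide +kernel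
theorem t1690_pchk_2644 : allR t1690_pf 306936 6 (2644 * 2 ^ 6) = true := by decide +kernel
theorem t1690_pchk_2645 : allR t1690_pf 306936 6 (2645 * 2 ^ 6) = true := by decide +kernel
theorem t1690_pchk_2646 : allR t1690_pf 306936 6 (2646 * 2 ^ 6) = true := by decide +kernel
theorem t1690_pchk_2647 : allR t1690_pf 306936 6 (2647 * 2 ^ 6) = true := by decide +kernel
theorem t1690_pchk_2648 : allR t1690_pf 306936 6 (2648 * 2 ^ 6) = true := by decide +kernel
theorem t1690_pchk_2649 : allR t1690_pf 306936 6 (2649 * 2 ^ 6) = true := by decide +kernel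
theorem t1690_pchk_2650 : allR t1690_pf 306936 6 (2650 * 2 ^ 6) = true := by decide +kernel
theorem t1690_pchk_2651 : allR t1690_pf 306936 6 (2651 * 2 ^ 6) = true := by decide +kernel
theorem t1690_pchk_2652 : allR t1690_pf 306936 6 (2652 * 2 ^ 6) = true := by decide +kernel
theorem t1690_pchk_2653 : allR t1690_pf 306936 6 (2653 * 2 ^ 6) = true := by decide +kernel
theorem t1690_pchk_2654 : allR t1690_pf 306936 6 (2654 * 2 ^ 6) = true := by decide +kernel
theorem t1690_pchk_2655 : allR t1690_pf 306936 6 (2655 * 2 ^ 6) = true := by decide +kernel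
theorem t1690_pchk_2656 : allR t1690_pf 306936 6 (2656 * 2 ^ 6) = true := by decide +kernel
theorem t1690_pchk_2657 : allR t1690_pf 306936 6 (2657 * 2 ^ 6) = true := by decide +kernel
theorem t1690_pchk_2658 : allR t1690_pf 306936 6 (2658 * 2 ^ 6) = true := by decide +kernel
theorem t1690_pchk_2659 : allR t1690_pf 306936 6 (2659 * 2 ^ 6) = true := by decide +kernel
theorem t1690_pchk_2660 : allR t1690_pf 306936 6 (2660 * 2 ^ 6) = true := by decide +kernel
theorem t1690_pchk_2661 : allR t1690_pf 306936 6 (2661 * 2 ^ 6) = true := by decide +kernel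
theorem t1690_pchk_2662 : allR t1690_pf 306936 6 (2662 * 2 ^ 6) = true := by decide +kernel
theorem t1690_pchk_2663 : allR t1690_pf 306936 6 (2663 * 2 ^ 6) = true := by decide +kernel
theorem t1690_pchk_2664 : allR t1690_pf 306936 6 (2664 * 2 ^ 6) = true := by decide +kernel
theorem t1690_pchk_2665 : allR t1690_pf 306936 6 (2665 * 2 ^ 6) = true := by decide +kernel
theorem t1690_pchk_2666 : allR t1690_pf 306936 6 (2666 * 2 ^ 6) = true := by decide +kernel
theorem t1690_pchk_2667 : allR t1690_pf 306936 6 (2667 * 2 ^ 6) = true := by decide +kernel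
theorem t1690_pchk_2668 : allR t1690_pf 306936 6 (2668 * 2 ^ 6) = true := by decide +kernel
theorem t1690_pchk_2669 : allR t1690_pf 306936 6 (2669 * 2 ^ 6) = true := by decide +kernel
theorem t1690_pchk_2670 : allR t1690_pf 306936 6 (2670 * 2 ^ 6) = true := by decide +kernel
theorem t1690_pchk_2671 : allR t1690_pf 306936 6 (2671 * 2 ^ 6) = true := by decide +kernel
theorem t1690_pchk_2672 : allR t1690_pf 306936 6 (2672 * 2 ^ 6) = true := by decide +kernel
theorem t1690_pchk_2673 : allR t1690_pf 306936 6 (2673 * 2 ^ 6) = true := by decide +kernel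
theorem t1690_pchk_2674 : allR t1690_pf 306936 6 (2674 * 2 ^ 6) = true := by decide +kernel
theorem t1690_pchk_2675 : allR t1690_pf 306936 6 (2675 * 2 ^ 6) = true := by decide +kernel
theorem t1690_pchk_2676 : allR t1690_pf 306936 6 (2676 * 2 ^ 6) = true := by decide +kernel
theorem t1690_pchk_2677 : allR t1690_pf 306936 6 (2677 * 2 ^ 6) = true := by decide +kernel
theorem t1690_pchk_2678 : allR t1690_pf 306936 6 (2678 * 2 ^ 6) = true := by decide +kernel
theorem t1690_pchk_2679 : allR t1690_pf 306936 6 (2679 * 2 ^ 6) = true := by decide +kernel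
theorem t1690_pchk_2680 : allR t1690_pf 306936 6 (2680 * 2 ^ 6) = true := by decide +kernel
theorem t1690_pchk_2681 : allR t1690_pf 306936 6 (2681 * 2 ^ 6) = true := by decide +kernel
theorem t1690_pchk_2682 : allR t1690_pf 306936 6 (2682 * 2 ^ 6) = true := by decide +kernel
theorem t1690_pchk_2683 : allR t1690_pf 306936 6 (2683 * 2 ^ 6) = true := by decide +kernel
theorem t1690_pchk_2684 : allR t1690_pf 306936 6 (2684 * 2 ^ 6) = true := by decide +kernel
theorem t1690_pchk_2685 : allR t1690_pf 306936 6 (2685 * 2 ^ 6) = true := by decide +kernel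
theorem t1690_pchk_2686 : allR t1690_pf 306936 6 (2686 * 2 ^ 6) = true := by decide +kernel
theorem t1690_pchk_2687 : allR t1690_pf 306936 6 (2687 * 2 ^ 6) = true := by decide +kernel
theorem t1690_pchk_2688 : allR t1690_pf 306936 6 (2688 * 2 ^ 6) = true := by decide +kernel
theorem t1690_pchk_2689 : allR t1690_pf 306936 6 (2689 * 2 ^ 6) = true := by decide +kernel
theorem t1690_pchk_2690 : allR t1690_pf 306936 6 (2690 * 2 ^ 6) = true := by decide +kernel
theorem t1690_pchk_2691 : allR t1690_pf 306936 6 (2691 * 2 ^ 6) = true := by decide +kernel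
theorem t1690_pchk_2692 : allR t1690_pf 306936 6 (2692 * 2 ^ 6) = true := by decide +kernel
theorem t1690_pchk_2693 : allR t1690_pf 306936 6 (2693 * 2 ^ 6) = true := by decide +kernel
theorem t1690_pchk_2694 : allR t1690_pf 306936 6 (2694 * 2 ^ 6) = true := by decide +kernel
theorem t1690_pchk_2695 : allR t1690_pf 306936 6 (2695 * 2 ^ 6) = true := by decide +kernel
theorem t1690_pchk_2696 : allR t1690_pf 306936 6 (2696 * 2 ^ 6) = true := by decide +kernel
theorem t1690_pchk_2697 : allR t1690_pf 306936 6 (2697 * 2 ^ 6) = true := by decide +kernel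
theorem t1690_pchk_2698 : allR t1690_pf 306936 6 (2698 * 2 ^ 6) = true := by decide +kernel
theorem t1690_pchk_2699 : allR t1690_pf 306936 6 (2699 * 2 ^ 6) = true := by decide +kernel
theorem t1690_pchk_2700 : allR t1690_pf 306936 6 (2700 * 2 ^ 6) = true := by decide +kernel
theorem t1690_pchk_2701 : allR t1690_pf 306936 6 (2701 * 2 ^ 6) = true := by decide +kernel
theorem t1690_pchk_2702 : allR t1690_pf 306936 6 (2702 * 2 ^ 6) = true := by decide +kernel
theorem t1690_pchk_2703 : allR t1690_pf 306936 6 (2703 * 2 ^ 6) = true := by decide +kernel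
theorem t1690_pchk_2704 : allR t1690_pf 306936 6 (2704 * 2 ^ 6) = true := by decide +kernel
theorem t1690_pchk_2705 : allR t1690_pf 306936 6 (2705 * 2 ^ 6) = true := by decide +kernel
theorem t1690_pchk_2706 : allR t1690_pf 306936 6 (2706 * 2 ^ 6) = true := by decide +kernel
theorem t1690_pchk_2707 : allR t1690_pf 306936 6 (2707 * 2 ^ 6) = true := by decide +kernel
theorem t1690_pchk_2708 : allR t1690_pf 306936 6 (2708 * 2 ^ 6) = true := by decide +kernel
theorem t1690_pchk_2709 : allR t1690_pf 306936 6 (2709 * 2 ^ 6) = true := by decide +kernel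
theorem t1690_pchk_2710 : allR t1690_pf 306936 6 (2710 * 2 ^ 6) = true := by decide +kernel
theorem t1690_pchk_2711 : allR t1690_pf 306936 6 (2711 * 2 ^ 6) = true := by decide +kernel
theorem t1690_pchk_2712 : allR t1690_pf 306936 6 (2712 * 2 ^ 6) = true := by decide +kernel
theorem t1690_pchk_2713 : allR t1690_pf 306936 6 (2713 * 2 ^ 6) = true := by decide +kernel
theorem t1690_pchk_2714 : allR t1690_pf 306936 6 (2714 * 2 ^ 6) = true := by decide +kernel
theorem t1690_pchk_2715 : allR t1690_pf 306936 6 (2715 * 2 ^ 6) = true := by decide +kernel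
theorem t1690_pchk_2716 : allR t1690_pf 306936 6 (2716 * 2 ^ 6) = true := by decide +kernel
theorem t1690_pchk_2717 : allR t1690_pf 306936 6 (2717 * 2 ^ 6) = true := by decide +kernel
theorem t1690_pchk_2718 : allR t1690_pf 306936 6 (2718 * 2 ^ 6) = true := by decide +kernel
theorem t1690_pchk_2719 : allR t1690_pf 306936 6 (2719 * 2 ^ 6) = true := by decide +kernel
theorem t1690_pchk_2720 : allR t1690_pf 306936 6 (2720 * 2 ^ 6) = true := by decide +kernel
theorem t1690_pchk_2721 : allR t1690_pf 306936 6 (2721 * 2 ^ 6) = true := by decide +kernel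
theorem t1690_pchk_2722 : allR t1690_pf 306936 6 (2722 * 2 ^ 6) = true := by decide +kernel
theorem t1690_pchk_2723 : allR t1690_pf 306936 6 (2723 * 2 ^ 6) = true := by decide +kernel
theorem t1690_pchk_2724 : allR t1690_pf 306936 6 (2724 * 2 ^ 6) = true := by decide +kernel
theorem t1690_pchk_2725 : allR t1690_pf 306936 6 (2725 * 2 ^ 6) = true := by decide +kernel
theorem t1690_pchk_2726 : allR t1690_pf 306936 6 (2726 * 2 ^ 6) = true := by decide +kernel
theorem t1690_pchk_2727 : allR t1690_pf 306936 6 (2727 * 2 ^ 6) = true := by decide +kernel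
theorem t1690_pchk_2728 : allR t1690_pf 306936 6 (2728 * 2 ^ 6) = true := by decide +kernel
theorem t1690_pchk_2729 : allR t1690_pf 306936 6 (2729 * 2 ^ 6) = true := by decide +kernel
theorem t1690_pchk_2730 : allR t1690_pf 306936 6 (2730 * 2 ^ 6) = true := by decide +kernel
theorem t1690_pchk_2731 : allR t1690_pf 306936 6 (2731 * 2 ^ 6) = true := by decide +kernel
theorem t1690_pchk_2732 : allR t1690_pf 306936 6 (2732 * 2 ^ 6) = true := by decide +kernel
theorem t1690_pchk_2733 : allR t1690_pf 306936 6 (2733 * 2 ^ 6) = true := by decide +kernel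
theorem t1690_pchk_2734 : allR t1690_pf 306936 6 (2734 * 2 ^ 6) = true := by decide +kernel
theorem t1690_pchk_2735 : allR t1690_pf 306936 6 (2735 * 2 ^ 6) = true := by decide +kernel
theorem t1690_pchk_2736 : allR t1690_pf 306936 6 (2736 * 2 ^ 6) = true := by decide +kernel
theorem t1690_pchk_2737 : allR t1690_pf 306936 6 (2737 * 2 ^ 6) = true := by decide +kernel
theorem t1690_pchk_2738 : allR t1690_pf 306936 6 (2738 * 2 ^ 6) = true := by decide +kernel
theorem t1690_pchk_2739 : allR t1690_pf 306936 6 (2739 * 2 ^ 6) = true := by decide +kernel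
theorem t1690_pchk_2740 : allR t1690_pf 306936 6 (2740 * 2 ^ 6) = true := by decide +kernel
theorem t1690_pchk_2741 : allR t1690_pf 306936 6 (2741 * 2 ^ 6) = true := by decide +kernel
theorem t1690_pchk_2742 : allR t1690_pf 306936 6 (2742 * 2 ^ 6) = true := by decide +kernel
theorem t1690_pchk_2743 : allR t1690_pf 306936 6 (2743 * 2 ^ 6) = true := by decide +kernel
theorem t1690_pchk_2744 : allR t1690_pf 306936 6 (2744 * 2 ^ 6) = true := by decide +kernel
theorem t1690_pchk_2745 : allR t1690_pf 306936 6 (2745 * 2 ^ 6) = true := by decide +kernel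
theorem t1690_pchk_2746 : allR t1690_pf 306936 6 (2746 * 2 ^ 6) = true := by decide +kernel
theorem t1690_pchk_2747 : allR t1690_pf 306936 6 (2747 * 2 ^ 6) = true := by decide +kernel
theorem t1690_pchk_2748 : allR t1690_pf 306936 6 (2748 * 2 ^ 6) = true := by decide +kernel
theorem t1690_pchk_2749 : allR t1690_pf 306936 6 (2749 * 2 ^ 6) = true := by decide +kernel
theorem t1690_pchk_2750 : allR t1690_pf 306936 6 (2750 * 2 ^ 6) = true := by decide +kernel
theorem t1690_pchk_2751 : allR t1690_pf 306936 6 (2751 * 2 ^ 6) = true := by decide +kernel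
theorem t1690_pchk_2752 : allR t1690_pf 306936 6 (2752 * 2 ^ 6) = true := by decide +kernel
theorem t1690_pchk_2753 : allR t1690_pf 306936 6 (2753 * 2 ^ 6) = true := by decide +kernel
theorem t1690_pchk_2754 : allR t1690_pf 306936 6 (2754 * 2 ^ 6) = true := by decide +kernel
theorem t1690_pchk_2755 : allR t1690_pf 306936 6 (2755 * 2 ^ 6) = true := by decide +kernel
theorem t1690_pchk_2756 : allR t1690_pf 306936 6 (2756 * 2 ^ 6) = true := by decide +kernel
theorem t1690_pchk_2757 : allR t1690_pf 306936 6 (2757 * 2 ^ 6) = true := by decide +kernel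
theorem t1690_pchk_2758 : allR t1690_pf 306936 6 (2758 * 2 ^ 6) = true := by decide +kernel
theorem t1690_pchk_2759 : allR t1690_pf 306936 6 (2759 * 2 ^ 6) = true := by decide +kernel

theorem t1690_pfile_22 : ∀ k, k < 2760 → 2640 ≤ k → allR t1690_pf 306936 6 (k * 2 ^ 6) = true := by
  intro k h1 h2
  interval_cases k
  · exact t1690_pchk_2640
  · exact t1690_pchk_2641
  · exact t1690_pchk_2642
  · exact t1690_pchk_2643
  · exact t1690_pchk_2644
  · exact t1690_pchk_2645
  · exact t1690_pchk_2646
  · exact t1690_pchk_2647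
  · exact t1690_pchk_2648
  · exact t1690_pchk_2649
  · exact t1690_pchk_2650
  · exact t1690_pchk_2651
  · exact t1690_pchk_2652
  · exact t1690_pchk_2653
  · exact t1690_pchk_2654
  · exact t1690_pchk_2655
  · exact t1690_pchk_2656
  · exact t1690_pchk_2657
  · exact t1690_pchk_2658
  · exact t1690_pchk_2659
  · exact t1690_pchk_2660
  · exact t1690_pchk_2661
  · exact t1690_pchk_2662
  · exact t1690_pchk_2663
  · exact t1690_pchk_2664
  · exact t1690_pchk_2665
  · exact t1690_pchk_2666
  · exact t1690_pchk_2667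
  · exact t1690_pchk_2668
  · exact t1690_pchk_2669
  · exact t1690_pchk_2670
  · exact t1690_pchk_2671
  · exact t1690_pchk_2672
  · exact t1690_pchk_2673
  · exact t1690_pchk_2674
  · exact t1690_pchk_2675
  · exact t1690_pchk_2676
  · exact t1690_pchk_2677
  · exact t1690_pchk_2678
  · exact t1690_pchk_2679
  · exact t1690_pchk_2680
  · exact t1690_pchk_2681
  · exact t1690_pchk_2682
  · exact t1690_pchk_2683
  · exact t1690_pchk_2684
  · exact t1690_pchk_2685
  · exact t1690_pchk_2686
  · exact t1690_pchk_2687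
  · exact t1690_pchk_2688
  · exact t1690_pchk_2689
  · exact t1690_pchk_2690
  · exact t1690_pchk_2691
  · exact t1690_pchk_2692
  · exact t1690_pchk_2693
  · exact t1690_pchk_2694
  · exact t1690_pchk_2695
  · exact t1690_pchk_2696
  · exact t1690_pchk_2697
  · exact t1690_pchk_2698
  · exact t1690_pchk_2699
  · exact t1690_pchk_2700
  · exact t1690_pchk_2701
  · exact t1690_pchk_2702
  · exact t1690_pchk_2703
  · exact t1690_pchk_2704
  · exact t1690_pchk_2705
  · exact t1690_pchk_2706
  · exact t1690_pchk_2707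
  · exact t1690_pchk_2708
  · exact t1690_pchk_2709
  · exact t1690_pchk_2710
  · exact t1690_pchk_2711
  · exact t1690_pchk_2712
  · exact t1690_pchk_2713
  · exact t1690_pchk_2714
  · exact t1690_pchk_2715
  · exact t1690_pchk_2716
  · exact t1690_pchk_2717
  · exact t1690_pchk_2718
  · exact t1690_pchk_2719
  · exact t1690_pchk_2720
  · exact t1690_pchk_2721
  · exact t1690_pchk_2722
  · exact t1690_pchk_2723
  · exact t1690_pchk_2724
  · exact t1690_pchk_2725
  · exact t1690_pchk_2726
  · exact t1690_pchk_2727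
  · exact t1690_pchk_2728
  · exact t1690_pchk_2729
  · exact t1690_pchk_2730
  · exact t1690_pchk_2731
  · exact t1690_pchk_2732
  · exact t1690_pchk_2733
  · exact t1690_pchk_2734
  · exact t1690_pchk_2735
  · exact t1690_pchk_2736
  · exact t1690_pchk_2737
  · exact t1690_pchk_2738
  · exact t1690_pchk_2739
  · exact t1690_pchk_2740
  · exact t1690_pchk_2741
  · exact t1690_pchk_2742
  · exact t1690_pchk_2743
  · exact t1690_pchk_2744
  · exact t1690_pchk_2745
  · exact t1690_pchk_2746
  · exact t1690_pchk_2747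
  · exact t1690_pchk_2748
  · exact t1690_pchk_2749
  · exact t1690_pchk_2750
  · exact t1690_pchk_2751
  · exact t1690_pchk_2752
  · exact t1690_pchk_2753
  · exact t1690_pchk_2754
  · exact t1690_pchk_2755
  · exact t1690_pchk_2756
  · exact t1690_pchk_2757
  · exact t1690_pchk_2758
  · exact t1690_pchk_2759

end Cfsg.Agent.H35
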