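import Cfsg.Agent.H35.T1690.PTab

set_option autoImplicit false
set_option linter.all false
set_option Elab.async false

namespace Cfsg.Agent.H35

theorem t1690_pchk_2760 : allR t1690_pf 306936 6 (2760 * 2 ^ 6) = true := by decide +kernel
theorem t1690_pchk_2761 : allR t1690_pf 306936 6 (2761 * 2 ^ 6) = true := by decide +kernel
theorem t1690_pchk_2762 : allR t1690_pf 306936 6 (2762 * 2 ^ 6) = true := by decide +kernel
theorem t1690_pchk_2763 : allR t1690_pf 306936 6 (2763 * 2 ^ 6) = true := by decide +kernel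
theorem t1690_pchk_2764 : allR t1690_pf 306936 6 (2764 * 2 ^ 6) = true := by decide +kernel
theorem t1690_pchk_2765 : allR t1690_pf 306936 6 (2765 * 2 ^ 6) = true := by decide +kernel
theorem t1690_pchk_2766 : allR t1690_pf 306936 6 (2766 * 2 ^ 6) = true := by decide +kernel
theorem t1690_pchk_2767 : allR t1690_pf 306936 6 (2767 * 2 ^ 6) = true := by decide +kernel
theorem t1690_pchk_2768 : allR t1690_pf 306936 6 (2768 * 2 ^ 6) = true := by decide +kernel
theorem t1690_pchk_2769 : allR t1690_pf 306936 6 (2769 * 2 ^ 6) = true := by decide +kernel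
theorem t1690_pchk_2770 : allR t1690_pf 306936 6 (2770 * 2 ^ 6) = true := by decide +kernel
theorem t1690_pchk_2771 : allR t1690_pf 306936 6 (2771 * 2 ^ 6) = true := by decide +kernel
theorem t1690_pchk_2772 : allR t1690_pf 306936 6 (2772 * 2 ^ 6) = true := by decide +kernel
theorem t1690_pchk_2773 : allR t1690_pf 306936 6 (2773 * 2 ^ 6) = true := by decide +kernel
theorem t1690_pchk_2774 : allR t1690_pf 306936 6 (2774 * 2 ^ 6) = true := by decide +kernel
theorem t1690_pchk_2775 : allR t1690_pf 306936 6 (2775 * 2 ^ 6) = true := by decide +kernel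
theorem t1690_pchk_2776 : allR t1690_pf 306936 6 (2776 * 2 ^ 6) = true := by decide +kernel
theorem t1690_pchk_2777 : allR t1690_pf 306936 6 (2777 * 2 ^ 6) = true := by decide +kernel
theorem t1690_pchk_2778 : allR t1690_pf 306936 6 (2778 * 2 ^ 6) = true := by decide +kernel
theorem t1690_pchk_2779 : allR t1690_pf 306936 6 (2779 * 2 ^ 6) = true := by decide +kernel
theorem t1690_pchk_2780 : allR t1690_pf 306936 6 (2780 * 2 ^ 6) = true := by decide +kernel
theorem t1690_pchk_2781 : allR t1690_pf 306936 6 (2781 * 2 ^ 6) = true := by decide +kernel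
theorem t1690_pchk_2782 : allR t1690_pf 306936 6 (2782 * 2 ^ 6) = true := by decide +kernel
theorem t1690_pchk_2783 : allR t1690_pf 306936 6 (2783 * 2 ^ 6) = true := by decide +kernel
theorem t1690_pchk_2784 : allR t1690_pf 306936 6 (2784 * 2 ^ 6) = true := by decide +kernel
theorem t1690_pchk_2785 : allR t1690_pf 306936 6 (2785 * 2 ^ 6) = true := by decide +kernel
theorem t1690_pchk_2786 : allR t1690_pf 306936 6 (2786 * 2 ^ 6) = true := by decide +kernel
theorem t1690_pchk_2787 : allR t1690_pf 306936 6 (2787 * 2 ^ 6) = true := by decide +kernel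
theorem t1690_pchk_2788 : allR t1690_pf 306936 6 (2788 * 2 ^ 6) = true := by decide +kernel
theorem t1690_pchk_2789 : allR t1690_pf 306936 6 (2789 * 2 ^ 6) = true := by decide +kernel
theorem t1690_pchk_2790 : allR t1690_pf 306936 6 (2790 * 2 ^ 6) = true := by decide +kernel
theorem t1690_pchk_2791 : allR t1690_pf 306936 6 (2791 * 2 ^ 6) = true := by decide +kernel
theorem t1690_pchk_2792 : allR t1690_pf 306936 6 (2792 * 2 ^ 6) = true := by decide +kernel
theorem t1690_pchk_2793 : allR t1690_pf 306936 6 (2793 * 2 ^ 6) = true := by decide +kernel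
theorem t1690_pchk_2794 : allR t1690_pf 306936 6 (2794 * 2 ^ 6) = true := by decide +kernel
theorem t1690_pchk_2795 : allR t1690_pf 306936 6 (2795 * 2 ^ 6) = true := by decide +kernel
theorem t1690_pchk_2796 : allR t1690_pf 306936 6 (2796 * 2 ^ 6) = true := by decide +kernel
theorem t1690_pchk_2797 : allR t1690_pf 306936 6 (2797 * 2 ^ 6) = true := by decide +kernel
theorem t1690_pchk_2798 : allR t1690_pf 306936 6 (2798 * 2 ^ 6) = true := by decide +kernel
theorem t1690_pchk_2799 : allR t1690_pf 306936 6 (2799 * 2 ^ 6) = true := by decide +kernel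
theorem t1690_pchk_2800 : allR t1690_pf 306936 6 (2800 * 2 ^ 6) = true := by decide +kernel
theorem t1690_pchk_2801 : allR t1690_pf 306936 6 (2801 * 2 ^ 6) = true := by decide +kernel
theorem t1690_pchk_2802 : allR t1690_pf 306936 6 (2802 * 2 ^ 6) = true := by decide +kernel
theorem t1690_pchk_2803 : allR t1690_pf 306936 6 (2803 * 2 ^ 6) = true := by decide +kernel
theorem t1690_pchk_2804 : allR t1690_pf 306936 6 (2804 * 2 ^ 6) = true := by decide +kernel
theorem t1690_pchk_2805 : allR t1690_pf 306936 6 (2805 * 2 ^ 6) = true := by decide +kernel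
theorem t1690_pchk_2806 : allR t1690_pf 306936 6 (2806 * 2 ^ 6) = true := by decide +kernel
theorem t1690_pchk_2807 : allR t1690_pf 306936 6 (2807 * 2 ^ 6) = true := by decide +kernel
theorem t1690_pchk_2808 : allR t1690_pf 306936 6 (2808 * 2 ^ 6) = true := by decide +kernel
theorem t1690_pchk_2809 : allR t1690_pf 306936 6 (2809 * 2 ^ 6) = true := by decide +kernel
theorem t1690_pchk_2810 : allR t1690_pf 306936 6 (2810 * 2 ^ 6) = true := by decide +kernel
theorem t1690_pchk_2811 : allR t1690_pf 306936 6 (2811 * 2 ^ 6) = true := by decide +kernel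
theorem t1690_pchk_2812 : allR t1690_pf 306936 6 (2812 * 2 ^ 6) = true := by decide +kernel
theorem t1690_pchk_2813 : allR t1690_pf 306936 6 (2813 * 2 ^ 6) = true := by decide +kernel
theorem t1690_pchk_2814 : allR t1690_pf 306936 6 (2814 * 2 ^ 6) = true := by decide +kernel
theorem t1690_pchk_2815 : allR t1690_pf 306936 6 (2815 * 2 ^ 6) = true := by decide +kernel
theorem t1690_pchk_2816 : allR t1690_pf 306936 6 (2816 * 2 ^ 6) = true := by decide +kernel
theorem t1690_pchk_2817 : allR t1690_pf 306936 6 (2817 * 2 ^ 6) = true := by decide +kernel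
theorem t1690_pchk_2818 : allR t1690_pf 306936 6 (2818 * 2 ^ 6) = true := by decide +kernel
theorem t1690_pchk_2819 : allR t1690_pf 306936 6 (2819 * 2 ^ 6) = true := by decide +kernel
theorem t1690_pchk_2820 : allR t1690_pf 306936 6 (2820 * 2 ^ 6) = true := by decide +kernel
theorem t1690_pchk_2821 : allR t1690_pf 306936 6 (2821 * 2 ^ 6) = true := by decide +kernel
theorem t1690_pchk_2822 : allR t1690_pf 306936 6 (2822 * 2 ^ 6) = true := by decide +kernel
theorem t1690_pchk_2823 : allR t1690_pf 306936 6 (2823 * 2 ^ 6) = true := by decide +kernel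
theorem t1690_pchk_2824 : allR t1690_pf 306936 6 (2824 * 2 ^ 6) = true := by decide +kernel
theorem t1690_pchk_2825 : allR t1690_pf 306936 6 (2825 * 2 ^ 6) = true := by decide +kernel
theorem t1690_pchk_2826 : allR t1690_pf 306936 6 (2826 * 2 ^ 6) = true := by decide +kernel
theorem t1690_pchk_2827 : allR t1690_pf 306936 6 (2827 * 2 ^ 6) = true := by decide +kernel
theorem t1690_pchk_2828 : allR t1690_pf 306936 6 (2828 * 2 ^ 6) = true := by decide +kernel
theorem t1690_pchk_2829 : allR t1690_pf 306936 6 (2829 * 2 ^ 6) = true := by decide +kernel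
theorem t1690_pchk_2830 : allR t1690_pf 306936 6 (2830 * 2 ^ 6) = true := by decide +kernel
theorem t1690_pchk_2831 : allR t1690_pf 306936 6 (2831 * 2 ^ 6) = true := by decide +kernel
theorem t1690_pchk_2832 : allR t1690_pf 306936 6 (2832 * 2 ^ 6) = true := by decide +kernel
theorem t1690_pchk_2833 : allR t1690_pf 306936 6 (2833 * 2 ^ 6) = true := by decide +kernel
theorem t1690_pchk_2834 : allR t1690_pf 306936 6 (2834 * 2 ^ 6) = true := by decide +kernel
theorem t1690_pchk_2835 : allR t1690_pf 306936 6 (2835 * 2 ^ 6) = true := by decide +kernel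
theorem t1690_pchk_2836 : allR t1690_pf 306936 6 (2836 * 2 ^ 6) = true := by decide +kernel
theorem t1690_pchk_2837 : allR t1690_pf 306936 6 (2837 * 2 ^ 6) = true := by decide +kernel
theorem t1690_pchk_2838 : allR t1690_pf 306936 6 (2838 * 2 ^ 6) = true := by decide +kernel
theorem t1690_pchk_2839 : allR t1690_pf 306936 6 (2839 * 2 ^ 6) = true := by decide +kernel
theorem t1690_pchk_2840 : allR t1690_pf 306936 6 (2840 * 2 ^ 6) = true := by decide +kernel
theorem t1690_pchk_2841 : allR t1690_pf 306936 6 (2841 * 2 ^ 6) = true := by decide +kernel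
theorem t1690_pchk_2842 : allR t1690_pf 306936 6 (2842 * 2 ^ 6) = true := by decide +kernel
theorem t1690_pchk_2843 : allR t1690_pf 306936 6 (2843 * 2 ^ 6) = true := by decide +kernel
theorem t1690_pchk_2844 : allR t1690_pf 306936 6 (2844 * 2 ^ 6) = true := by decide +kernel
theorem t1690_pchk_2845 : allR t1690_pf 306936 6 (2845 * 2 ^ 6) = true := by decide +kernel
theorem t1690_pchk_2846 : allR t1690_pf 306936 6 (2846 * 2 ^ 6) = true := by decide +kernel
theorem t1690_pchk_2847 : allR t1690_pf 306936 6 (2847 * 2 ^ 6) = true := by decide +kernel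
theorem t1690_pchk_2848 : allR t1690_pf 306936 6 (2848 * 2 ^ 6) = true := by decide +kernel
theorem t1690_pchk_2849 : allR t1690_pf 306936 6 (2849 * 2 ^ 6) = true := by decide +kernel
theorem t1690_pchk_2850 : allR t1690_pf 306936 6 (2850 * 2 ^ 6) = true := by decide +kernel
theorem t1690_pchk_2851 : allR t1690_pf 306936 6 (2851 * 2 ^ 6) = true := by decide +kernel
theorem t1690_pchk_2852 : allR t1690_pf 306936 6 (2852 * 2 ^ 6) = true := by decide +kernel
theorem t1690_pchk_2853 : allR t1690_pf 306936 6 (2853 * 2 ^ 6) = true := by decide +kernel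
theorem t1690_pchk_2854 : allR t1690_pf 306936 6 (2854 * 2 ^ 6) = true := by decide +kernel
theorem t1690_pchk_2855 : allR t1690_pf 306936 6 (2855 * 2 ^ 6) = true := by decide +kernel
theorem t1690_pchk_2856 : allR t1690_pf 306936 6 (2856 * 2 ^ 6) = true := by decide +kernel
theorem t1690_pchk_2857 : allR t1690_pf 306936 6 (2857 * 2 ^ 6) = true := by decide +kernel
theorem t1690_pchk_2858 : allR t1690_pf 306936 6 (2858 * 2 ^ 6) = true := by decide +kernel
theorem t1690_pchk_2859 : allR t1690_pf 306936 6 (2859 * 2 ^ 6) = true := by decide +kernel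
theorem t1690_pchk_2860 : allR t1690_pf 306936 6 (2860 * 2 ^ 6) = true := by decide +kernel
theorem t1690_pchk_2861 : allR t1690_pf 306936 6 (2861 * 2 ^ 6) = true := by decide +kernel
theorem t1690_pchk_2862 : allR t1690_pf 306936 6 (2862 * 2 ^ 6) = true := by decide +kernel
theorem t1690_pchk_2863 : allR t1690_pf 306936 6 (2863 * 2 ^ 6) = true := by decide +kernel
theorem t1690_pchk_2864 : allR t1690_pf 306936 6 (2864 * 2 ^ 6) = true := by decide +kernel
theorem t1690_pchk_2865 : allR t1690_pf 306936 6 (2865 * 2 ^ 6) = true := by decide +kernel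
theorem t1690_pchk_2866 : allR t1690_pf 306936 6 (2866 * 2 ^ 6) = true := by decide +kernel
theorem t1690_pchk_2867 : allR t1690_pf 306936 6 (2867 * 2 ^ 6) = true := by decide +kernel
theorem t1690_pchk_2868 : allR t1690_pf 306936 6 (2868 * 2 ^ 6) = true := by decide +kernel
theorem t1690_pchk_2869 : allR t1690_pf 306936 6 (2869 * 2 ^ 6) = true := by decide +kernel
theorem t1690_pchk_2870 : allR t1690_pf 306936 6 (2870 * 2 ^ 6) = true := by decide +kernel
theorem t1690_pchk_2871 : allR t1690_pf 306936 6 (2871 * 2 ^ 6) = true := by decide +kernel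
theorem t1690_pchk_2872 : allR t1690_pf 306936 6 (2872 * 2 ^ 6) = true := by decide +kernel
theorem t1690_pchk_2873 : allR t1690_pf 306936 6 (2873 * 2 ^ 6) = true := by decide +kernel
theorem t1690_pchk_2874 : allR t1690_pf 306936 6 (2874 * 2 ^ 6) = true := by decide +kernel
theorem t1690_pchk_2875 : allR t1690_pf 306936 6 (2875 * 2 ^ 6) = true := by decide +kernel
theorem t1690_pchk_2876 : allR t1690_pf 306936 6 (2876 * 2 ^ 6) = true := by decide +kernel
theorem t1690_pchk_2877 : allR t1690_pf 306936 6 (2877 * 2 ^ 6) = true := by decide +kernel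
theorem t1690_pchk_2878 : allR t1690_pf 306936 6 (2878 * 2 ^ 6) = true := by decide +kernel
theorem t1690_pchk_2879 : allR t1690_pf 306936 6 (2879 * 2 ^ 6) = true := by decide +kernel

theorem t1690_pfile_23 : ∀ k, k < 2880 → 2760 ≤ k → allR t1690_pf 306936 6 (k * 2 ^ 6) = true := by
  intro k h1 h2
  interval_cases k
  · exact t1690_pchk_2760
  · exact t1690_pchk_2761
  · exact t1690_pchk_2762
  · exact t1690_pchk_2763
  · exact t1690_pchk_2764
  · exact t1690_pchk_2765
  · exact t1690_pchk_2766
  · exact t1690_pchk_2767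
  · exact t1690_pchk_2768
  · exact t1690_pchk_2769
  · exact t1690_pchk_2770
  · exact t1690_pchk_2771
  · exact t1690_pchk_2772
  · exact t1690_pchk_2773
  · exact t1690_pchk_2774
  · exact t1690_pchk_2775
  · exact t1690_pchk_2776
  · exact t1690_pchk_2777
  · exact t1690_pchk_2778
  · exact t1690_pchk_2779
  · exact t1690_pchk_2780
  · exact t1690_pchk_2781
  · exact t1690_pchk_2782
  · exact t1690_pchk_2783
  · exact t1690_pchk_2784
  · exact t1690_pchk_2785
  · exact t1690_pchk_2786
  · exact t1690_pchk_2787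
  · exact t1690_pchk_2788
  · exact t1690_pchk_2789
  · exact t1690_pchk_2790
  · exact t1690_pchk_2791
  · exact t1690_pchk_2792
  · exact t1690_pchk_2793
  · exact t1690_pchk_2794
  · exact t1690_pchk_2795
  · exact t1690_pchk_2796
  · exact t1690_pchk_2797
  · exact t1690_pchk_2798
  · exact t1690_pchk_2799
  · exact t1690_pchk_2800
  · exact t1690_pchk_2801
  · exact t1690_pchk_2802
  · exact t1690_pchk_2803
  · exact t1690_pchk_2804
  · exact t1690_pchk_2805
  · exact t1690_pchk_2806
  · exact t1690_pchk_2807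
  · exact t1690_pchk_2808
  · exact t1690_pchk_2809
  · exact t1690_pchk_2810
  · exact t1690_pchk_2811
  · exact t1690_pchk_2812
  · exact t1690_pchk_2813
  · exact t1690_pchk_2814
  · exact t1690_pchk_2815
  · exact t1690_pchk_2816
  · exact t1690_pchk_2817
  · exact t1690_pchk_2818
  · exact t1690_pchk_2819
  · exact t1690_pchk_2820
  · exact t1690_pchk_2821
  · exact t1690_pchk_2822
  · exact t1690_pchk_2823
  · exact t1690_pchk_2824
  · exact t1690_pchk_2825
  · exact t1690_pchk_2826
  · exact t1690_pchk_2827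
  · exact t1690_pchk_2828
  · exact t1690_pchk_2829
  · exact t1690_pchk_2830
  · exact t1690_pchk_2831
  · exact t1690_pchk_2832
  · exact t1690_pchk_2833
  · exact t1690_pchk_2834
  · exact t1690_pchk_2835
  · exact t1690_pchk_2836
  · exact t1690_pchk_2837
  · exact t1690_pchk_2838
  · exact t1690_pchk_2839
  · exact t1690_pchk_2840
  · exact t1690_pchk_2841
  · exact t1690_pchk_2842
  · exact t1690_pchk_2843
  · exact t1690_pchk_2844
  · exact t1690_pchk_2845
  · exact t1690_pchk_2846
  · exact t1690_pchk_2847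
  · exact t1690_pchk_2848
  · exact t1690_pchk_2849
  · exact t1690_pchk_2850
  · exact t1690_pchk_2851
  · exact t1690_pchk_2852
  · exact t1690_pchk_2853
  · exact t1690_pchk_2854
  · exact t1690_pchk_2855
  · exact t1690_pchk_2856
  · exact t1690_pchk_2857
  · exact t1690_pchk_2858
  · exact t1690_pchk_2859
  · exact t1690_pchk_2860
  · exact t1690_pchk_2861
  · exact t1690_pchk_2862
  · exact t1690_pchk_2863
  · exact t1690_pchk_2864
  · exact t1690_pchk_2865
  · exact t1690_pchk_2866
  · exact t1690_pchk_2867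
  · exact t1690_pchk_2868
  · exact t1690_pchk_2869
  · exact t1690_pchk_2870
  · exact t1690_pchk_2871
  · exact t1690_pchk_2872
  · exact t1690_pchk_2873
  · exact t1690_pchk_2874
  · exact t1690_pchk_2875
  · exact t1690_pchk_2876
  · exact t1690_pchk_2877
  · exact t1690_pchk_2878
  · exact t1690_pchk_2879

end Cfsg.Agent.H35
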