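import Cfsg.Agent.H35.T1690.PTab

set_option autoImplicit false
set_option linter.all false
set_option Elab.async false

namespace Cfsg.Agent.H35

theorem t1690_pchk_2880 : allR t1690_pf 306936 6 (2880 * 2 ^ 6) = true := by decide +kernel
theorem t1690_pchk_2881 : allR t1690_pf 306936 6 (2881 * 2 ^ 6) = true := by decide +kernel
theorem t1690_pchk_2882 : allR t1690_pf 306936 6 (2882 * 2 ^ 6) = true := by decide +kernel
theorem t1690_pchk_2883 : allR t1690_pf 306936 6 (2883 * 2 ^ 6) = true := by decide +kernel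
theorem t1690_pchk_2884 : allR t1690_pf 306936 6 (2884 * 2 ^ 6) = true := by decide +kernel
theorem t1690_pchk_2885 : allR t1690_pf 306936 6 (2885 * 2 ^ 6) = true := by decide +kernel
theorem t1690_pchk_2886 : allR t1690_pf 306936 6 (2886 * 2 ^ 6) = true := by decide +kernel
theorem t1690_pchk_2887 : allR t1690_pf 306936 6 (2887 * 2 ^ 6) = true := by decide +kernel
theorem t1690_pchk_2888 : allR t1690_pf 306936 6 (2888 * 2 ^ 6) = true := by decide +kernel
theorem t1690_pchk_2889 : allR t1690_pf 306936 6 (2889 * 2 ^ 6) = true := by decide +kernel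
theorem t1690_pchk_2890 : allR t1690_pf 306936 6 (2890 * 2 ^ 6) = true := by decide +kernel
theorem t1690_pchk_2891 : allR t1690_pf 306936 6 (2891 * 2 ^ 6) = true := by decide +kernel
theorem t1690_pchk_2892 : allR t1690_pf 306936 6 (2892 * 2 ^ 6) = true := by decide +kernel
theorem t1690_pchk_2893 : allR t1690_pf 306936 6 (2893 * 2 ^ 6) = true := by decide +kernel
theorem t1690_pchk_2894 : allR t1690_pf 306936 6 (2894 * 2 ^ 6) = true := by decide +kernel
theorem t1690_pchk_2895 : allR t1690_pf 306936 6 (2895 * 2 ^ 6) = true := by decide +kernel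
theorem t1690_pchk_2896 : allR t1690_pf 306936 6 (2896 * 2 ^ 6) = true := by decide +kernel
theorem t1690_pchk_2897 : allR t1690_pf 306936 6 (2897 * 2 ^ 6) = true := by decide +kernel
theorem t1690_pchk_2898 : allR t1690_pf 306936 6 (2898 * 2 ^ 6) = true := by decide +kernel
theorem t1690_pchk_2899 : allR t1690_pf 306936 6 (2899 * 2 ^ 6) = true := by decide +kernel
theorem t1690_pchk_2900 : allR t1690_pf 306936 6 (2900 * 2 ^ 6) = true := by decide +kernel
theorem t1690_pchk_2901 : allR t1690_pf 306936 6 (2901 * 2 ^ 6) = true := by decide +kernel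
theorem t1690_pchk_2902 : allR t1690_pf 306936 6 (2902 * 2 ^ 6) = true := by decide +kernel
theorem t1690_pchk_2903 : allR t1690_pf 306936 6 (2903 * 2 ^ 6) = true := by decide +kernel
theorem t1690_pchk_2904 : allR t1690_pf 306936 6 (2904 * 2 ^ 6) = true := by decide +kernel
theorem t1690_pchk_2905 : allR t1690_pf 306936 6 (2905 * 2 ^ 6) = true := by decide +kernel
theorem t1690_pchk_2906 : allR t1690_pf 306936 6 (2906 * 2 ^ 6) = true := by decide +kernel
theorem t1690_pchk_2907 : allR t1690_pf 306936 6 (2907 * 2 ^ 6) = true := by decide +kernel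
theorem t1690_pchk_2908 : allR t1690_pf 306936 6 (2908 * 2 ^ 6) = true := by decide +kernel
theorem t1690_pchk_2909 : allR t1690_pf 306936 6 (2909 * 2 ^ 6) = true := by decide +kernel
theorem t1690_pchk_2910 : allR t1690_pf 306936 6 (2910 * 2 ^ 6) = true := by decide +kernel
theorem t1690_pchk_2911 : allR t1690_pf 306936 6 (2911 * 2 ^ 6) = true := by decide +kernel
theorem t1690_pchk_2912 : allR t1690_pf 306936 6 (2912 * 2 ^ 6) = true := by decide +kernel
theorem t1690_pchk_2913 : allR t1690_pf 306936 6 (2913 * 2 ^ 6) = true := by decide +kernel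
theorem t1690_pchk_2914 : allR t1690_pf 306936 6 (2914 * 2 ^ 6) = true := by decide +kernel
theorem t1690_pchk_2915 : allR t1690_pf 306936 6 (2915 * 2 ^ 6) = true := by decide +kernel
theorem t1690_pchk_2916 : allR t1690_pf 306936 6 (2916 * 2 ^ 6) = true := by decide +kernel
theorem t1690_pchk_2917 : allR t1690_pf 306936 6 (2917 * 2 ^ 6) = true := by decide +kernel
theorem t1690_pchk_2918 : allR t1690_pf 306936 6 (2918 * 2 ^ 6) = true := by decide +kernel
theorem t1690_pchk_2919 : allR t1690_pf 306936 6 (2919 * 2 ^ 6) = true := by decide +kernel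
theorem t1690_pchk_2920 : allR t1690_pf 306936 6 (2920 * 2 ^ 6) = true := by decide +kernel
theorem t1690_pchk_2921 : allR t1690_pf 306936 6 (2921 * 2 ^ 6) = true := by decide +kernel
theorem t1690_pchk_2922 : allR t1690_pf 306936 6 (2922 * 2 ^ 6) = true := by decide +kernel
theorem t1690_pchk_2923 : allR t1690_pf 306936 6 (2923 * 2 ^ 6) = true := by decide +kernel
theorem t1690_pchk_2924 : allR t1690_pf 306936 6 (2924 * 2 ^ 6) = true := by decide +kernel
theorem t1690_pchk_2925 : allR t1690_pf 306936 6 (2925 * 2 ^ 6) = true := by decide +kernel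
theorem t1690_pchk_2926 : allR t1690_pf 306936 6 (2926 * 2 ^ 6) = true := by decide +kernel
theorem t1690_pchk_2927 : allR t1690_pf 306936 6 (2927 * 2 ^ 6) = true := by decide +kernel
theorem t1690_pchk_2928 : allR t1690_pf 306936 6 (2928 * 2 ^ 6) = true := by decide +kernel
theorem t1690_pchk_2929 : allR t1690_pf 306936 6 (2929 * 2 ^ 6) = true := by decide +kernel
theorem t1690_pchk_2930 : allR t1690_pf 306936 6 (2930 * 2 ^ 6) = true := by decide +kernel
theorem t1690_pchk_2931 : allR t1690_pf 306936 6 (2931 * 2 ^ 6) = true := by decide +kernel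
theorem t1690_pchk_2932 : allR t1690_pf 306936 6 (2932 * 2 ^ 6) = true := by decide +kernel
theorem t1690_pchk_2933 : allR t1690_pf 306936 6 (2933 * 2 ^ 6) = true := by decide +kernel
theorem t1690_pchk_2934 : allR t1690_pf 306936 6 (2934 * 2 ^ 6) = true := by decide +kernel
theorem t1690_pchk_2935 : allR t1690_pf 306936 6 (2935 * 2 ^ 6) = true := by decide +kernel
theorem t1690_pchk_2936 : allR t1690_pf 306936 6 (2936 * 2 ^ 6) = true := by decide +kernel
theorem t1690_pchk_2937 : allR t1690_pf 306936 6 (2937 * 2 ^ 6) = true := by decide +kernel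
theorem t1690_pchk_2938 : allR t1690_pf 306936 6 (2938 * 2 ^ 6) = true := by decide +kernel
theorem t1690_pchk_2939 : allR t1690_pf 306936 6 (2939 * 2 ^ 6) = true := by decide +kernel
theorem t1690_pchk_2940 : allR t1690_pf 306936 6 (2940 * 2 ^ 6) = true := by decide +kernel
theorem t1690_pchk_2941 : allR t1690_pf 306936 6 (2941 * 2 ^ 6) = true := by decide +kernel
theorem t1690_pchk_2942 : allR t1690_pf 306936 6 (2942 * 2 ^ 6) = true := by decide +kernel
theorem t1690_pchk_2943 : allR t1690_pf 306936 6 (2943 * 2 ^ 6) = true := by decide +kernel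
theorem t1690_pchk_2944 : allR t1690_pf 306936 6 (2944 * 2 ^ 6) = true := by decide +kernel
theorem t1690_pchk_2945 : allR t1690_pf 306936 6 (2945 * 2 ^ 6) = true := by decide +kernel
theorem t1690_pchk_2946 : allR t1690_pf 306936 6 (2946 * 2 ^ 6) = true := by decide +kernel
theorem t1690_pchk_2947 : allR t1690_pf 306936 6 (2947 * 2 ^ 6) = true := by decide +kernel
theorem t1690_pchk_2948 : allR t1690_pf 306936 6 (2948 * 2 ^ 6) = true := by decide +kernel
theorem t1690_pchk_2949 : allR t1690_pf 306936 6 (2949 * 2 ^ 6) = true := by decide +kernel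
theorem t1690_pchk_2950 : allR t1690_pf 306936 6 (2950 * 2 ^ 6) = true := by decide +kernel
theorem t1690_pchk_2951 : allR t1690_pf 306936 6 (2951 * 2 ^ 6) = true := by decide +kernel
theorem t1690_pchk_2952 : allR t1690_pf 306936 6 (2952 * 2 ^ 6) = true := by decide +kernel
theorem t1690_pchk_2953 : allR t1690_pf 306936 6 (2953 * 2 ^ 6) = true := by decide +kernel
theorem t1690_pchk_2954 : allR t1690_pf 306936 6 (2954 * 2 ^ 6) = true := by decide +kernel
theorem t1690_pchk_2955 : allR t1690_pf 306936 6 (2955 * 2 ^ 6) = true := by decide +kernel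
theorem t1690_pchk_2956 : allR t1690_pf 306936 6 (2956 * 2 ^ 6) = true := by decide +kernel
theorem t1690_pchk_2957 : allR t1690_pf 306936 6 (2957 * 2 ^ 6) = true := by decide +kernel
theorem t1690_pchk_2958 : allR t1690_pf 306936 6 (2958 * 2 ^ 6) = true := by decide +kernel
theorem t1690_pchk_2959 : allR t1690_pf 306936 6 (2959 * 2 ^ 6) = true := by decide +kernel
theorem t1690_pchk_2960 : allR t1690_pf 306936 6 (2960 * 2 ^ 6) = true := by decide +kernel
theorem t1690_pchk_2961 : allR t1690_pf 306936 6 (2961 * 2 ^ 6) = true := by decide +kernel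
theorem t1690_pchk_2962 : allR t1690_pf 306936 6 (2962 * 2 ^ 6) = true := by decide +kernel
theorem t1690_pchk_2963 : allR t1690_pf 306936 6 (2963 * 2 ^ 6) = true := by decide +kernel
theorem t1690_pchk_2964 : allR t1690_pf 306936 6 (2964 * 2 ^ 6) = true := by decide +kernel
theorem t1690_pchk_2965 : allR t1690_pf 306936 6 (2965 * 2 ^ 6) = true := by decide +kernel
theorem t1690_pchk_2966 : allR t1690_pf 306936 6 (2966 * 2 ^ 6) = true := by decide +kernel
theorem t1690_pchk_2967 : allR t1690_pf 306936 6 (2967 * 2 ^ 6) = true := by decide +kernel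
theorem t1690_pchk_2968 : allR t1690_pf 306936 6 (2968 * 2 ^ 6) = true := by decide +kernel
theorem t1690_pchk_2969 : allR t1690_pf 306936 6 (2969 * 2 ^ 6) = true := by decide +kernel
theorem t1690_pchk_2970 : allR t1690_pf 306936 6 (2970 * 2 ^ 6) = true := by decide +kernel
theorem t1690_pchk_2971 : allR t1690_pf 306936 6 (2971 * 2 ^ 6) = true := by decide +kernel
theorem t1690_pchk_2972 : allR t1690_pf 306936 6 (2972 * 2 ^ 6) = true := by decide +kernel
theorem t1690_pchk_2973 : allR t1690_pf 306936 6 (2973 * 2 ^ 6) = true := by decide +kernel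
theorem t1690_pchk_2974 : allR t1690_pf 306936 6 (2974 * 2 ^ 6) = true := by decide +kernel
theorem t1690_pchk_2975 : allR t1690_pf 306936 6 (2975 * 2 ^ 6) = true := by decide +kernel
theorem t1690_pchk_2976 : allR t1690_pf 306936 6 (2976 * 2 ^ 6) = true := by decide +kernel
theorem t1690_pchk_2977 : allR t1690_pf 306936 6 (2977 * 2 ^ 6) = true := by decide +kernel
theorem t1690_pchk_2978 : allR t1690_pf 306936 6 (2978 * 2 ^ 6) = true := by decide +kernel
theorem t1690_pchk_2979 : allR t1690_pf 306936 6 (2979 * 2 ^ 6) = true := by decide +kernel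
theorem t1690_pchk_2980 : allR t1690_pf 306936 6 (2980 * 2 ^ 6) = true := by decide +kernel
theorem t1690_pchk_2981 : allR t1690_pf 306936 6 (2981 * 2 ^ 6) = true := by decide +kernel
theorem t1690_pchk_2982 : allR t1690_pf 306936 6 (2982 * 2 ^ 6) = true := by decide +kernel
theorem t1690_pchk_2983 : allR t1690_pf 306936 6 (2983 * 2 ^ 6) = true := by decide +kernel
theorem t1690_pchk_2984 : allR t1690_pf 306936 6 (2984 * 2 ^ 6) = true := by decide +kernel
theorem t1690_pchk_2985 : allR t1690_pf 306936 6 (2985 * 2 ^ 6) = true := by decide +kernel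
theorem t1690_pchk_2986 : allR t1690_pf 306936 6 (2986 * 2 ^ 6) = true := by decide +kernel
theorem t1690_pchk_2987 : allR t1690_pf 306936 6 (2987 * 2 ^ 6) = true := by decide +kernel
theorem t1690_pchk_2988 : allR t1690_pf 306936 6 (2988 * 2 ^ 6) = true := by decide +kernel
theorem t1690_pchk_2989 : allR t1690_pf 306936 6 (2989 * 2 ^ 6) = true := by decide +kernel
theorem t1690_pchk_2990 : allR t1690_pf 306936 6 (2990 * 2 ^ 6) = true := by decide +kernel
theorem t1690_pchk_2991 : allR t1690_pf 306936 6 (2991 * 2 ^ 6) = true := by decide +kernel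
theorem t1690_pchk_2992 : allR t1690_pf 306936 6 (2992 * 2 ^ 6) = true := by decide +kernel
theorem t1690_pchk_2993 : allR t1690_pf 306936 6 (2993 * 2 ^ 6) = true := by decide +kernel
theorem t1690_pchk_2994 : allR t1690_pf 306936 6 (2994 * 2 ^ 6) = true := by decide +kernel
theorem t1690_pchk_2995 : allR t1690_pf 306936 6 (2995 * 2 ^ 6) = true := by decide +kernel
theorem t1690_pchk_2996 : allR t1690_pf 306936 6 (2996 * 2 ^ 6) = true := by decide +kernel
theorem t1690_pchk_2997 : allR t1690_pf 306936 6 (2997 * 2 ^ 6) = true := by decide +kernel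
theorem t1690_pchk_2998 : allR t1690_pf 306936 6 (2998 * 2 ^ 6) = true := by decide +kernel
theorem t1690_pchk_2999 : allR t1690_pf 306936 6 (2999 * 2 ^ 6) = true := by decide +kernel

theorem t1690_pfile_24 : ∀ k, k < 3000 → 2880 ≤ k → allR t1690_pf 306936 6 (k * 2 ^ 6) = true := by
  intro k h1 h2
  interval_cases k
  · exact t1690_pchk_2880
  · exact t1690_pchk_2881
  · exact t1690_pchk_2882
  · exact t1690_pchk_2883
  · exact t1690_pchk_2884
  · exact t1690_pchk_2885
  · exact t1690_pchk_2886
  · exact t1690_pchk_2887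
  · exact t1690_pchk_2888
  · exact t1690_pchk_2889
  · exact t1690_pchk_2890
  · exact t1690_pchk_2891
  · exact t1690_pchk_2892
  · exact t1690_pchk_2893
  · exact t1690_pchk_2894
  · exact t1690_pchk_2895
  · exact t1690_pchk_2896
  · exact t1690_pchk_2897
  · exact t1690_pchk_2898
  · exact t1690_pchk_2899
  · exact t1690_pchk_2900
  · exact t1690_pchk_2901
  · exact t1690_pchk_2902
  · exact t1690_pchk_2903
  · exact t1690_pchk_2904
  · exact t1690_pchk_2905
  · exact t1690_pchk_2906
  · exact t1690_pchk_2907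
  · exact t1690_pchk_2908
  · exact t1690_pchk_2909
  · exact t1690_pchk_2910
  · exact t1690_pchk_2911
  · exact t1690_pchk_2912
  · exact t1690_pchk_2913
  · exact t1690_pchk_2914
  · exact t1690_pchk_2915
  · exact t1690_pchk_2916
  · exact t1690_pchk_2917
  · exact t1690_pchk_2918
  · exact t1690_pchk_2919
  · exact t1690_pchk_2920
  · exact t1690_pchk_2921
  · exact t1690_pchk_2922
  · exact t1690_pchk_2923
  · exact t1690_pchk_2924
  · exact t1690_pchk_2925
  · exact t1690_pchk_2926
  · exact t1690_pchk_2927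
  · exact t1690_pchk_2928
  · exact t1690_pchk_2929
  · exact t1690_pchk_2930
  · exact t1690_pchk_2931
  · exact t1690_pchk_2932
  · exact t1690_pchk_2933
  · exact t1690_pchk_2934
  · exact t1690_pchk_2935
  · exact t1690_pchk_2936
  · exact t1690_pchk_2937
  · exact t1690_pchk_2938
  · exact t1690_pchk_2939
  · exact t1690_pchk_2940
  · exact t1690_pchk_2941
  · exact t1690_pchk_2942
  · exact t1690_pchk_2943
  · exact t1690_pchk_2944
  · exact t1690_pchk_2945
  · exact t1690_pchk_2946
  · exact t1690_pchk_2947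
  · exact t1690_pchk_2948
  · exact t1690_pchk_2949
  · exact t1690_pchk_2950
  · exact t1690_pchk_2951
  · exact t1690_pchk_2952
  · exact t1690_pchk_2953
  · exact t1690_pchk_2954
  · exact t1690_pchk_2955
  · exact t1690_pchk_2956
  · exact t1690_pchk_2957
  · exact t1690_pchk_2958
  · exact t1690_pchk_2959
  · exact t1690_pchk_2960
  · exact t1690_pchk_2961
  · exact t1690_pchk_2962
  · exact t1690_pchk_2963
  · exact t1690_pchk_2964
  · exact t1690_pchk_2965
  · exact t1690_pchk_2966
  · exact t1690_pchk_2967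
  · exact t1690_pchk_2968
  · exact t1690_pchk_2969
  · exact t1690_pchk_2970
  · exact t1690_pchk_2971
  · exact t1690_pchk_2972
  · exact t1690_pchk_2973
  · exact t1690_pchk_2974
  · exact t1690_pchk_2975
  · exact t1690_pchk_2976
  · exact t1690_pchk_2977
  · exact t1690_pchk_2978
  · exact t1690_pchk_2979
  · exact t1690_pchk_2980
  · exact t1690_pchk_2981
  · exact t1690_pchk_2982
  · exact t1690_pchk_2983
  · exact t1690_pchk_2984
  · exact t1690_pchk_2985
  · exact t1690_pchk_2986
  · exact t1690_pchk_2987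
  · exact t1690_pchk_2988
  · exact t1690_pchk_2989
  · exact t1690_pchk_2990
  · exact t1690_pchk_2991
  · exact t1690_pchk_2992
  · exact t1690_pchk_2993
  · exact t1690_pchk_2994
  · exact t1690_pchk_2995
  · exact t1690_pchk_2996
  · exact t1690_pchk_2997
  · exact t1690_pchk_2998
  · exact t1690_pchk_2999

end Cfsg.Agent.H35
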