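import Cfsg.Agent.H35.T1690.PTab

set_option autoImplicit false
set_option linter.all false
set_option Elab.async false

namespace Cfsg.Agent.H35

theorem t1690_pchk_3000 : allR t1690_pf 306936 6 (3000 * 2 ^ 6) = true := by decide +kernel
theorem t1690_pchk_3001 : allR t1690_pf 306936 6 (3001 * 2 ^ 6) = true := by decide +kernel
theorem t1690_pchk_3002 : allR t1690_pf 306936 6 (3002 * 2 ^ 6) = true := by decide +kernel
theorem t1690_pchk_3003 : allR t1690_pf 306936 6 (3003 * 2 ^ 6) = true := by decide +kernel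
theorem t1690_pchk_3004 : allR t1690_pf 306936 6 (3004 * 2 ^ 6) = true := by decide +kernel
theorem t1690_pchk_3005 : allR t1690_pf 306936 6 (3005 * 2 ^ 6) = true := by decide +kernel
theorem t1690_pchk_3006 : allR t1690_pf 306936 6 (3006 * 2 ^ 6) = true := by decide +kernel
theorem t1690_pchk_3007 : allR t1690_pf 306936 6 (3007 * 2 ^ 6) = true := by decide +kernel
theorem t1690_pchk_3008 : allR t1690_pf 306936 6 (3008 * 2 ^ 6) = true := by decide +kernel
theorem t1690_pchk_3009 : allR t1690_pf 306936 6 (3009 * 2 ^ 6) = true := by decide +kernel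
theorem t1690_pchk_3010 : allR t1690_pf 306936 6 (3010 * 2 ^ 6) = true := by decide +kernel
theorem t1690_pchk_3011 : allR t1690_pf 306936 6 (3011 * 2 ^ 6) = true := by decide +kernel
theorem t1690_pchk_3012 : allR t1690_pf 306936 6 (3012 * 2 ^ 6) = true := by decide +kernel
theorem t1690_pchk_3013 : allR t1690_pf 306936 6 (3013 * 2 ^ 6) = true := by decide +kernel
theorem t1690_pchk_3014 : allR t1690_pf 306936 6 (3014 * 2 ^ 6) = true := by decide +kernel
theorem t1690_pchk_3015 : allR t1690_pf 306936 6 (3015 * 2 ^ 6) = true := by decide +kernel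
theorem t1690_pchk_3016 : allR t1690_pf 306936 6 (3016 * 2 ^ 6) = true := by decide +kernel
theorem t1690_pchk_3017 : allR t1690_pf 306936 6 (3017 * 2 ^ 6) = true := by decide +kernel
theorem t1690_pchk_3018 : allR t1690_pf 306936 6 (3018 * 2 ^ 6) = true := by decide +kernel
theorem t1690_pchk_3019 : allR t1690_pf 306936 6 (3019 * 2 ^ 6) = true := by decide +kernel
theorem t1690_pchk_3020 : allR t1690_pf 306936 6 (3020 * 2 ^ 6) = true := by decide +kernel
theorem t1690_pchk_3021 : allR t1690_pf 306936 6 (3021 * 2 ^ 6) = true := by decide +kernel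
theorem t1690_pchk_3022 : allR t1690_pf 306936 6 (3022 * 2 ^ 6) = true := by decide +kernel
theorem t1690_pchk_3023 : allR t1690_pf 306936 6 (3023 * 2 ^ 6) = true := by decide +kernel
theorem t1690_pchk_3024 : allR t1690_pf 306936 6 (3024 * 2 ^ 6) = true := by decide +kernel
theorem t1690_pchk_3025 : allR t1690_pf 306936 6 (3025 * 2 ^ 6) = true := by decide +kernel
theorem t1690_pchk_3026 : allR t1690_pf 306936 6 (3026 * 2 ^ 6) = true := by decide +kernel
theorem t1690_pchk_3027 : allR t1690_pf 306936 6 (3027 * 2 ^ 6) = true := by decide +kernel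
theorem t1690_pchk_3028 : allR t1690_pf 306936 6 (3028 * 2 ^ 6) = true := by decide +kernel
theorem t1690_pchk_3029 : allR t1690_pf 306936 6 (3029 * 2 ^ 6) = true := by decide +kernel
theorem t1690_pchk_3030 : allR t1690_pf 306936 6 (3030 * 2 ^ 6) = true := by decide +kernel
theorem t1690_pchk_3031 : allR t1690_pf 306936 6 (3031 * 2 ^ 6) = true := by decide +kernel
theorem t1690_pchk_3032 : allR t1690_pf 306936 6 (3032 * 2 ^ 6) = true := by decide +kernel
theorem t1690_pchk_3033 : allR t1690_pf 306936 6 (3033 * 2 ^ 6) = true := by decide +kernel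
theorem t1690_pchk_3034 : allR t1690_pf 306936 6 (3034 * 2 ^ 6) = true := by decide +kernel
theorem t1690_pchk_3035 : allR t1690_pf 306936 6 (3035 * 2 ^ 6) = true := by decide +kernel
theorem t1690_pchk_3036 : allR t1690_pf 306936 6 (3036 * 2 ^ 6) = true := by decide +kernel
theorem t1690_pchk_3037 : allR t1690_pf 306936 6 (3037 * 2 ^ 6) = true := by decide +kernel
theorem t1690_pchk_3038 : allR t1690_pf 306936 6 (3038 * 2 ^ 6) = true := by decide +kernel
theorem t1690_pchk_3039 : allR t1690_pf 306936 6 (3039 * 2 ^ 6) = true := by decide +kernel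
theorem t1690_pchk_3040 : allR t1690_pf 306936 6 (3040 * 2 ^ 6) = true := by decide +kernel
theorem t1690_pchk_3041 : allR t1690_pf 306936 6 (3041 * 2 ^ 6) = true := by decide +kernel
theorem t1690_pchk_3042 : allR t1690_pf 306936 6 (3042 * 2 ^ 6) = true := by decide +kernel
theorem t1690_pchk_3043 : allR t1690_pf 306936 6 (3043 * 2 ^ 6) = true := by decide +kernel
theorem t1690_pchk_3044 : allR t1690_pf 306936 6 (3044 * 2 ^ 6) = true := by decide +kernel
theorem t1690_pchk_3045 : allR t1690_pf 306936 6 (3045 * 2 ^ 6) = true := by decide +kernel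
theorem t1690_pchk_3046 : allR t1690_pf 306936 6 (3046 * 2 ^ 6) = true := by decide +kernel
theorem t1690_pchk_3047 : allR t1690_pf 306936 6 (3047 * 2 ^ 6) = true := by decide +kernel
theorem t1690_pchk_3048 : allR t1690_pf 306936 6 (3048 * 2 ^ 6) = true := by decide +kernel
theorem t1690_pchk_3049 : allR t1690_pf 306936 6 (3049 * 2 ^ 6) = true := by decide +kernel
theorem t1690_pchk_3050 : allR t1690_pf 306936 6 (3050 * 2 ^ 6) = true := by decide +kernel
theorem t1690_pchk_3051 : allR t1690_pf 306936 6 (3051 * 2 ^ 6) = true := by decide +kernel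
theorem t1690_pchk_3052 : allR t1690_pf 306936 6 (3052 * 2 ^ 6) = true := by decide +kernel
theorem t1690_pchk_3053 : allR t1690_pf 306936 6 (3053 * 2 ^ 6) = true := by decide +kernel
theorem t1690_pchk_3054 : allR t1690_pf 306936 6 (3054 * 2 ^ 6) = true := by decide +kernel
theorem t1690_pchk_3055 : allR t1690_pf 306936 6 (3055 * 2 ^ 6) = true := by decide +kernel
theorem t1690_pchk_3056 : allR t1690_pf 306936 6 (3056 * 2 ^ 6) = true := by decide +kernel
theorem t1690_pchk_3057 : allR t1690_pf 306936 6 (3057 * 2 ^ 6) = true := by decide +kernel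
theorem t1690_pchk_3058 : allR t1690_pf 306936 6 (3058 * 2 ^ 6) = true := by decide +kernel
theorem t1690_pchk_3059 : allR t1690_pf 306936 6 (3059 * 2 ^ 6) = true := by decide +kernel
theorem t1690_pchk_3060 : allR t1690_pf 306936 6 (3060 * 2 ^ 6) = true := by decide +kernel
theorem t1690_pchk_3061 : allR t1690_pf 306936 6 (3061 * 2 ^ 6) = true := by decide +kernel
theorem t1690_pchk_3062 : allR t1690_pf 306936 6 (3062 * 2 ^ 6) = true := by decide +kernel
theorem t1690_pchk_3063 : allR t1690_pf 306936 6 (3063 * 2 ^ 6) = true := by decide +kernel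
theorem t1690_pchk_3064 : allR t1690_pf 306936 6 (3064 * 2 ^ 6) = true := by decide +kernel
theorem t1690_pchk_3065 : allR t1690_pf 306936 6 (3065 * 2 ^ 6) = true := by decide +kernel
theorem t1690_pchk_3066 : allR t1690_pf 306936 6 (3066 * 2 ^ 6) = true := by decide +kernel
theorem t1690_pchk_3067 : allR t1690_pf 306936 6 (3067 * 2 ^ 6) = true := by decide +kernel
theorem t1690_pchk_3068 : allR t1690_pf 306936 6 (3068 * 2 ^ 6) = true := by decide +kernel
theorem t1690_pchk_3069 : allR t1690_pf 306936 6 (3069 * 2 ^ 6) = true := by decide +kernel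
theorem t1690_pchk_3070 : allR t1690_pf 306936 6 (3070 * 2 ^ 6) = true := by decide +kernel
theorem t1690_pchk_3071 : allR t1690_pf 306936 6 (3071 * 2 ^ 6) = true := by decide +kernel
theorem t1690_pchk_3072 : allR t1690_pf 306936 6 (3072 * 2 ^ 6) = true := by decide +kernel
theorem t1690_pchk_3073 : allR t1690_pf 306936 6 (3073 * 2 ^ 6) = true := by decide +kernel
theorem t1690_pchk_3074 : allR t1690_pf 306936 6 (3074 * 2 ^ 6) = true := by decide +kernel
theorem t1690_pchk_3075 : allR t1690_pf 306936 6 (3075 * 2 ^ 6) = true := by decide +kernel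
theorem t1690_pchk_3076 : allR t1690_pf 306936 6 (3076 * 2 ^ 6) = true := by decide +kernel
theorem t1690_pchk_3077 : allR t1690_pf 306936 6 (3077 * 2 ^ 6) = true := by decide +kernel
theorem t1690_pchk_3078 : allR t1690_pf 306936 6 (3078 * 2 ^ 6) = true := by decide +kernel
theorem t1690_pchk_3079 : allR t1690_pf 306936 6 (3079 * 2 ^ 6) = true := by decide +kernel
theorem t1690_pchk_3080 : allR t1690_pf 306936 6 (3080 * 2 ^ 6) = true := by decide +kernel
theorem t1690_pchk_3081 : allR t1690_pf 306936 6 (3081 * 2 ^ 6) = true := by decide +kernel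
theorem t1690_pchk_3082 : allR t1690_pf 306936 6 (3082 * 2 ^ 6) = true := by decide +kernel
theorem t1690_pchk_3083 : allR t1690_pf 306936 6 (3083 * 2 ^ 6) = true := by decide +kernel
theorem t1690_pchk_3084 : allR t1690_pf 306936 6 (3084 * 2 ^ 6) = true := by decide +kernel
theorem t1690_pchk_3085 : allR t1690_pf 306936 6 (3085 * 2 ^ 6) = true := by decide +kernel
theorem t1690_pchk_3086 : allR t1690_pf 306936 6 (3086 * 2 ^ 6) = true := by decide +kernel
theorem t1690_pchk_3087 : allR t1690_pf 306936 6 (3087 * 2 ^ 6) = true := by decide +kernel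
theorem t1690_pchk_3088 : allR t1690_pf 306936 6 (3088 * 2 ^ 6) = true := by decide +kernel
theorem t1690_pchk_3089 : allR t1690_pf 306936 6 (3089 * 2 ^ 6) = true := by decide +kernel
theorem t1690_pchk_3090 : allR t1690_pf 306936 6 (3090 * 2 ^ 6) = true := by decide +kernel
theorem t1690_pchk_3091 : allR t1690_pf 306936 6 (3091 * 2 ^ 6) = true := by decide +kernel
theorem t1690_pchk_3092 : allR t1690_pf 306936 6 (3092 * 2 ^ 6) = true := by decide +kernel
theorem t1690_pchk_3093 : allR t1690_pf 306936 6 (3093 * 2 ^ 6) = true := by decide +kernel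
theorem t1690_pchk_3094 : allR t1690_pf 306936 6 (3094 * 2 ^ 6) = true := by decide +kernel
theorem t1690_pchk_3095 : allR t1690_pf 306936 6 (3095 * 2 ^ 6) = true := by decide +kernel
theorem t1690_pchk_3096 : allR t1690_pf 306936 6 (3096 * 2 ^ 6) = true := by decide +kernel
theorem t1690_pchk_3097 : allR t1690_pf 306936 6 (3097 * 2 ^ 6) = true := by decide +kernel
theorem t1690_pchk_3098 : allR t1690_pf 306936 6 (3098 * 2 ^ 6) = true := by decide +kernel
theorem t1690_pchk_3099 : allR t1690_pf 306936 6 (3099 * 2 ^ 6) = true := by decide +kernel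
theorem t1690_pchk_3100 : allR t1690_pf 306936 6 (3100 * 2 ^ 6) = true := by decide +kernel
theorem t1690_pchk_3101 : allR t1690_pf 306936 6 (3101 * 2 ^ 6) = true := by decide +kernel
theorem t1690_pchk_3102 : allR t1690_pf 306936 6 (3102 * 2 ^ 6) = true := by decide +kernel
theorem t1690_pchk_3103 : allR t1690_pf 306936 6 (3103 * 2 ^ 6) = true := by decide +kernel
theorem t1690_pchk_3104 : allR t1690_pf 306936 6 (3104 * 2 ^ 6) = true := by decide +kernel
theorem t1690_pchk_3105 : allR t1690_pf 306936 6 (3105 * 2 ^ 6) = true := by decide +kernel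
theorem t1690_pchk_3106 : allR t1690_pf 306936 6 (3106 * 2 ^ 6) = true := by decide +kernel
theorem t1690_pchk_3107 : allR t1690_pf 306936 6 (3107 * 2 ^ 6) = true := by decide +kernel
theorem t1690_pchk_3108 : allR t1690_pf 306936 6 (3108 * 2 ^ 6) = true := by decide +kernel
theorem t1690_pchk_3109 : allR t1690_pf 306936 6 (3109 * 2 ^ 6) = true := by decide +kernel
theorem t1690_pchk_3110 : allR t1690_pf 306936 6 (3110 * 2 ^ 6) = true := by decide +kernel
theorem t1690_pchk_3111 : allR t1690_pf 306936 6 (3111 * 2 ^ 6) = true := by decide +kernel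
theorem t1690_pchk_3112 : allR t1690_pf 306936 6 (3112 * 2 ^ 6) = true := by decide +kernel
theorem t1690_pchk_3113 : allR t1690_pf 306936 6 (3113 * 2 ^ 6) = true := by decide +kernel
theorem t1690_pchk_3114 : allR t1690_pf 306936 6 (3114 * 2 ^ 6) = true := by decide +kernel
theorem t1690_pchk_3115 : allR t1690_pf 306936 6 (3115 * 2 ^ 6) = true := by decide +kernel
theorem t1690_pchk_3116 : allR t1690_pf 306936 6 (3116 * 2 ^ 6) = true := by decide +kernel
theorem t1690_pchk_3117 : allR t1690_pf 306936 6 (3117 * 2 ^ 6) = true := by decide +kernel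
theorem t1690_pchk_3118 : allR t1690_pf 306936 6 (3118 * 2 ^ 6) = true := by decide +kernel
theorem t1690_pchk_3119 : allR t1690_pf 306936 6 (3119 * 2 ^ 6) = true := by decide +kernel

theorem t1690_pfile_25 : ∀ k, k < 3120 → 3000 ≤ k → allR t1690_pf 306936 6 (k * 2 ^ 6) = true := by
  intro k h1 h2
  interval_cases k
  · exact t1690_pchk_3000
  · exact t1690_pchk_3001
  · exact t1690_pchk_3002
  · exact t1690_pchk_3003
  · exact t1690_pchk_3004
  · exact t1690_pchk_3005
  · exact t1690_pchk_3006
  · exact t1690_pchk_3007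
  · exact t1690_pchk_3008
  · exact t1690_pchk_3009
  · exact t1690_pchk_3010
  · exact t1690_pchk_3011
  · exact t1690_pchk_3012
  · exact t1690_pchk_3013
  · exact t1690_pchk_3014
  · exact t1690_pchk_3015
  · exact t1690_pchk_3016
  · exact t1690_pchk_3017
  · exact t1690_pchk_3018
  · exact t1690_pchk_3019
  · exact t1690_pchk_3020
  · exact t1690_pchk_3021
  · exact t1690_pchk_3022
  · exact t1690_pchk_3023
  · exact t1690_pchk_3024
  · exact t1690_pchk_3025
  · exact t1690_pchk_3026
  · exact t1690_pchk_3027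
  · exact t1690_pchk_3028
  · exact t1690_pchk_3029
  · exact t1690_pchk_3030
  · exact t1690_pchk_3031
  · exact t1690_pchk_3032
  · exact t1690_pchk_3033
  · exact t1690_pchk_3034
  · exact t1690_pchk_3035
  · exact t1690_pchk_3036
  · exact t1690_pchk_3037
  · exact t1690_pchk_3038
  · exact t1690_pchk_3039
  · exact t1690_pchk_3040
  · exact t1690_pchk_3041
  · exact t1690_pchk_3042
  · exact t1690_pchk_3043
  · exact t1690_pchk_3044
  · exact t1690_pchk_3045
  · exact t1690_pchk_3046
  · exact t1690_pchk_3047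
  · exact t1690_pchk_3048
  · exact t1690_pchk_3049
  · exact t1690_pchk_3050
  · exact t1690_pchk_3051
  · exact t1690_pchk_3052
  · exact t1690_pchk_3053
  · exact t1690_pchk_3054
  · exact t1690_pchk_3055
  · exact t1690_pchk_3056
  · exact t1690_pchk_3057
  · exact t1690_pchk_3058
  · exact t1690_pchk_3059
  · exact t1690_pchk_3060
  · exact t1690_pchk_3061
  · exact t1690_pchk_3062
  · exact t1690_pchk_3063
  · exact t1690_pchk_3064
  · exact t1690_pchk_3065
  · exact t1690_pchk_3066
  · exact t1690_pchk_3067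
  · exact t1690_pchk_3068
  · exact t1690_pchk_3069
  · exact t1690_pchk_3070
  · exact t1690_pchk_3071
  · exact t1690_pchk_3072
  · exact t1690_pchk_3073
  · exact t1690_pchk_3074
  · exact t1690_pchk_3075
  · exact t1690_pchk_3076
  · exact t1690_pchk_3077
  · exact t1690_pchk_3078
  · exact t1690_pchk_3079
  · exact t1690_pchk_3080
  · exact t1690_pchk_3081
  · exact t1690_pchk_3082
  · exact t1690_pchk_3083
  · exact t1690_pchk_3084
  · exact t1690_pchk_3085
  · exact t1690_pchk_3086
  · exact t1690_pchk_3087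
  · exact t1690_pchk_3088
  · exact t1690_pchk_3089
  · exact t1690_pchk_3090
  · exact t1690_pchk_3091
  · exact t1690_pchk_3092
  · exact t1690_pchk_3093
  · exact t1690_pchk_3094
  · exact t1690_pchk_3095
  · exact t1690_pchk_3096
  · exact t1690_pchk_3097
  · exact t1690_pchk_3098
  · exact t1690_pchk_3099
  · exact t1690_pchk_3100
  · exact t1690_pchk_3101
  · exact t1690_pchk_3102
  · exact t1690_pchk_3103
  · exact t1690_pchk_3104
  · exact t1690_pchk_3105
  · exact t1690_pchk_3106
  · exact t1690_pchk_3107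
  · exact t1690_pchk_3108
  · exact t1690_pchk_3109
  · exact t1690_pchk_3110
  · exact t1690_pchk_3111
  · exact t1690_pchk_3112
  · exact t1690_pchk_3113
  · exact t1690_pchk_3114
  · exact t1690_pchk_3115
  · exact t1690_pchk_3116
  · exact t1690_pchk_3117
  · exact t1690_pchk_3118
  · exact t1690_pchk_3119

end Cfsg.Agent.H35
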