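import Cfsg.Agent.H35.T1690.PTab

set_option autoImplicit false
set_option linter.all false
set_option Elab.async false

namespace Cfsg.Agent.H35

theorem t1690_pchk_3120 : allR t1690_pf 306936 6 (3120 * 2 ^ 6) = true := by decide +kernel
theorem t1690_pchk_3121 : allR t1690_pf 306936 6 (3121 * 2 ^ 6) = true := by decide +kernel
theorem t1690_pchk_3122 : allR t1690_pf 306936 6 (3122 * 2 ^ 6) = true := by decide +kernel
theorem t1690_pchk_3123 : allR t1690_pf 306936 6 (3123 * 2 ^ 6) = true := by decide +kernel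
theorem t1690_pchk_3124 : allR t1690_pf 306936 6 (3124 * 2 ^ 6) = true := by decide +kernel
theorem t1690_pchk_3125 : allR t1690_pf 306936 6 (3125 * 2 ^ 6) = true := by decide +kernel
theorem t1690_pchk_3126 : allR t1690_pf 306936 6 (3126 * 2 ^ 6) = true := by decide +kernel
theorem t1690_pchk_3127 : allR t1690_pf 306936 6 (3127 * 2 ^ 6) = true := by decide +kernel
theorem t1690_pchk_3128 : allR t1690_pf 306936 6 (3128 * 2 ^ 6) = true := by decide +kernel
theorem t1690_pchk_3129 : allR t1690_pf 306936 6 (3129 * 2 ^ 6) = true := by decide +kernel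
theorem t1690_pchk_3130 : allR t1690_pf 306936 6 (3130 * 2 ^ 6) = true := by decide +kernel
theorem t1690_pchk_3131 : allR t1690_pf 306936 6 (3131 * 2 ^ 6) = true := by decide +kernel
theorem t1690_pchk_3132 : allR t1690_pf 306936 6 (3132 * 2 ^ 6) = true := by decide +kernel
theorem t1690_pchk_3133 : allR t1690_pf 306936 6 (3133 * 2 ^ 6) = true := by decide +kernel
theorem t1690_pchk_3134 : allR t1690_pf 306936 6 (3134 * 2 ^ 6) = true := by decide +kernel
theorem t1690_pchk_3135 : allR t1690_pf 306936 6 (3135 * 2 ^ 6) = true := by decide +kernel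
theorem t1690_pchk_3136 : allR t1690_pf 306936 6 (3136 * 2 ^ 6) = true := by decide +kernel
theorem t1690_pchk_3137 : allR t1690_pf 306936 6 (3137 * 2 ^ 6) = true := by decide +kernel
theorem t1690_pchk_3138 : allR t1690_pf 306936 6 (3138 * 2 ^ 6) = true := by decide +kernel
theorem t1690_pchk_3139 : allR t1690_pf 306936 6 (3139 * 2 ^ 6) = true := by decide +kernel
theorem t1690_pchk_3140 : allR t1690_pf 306936 6 (3140 * 2 ^ 6) = true := by decide +kernel
theorem t1690_pchk_3141 : allR t1690_pf 306936 6 (3141 * 2 ^ 6) = true := by decide +kernel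
theorem t1690_pchk_3142 : allR t1690_pf 306936 6 (3142 * 2 ^ 6) = true := by decide +kernel
theorem t1690_pchk_3143 : allR t1690_pf 306936 6 (3143 * 2 ^ 6) = true := by decide +kernel
theorem t1690_pchk_3144 : allR t1690_pf 306936 6 (3144 * 2 ^ 6) = true := by decide +kernel
theorem t1690_pchk_3145 : allR t1690_pf 306936 6 (3145 * 2 ^ 6) = true := by decide +kernel
theorem t1690_pchk_3146 : allR t1690_pf 306936 6 (3146 * 2 ^ 6) = true := by decide +kernel
theorem t1690_pchk_3147 : allR t1690_pf 306936 6 (3147 * 2 ^ 6) = true := by decide +kernel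
theorem t1690_pchk_3148 : allR t1690_pf 306936 6 (3148 * 2 ^ 6) = true := by decide +kernel
theorem t1690_pchk_3149 : allR t1690_pf 306936 6 (3149 * 2 ^ 6) = true := by decide +kernel
theorem t1690_pchk_3150 : allR t1690_pf 306936 6 (3150 * 2 ^ 6) = true := by decide +kernel
theorem t1690_pchk_3151 : allR t1690_pf 306936 6 (3151 * 2 ^ 6) = true := by decide +kernel
theorem t1690_pchk_3152 : allR t1690_pf 306936 6 (3152 * 2 ^ 6) = true := by decide +kernel
theorem t1690_pchk_3153 : allR t1690_pf 306936 6 (3153 * 2 ^ 6) = true := by decide +kernel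
theorem t1690_pchk_3154 : allR t1690_pf 306936 6 (3154 * 2 ^ 6) = true := by decide +kernel
theorem t1690_pchk_3155 : allR t1690_pf 306936 6 (3155 * 2 ^ 6) = true := by decide +kernel
theorem t1690_pchk_3156 : allR t1690_pf 306936 6 (3156 * 2 ^ 6) = true := by decide +kernel
theorem t1690_pchk_3157 : allR t1690_pf 306936 6 (3157 * 2 ^ 6) = true := by decide +kernel
theorem t1690_pchk_3158 : allR t1690_pf 306936 6 (3158 * 2 ^ 6) = true := by decide +kernel
theorem t1690_pchk_3159 : allR t1690_pf 306936 6 (3159 * 2 ^ 6) = true := by decide +kernel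
theorem t1690_pchk_3160 : allR t1690_pf 306936 6 (3160 * 2 ^ 6) = true := by decide +kernel
theorem t1690_pchk_3161 : allR t1690_pf 306936 6 (3161 * 2 ^ 6) = true := by decide +kernel
theorem t1690_pchk_3162 : allR t1690_pf 306936 6 (3162 * 2 ^ 6) = true := by decide +kernel
theorem t1690_pchk_3163 : allR t1690_pf 306936 6 (3163 * 2 ^ 6) = true := by decide +kernel
theorem t1690_pchk_3164 : allR t1690_pf 306936 6 (3164 * 2 ^ 6) = true := by decide +kernel
theorem t1690_pchk_3165 : allR t1690_pf 306936 6 (3165 * 2 ^ 6) = true := by decide +kernel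
theorem t1690_pchk_3166 : allR t1690_pf 306936 6 (3166 * 2 ^ 6) = true := by decide +kernel
theorem t1690_pchk_3167 : allR t1690_pf 306936 6 (3167 * 2 ^ 6) = true := by decide +kernel
theorem t1690_pchk_3168 : allR t1690_pf 306936 6 (3168 * 2 ^ 6) = true := by decide +kernel
theorem t1690_pchk_3169 : allR t1690_pf 306936 6 (3169 * 2 ^ 6) = true := by decide +kernel
theorem t1690_pchk_3170 : allR t1690_pf 306936 6 (3170 * 2 ^ 6) = true := by decide +kernel
theorem t1690_pchk_3171 : allR t1690_pf 306936 6 (3171 * 2 ^ 6) = true := by decide +kernel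
theorem t1690_pchk_3172 : allR t1690_pf 306936 6 (3172 * 2 ^ 6) = true := by decide +kernel
theorem t1690_pchk_3173 : allR t1690_pf 306936 6 (3173 * 2 ^ 6) = true := by decide +kernel
theorem t1690_pchk_3174 : allR t1690_pf 306936 6 (3174 * 2 ^ 6) = true := by decide +kernel
theorem t1690_pchk_3175 : allR t1690_pf 306936 6 (3175 * 2 ^ 6) = true := by decide +kernel
theorem t1690_pchk_3176 : allR t1690_pf 306936 6 (3176 * 2 ^ 6) = true := by decide +kernel
theorem t1690_pchk_3177 : allR t1690_pf 306936 6 (3177 * 2 ^ 6) = true := by decide +kernel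
theorem t1690_pchk_3178 : allR t1690_pf 306936 6 (3178 * 2 ^ 6) = true := by decide +kernel
theorem t1690_pchk_3179 : allR t1690_pf 306936 6 (3179 * 2 ^ 6) = true := by decide +kernel
theorem t1690_pchk_3180 : allR t1690_pf 306936 6 (3180 * 2 ^ 6) = true := by decide +kernel
theorem t1690_pchk_3181 : allR t1690_pf 306936 6 (3181 * 2 ^ 6) = true := by decide +kernel
theorem t1690_pchk_3182 : allR t1690_pf 306936 6 (3182 * 2 ^ 6) = true := by decide +kernel
theorem t1690_pchk_3183 : allR t1690_pf 306936 6 (3183 * 2 ^ 6) = true := by decide +kernel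
theorem t1690_pchk_3184 : allR t1690_pf 306936 6 (3184 * 2 ^ 6) = true := by decide +kernel
theorem t1690_pchk_3185 : allR t1690_pf 306936 6 (3185 * 2 ^ 6) = true := by decide +kernel
theorem t1690_pchk_3186 : allR t1690_pf 306936 6 (3186 * 2 ^ 6) = true := by decide +kernel
theorem t1690_pchk_3187 : allR t1690_pf 306936 6 (3187 * 2 ^ 6) = true := by decide +kernel
theorem t1690_pchk_3188 : allR t1690_pf 306936 6 (3188 * 2 ^ 6) = true := by decide +kernel
theorem t1690_pchk_3189 : allR t1690_pf 306936 6 (3189 * 2 ^ 6) = true := by decide +kernel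
theorem t1690_pchk_3190 : allR t1690_pf 306936 6 (3190 * 2 ^ 6) = true := by decide +kernel
theorem t1690_pchk_3191 : allR t1690_pf 306936 6 (3191 * 2 ^ 6) = true := by decide +kernel
theorem t1690_pchk_3192 : allR t1690_pf 306936 6 (3192 * 2 ^ 6) = true := by decide +kernel
theorem t1690_pchk_3193 : allR t1690_pf 306936 6 (3193 * 2 ^ 6) = true := by decide +kernel
theorem t1690_pchk_3194 : allR t1690_pf 306936 6 (3194 * 2 ^ 6) = true := by decide +kernel
theorem t1690_pchk_3195 : allR t1690_pf 306936 6 (3195 * 2 ^ 6) = true := by decide +kernel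
theorem t1690_pchk_3196 : allR t1690_pf 306936 6 (3196 * 2 ^ 6) = true := by decide +kernel
theorem t1690_pchk_3197 : allR t1690_pf 306936 6 (3197 * 2 ^ 6) = true := by decide +kernel
theorem t1690_pchk_3198 : allR t1690_pf 306936 6 (3198 * 2 ^ 6) = true := by decide +kernel
theorem t1690_pchk_3199 : allR t1690_pf 306936 6 (3199 * 2 ^ 6) = true := by decide +kernel
theorem t1690_pchk_3200 : allR t1690_pf 306936 6 (3200 * 2 ^ 6) = true := by decide +kernel
theorem t1690_pchk_3201 : allR t1690_pf 306936 6 (3201 * 2 ^ 6) = true := by decide +kernel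
theorem t1690_pchk_3202 : allR t1690_pf 306936 6 (3202 * 2 ^ 6) = true := by decide +kernel
theorem t1690_pchk_3203 : allR t1690_pf 306936 6 (3203 * 2 ^ 6) = true := by decide +kernel
theorem t1690_pchk_3204 : allR t1690_pf 306936 6 (3204 * 2 ^ 6) = true := by decide +kernel
theorem t1690_pchk_3205 : allR t1690_pf 306936 6 (3205 * 2 ^ 6) = true := by decide +kernel
theorem t1690_pchk_3206 : allR t1690_pf 306936 6 (3206 * 2 ^ 6) = true := by decide +kernel
theorem t1690_pchk_3207 : allR t1690_pf 306936 6 (3207 * 2 ^ 6) = true := by decide +kernel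
theorem t1690_pchk_3208 : allR t1690_pf 306936 6 (3208 * 2 ^ 6) = true := by decide +kernel
theorem t1690_pchk_3209 : allR t1690_pf 306936 6 (3209 * 2 ^ 6) = true := by decide +kernel
theorem t1690_pchk_3210 : allR t1690_pf 306936 6 (3210 * 2 ^ 6) = true := by decide +kernel
theorem t1690_pchk_3211 : allR t1690_pf 306936 6 (3211 * 2 ^ 6) = true := by decide +kernel
theorem t1690_pchk_3212 : allR t1690_pf 306936 6 (3212 * 2 ^ 6) = true := by decide +kernel
theorem t1690_pchk_3213 : allR t1690_pf 306936 6 (3213 * 2 ^ 6) = true := by decide +kernel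
theorem t1690_pchk_3214 : allR t1690_pf 306936 6 (3214 * 2 ^ 6) = true := by decide +kernel
theorem t1690_pchk_3215 : allR t1690_pf 306936 6 (3215 * 2 ^ 6) = true := by decide +kernel
theorem t1690_pchk_3216 : allR t1690_pf 306936 6 (3216 * 2 ^ 6) = true := by decide +kernel
theorem t1690_pchk_3217 : allR t1690_pf 306936 6 (3217 * 2 ^ 6) = true := by decide +kernel
theorem t1690_pchk_3218 : allR t1690_pf 306936 6 (3218 * 2 ^ 6) = true := by decide +kernel
theorem t1690_pchk_3219 : allR t1690_pf 306936 6 (3219 * 2 ^ 6) = true := by decide +kernel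
theorem t1690_pchk_3220 : allR t1690_pf 306936 6 (3220 * 2 ^ 6) = true := by decide +kernel
theorem t1690_pchk_3221 : allR t1690_pf 306936 6 (3221 * 2 ^ 6) = true := by decide +kernel
theorem t1690_pchk_3222 : allR t1690_pf 306936 6 (3222 * 2 ^ 6) = true := by decide +kernel
theorem t1690_pchk_3223 : allR t1690_pf 306936 6 (3223 * 2 ^ 6) = true := by decide +kernel
theorem t1690_pchk_3224 : allR t1690_pf 306936 6 (3224 * 2 ^ 6) = true := by decide +kernel
theorem t1690_pchk_3225 : allR t1690_pf 306936 6 (3225 * 2 ^ 6) = true := by decide +kernel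
theorem t1690_pchk_3226 : allR t1690_pf 306936 6 (3226 * 2 ^ 6) = true := by decide +kernel
theorem t1690_pchk_3227 : allR t1690_pf 306936 6 (3227 * 2 ^ 6) = true := by decide +kernel
theorem t1690_pchk_3228 : allR t1690_pf 306936 6 (3228 * 2 ^ 6) = true := by decide +kernel
theorem t1690_pchk_3229 : allR t1690_pf 306936 6 (3229 * 2 ^ 6) = true := by decide +kernel
theorem t1690_pchk_3230 : allR t1690_pf 306936 6 (3230 * 2 ^ 6) = true := by decide +kernel
theorem t1690_pchk_3231 : allR t1690_pf 306936 6 (3231 * 2 ^ 6) = true := by decide +kernel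
theorem t1690_pchk_3232 : allR t1690_pf 306936 6 (3232 * 2 ^ 6) = true := by decide +kernel
theorem t1690_pchk_3233 : allR t1690_pf 306936 6 (3233 * 2 ^ 6) = true := by decide +kernel
theorem t1690_pchk_3234 : allR t1690_pf 306936 6 (3234 * 2 ^ 6) = true := by decide +kernel
theorem t1690_pchk_3235 : allR t1690_pf 306936 6 (3235 * 2 ^ 6) = true := by decide +kernel
theorem t1690_pchk_3236 : allR t1690_pf 306936 6 (3236 * 2 ^ 6) = true := by decide +kernel
theorem t1690_pchk_3237 : allR t1690_pf 306936 6 (3237 * 2 ^ 6) = true := by decide +kernel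
theorem t1690_pchk_3238 : allR t1690_pf 306936 6 (3238 * 2 ^ 6) = true := by decide +kernel
theorem t1690_pchk_3239 : allR t1690_pf 306936 6 (3239 * 2 ^ 6) = true := by decide +kernel

theorem t1690_pfile_26 : ∀ k, k < 3240 → 3120 ≤ k → allR t1690_pf 306936 6 (k * 2 ^ 6) = true := by
  intro k h1 h2
  interval_cases k
  · exact t1690_pchk_3120
  · exact t1690_pchk_3121
  · exact t1690_pchk_3122
  · exact t1690_pchk_3123
  · exact t1690_pchk_3124
  · exact t1690_pchk_3125
  · exact t1690_pchk_3126
  · exact t1690_pchk_3127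
  · exact t1690_pchk_3128
  · exact t1690_pchk_3129
  · exact t1690_pchk_3130
  · exact t1690_pchk_3131
  · exact t1690_pchk_3132
  · exact t1690_pchk_3133
  · exact t1690_pchk_3134
  · exact t1690_pchk_3135
  · exact t1690_pchk_3136
  · exact t1690_pchk_3137
  · exact t1690_pchk_3138
  · exact t1690_pchk_3139
  · exact t1690_pchk_3140
  · exact t1690_pchk_3141
  · exact t1690_pchk_3142
  · exact t1690_pchk_3143
  · exact t1690_pchk_3144
  · exact t1690_pchk_3145
  · exact t1690_pchk_3146
  · exact t1690_pchk_3147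
  · exact t1690_pchk_3148
  · exact t1690_pchk_3149
  · exact t1690_pchk_3150
  · exact t1690_pchk_3151
  · exact t1690_pchk_3152
  · exact t1690_pchk_3153
  · exact t1690_pchk_3154
  · exact t1690_pchk_3155
  · exact t1690_pchk_3156
  · exact t1690_pchk_3157
  · exact t1690_pchk_3158
  · exact t1690_pchk_3159
  · exact t1690_pchk_3160
  · exact t1690_pchk_3161
  · exact t1690_pchk_3162
  · exact t1690_pchk_3163
  · exact t1690_pchk_3164
  · exact t1690_pchk_3165
  · exact t1690_pchk_3166
  · exact t1690_pchk_3167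
  · exact t1690_pchk_3168
  · exact t1690_pchk_3169
  · exact t1690_pchk_3170
  · exact t1690_pchk_3171
  · exact t1690_pchk_3172
  · exact t1690_pchk_3173
  · exact t1690_pchk_3174
  · exact t1690_pchk_3175
  · exact t1690_pchk_3176
  · exact t1690_pchk_3177
  · exact t1690_pchk_3178
  · exact t1690_pchk_3179
  · exact t1690_pchk_3180
  · exact t1690_pchk_3181
  · exact t1690_pchk_3182
  · exact t1690_pchk_3183
  · exact t1690_pchk_3184
  · exact t1690_pchk_3185
  · exact t1690_pchk_3186
  · exact t1690_pchk_3187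
  · exact t1690_pchk_3188
  · exact t1690_pchk_3189
  · exact t1690_pchk_3190
  · exact t1690_pchk_3191
  · exact t1690_pchk_3192
  · exact t1690_pchk_3193
  · exact t1690_pchk_3194
  · exact t1690_pchk_3195
  · exact t1690_pchk_3196
  · exact t1690_pchk_3197
  · exact t1690_pchk_3198
  · exact t1690_pchk_3199
  · exact t1690_pchk_3200
  · exact t1690_pchk_3201
  · exact t1690_pchk_3202
  · exact t1690_pchk_3203
  · exact t1690_pchk_3204
  · exact t1690_pchk_3205
  · exact t1690_pchk_3206
  · exact t1690_pchk_3207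
  · exact t1690_pchk_3208
  · exact t1690_pchk_3209
  · exact t1690_pchk_3210
  · exact t1690_pchk_3211
  · exact t1690_pchk_3212
  · exact t1690_pchk_3213
  · exact t1690_pchk_3214
  · exact t1690_pchk_3215
  · exact t1690_pchk_3216
  · exact t1690_pchk_3217
  · exact t1690_pchk_3218
  · exact t1690_pchk_3219
  · exact t1690_pchk_3220
  · exact t1690_pchk_3221
  · exact t1690_pchk_3222
  · exact t1690_pchk_3223
  · exact t1690_pchk_3224
  · exact t1690_pchk_3225
  · exact t1690_pchk_3226
  · exact t1690_pchk_3227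
  · exact t1690_pchk_3228
  · exact t1690_pchk_3229
  · exact t1690_pchk_3230
  · exact t1690_pchk_3231
  · exact t1690_pchk_3232
  · exact t1690_pchk_3233
  · exact t1690_pchk_3234
  · exact t1690_pchk_3235
  · exact t1690_pchk_3236
  · exact t1690_pchk_3237
  · exact t1690_pchk_3238
  · exact t1690_pchk_3239

end Cfsg.Agent.H35
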