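import Cfsg.Agent.H35.T1690.PTab

set_option autoImplicit false
set_option linter.all false
set_option Elab.async false

namespace Cfsg.Agent.H35

theorem t1690_pchk_3240 : allR t1690_pf 306936 6 (3240 * 2 ^ 6) = true := by decide +kernel
theorem t1690_pchk_3241 : allR t1690_pf 306936 6 (3241 * 2 ^ 6) = true := by decide +kernel
theorem t1690_pchk_3242 : allR t1690_pf 306936 6 (3242 * 2 ^ 6) = true := by decide +kernel
theorem t1690_pchk_3243 : allR t1690_pf 306936 6 (3243 * 2 ^ 6) = true := by decide +kernel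
theorem t1690_pchk_3244 : allR t1690_pf 306936 6 (3244 * 2 ^ 6) = true := by decide +kernel
theorem t1690_pchk_3245 : allR t1690_pf 306936 6 (3245 * 2 ^ 6) = true := by decide +kernel
theorem t1690_pchk_3246 : allR t1690_pf 306936 6 (3246 * 2 ^ 6) = true := by decide +kernel
theorem t1690_pchk_3247 : allR t1690_pf 306936 6 (3247 * 2 ^ 6) = true := by decide +kernel
theorem t1690_pchk_3248 : allR t1690_pf 306936 6 (3248 * 2 ^ 6) = true := by decide +kernel
theorem t1690_pchk_3249 : allR t1690_pf 306936 6 (3249 * 2 ^ 6) = true := by decide +kernel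
theorem t1690_pchk_3250 : allR t1690_pf 306936 6 (3250 * 2 ^ 6) = true := by decide +kernel
theorem t1690_pchk_3251 : allR t1690_pf 306936 6 (3251 * 2 ^ 6) = true := by decide +kernel
theorem t1690_pchk_3252 : allR t1690_pf 306936 6 (3252 * 2 ^ 6) = true := by decide +kernel
theorem t1690_pchk_3253 : allR t1690_pf 306936 6 (3253 * 2 ^ 6) = true := by decide +kernel
theorem t1690_pchk_3254 : allR t1690_pf 306936 6 (3254 * 2 ^ 6) = true := by decide +kernel
theorem t1690_pchk_3255 : allR t1690_pf 306936 6 (3255 * 2 ^ 6) = true := by decide +kernel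
theorem t1690_pchk_3256 : allR t1690_pf 306936 6 (3256 * 2 ^ 6) = true := by decide +kernel
theorem t1690_pchk_3257 : allR t1690_pf 306936 6 (3257 * 2 ^ 6) = true := by decide +kernel
theorem t1690_pchk_3258 : allR t1690_pf 306936 6 (3258 * 2 ^ 6) = true := by decide +kernel
theorem t1690_pchk_3259 : allR t1690_pf 306936 6 (3259 * 2 ^ 6) = true := by decide +kernel
theorem t1690_pchk_3260 : allR t1690_pf 306936 6 (3260 * 2 ^ 6) = true := by decide +kernel
theorem t1690_pchk_3261 : allR t1690_pf 306936 6 (3261 * 2 ^ 6) = true := by decide +kernel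
theorem t1690_pchk_3262 : allR t1690_pf 306936 6 (3262 * 2 ^ 6) = true := by decide +kernel
theorem t1690_pchk_3263 : allR t1690_pf 306936 6 (3263 * 2 ^ 6) = true := by decide +kernel
theorem t1690_pchk_3264 : allR t1690_pf 306936 6 (3264 * 2 ^ 6) = true := by decide +kernel
theorem t1690_pchk_3265 : allR t1690_pf 306936 6 (3265 * 2 ^ 6) = true := by decide +kernel
theorem t1690_pchk_3266 : allR t1690_pf 306936 6 (3266 * 2 ^ 6) = true := by decide +kernel
theorem t1690_pchk_3267 : allR t1690_pf 306936 6 (3267 * 2 ^ 6) = true := by decide +kernel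
theorem t1690_pchk_3268 : allR t1690_pf 306936 6 (3268 * 2 ^ 6) = true := by decide +kernel
theorem t1690_pchk_3269 : allR t1690_pf 306936 6 (3269 * 2 ^ 6) = true := by decide +kernel
theorem t1690_pchk_3270 : allR t1690_pf 306936 6 (3270 * 2 ^ 6) = true := by decide +kernel
theorem t1690_pchk_3271 : allR t1690_pf 306936 6 (3271 * 2 ^ 6) = true := by decide +kernel
theorem t1690_pchk_3272 : allR t1690_pf 306936 6 (3272 * 2 ^ 6) = true := by decide +kernel
theorem t1690_pchk_3273 : allR t1690_pf 306936 6 (3273 * 2 ^ 6) = true := by decide +kernel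
theorem t1690_pchk_3274 : allR t1690_pf 306936 6 (3274 * 2 ^ 6) = true := by decide +kernel
theorem t1690_pchk_3275 : allR t1690_pf 306936 6 (3275 * 2 ^ 6) = true := by decide +kernel
theorem t1690_pchk_3276 : allR t1690_pf 306936 6 (3276 * 2 ^ 6) = true := by decide +kernel
theorem t1690_pchk_3277 : allR t1690_pf 306936 6 (3277 * 2 ^ 6) = true := by decide +kernel
theorem t1690_pchk_3278 : allR t1690_pf 306936 6 (3278 * 2 ^ 6) = true := by decide +kernel
theorem t1690_pchk_3279 : allR t1690_pf 306936 6 (3279 * 2 ^ 6) = true := by decide +kernel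
theorem t1690_pchk_3280 : allR t1690_pf 306936 6 (3280 * 2 ^ 6) = true := by decide +kernel
theorem t1690_pchk_3281 : allR t1690_pf 306936 6 (3281 * 2 ^ 6) = true := by decide +kernel
theorem t1690_pchk_3282 : allR t1690_pf 306936 6 (3282 * 2 ^ 6) = true := by decide +kernel
theorem t1690_pchk_3283 : allR t1690_pf 306936 6 (3283 * 2 ^ 6) = true := by decide +kernel
theorem t1690_pchk_3284 : allR t1690_pf 306936 6 (3284 * 2 ^ 6) = true := by decide +kernel
theorem t1690_pchk_3285 : allR t1690_pf 306936 6 (3285 * 2 ^ 6) = true := by decide +kernel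
theorem t1690_pchk_3286 : allR t1690_pf 306936 6 (3286 * 2 ^ 6) = true := by decide +kernel
theorem t1690_pchk_3287 : allR t1690_pf 306936 6 (3287 * 2 ^ 6) = true := by decide +kernel
theorem t1690_pchk_3288 : allR t1690_pf 306936 6 (3288 * 2 ^ 6) = true := by decide +kernel
theorem t1690_pchk_3289 : allR t1690_pf 306936 6 (3289 * 2 ^ 6) = true := by decide +kernel
theorem t1690_pchk_3290 : allR t1690_pf 306936 6 (3290 * 2 ^ 6) = true := by decide +kernel
theorem t1690_pchk_3291 : allR t1690_pf 306936 6 (3291 * 2 ^ 6) = true := by decide +kernel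
theorem t1690_pchk_3292 : allR t1690_pf 306936 6 (3292 * 2 ^ 6) = true := by decide +kernel
theorem t1690_pchk_3293 : allR t1690_pf 306936 6 (3293 * 2 ^ 6) = true := by decide +kernel
theorem t1690_pchk_3294 : allR t1690_pf 306936 6 (3294 * 2 ^ 6) = true := by decide +kernel
theorem t1690_pchk_3295 : allR t1690_pf 306936 6 (3295 * 2 ^ 6) = true := by decide +kernel
theorem t1690_pchk_3296 : allR t1690_pf 306936 6 (3296 * 2 ^ 6) = true := by decide +kernel
theorem t1690_pchk_3297 : allR t1690_pf 306936 6 (3297 * 2 ^ 6) = true := by decide +kernel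
theorem t1690_pchk_3298 : allR t1690_pf 306936 6 (3298 * 2 ^ 6) = true := by decide +kernel
theorem t1690_pchk_3299 : allR t1690_pf 306936 6 (3299 * 2 ^ 6) = true := by decide +kernel
theorem t1690_pchk_3300 : allR t1690_pf 306936 6 (3300 * 2 ^ 6) = true := by decide +kernel
theorem t1690_pchk_3301 : allR t1690_pf 306936 6 (3301 * 2 ^ 6) = true := by decide +kernel
theorem t1690_pchk_3302 : allR t1690_pf 306936 6 (3302 * 2 ^ 6) = true := by decide +kernel
theorem t1690_pchk_3303 : allR t1690_pf 306936 6 (3303 * 2 ^ 6) = true := by decide +kernel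
theorem t1690_pchk_3304 : allR t1690_pf 306936 6 (3304 * 2 ^ 6) = true := by decide +kernel
theorem t1690_pchk_3305 : allR t1690_pf 306936 6 (3305 * 2 ^ 6) = true := by decide +kernel
theorem t1690_pchk_3306 : allR t1690_pf 306936 6 (3306 * 2 ^ 6) = true := by decide +kernel
theorem t1690_pchk_3307 : allR t1690_pf 306936 6 (3307 * 2 ^ 6) = true := by decide +kernel
theorem t1690_pchk_3308 : allR t1690_pf 306936 6 (3308 * 2 ^ 6) = true := by decide +kernel
theorem t1690_pchk_3309 : allR t1690_pf 306936 6 (3309 * 2 ^ 6) = true := by decide +kernel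
theorem t1690_pchk_3310 : allR t1690_pf 306936 6 (3310 * 2 ^ 6) = true := by decide +kernel
theorem t1690_pchk_3311 : allR t1690_pf 306936 6 (3311 * 2 ^ 6) = true := by decide +kernel
theorem t1690_pchk_3312 : allR t1690_pf 306936 6 (3312 * 2 ^ 6) = true := by decide +kernel
theorem t1690_pchk_3313 : allR t1690_pf 306936 6 (3313 * 2 ^ 6) = true := by decide +kernel
theorem t1690_pchk_3314 : allR t1690_pf 306936 6 (3314 * 2 ^ 6) = true := by decide +kernel
theorem t1690_pchk_3315 : allR t1690_pf 306936 6 (3315 * 2 ^ 6) = true := by decide +kernel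
theorem t1690_pchk_3316 : allR t1690_pf 306936 6 (3316 * 2 ^ 6) = true := by decide +kernel
theorem t1690_pchk_3317 : allR t1690_pf 306936 6 (3317 * 2 ^ 6) = true := by decide +kernel
theorem t1690_pchk_3318 : allR t1690_pf 306936 6 (3318 * 2 ^ 6) = true := by decide +kernel
theorem t1690_pchk_3319 : allR t1690_pf 306936 6 (3319 * 2 ^ 6) = true := by decide +kernel
theorem t1690_pchk_3320 : allR t1690_pf 306936 6 (3320 * 2 ^ 6) = true := by decide +kernel
theorem t1690_pchk_3321 : allR t1690_pf 306936 6 (3321 * 2 ^ 6) = true := by decide +kernel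
theorem t1690_pchk_3322 : allR t1690_pf 306936 6 (3322 * 2 ^ 6) = true := by decide +kernel
theorem t1690_pchk_3323 : allR t1690_pf 306936 6 (3323 * 2 ^ 6) = true := by decide +kernel
theorem t1690_pchk_3324 : allR t1690_pf 306936 6 (3324 * 2 ^ 6) = true := by decide +kernel
theorem t1690_pchk_3325 : allR t1690_pf 306936 6 (3325 * 2 ^ 6) = true := by decide +kernel
theorem t1690_pchk_3326 : allR t1690_pf 306936 6 (3326 * 2 ^ 6) = true := by decide +kernel
theorem t1690_pchk_3327 : allR t1690_pf 306936 6 (3327 * 2 ^ 6) = true := by decide +kernel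
theorem t1690_pchk_3328 : allR t1690_pf 306936 6 (3328 * 2 ^ 6) = true := by decide +kernel
theorem t1690_pchk_3329 : allR t1690_pf 306936 6 (3329 * 2 ^ 6) = true := by decide +kernel
theorem t1690_pchk_3330 : allR t1690_pf 306936 6 (3330 * 2 ^ 6) = true := by decide +kernel
theorem t1690_pchk_3331 : allR t1690_pf 306936 6 (3331 * 2 ^ 6) = true := by decide +kernel
theorem t1690_pchk_3332 : allR t1690_pf 306936 6 (3332 * 2 ^ 6) = true := by decide +kernel
theorem t1690_pchk_3333 : allR t1690_pf 306936 6 (3333 * 2 ^ 6) = true := by decide +kernel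
theorem t1690_pchk_3334 : allR t1690_pf 306936 6 (3334 * 2 ^ 6) = true := by decide +kernel
theorem t1690_pchk_3335 : allR t1690_pf 306936 6 (3335 * 2 ^ 6) = true := by decide +kernel
theorem t1690_pchk_3336 : allR t1690_pf 306936 6 (3336 * 2 ^ 6) = true := by decide +kernel
theorem t1690_pchk_3337 : allR t1690_pf 306936 6 (3337 * 2 ^ 6) = true := by decide +kernel
theorem t1690_pchk_3338 : allR t1690_pf 306936 6 (3338 * 2 ^ 6) = true := by decide +kernel
theorem t1690_pchk_3339 : allR t1690_pf 306936 6 (3339 * 2 ^ 6) = true := by decide +kernel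
theorem t1690_pchk_3340 : allR t1690_pf 306936 6 (3340 * 2 ^ 6) = true := by decide +kernel
theorem t1690_pchk_3341 : allR t1690_pf 306936 6 (3341 * 2 ^ 6) = true := by decide +kernel
theorem t1690_pchk_3342 : allR t1690_pf 306936 6 (3342 * 2 ^ 6) = true := by decide +kernel
theorem t1690_pchk_3343 : allR t1690_pf 306936 6 (3343 * 2 ^ 6) = true := by decide +kernel
theorem t1690_pchk_3344 : allR t1690_pf 306936 6 (3344 * 2 ^ 6) = true := by decide +kernel
theorem t1690_pchk_3345 : allR t1690_pf 306936 6 (3345 * 2 ^ 6) = true := by decide +kernel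
theorem t1690_pchk_3346 : allR t1690_pf 306936 6 (3346 * 2 ^ 6) = true := by decide +kernel
theorem t1690_pchk_3347 : allR t1690_pf 306936 6 (3347 * 2 ^ 6) = true := by decide +kernel
theorem t1690_pchk_3348 : allR t1690_pf 306936 6 (3348 * 2 ^ 6) = true := by decide +kernel
theorem t1690_pchk_3349 : allR t1690_pf 306936 6 (3349 * 2 ^ 6) = true := by decide +kernel
theorem t1690_pchk_3350 : allR t1690_pf 306936 6 (3350 * 2 ^ 6) = true := by decide +kernel
theorem t1690_pchk_3351 : allR t1690_pf 306936 6 (3351 * 2 ^ 6) = true := by decide +kernel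
theorem t1690_pchk_3352 : allR t1690_pf 306936 6 (3352 * 2 ^ 6) = true := by decide +kernel
theorem t1690_pchk_3353 : allR t1690_pf 306936 6 (3353 * 2 ^ 6) = true := by decide +kernel
theorem t1690_pchk_3354 : allR t1690_pf 306936 6 (3354 * 2 ^ 6) = true := by decide +kernel
theorem t1690_pchk_3355 : allR t1690_pf 306936 6 (3355 * 2 ^ 6) = true := by decide +kernel
theorem t1690_pchk_3356 : allR t1690_pf 306936 6 (3356 * 2 ^ 6) = true := by decide +kernel
theorem t1690_pchk_3357 : allR t1690_pf 306936 6 (3357 * 2 ^ 6) = true := by decide +kernel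
theorem t1690_pchk_3358 : allR t1690_pf 306936 6 (3358 * 2 ^ 6) = true := by decide +kernel
theorem t1690_pchk_3359 : allR t1690_pf 306936 6 (3359 * 2 ^ 6) = true := by decide +kernel

theorem t1690_pfile_27 : ∀ k, k < 3360 → 3240 ≤ k → allR t1690_pf 306936 6 (k * 2 ^ 6) = true := by
  intro k h1 h2
  interval_cases k
  · exact t1690_pchk_3240
  · exact t1690_pchk_3241
  · exact t1690_pchk_3242
  · exact t1690_pchk_3243
  · exact t1690_pchk_3244
  · exact t1690_pchk_3245
  · exact t1690_pchk_3246
  · exact t1690_pchk_3247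
  · exact t1690_pchk_3248
  · exact t1690_pchk_3249
  · exact t1690_pchk_3250
  · exact t1690_pchk_3251
  · exact t1690_pchk_3252
  · exact t1690_pchk_3253
  · exact t1690_pchk_3254
  · exact t1690_pchk_3255
  · exact t1690_pchk_3256
  · exact t1690_pchk_3257
  · exact t1690_pchk_3258
  · exact t1690_pchk_3259
  · exact t1690_pchk_3260
  · exact t1690_pchk_3261
  · exact t1690_pchk_3262
  · exact t1690_pchk_3263
  · exact t1690_pchk_3264
  · exact t1690_pchk_3265
  · exact t1690_pchk_3266
  · exact t1690_pchk_3267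
  · exact t1690_pchk_3268
  · exact t1690_pchk_3269
  · exact t1690_pchk_3270
  · exact t1690_pchk_3271
  · exact t1690_pchk_3272
  · exact t1690_pchk_3273
  · exact t1690_pchk_3274
  · exact t1690_pchk_3275
  · exact t1690_pchk_3276
  · exact t1690_pchk_3277
  · exact t1690_pchk_3278
  · exact t1690_pchk_3279
  · exact t1690_pchk_3280
  · exact t1690_pchk_3281
  · exact t1690_pchk_3282
  · exact t1690_pchk_3283
  · exact t1690_pchk_3284
  · exact t1690_pchk_3285
  · exact t1690_pchk_3286
  · exact t1690_pchk_3287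
  · exact t1690_pchk_3288
  · exact t1690_pchk_3289
  · exact t1690_pchk_3290
  · exact t1690_pchk_3291
  · exact t1690_pchk_3292
  · exact t1690_pchk_3293
  · exact t1690_pchk_3294
  · exact t1690_pchk_3295
  · exact t1690_pchk_3296
  · exact t1690_pchk_3297
  · exact t1690_pchk_3298
  · exact t1690_pchk_3299
  · exact t1690_pchk_3300
  · exact t1690_pchk_3301
  · exact t1690_pchk_3302
  · exact t1690_pchk_3303
  · exact t1690_pchk_3304
  · exact t1690_pchk_3305
  · exact t1690_pchk_3306
  · exact t1690_pchk_3307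
  · exact t1690_pchk_3308
  · exact t1690_pchk_3309
  · exact t1690_pchk_3310
  · exact t1690_pchk_3311
  · exact t1690_pchk_3312
  · exact t1690_pchk_3313
  · exact t1690_pchk_3314
  · exact t1690_pchk_3315
  · exact t1690_pchk_3316
  · exact t1690_pchk_3317
  · exact t1690_pchk_3318
  · exact t1690_pchk_3319
  · exact t1690_pchk_3320
  · exact t1690_pchk_3321
  · exact t1690_pchk_3322
  · exact t1690_pchk_3323
  · exact t1690_pchk_3324
  · exact t1690_pchk_3325
  · exact t1690_pchk_3326
  · exact t1690_pchk_3327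
  · exact t1690_pchk_3328
  · exact t1690_pchk_3329
  · exact t1690_pchk_3330
  · exact t1690_pchk_3331
  · exact t1690_pchk_3332
  · exact t1690_pchk_3333
  · exact t1690_pchk_3334
  · exact t1690_pchk_3335
  · exact t1690_pchk_3336
  · exact t1690_pchk_3337
  · exact t1690_pchk_3338
  · exact t1690_pchk_3339
  · exact t1690_pchk_3340
  · exact t1690_pchk_3341
  · exact t1690_pchk_3342
  · exact t1690_pchk_3343
  · exact t1690_pchk_3344
  · exact t1690_pchk_3345
  · exact t1690_pchk_3346
  · exact t1690_pchk_3347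
  · exact t1690_pchk_3348
  · exact t1690_pchk_3349
  · exact t1690_pchk_3350
  · exact t1690_pchk_3351
  · exact t1690_pchk_3352
  · exact t1690_pchk_3353
  · exact t1690_pchk_3354
  · exact t1690_pchk_3355
  · exact t1690_pchk_3356
  · exact t1690_pchk_3357
  · exact t1690_pchk_3358
  · exact t1690_pchk_3359

end Cfsg.Agent.H35
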