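import Cfsg.Agent.H35.T1690.PTab

set_option autoImplicit false
set_option linter.all false
set_option Elab.async false

namespace Cfsg.Agent.H35

theorem t1690_pchk_3360 : allR t1690_pf 306936 6 (3360 * 2 ^ 6) = true := by decide +kernel
theorem t1690_pchk_3361 : allR t1690_pf 306936 6 (3361 * 2 ^ 6) = true := by decide +kernel
theorem t1690_pchk_3362 : allR t1690_pf 306936 6 (3362 * 2 ^ 6) = true := by decide +kernel
theorem t1690_pchk_3363 : allR t1690_pf 306936 6 (3363 * 2 ^ 6) = true := by decide +kernel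
theorem t1690_pchk_3364 : allR t1690_pf 306936 6 (3364 * 2 ^ 6) = true := by decide +kernel
theorem t1690_pchk_3365 : allR t1690_pf 306936 6 (3365 * 2 ^ 6) = true := by decide +kernel
theorem t1690_pchk_3366 : allR t1690_pf 306936 6 (3366 * 2 ^ 6) = true := by decide +kernel
theorem t1690_pchk_3367 : allR t1690_pf 306936 6 (3367 * 2 ^ 6) = true := by decide +kernel
theorem t1690_pchk_3368 : allR t1690_pf 306936 6 (3368 * 2 ^ 6) = true := by decide +kernel
theorem t1690_pchk_3369 : allR t1690_pf 306936 6 (3369 * 2 ^ 6) = true := by decide +kernel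
theorem t1690_pchk_3370 : allR t1690_pf 306936 6 (3370 * 2 ^ 6) = true := by decide +kernel
theorem t1690_pchk_3371 : allR t1690_pf 306936 6 (3371 * 2 ^ 6) = true := by decide +kernel
theorem t1690_pchk_3372 : allR t1690_pf 306936 6 (3372 * 2 ^ 6) = true := by decide +kernel
theorem t1690_pchk_3373 : allR t1690_pf 306936 6 (3373 * 2 ^ 6) = true := by decide +kernel
theorem t1690_pchk_3374 : allR t1690_pf 306936 6 (3374 * 2 ^ 6) = true := by decide +kernel
theorem t1690_pchk_3375 : allR t1690_pf 306936 6 (3375 * 2 ^ 6) = true := by decide +kernel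
theorem t1690_pchk_3376 : allR t1690_pf 306936 6 (3376 * 2 ^ 6) = true := by decide +kernel
theorem t1690_pchk_3377 : allR t1690_pf 306936 6 (3377 * 2 ^ 6) = true := by decide +kernel
theorem t1690_pchk_3378 : allR t1690_pf 306936 6 (3378 * 2 ^ 6) = true := by decide +kernel
theorem t1690_pchk_3379 : allR t1690_pf 306936 6 (3379 * 2 ^ 6) = true := by decide +kernel
theorem t1690_pchk_3380 : allR t1690_pf 306936 6 (3380 * 2 ^ 6) = true := by decide +kernel
theorem t1690_pchk_3381 : allR t1690_pf 306936 6 (3381 * 2 ^ 6) = true := by decide +kernel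
theorem t1690_pchk_3382 : allR t1690_pf 306936 6 (3382 * 2 ^ 6) = true := by decide +kernel
theorem t1690_pchk_3383 : allR t1690_pf 306936 6 (3383 * 2 ^ 6) = true := by decide +kernel
theorem t1690_pchk_3384 : allR t1690_pf 306936 6 (3384 * 2 ^ 6) = true := by decide +kernel
theorem t1690_pchk_3385 : allR t1690_pf 306936 6 (3385 * 2 ^ 6) = true := by decide +kernel
theorem t1690_pchk_3386 : allR t1690_pf 306936 6 (3386 * 2 ^ 6) = true := by decide +kernel
theorem t1690_pchk_3387 : allR t1690_pf 306936 6 (3387 * 2 ^ 6) = true := by decide +kernel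
theorem t1690_pchk_3388 : allR t1690_pf 306936 6 (3388 * 2 ^ 6) = true := by decide +kernel
theorem t1690_pchk_3389 : allR t1690_pf 306936 6 (3389 * 2 ^ 6) = true := by decide +kernel
theorem t1690_pchk_3390 : allR t1690_pf 306936 6 (3390 * 2 ^ 6) = true := by decide +kernel
theorem t1690_pchk_3391 : allR t1690_pf 306936 6 (3391 * 2 ^ 6) = true := by decide +kernel
theorem t1690_pchk_3392 : allR t1690_pf 306936 6 (3392 * 2 ^ 6) = true := by decide +kernel
theorem t1690_pchk_3393 : allR t1690_pf 306936 6 (3393 * 2 ^ 6) = true := by decide +kernel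
theorem t1690_pchk_3394 : allR t1690_pf 306936 6 (3394 * 2 ^ 6) = true := by decide +kernel
theorem t1690_pchk_3395 : allR t1690_pf 306936 6 (3395 * 2 ^ 6) = true := by decide +kernel
theorem t1690_pchk_3396 : allR t1690_pf 306936 6 (3396 * 2 ^ 6) = true := by decide +kernel
theorem t1690_pchk_3397 : allR t1690_pf 306936 6 (3397 * 2 ^ 6) = true := by decide +kernel
theorem t1690_pchk_3398 : allR t1690_pf 306936 6 (3398 * 2 ^ 6) = true := by decide +kernel
theorem t1690_pchk_3399 : allR t1690_pf 306936 6 (3399 * 2 ^ 6) = true := by decide +kernel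
theorem t1690_pchk_3400 : allR t1690_pf 306936 6 (3400 * 2 ^ 6) = true := by decide +kernel
theorem t1690_pchk_3401 : allR t1690_pf 306936 6 (3401 * 2 ^ 6) = true := by decide +kernel
theorem t1690_pchk_3402 : allR t1690_pf 306936 6 (3402 * 2 ^ 6) = true := by decide +kernel
theorem t1690_pchk_3403 : allR t1690_pf 306936 6 (3403 * 2 ^ 6) = true := by decide +kernel
theorem t1690_pchk_3404 : allR t1690_pf 306936 6 (3404 * 2 ^ 6) = true := by decide +kernel
theorem t1690_pchk_3405 : allR t1690_pf 306936 6 (3405 * 2 ^ 6) = true := by decide +kernel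
theorem t1690_pchk_3406 : allR t1690_pf 306936 6 (3406 * 2 ^ 6) = true := by decide +kernel
theorem t1690_pchk_3407 : allR t1690_pf 306936 6 (3407 * 2 ^ 6) = true := by decide +kernel
theorem t1690_pchk_3408 : allR t1690_pf 306936 6 (3408 * 2 ^ 6) = true := by decide +kernel
theorem t1690_pchk_3409 : allR t1690_pf 306936 6 (3409 * 2 ^ 6) = true := by decide +kernel
theorem t1690_pchk_3410 : allR t1690_pf 306936 6 (3410 * 2 ^ 6) = true := by decide +kernel
theorem t1690_pchk_3411 : allR t1690_pf 306936 6 (3411 * 2 ^ 6) = true := by decide +kernel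
theorem t1690_pchk_3412 : allR t1690_pf 306936 6 (3412 * 2 ^ 6) = true := by decide +kernel
theorem t1690_pchk_3413 : allR t1690_pf 306936 6 (3413 * 2 ^ 6) = true := by decide +kernel
theorem t1690_pchk_3414 : allR t1690_pf 306936 6 (3414 * 2 ^ 6) = true := by decide +kernel
theorem t1690_pchk_3415 : allR t1690_pf 306936 6 (3415 * 2 ^ 6) = true := by decide +kernel
theorem t1690_pchk_3416 : allR t1690_pf 306936 6 (3416 * 2 ^ 6) = true := by decide +kernel
theorem t1690_pchk_3417 : allR t1690_pf 306936 6 (3417 * 2 ^ 6) = true := by decide +kernel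
theorem t1690_pchk_3418 : allR t1690_pf 306936 6 (3418 * 2 ^ 6) = true := by decide +kernel
theorem t1690_pchk_3419 : allR t1690_pf 306936 6 (3419 * 2 ^ 6) = true := by decide +kernel
theorem t1690_pchk_3420 : allR t1690_pf 306936 6 (3420 * 2 ^ 6) = true := by decide +kernel
theorem t1690_pchk_3421 : allR t1690_pf 306936 6 (3421 * 2 ^ 6) = true := by decide +kernel
theorem t1690_pchk_3422 : allR t1690_pf 306936 6 (3422 * 2 ^ 6) = true := by decide +kernel
theorem t1690_pchk_3423 : allR t1690_pf 306936 6 (3423 * 2 ^ 6) = true := by decide +kernel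
theorem t1690_pchk_3424 : allR t1690_pf 306936 6 (3424 * 2 ^ 6) = true := by decide +kernel
theorem t1690_pchk_3425 : allR t1690_pf 306936 6 (3425 * 2 ^ 6) = true := by decide +kernel
theorem t1690_pchk_3426 : allR t1690_pf 306936 6 (3426 * 2 ^ 6) = true := by decide +kernel
theorem t1690_pchk_3427 : allR t1690_pf 306936 6 (3427 * 2 ^ 6) = true := by decide +kernel
theorem t1690_pchk_3428 : allR t1690_pf 306936 6 (3428 * 2 ^ 6) = true := by decide +kernel
theorem t1690_pchk_3429 : allR t1690_pf 306936 6 (3429 * 2 ^ 6) = true := by decide +kernel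
theorem t1690_pchk_3430 : allR t1690_pf 306936 6 (3430 * 2 ^ 6) = true := by decide +kernel
theorem t1690_pchk_3431 : allR t1690_pf 306936 6 (3431 * 2 ^ 6) = true := by decide +kernel
theorem t1690_pchk_3432 : allR t1690_pf 306936 6 (3432 * 2 ^ 6) = true := by decide +kernel
theorem t1690_pchk_3433 : allR t1690_pf 306936 6 (3433 * 2 ^ 6) = true := by decide +kernel
theorem t1690_pchk_3434 : allR t1690_pf 306936 6 (3434 * 2 ^ 6) = true := by decide +kernel
theorem t1690_pchk_3435 : allR t1690_pf 306936 6 (3435 * 2 ^ 6) = true := by decide +kernel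
theorem t1690_pchk_3436 : allR t1690_pf 306936 6 (3436 * 2 ^ 6) = true := by decide +kernel
theorem t1690_pchk_3437 : allR t1690_pf 306936 6 (3437 * 2 ^ 6) = true := by decide +kernel
theorem t1690_pchk_3438 : allR t1690_pf 306936 6 (3438 * 2 ^ 6) = true := by decide +kernel
theorem t1690_pchk_3439 : allR t1690_pf 306936 6 (3439 * 2 ^ 6) = true := by decide +kernel
theorem t1690_pchk_3440 : allR t1690_pf 306936 6 (3440 * 2 ^ 6) = true := by decide +kernel
theorem t1690_pchk_3441 : allR t1690_pf 306936 6 (3441 * 2 ^ 6) = true := by decide +kernel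
theorem t1690_pchk_3442 : allR t1690_pf 306936 6 (3442 * 2 ^ 6) = true := by decide +kernel
theorem t1690_pchk_3443 : allR t1690_pf 306936 6 (3443 * 2 ^ 6) = true := by decide +kernel
theorem t1690_pchk_3444 : allR t1690_pf 306936 6 (3444 * 2 ^ 6) = true := by decide +kernel
theorem t1690_pchk_3445 : allR t1690_pf 306936 6 (3445 * 2 ^ 6) = true := by decide +kernel
theorem t1690_pchk_3446 : allR t1690_pf 306936 6 (3446 * 2 ^ 6) = true := by decide +kernel
theorem t1690_pchk_3447 : allR t1690_pf 306936 6 (3447 * 2 ^ 6) = true := by decide +kernel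
theorem t1690_pchk_3448 : allR t1690_pf 306936 6 (3448 * 2 ^ 6) = true := by decide +kernel
theorem t1690_pchk_3449 : allR t1690_pf 306936 6 (3449 * 2 ^ 6) = true := by decide +kernel
theorem t1690_pchk_3450 : allR t1690_pf 306936 6 (3450 * 2 ^ 6) = true := by decide +kernel
theorem t1690_pchk_3451 : allR t1690_pf 306936 6 (3451 * 2 ^ 6) = true := by decide +kernel
theorem t1690_pchk_3452 : allR t1690_pf 306936 6 (3452 * 2 ^ 6) = true := by decide +kernel
theorem t1690_pchk_3453 : allR t1690_pf 306936 6 (3453 * 2 ^ 6) = true := by decide +kernel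
theorem t1690_pchk_3454 : allR t1690_pf 306936 6 (3454 * 2 ^ 6) = true := by decide +kernel
theorem t1690_pchk_3455 : allR t1690_pf 306936 6 (3455 * 2 ^ 6) = true := by decide +kernel
theorem t1690_pchk_3456 : allR t1690_pf 306936 6 (3456 * 2 ^ 6) = true := by decide +kernel
theorem t1690_pchk_3457 : allR t1690_pf 306936 6 (3457 * 2 ^ 6) = true := by decide +kernel
theorem t1690_pchk_3458 : allR t1690_pf 306936 6 (3458 * 2 ^ 6) = true := by decide +kernel
theorem t1690_pchk_3459 : allR t1690_pf 306936 6 (3459 * 2 ^ 6) = true := by decide +kernel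
theorem t1690_pchk_3460 : allR t1690_pf 306936 6 (3460 * 2 ^ 6) = true := by decide +kernel
theorem t1690_pchk_3461 : allR t1690_pf 306936 6 (3461 * 2 ^ 6) = true := by decide +kernel
theorem t1690_pchk_3462 : allR t1690_pf 306936 6 (3462 * 2 ^ 6) = true := by decide +kernel
theorem t1690_pchk_3463 : allR t1690_pf 306936 6 (3463 * 2 ^ 6) = true := by decide +kernel
theorem t1690_pchk_3464 : allR t1690_pf 306936 6 (3464 * 2 ^ 6) = true := by decide +kernel
theorem t1690_pchk_3465 : allR t1690_pf 306936 6 (3465 * 2 ^ 6) = true := by decide +kernel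
theorem t1690_pchk_3466 : allR t1690_pf 306936 6 (3466 * 2 ^ 6) = true := by decide +kernel
theorem t1690_pchk_3467 : allR t1690_pf 306936 6 (3467 * 2 ^ 6) = true := by decide +kernel
theorem t1690_pchk_3468 : allR t1690_pf 306936 6 (3468 * 2 ^ 6) = true := by decide +kernel
theorem t1690_pchk_3469 : allR t1690_pf 306936 6 (3469 * 2 ^ 6) = true := by decide +kernel
theorem t1690_pchk_3470 : allR t1690_pf 306936 6 (3470 * 2 ^ 6) = true := by decide +kernel
theorem t1690_pchk_3471 : allR t1690_pf 306936 6 (3471 * 2 ^ 6) = true := by decide +kernel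
theorem t1690_pchk_3472 : allR t1690_pf 306936 6 (3472 * 2 ^ 6) = true := by decide +kernel
theorem t1690_pchk_3473 : allR t1690_pf 306936 6 (3473 * 2 ^ 6) = true := by decide +kernel
theorem t1690_pchk_3474 : allR t1690_pf 306936 6 (3474 * 2 ^ 6) = true := by decide +kernel
theorem t1690_pchk_3475 : allR t1690_pf 306936 6 (3475 * 2 ^ 6) = true := by decide +kernel
theorem t1690_pchk_3476 : allR t1690_pf 306936 6 (3476 * 2 ^ 6) = true := by decide +kernel
theorem t1690_pchk_3477 : allR t1690_pf 306936 6 (3477 * 2 ^ 6) = true := by decide +kernel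
theorem t1690_pchk_3478 : allR t1690_pf 306936 6 (3478 * 2 ^ 6) = true := by decide +kernel
theorem t1690_pchk_3479 : allR t1690_pf 306936 6 (3479 * 2 ^ 6) = true := by decide +kernel

theorem t1690_pfile_28 : ∀ k, k < 3480 → 3360 ≤ k → allR t1690_pf 306936 6 (k * 2 ^ 6) = true := by
  intro k h1 h2
  interval_cases k
  · exact t1690_pchk_3360
  · exact t1690_pchk_3361
  · exact t1690_pchk_3362
  · exact t1690_pchk_3363
  · exact t1690_pchk_3364
  · exact t1690_pchk_3365
  · exact t1690_pchk_3366
  · exact t1690_pchk_3367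
  · exact t1690_pchk_3368
  · exact t1690_pchk_3369
  · exact t1690_pchk_3370
  · exact t1690_pchk_3371
  · exact t1690_pchk_3372
  · exact t1690_pchk_3373
  · exact t1690_pchk_3374
  · exact t1690_pchk_3375
  · exact t1690_pchk_3376
  · exact t1690_pchk_3377
  · exact t1690_pchk_3378
  · exact t1690_pchk_3379
  · exact t1690_pchk_3380
  · exact t1690_pchk_3381
  · exact t1690_pchk_3382
  · exact t1690_pchk_3383
  · exact t1690_pchk_3384
  · exact t1690_pchk_3385
  · exact t1690_pchk_3386
  · exact t1690_pchk_3387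
  · exact t1690_pchk_3388
  · exact t1690_pchk_3389
  · exact t1690_pchk_3390
  · exact t1690_pchk_3391
  · exact t1690_pchk_3392
  · exact t1690_pchk_3393
  · exact t1690_pchk_3394
  · exact t1690_pchk_3395
  · exact t1690_pchk_3396
  · exact t1690_pchk_3397
  · exact t1690_pchk_3398
  · exact t1690_pchk_3399
  · exact t1690_pchk_3400
  · exact t1690_pchk_3401
  · exact t1690_pchk_3402
  · exact t1690_pchk_3403
  · exact t1690_pchk_3404
  · exact t1690_pchk_3405
  · exact t1690_pchk_3406
  · exact t1690_pchk_3407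
  · exact t1690_pchk_3408
  · exact t1690_pchk_3409
  · exact t1690_pchk_3410
  · exact t1690_pchk_3411
  · exact t1690_pchk_3412
  · exact t1690_pchk_3413
  · exact t1690_pchk_3414
  · exact t1690_pchk_3415
  · exact t1690_pchk_3416
  · exact t1690_pchk_3417
  · exact t1690_pchk_3418
  · exact t1690_pchk_3419
  · exact t1690_pchk_3420
  · exact t1690_pchk_3421
  · exact t1690_pchk_3422
  · exact t1690_pchk_3423
  · exact t1690_pchk_3424
  · exact t1690_pchk_3425
  · exact t1690_pchk_3426
  · exact t1690_pchk_3427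
  · exact t1690_pchk_3428
  · exact t1690_pchk_3429
  · exact t1690_pchk_3430
  · exact t1690_pchk_3431
  · exact t1690_pchk_3432
  · exact t1690_pchk_3433
  · exact t1690_pchk_3434
  · exact t1690_pchk_3435
  · exact t1690_pchk_3436
  · exact t1690_pchk_3437
  · exact t1690_pchk_3438
  · exact t1690_pchk_3439
  · exact t1690_pchk_3440
  · exact t1690_pchk_3441
  · exact t1690_pchk_3442
  · exact t1690_pchk_3443
  · exact t1690_pchk_3444
  · exact t1690_pchk_3445
  · exact t1690_pchk_3446
  · exact t1690_pchk_3447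
  · exact t1690_pchk_3448
  · exact t1690_pchk_3449
  · exact t1690_pchk_3450
  · exact t1690_pchk_3451
  · exact t1690_pchk_3452
  · exact t1690_pchk_3453
  · exact t1690_pchk_3454
  · exact t1690_pchk_3455
  · exact t1690_pchk_3456
  · exact t1690_pchk_3457
  · exact t1690_pchk_3458
  · exact t1690_pchk_3459
  · exact t1690_pchk_3460
  · exact t1690_pchk_3461
  · exact t1690_pchk_3462
  · exact t1690_pchk_3463
  · exact t1690_pchk_3464
  · exact t1690_pchk_3465
  · exact t1690_pchk_3466
  · exact t1690_pchk_3467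
  · exact t1690_pchk_3468
  · exact t1690_pchk_3469
  · exact t1690_pchk_3470
  · exact t1690_pchk_3471
  · exact t1690_pchk_3472
  · exact t1690_pchk_3473
  · exact t1690_pchk_3474
  · exact t1690_pchk_3475
  · exact t1690_pchk_3476
  · exact t1690_pchk_3477
  · exact t1690_pchk_3478
  · exact t1690_pchk_3479

end Cfsg.Agent.H35
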