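import Cfsg.Agent.H35.T1690.PTab

set_option autoImplicit false
set_option linter.all false
set_option Elab.async false

namespace Cfsg.Agent.H35

theorem t1690_pchk_3600 : allR t1690_pf 306936 6 (3600 * 2 ^ 6) = true := by decide +kernel
theorem t1690_pchk_3601 : allR t1690_pf 306936 6 (3601 * 2 ^ 6) = true := by decide +kernel
theorem t1690_pchk_3602 : allR t1690_pf 306936 6 (3602 * 2 ^ 6) = true := by decide +kernel
theorem t1690_pchk_3603 : allR t1690_pf 306936 6 (3603 * 2 ^ 6) = true := by decide +kernel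
theorem t1690_pchk_3604 : allR t1690_pf 306936 6 (3604 * 2 ^ 6) = true := by decide +kernel
theorem t1690_pchk_3605 : allR t1690_pf 306936 6 (3605 * 2 ^ 6) = true := by decide +kernel
theorem t1690_pchk_3606 : allR t1690_pf 306936 6 (3606 * 2 ^ 6) = true := by decide +kernel
theorem t1690_pchk_3607 : allR t1690_pf 306936 6 (3607 * 2 ^ 6) = true := by decide +kernel
theorem t1690_pchk_3608 : allR t1690_pf 306936 6 (3608 * 2 ^ 6) = true := by decide +kernel
theorem t1690_pchk_3609 : allR t1690_pf 306936 6 (3609 * 2 ^ 6) = true := by decide +kernel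
theorem t1690_pchk_3610 : allR t1690_pf 306936 6 (3610 * 2 ^ 6) = true := by decide +kernel
theorem t1690_pchk_3611 : allR t1690_pf 306936 6 (3611 * 2 ^ 6) = true := by decide +kernel
theorem t1690_pchk_3612 : allR t1690_pf 306936 6 (3612 * 2 ^ 6) = true := by decide +kernel
theorem t1690_pchk_3613 : allR t1690_pf 306936 6 (3613 * 2 ^ 6) = true := by decide +kernel
theorem t1690_pchk_3614 : allR t1690_pf 306936 6 (3614 * 2 ^ 6) = true := by decide +kernel
theorem t1690_pchk_3615 : allR t1690_pf 306936 6 (3615 * 2 ^ 6) = true := by decide +kernel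
theorem t1690_pchk_3616 : allR t1690_pf 306936 6 (3616 * 2 ^ 6) = true := by decide +kernel
theorem t1690_pchk_3617 : allR t1690_pf 306936 6 (3617 * 2 ^ 6) = true := by decide +kernel
theorem t1690_pchk_3618 : allR t1690_pf 306936 6 (3618 * 2 ^ 6) = true := by decide +kernel
theorem t1690_pchk_3619 : allR t1690_pf 306936 6 (3619 * 2 ^ 6) = true := by decide +kernel
theorem t1690_pchk_3620 : allR t1690_pf 306936 6 (3620 * 2 ^ 6) = true := by decide +kernel
theorem t1690_pchk_3621 : allR t1690_pf 306936 6 (3621 * 2 ^ 6) = true := by decide +kernel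
theorem t1690_pchk_3622 : allR t1690_pf 306936 6 (3622 * 2 ^ 6) = true := by decide +kernel
theorem t1690_pchk_3623 : allR t1690_pf 306936 6 (3623 * 2 ^ 6) = true := by decide +kernel
theorem t1690_pchk_3624 : allR t1690_pf 306936 6 (3624 * 2 ^ 6) = true := by decide +kernel
theorem t1690_pchk_3625 : allR t1690_pf 306936 6 (3625 * 2 ^ 6) = true := by decide +kernel
theorem t1690_pchk_3626 : allR t1690_pf 306936 6 (3626 * 2 ^ 6) = true := by decide +kernel
theorem t1690_pchk_3627 : allR t1690_pf 306936 6 (3627 * 2 ^ 6) = true := by decide +kernel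
theorem t1690_pchk_3628 : allR t1690_pf 306936 6 (3628 * 2 ^ 6) = true := by decide +kernel
theorem t1690_pchk_3629 : allR t1690_pf 306936 6 (3629 * 2 ^ 6) = true := by decide +kernel
theorem t1690_pchk_3630 : allR t1690_pf 306936 6 (3630 * 2 ^ 6) = true := by decide +kernel
theorem t1690_pchk_3631 : allR t1690_pf 306936 6 (3631 * 2 ^ 6) = true := by decide +kernel
theorem t1690_pchk_3632 : allR t1690_pf 306936 6 (3632 * 2 ^ 6) = true := by decide +kernel
theorem t1690_pchk_3633 : allR t1690_pf 306936 6 (3633 * 2 ^ 6) = true := by decide +kernel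
theorem t1690_pchk_3634 : allR t1690_pf 306936 6 (3634 * 2 ^ 6) = true := by decide +kernel
theorem t1690_pchk_3635 : allR t1690_pf 306936 6 (3635 * 2 ^ 6) = true := by decide +kernel
theorem t1690_pchk_3636 : allR t1690_pf 306936 6 (3636 * 2 ^ 6) = true := by decide +kernel
theorem t1690_pchk_3637 : allR t1690_pf 306936 6 (3637 * 2 ^ 6) = true := by decide +kernel
theorem t1690_pchk_3638 : allR t1690_pf 306936 6 (3638 * 2 ^ 6) = true := by decide +kernel
theorem t1690_pchk_3639 : allR t1690_pf 306936 6 (3639 * 2 ^ 6) = true := by decide +kernel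
theorem t1690_pchk_3640 : allR t1690_pf 306936 6 (3640 * 2 ^ 6) = true := by decide +kernel
theorem t1690_pchk_3641 : allR t1690_pf 306936 6 (3641 * 2 ^ 6) = true := by decide +kernel
theorem t1690_pchk_3642 : allR t1690_pf 306936 6 (3642 * 2 ^ 6) = true := by decide +kernel
theorem t1690_pchk_3643 : allR t1690_pf 306936 6 (3643 * 2 ^ 6) = true := by decide +kernel
theorem t1690_pchk_3644 : allR t1690_pf 306936 6 (3644 * 2 ^ 6) = true := by decide +kernel
theorem t1690_pchk_3645 : allR t1690_pf 306936 6 (3645 * 2 ^ 6) = true := by decide +kernel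
theorem t1690_pchk_3646 : allR t1690_pf 306936 6 (3646 * 2 ^ 6) = true := by decide +kernel
theorem t1690_pchk_3647 : allR t1690_pf 306936 6 (3647 * 2 ^ 6) = true := by decide +kernel
theorem t1690_pchk_3648 : allR t1690_pf 306936 6 (3648 * 2 ^ 6) = true := by decide +kernel
theorem t1690_pchk_3649 : allR t1690_pf 306936 6 (3649 * 2 ^ 6) = true := by decide +kernel
theorem t1690_pchk_3650 : allR t1690_pf 306936 6 (3650 * 2 ^ 6) = true := by decide +kernel
theorem t1690_pchk_3651 : allR t1690_pf 306936 6 (3651 * 2 ^ 6) = true := by decide +kernel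
theorem t1690_pchk_3652 : allR t1690_pf 306936 6 (3652 * 2 ^ 6) = true := by decide +kernel
theorem t1690_pchk_3653 : allR t1690_pf 306936 6 (3653 * 2 ^ 6) = true := by decide +kernel
theorem t1690_pchk_3654 : allR t1690_pf 306936 6 (3654 * 2 ^ 6) = true := by decide +kernel
theorem t1690_pchk_3655 : allR t1690_pf 306936 6 (3655 * 2 ^ 6) = true := by decide +kernel
theorem t1690_pchk_3656 : allR t1690_pf 306936 6 (3656 * 2 ^ 6) = true := by decide +kernel
theorem t1690_pchk_3657 : allR t1690_pf 306936 6 (3657 * 2 ^ 6) = true := by decide +kernel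
theorem t1690_pchk_3658 : allR t1690_pf 306936 6 (3658 * 2 ^ 6) = true := by decide +kernel
theorem t1690_pchk_3659 : allR t1690_pf 306936 6 (3659 * 2 ^ 6) = true := by decide +kernel
theorem t1690_pchk_3660 : allR t1690_pf 306936 6 (3660 * 2 ^ 6) = true := by decide +kernel
theorem t1690_pchk_3661 : allR t1690_pf 306936 6 (3661 * 2 ^ 6) = true := by decide +kernel
theorem t1690_pchk_3662 : allR t1690_pf 306936 6 (3662 * 2 ^ 6) = true := by decide +kernel
theorem t1690_pchk_3663 : allR t1690_pf 306936 6 (3663 * 2 ^ 6) = true := by decide +kernel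
theorem t1690_pchk_3664 : allR t1690_pf 306936 6 (3664 * 2 ^ 6) = true := by decide +kernel
theorem t1690_pchk_3665 : allR t1690_pf 306936 6 (3665 * 2 ^ 6) = true := by decide +kernel
theorem t1690_pchk_3666 : allR t1690_pf 306936 6 (3666 * 2 ^ 6) = true := by decide +kernel
theorem t1690_pchk_3667 : allR t1690_pf 306936 6 (3667 * 2 ^ 6) = true := by decide +kernel
theorem t1690_pchk_3668 : allR t1690_pf 306936 6 (3668 * 2 ^ 6) = true := by decide +kernel
theorem t1690_pchk_3669 : allR t1690_pf 306936 6 (3669 * 2 ^ 6) = true := by decide +kernel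
theorem t1690_pchk_3670 : allR t1690_pf 306936 6 (3670 * 2 ^ 6) = true := by decide +kernel
theorem t1690_pchk_3671 : allR t1690_pf 306936 6 (3671 * 2 ^ 6) = true := by decide +kernel
theorem t1690_pchk_3672 : allR t1690_pf 306936 6 (3672 * 2 ^ 6) = true := by decide +kernel
theorem t1690_pchk_3673 : allR t1690_pf 306936 6 (3673 * 2 ^ 6) = true := by decide +kernel
theorem t1690_pchk_3674 : allR t1690_pf 306936 6 (3674 * 2 ^ 6) = true := by decide +kernel
theorem t1690_pchk_3675 : allR t1690_pf 306936 6 (3675 * 2 ^ 6) = true := by decide +kernel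
theorem t1690_pchk_3676 : allR t1690_pf 306936 6 (3676 * 2 ^ 6) = true := by decide +kernel
theorem t1690_pchk_3677 : allR t1690_pf 306936 6 (3677 * 2 ^ 6) = true := by decide +kernel
theorem t1690_pchk_3678 : allR t1690_pf 306936 6 (3678 * 2 ^ 6) = true := by decide +kernel
theorem t1690_pchk_3679 : allR t1690_pf 306936 6 (3679 * 2 ^ 6) = true := by decide +kernel
theorem t1690_pchk_3680 : allR t1690_pf 306936 6 (3680 * 2 ^ 6) = true := by decide +kernel
theorem t1690_pchk_3681 : allR t1690_pf 306936 6 (3681 * 2 ^ 6) = true := by decide +kernel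
theorem t1690_pchk_3682 : allR t1690_pf 306936 6 (3682 * 2 ^ 6) = true := by decide +kernel
theorem t1690_pchk_3683 : allR t1690_pf 306936 6 (3683 * 2 ^ 6) = true := by decide +kernel
theorem t1690_pchk_3684 : allR t1690_pf 306936 6 (3684 * 2 ^ 6) = true := by decide +kernel
theorem t1690_pchk_3685 : allR t1690_pf 306936 6 (3685 * 2 ^ 6) = true := by decide +kernel
theorem t1690_pchk_3686 : allR t1690_pf 306936 6 (3686 * 2 ^ 6) = true := by decide +kernel
theorem t1690_pchk_3687 : allR t1690_pf 306936 6 (3687 * 2 ^ 6) = true := by decide +kernel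
theorem t1690_pchk_3688 : allR t1690_pf 306936 6 (3688 * 2 ^ 6) = true := by decide +kernel
theorem t1690_pchk_3689 : allR t1690_pf 306936 6 (3689 * 2 ^ 6) = true := by decide +kernel
theorem t1690_pchk_3690 : allR t1690_pf 306936 6 (3690 * 2 ^ 6) = true := by decide +kernel
theorem t1690_pchk_3691 : allR t1690_pf 306936 6 (3691 * 2 ^ 6) = true := by decide +kernel
theorem t1690_pchk_3692 : allR t1690_pf 306936 6 (3692 * 2 ^ 6) = true := by decide +kernel
theorem t1690_pchk_3693 : allR t1690_pf 306936 6 (3693 * 2 ^ 6) = true := by decide +kernel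
theorem t1690_pchk_3694 : allR t1690_pf 306936 6 (3694 * 2 ^ 6) = true := by decide +kernel
theorem t1690_pchk_3695 : allR t1690_pf 306936 6 (3695 * 2 ^ 6) = true := by decide +kernel
theorem t1690_pchk_3696 : allR t1690_pf 306936 6 (3696 * 2 ^ 6) = true := by decide +kernel
theorem t1690_pchk_3697 : allR t1690_pf 306936 6 (3697 * 2 ^ 6) = true := by decide +kernel
theorem t1690_pchk_3698 : allR t1690_pf 306936 6 (3698 * 2 ^ 6) = true := by decide +kernel
theorem t1690_pchk_3699 : allR t1690_pf 306936 6 (3699 * 2 ^ 6) = true := by decide +kernel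
theorem t1690_pchk_3700 : allR t1690_pf 306936 6 (3700 * 2 ^ 6) = true := by decide +kernel
theorem t1690_pchk_3701 : allR t1690_pf 306936 6 (3701 * 2 ^ 6) = true := by decide +kernel
theorem t1690_pchk_3702 : allR t1690_pf 306936 6 (3702 * 2 ^ 6) = true := by decide +kernel
theorem t1690_pchk_3703 : allR t1690_pf 306936 6 (3703 * 2 ^ 6) = true := by decide +kernel
theorem t1690_pchk_3704 : allR t1690_pf 306936 6 (3704 * 2 ^ 6) = true := by decide +kernel
theorem t1690_pchk_3705 : allR t1690_pf 306936 6 (3705 * 2 ^ 6) = true := by decide +kernel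
theorem t1690_pchk_3706 : allR t1690_pf 306936 6 (3706 * 2 ^ 6) = true := by decide +kernel
theorem t1690_pchk_3707 : allR t1690_pf 306936 6 (3707 * 2 ^ 6) = true := by decide +kernel
theorem t1690_pchk_3708 : allR t1690_pf 306936 6 (3708 * 2 ^ 6) = true := by decide +kernel
theorem t1690_pchk_3709 : allR t1690_pf 306936 6 (3709 * 2 ^ 6) = true := by decide +kernel
theorem t1690_pchk_3710 : allR t1690_pf 306936 6 (3710 * 2 ^ 6) = true := by decide +kernel
theorem t1690_pchk_3711 : allR t1690_pf 306936 6 (3711 * 2 ^ 6) = true := by decide +kernel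
theorem t1690_pchk_3712 : allR t1690_pf 306936 6 (3712 * 2 ^ 6) = true := by decide +kernel
theorem t1690_pchk_3713 : allR t1690_pf 306936 6 (3713 * 2 ^ 6) = true := by decide +kernel
theorem t1690_pchk_3714 : allR t1690_pf 306936 6 (3714 * 2 ^ 6) = true := by decide +kernel
theorem t1690_pchk_3715 : allR t1690_pf 306936 6 (3715 * 2 ^ 6) = true := by decide +kernel
theorem t1690_pchk_3716 : allR t1690_pf 306936 6 (3716 * 2 ^ 6) = true := by decide +kernel
theorem t1690_pchk_3717 : allR t1690_pf 306936 6 (3717 * 2 ^ 6) = true := by decide +kernel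
theorem t1690_pchk_3718 : allR t1690_pf 306936 6 (3718 * 2 ^ 6) = true := by decide +kernel
theorem t1690_pchk_3719 : allR t1690_pf 306936 6 (3719 * 2 ^ 6) = true := by decide +kernel

theorem t1690_pfile_30 : ∀ k, k < 3720 → 3600 ≤ k → allR t1690_pf 306936 6 (k * 2 ^ 6) = true := by
  intro k h1 h2
  interval_cases k
  · exact t1690_pchk_3600
  · exact t1690_pchk_3601
  · exact t1690_pchk_3602
  · exact t1690_pchk_3603
  · exact t1690_pchk_3604
  · exact t1690_pchk_3605
  · exact t1690_pchk_3606
  · exact t1690_pchk_3607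
  · exact t1690_pchk_3608
  · exact t1690_pchk_3609
  · exact t1690_pchk_3610
  · exact t1690_pchk_3611
  · exact t1690_pchk_3612
  · exact t1690_pchk_3613
  · exact t1690_pchk_3614
  · exact t1690_pchk_3615
  · exact t1690_pchk_3616
  · exact t1690_pchk_3617
  · exact t1690_pchk_3618
  · exact t1690_pchk_3619
  · exact t1690_pchk_3620
  · exact t1690_pchk_3621
  · exact t1690_pchk_3622
  · exact t1690_pchk_3623
  · exact t1690_pchk_3624
  · exact t1690_pchk_3625
  · exact t1690_pchk_3626
  · exact t1690_pchk_3627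
  · exact t1690_pchk_3628
  · exact t1690_pchk_3629
  · exact t1690_pchk_3630
  · exact t1690_pchk_3631
  · exact t1690_pchk_3632
  · exact t1690_pchk_3633
  · exact t1690_pchk_3634
  · exact t1690_pchk_3635
  · exact t1690_pchk_3636
  · exact t1690_pchk_3637
  · exact t1690_pchk_3638
  · exact t1690_pchk_3639
  · exact t1690_pchk_3640
  · exact t1690_pchk_3641
  · exact t1690_pchk_3642
  · exact t1690_pchk_3643
  · exact t1690_pchk_3644
  · exact t1690_pchk_3645
  · exact t1690_pchk_3646
  · exact t1690_pchk_3647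
  · exact t1690_pchk_3648
  · exact t1690_pchk_3649
  · exact t1690_pchk_3650
  · exact t1690_pchk_3651
  · exact t1690_pchk_3652
  · exact t1690_pchk_3653
  · exact t1690_pchk_3654
  · exact t1690_pchk_3655
  · exact t1690_pchk_3656
  · exact t1690_pchk_3657
  · exact t1690_pchk_3658
  · exact t1690_pchk_3659
  · exact t1690_pchk_3660
  · exact t1690_pchk_3661
  · exact t1690_pchk_3662
  · exact t1690_pchk_3663
  · exact t1690_pchk_3664
  · exact t1690_pchk_3665
  · exact t1690_pchk_3666
  · exact t1690_pchk_3667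
  · exact t1690_pchk_3668
  · exact t1690_pchk_3669
  · exact t1690_pchk_3670
  · exact t1690_pchk_3671
  · exact t1690_pchk_3672
  · exact t1690_pchk_3673
  · exact t1690_pchk_3674
  · exact t1690_pchk_3675
  · exact t1690_pchk_3676
  · exact t1690_pchk_3677
  · exact t1690_pchk_3678
  · exact t1690_pchk_3679
  · exact t1690_pchk_3680
  · exact t1690_pchk_3681
  · exact t1690_pchk_3682
  · exact t1690_pchk_3683
  · exact t1690_pchk_3684
  · exact t1690_pchk_3685
  · exact t1690_pchk_3686
  · exact t1690_pchk_3687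
  · exact t1690_pchk_3688
  · exact t1690_pchk_3689
  · exact t1690_pchk_3690
  · exact t1690_pchk_3691
  · exact t1690_pchk_3692
  · exact t1690_pchk_3693
  · exact t1690_pchk_3694
  · exact t1690_pchk_3695
  · exact t1690_pchk_3696
  · exact t1690_pchk_3697
  · exact t1690_pchk_3698
  · exact t1690_pchk_3699
  · exact t1690_pchk_3700
  · exact t1690_pchk_3701
  · exact t1690_pchk_3702
  · exact t1690_pchk_3703
  · exact t1690_pchk_3704
  · exact t1690_pchk_3705
  · exact t1690_pchk_3706
  · exact t1690_pchk_3707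
  · exact t1690_pchk_3708
  · exact t1690_pchk_3709
  · exact t1690_pchk_3710
  · exact t1690_pchk_3711
  · exact t1690_pchk_3712
  · exact t1690_pchk_3713
  · exact t1690_pchk_3714
  · exact t1690_pchk_3715
  · exact t1690_pchk_3716
  · exact t1690_pchk_3717
  · exact t1690_pchk_3718
  · exact t1690_pchk_3719

end Cfsg.Agent.H35
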