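import Cfsg.Agent.H35.T1690.PTab

set_option autoImplicit false
set_option linter.all false
set_option Elab.async false

namespace Cfsg.Agent.H35

theorem t1690_pchk_3720 : allR t1690_pf 306936 6 (3720 * 2 ^ 6) = true := by decide +kernel
theorem t1690_pchk_3721 : allR t1690_pf 306936 6 (3721 * 2 ^ 6) = true := by decide +kernel
theorem t1690_pchk_3722 : allR t1690_pf 306936 6 (3722 * 2 ^ 6) = true := by decide +kernel
theorem t1690_pchk_3723 : allR t1690_pf 306936 6 (3723 * 2 ^ 6) = true := by decide +kernel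
theorem t1690_pchk_3724 : allR t1690_pf 306936 6 (3724 * 2 ^ 6) = true := by decide +kernel
theorem t1690_pchk_3725 : allR t1690_pf 306936 6 (3725 * 2 ^ 6) = true := by decide +kernel
theorem t1690_pchk_3726 : allR t1690_pf 306936 6 (3726 * 2 ^ 6) = true := by decide +kernel
theorem t1690_pchk_3727 : allR t1690_pf 306936 6 (3727 * 2 ^ 6) = true := by decide +kernel
theorem t1690_pchk_3728 : allR t1690_pf 306936 6 (3728 * 2 ^ 6) = true := by decide +kernel
theorem t1690_pchk_3729 : allR t1690_pf 306936 6 (3729 * 2 ^ 6) = true := by decide +kernel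
theorem t1690_pchk_3730 : allR t1690_pf 306936 6 (3730 * 2 ^ 6) = true := by decide +kernel
theorem t1690_pchk_3731 : allR t1690_pf 306936 6 (3731 * 2 ^ 6) = true := by decide +kernel
theorem t1690_pchk_3732 : allR t1690_pf 306936 6 (3732 * 2 ^ 6) = true := by decide +kernel
theorem t1690_pchk_3733 : allR t1690_pf 306936 6 (3733 * 2 ^ 6) = true := by decide +kernel
theorem t1690_pchk_3734 : allR t1690_pf 306936 6 (3734 * 2 ^ 6) = true := by decide +kernel
theorem t1690_pchk_3735 : allR t1690_pf 306936 6 (3735 * 2 ^ 6) = true := by decide +kernel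
theorem t1690_pchk_3736 : allR t1690_pf 306936 6 (3736 * 2 ^ 6) = true := by decide +kernel
theorem t1690_pchk_3737 : allR t1690_pf 306936 6 (3737 * 2 ^ 6) = true := by decide +kernel
theorem t1690_pchk_3738 : allR t1690_pf 306936 6 (3738 * 2 ^ 6) = true := by decide +kernel
theorem t1690_pchk_3739 : allR t1690_pf 306936 6 (3739 * 2 ^ 6) = true := by decide +kernel
theorem t1690_pchk_3740 : allR t1690_pf 306936 6 (3740 * 2 ^ 6) = true := by decide +kernel
theorem t1690_pchk_3741 : allR t1690_pf 306936 6 (3741 * 2 ^ 6) = true := by decide +kernel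
theorem t1690_pchk_3742 : allR t1690_pf 306936 6 (3742 * 2 ^ 6) = true := by decide +kernel
theorem t1690_pchk_3743 : allR t1690_pf 306936 6 (3743 * 2 ^ 6) = true := by decide +kernel
theorem t1690_pchk_3744 : allR t1690_pf 306936 6 (3744 * 2 ^ 6) = true := by decide +kernel
theorem t1690_pchk_3745 : allR t1690_pf 306936 6 (3745 * 2 ^ 6) = true := by decide +kernel
theorem t1690_pchk_3746 : allR t1690_pf 306936 6 (3746 * 2 ^ 6) = true := by decide +kernel
theorem t1690_pchk_3747 : allR t1690_pf 306936 6 (3747 * 2 ^ 6) = true := by decide +kernel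
theorem t1690_pchk_3748 : allR t1690_pf 306936 6 (3748 * 2 ^ 6) = true := by decide +kernel
theorem t1690_pchk_3749 : allR t1690_pf 306936 6 (3749 * 2 ^ 6) = true := by decide +kernel
theorem t1690_pchk_3750 : allR t1690_pf 306936 6 (3750 * 2 ^ 6) = true := by decide +kernel
theorem t1690_pchk_3751 : allR t1690_pf 306936 6 (3751 * 2 ^ 6) = true := by decide +kernel
theorem t1690_pchk_3752 : allR t1690_pf 306936 6 (3752 * 2 ^ 6) = true := by decide +kernel
theorem t1690_pchk_3753 : allR t1690_pf 306936 6 (3753 * 2 ^ 6) = true := by decide +kernel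
theorem t1690_pchk_3754 : allR t1690_pf 306936 6 (3754 * 2 ^ 6) = true := by decide +kernel
theorem t1690_pchk_3755 : allR t1690_pf 306936 6 (3755 * 2 ^ 6) = true := by decide +kernel
theorem t1690_pchk_3756 : allR t1690_pf 306936 6 (3756 * 2 ^ 6) = true := by decide +kernel
theorem t1690_pchk_3757 : allR t1690_pf 306936 6 (3757 * 2 ^ 6) = true := by decide +kernel
theorem t1690_pchk_3758 : allR t1690_pf 306936 6 (3758 * 2 ^ 6) = true := by decide +kernel
theorem t1690_pchk_3759 : allR t1690_pf 306936 6 (3759 * 2 ^ 6) = true := by decide +kernel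
theorem t1690_pchk_3760 : allR t1690_pf 306936 6 (3760 * 2 ^ 6) = true := by decide +kernel
theorem t1690_pchk_3761 : allR t1690_pf 306936 6 (3761 * 2 ^ 6) = true := by decide +kernel
theorem t1690_pchk_3762 : allR t1690_pf 306936 6 (3762 * 2 ^ 6) = true := by decide +kernel
theorem t1690_pchk_3763 : allR t1690_pf 306936 6 (3763 * 2 ^ 6) = true := by decide +kernel
theorem t1690_pchk_3764 : allR t1690_pf 306936 6 (3764 * 2 ^ 6) = true := by decide +kernel
theorem t1690_pchk_3765 : allR t1690_pf 306936 6 (3765 * 2 ^ 6) = true := by decide +kernel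
theorem t1690_pchk_3766 : allR t1690_pf 306936 6 (3766 * 2 ^ 6) = true := by decide +kernel
theorem t1690_pchk_3767 : allR t1690_pf 306936 6 (3767 * 2 ^ 6) = true := by decide +kernel
theorem t1690_pchk_3768 : allR t1690_pf 306936 6 (3768 * 2 ^ 6) = true := by decide +kernel
theorem t1690_pchk_3769 : allR t1690_pf 306936 6 (3769 * 2 ^ 6) = true := by decide +kernel
theorem t1690_pchk_3770 : allR t1690_pf 306936 6 (3770 * 2 ^ 6) = true := by decide +kernel
theorem t1690_pchk_3771 : allR t1690_pf 306936 6 (3771 * 2 ^ 6) = true := by decide +kernel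
theorem t1690_pchk_3772 : allR t1690_pf 306936 6 (3772 * 2 ^ 6) = true := by decide +kernel
theorem t1690_pchk_3773 : allR t1690_pf 306936 6 (3773 * 2 ^ 6) = true := by decide +kernel
theorem t1690_pchk_3774 : allR t1690_pf 306936 6 (3774 * 2 ^ 6) = true := by decide +kernel
theorem t1690_pchk_3775 : allR t1690_pf 306936 6 (3775 * 2 ^ 6) = true := by decide +kernel
theorem t1690_pchk_3776 : allR t1690_pf 306936 6 (3776 * 2 ^ 6) = true := by decide +kernel
theorem t1690_pchk_3777 : allR t1690_pf 306936 6 (3777 * 2 ^ 6) = true := by decide +kernel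
theorem t1690_pchk_3778 : allR t1690_pf 306936 6 (3778 * 2 ^ 6) = true := by decide +kernel
theorem t1690_pchk_3779 : allR t1690_pf 306936 6 (3779 * 2 ^ 6) = true := by decide +kernel
theorem t1690_pchk_3780 : allR t1690_pf 306936 6 (3780 * 2 ^ 6) = true := by decide +kernel
theorem t1690_pchk_3781 : allR t1690_pf 306936 6 (3781 * 2 ^ 6) = true := by decide +kernel
theorem t1690_pchk_3782 : allR t1690_pf 306936 6 (3782 * 2 ^ 6) = true := by decide +kernel
theorem t1690_pchk_3783 : allR t1690_pf 306936 6 (3783 * 2 ^ 6) = true := by decide +kernel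
theorem t1690_pchk_3784 : allR t1690_pf 306936 6 (3784 * 2 ^ 6) = true := by decide +kernel
theorem t1690_pchk_3785 : allR t1690_pf 306936 6 (3785 * 2 ^ 6) = true := by decide +kernel
theorem t1690_pchk_3786 : allR t1690_pf 306936 6 (3786 * 2 ^ 6) = true := by decide +kernel
theorem t1690_pchk_3787 : allR t1690_pf 306936 6 (3787 * 2 ^ 6) = true := by decide +kernel
theorem t1690_pchk_3788 : allR t1690_pf 306936 6 (3788 * 2 ^ 6) = true := by decide +kernel
theorem t1690_pchk_3789 : allR t1690_pf 306936 6 (3789 * 2 ^ 6) = true := by decide +kernel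
theorem t1690_pchk_3790 : allR t1690_pf 306936 6 (3790 * 2 ^ 6) = true := by decide +kernel
theorem t1690_pchk_3791 : allR t1690_pf 306936 6 (3791 * 2 ^ 6) = true := by decide +kernel
theorem t1690_pchk_3792 : allR t1690_pf 306936 6 (3792 * 2 ^ 6) = true := by decide +kernel
theorem t1690_pchk_3793 : allR t1690_pf 306936 6 (3793 * 2 ^ 6) = true := by decide +kernel
theorem t1690_pchk_3794 : allR t1690_pf 306936 6 (3794 * 2 ^ 6) = true := by decide +kernel
theorem t1690_pchk_3795 : allR t1690_pf 306936 6 (3795 * 2 ^ 6) = true := by decide +kernel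
theorem t1690_pchk_3796 : allR t1690_pf 306936 6 (3796 * 2 ^ 6) = true := by decide +kernel
theorem t1690_pchk_3797 : allR t1690_pf 306936 6 (3797 * 2 ^ 6) = true := by decide +kernel
theorem t1690_pchk_3798 : allR t1690_pf 306936 6 (3798 * 2 ^ 6) = true := by decide +kernel
theorem t1690_pchk_3799 : allR t1690_pf 306936 6 (3799 * 2 ^ 6) = true := by decide +kernel
theorem t1690_pchk_3800 : allR t1690_pf 306936 6 (3800 * 2 ^ 6) = true := by decide +kernel
theorem t1690_pchk_3801 : allR t1690_pf 306936 6 (3801 * 2 ^ 6) = true := by decide +kernel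
theorem t1690_pchk_3802 : allR t1690_pf 306936 6 (3802 * 2 ^ 6) = true := by decide +kernel
theorem t1690_pchk_3803 : allR t1690_pf 306936 6 (3803 * 2 ^ 6) = true := by decide +kernel
theorem t1690_pchk_3804 : allR t1690_pf 306936 6 (3804 * 2 ^ 6) = true := by decide +kernel
theorem t1690_pchk_3805 : allR t1690_pf 306936 6 (3805 * 2 ^ 6) = true := by decide +kernel
theorem t1690_pchk_3806 : allR t1690_pf 306936 6 (3806 * 2 ^ 6) = true := by decide +kernel
theorem t1690_pchk_3807 : allR t1690_pf 306936 6 (3807 * 2 ^ 6) = true := by decide +kernel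
theorem t1690_pchk_3808 : allR t1690_pf 306936 6 (3808 * 2 ^ 6) = true := by decide +kernel
theorem t1690_pchk_3809 : allR t1690_pf 306936 6 (3809 * 2 ^ 6) = true := by decide +kernel
theorem t1690_pchk_3810 : allR t1690_pf 306936 6 (3810 * 2 ^ 6) = true := by decide +kernel
theorem t1690_pchk_3811 : allR t1690_pf 306936 6 (3811 * 2 ^ 6) = true := by decide +kernel
theorem t1690_pchk_3812 : allR t1690_pf 306936 6 (3812 * 2 ^ 6) = true := by decide +kernel
theorem t1690_pchk_3813 : allR t1690_pf 306936 6 (3813 * 2 ^ 6) = true := by decide +kernel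
theorem t1690_pchk_3814 : allR t1690_pf 306936 6 (3814 * 2 ^ 6) = true := by decide +kernel
theorem t1690_pchk_3815 : allR t1690_pf 306936 6 (3815 * 2 ^ 6) = true := by decide +kernel
theorem t1690_pchk_3816 : allR t1690_pf 306936 6 (3816 * 2 ^ 6) = true := by decide +kernel
theorem t1690_pchk_3817 : allR t1690_pf 306936 6 (3817 * 2 ^ 6) = true := by decide +kernel
theorem t1690_pchk_3818 : allR t1690_pf 306936 6 (3818 * 2 ^ 6) = true := by decide +kernel
theorem t1690_pchk_3819 : allR t1690_pf 306936 6 (3819 * 2 ^ 6) = true := by decide +kernel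
theorem t1690_pchk_3820 : allR t1690_pf 306936 6 (3820 * 2 ^ 6) = true := by decide +kernel
theorem t1690_pchk_3821 : allR t1690_pf 306936 6 (3821 * 2 ^ 6) = true := by decide +kernel
theorem t1690_pchk_3822 : allR t1690_pf 306936 6 (3822 * 2 ^ 6) = true := by decide +kernel
theorem t1690_pchk_3823 : allR t1690_pf 306936 6 (3823 * 2 ^ 6) = true := by decide +kernel
theorem t1690_pchk_3824 : allR t1690_pf 306936 6 (3824 * 2 ^ 6) = true := by decide +kernel
theorem t1690_pchk_3825 : allR t1690_pf 306936 6 (3825 * 2 ^ 6) = true := by decide +kernel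
theorem t1690_pchk_3826 : allR t1690_pf 306936 6 (3826 * 2 ^ 6) = true := by decide +kernel
theorem t1690_pchk_3827 : allR t1690_pf 306936 6 (3827 * 2 ^ 6) = true := by decide +kernel
theorem t1690_pchk_3828 : allR t1690_pf 306936 6 (3828 * 2 ^ 6) = true := by decide +kernel
theorem t1690_pchk_3829 : allR t1690_pf 306936 6 (3829 * 2 ^ 6) = true := by decide +kernel
theorem t1690_pchk_3830 : allR t1690_pf 306936 6 (3830 * 2 ^ 6) = true := by decide +kernel
theorem t1690_pchk_3831 : allR t1690_pf 306936 6 (3831 * 2 ^ 6) = true := by decide +kernel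
theorem t1690_pchk_3832 : allR t1690_pf 306936 6 (3832 * 2 ^ 6) = true := by decide +kernel
theorem t1690_pchk_3833 : allR t1690_pf 306936 6 (3833 * 2 ^ 6) = true := by decide +kernel
theorem t1690_pchk_3834 : allR t1690_pf 306936 6 (3834 * 2 ^ 6) = true := by decide +kernel
theorem t1690_pchk_3835 : allR t1690_pf 306936 6 (3835 * 2 ^ 6) = true := by decide +kernel
theorem t1690_pchk_3836 : allR t1690_pf 306936 6 (3836 * 2 ^ 6) = true := by decide +kernel
theorem t1690_pchk_3837 : allR t1690_pf 306936 6 (3837 * 2 ^ 6) = true := by decide +kernel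
theorem t1690_pchk_3838 : allR t1690_pf 306936 6 (3838 * 2 ^ 6) = true := by decide +kernel
theorem t1690_pchk_3839 : allR t1690_pf 306936 6 (3839 * 2 ^ 6) = true := by decide +kernel

theorem t1690_pfile_31 : ∀ k, k < 3840 → 3720 ≤ k → allR t1690_pf 306936 6 (k * 2 ^ 6) = true := by
  intro k h1 h2
  interval_cases k
  · exact t1690_pchk_3720
  · exact t1690_pchk_3721
  · exact t1690_pchk_3722
  · exact t1690_pchk_3723
  · exact t1690_pchk_3724
  · exact t1690_pchk_3725
  · exact t1690_pchk_3726
  · exact t1690_pchk_3727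
  · exact t1690_pchk_3728
  · exact t1690_pchk_3729
  · exact t1690_pchk_3730
  · exact t1690_pchk_3731
  · exact t1690_pchk_3732
  · exact t1690_pchk_3733
  · exact t1690_pchk_3734
  · exact t1690_pchk_3735
  · exact t1690_pchk_3736
  · exact t1690_pchk_3737
  · exact t1690_pchk_3738
  · exact t1690_pchk_3739
  · exact t1690_pchk_3740
  · exact t1690_pchk_3741
  · exact t1690_pchk_3742
  · exact t1690_pchk_3743
  · exact t1690_pchk_3744
  · exact t1690_pchk_3745
  · exact t1690_pchk_3746
  · exact t1690_pchk_3747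
  · exact t1690_pchk_3748
  · exact t1690_pchk_3749
  · exact t1690_pchk_3750
  · exact t1690_pchk_3751
  · exact t1690_pchk_3752
  · exact t1690_pchk_3753
  · exact t1690_pchk_3754
  · exact t1690_pchk_3755
  · exact t1690_pchk_3756
  · exact t1690_pchk_3757
  · exact t1690_pchk_3758
  · exact t1690_pchk_3759
  · exact t1690_pchk_3760
  · exact t1690_pchk_3761
  · exact t1690_pchk_3762
  · exact t1690_pchk_3763
  · exact t1690_pchk_3764
  · exact t1690_pchk_3765
  · exact t1690_pchk_3766
  · exact t1690_pchk_3767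
  · exact t1690_pchk_3768
  · exact t1690_pchk_3769
  · exact t1690_pchk_3770
  · exact t1690_pchk_3771
  · exact t1690_pchk_3772
  · exact t1690_pchk_3773
  · exact t1690_pchk_3774
  · exact t1690_pchk_3775
  · exact t1690_pchk_3776
  · exact t1690_pchk_3777
  · exact t1690_pchk_3778
  · exact t1690_pchk_3779
  · exact t1690_pchk_3780
  · exact t1690_pchk_3781
  · exact t1690_pchk_3782
  · exact t1690_pchk_3783
  · exact t1690_pchk_3784
  · exact t1690_pchk_3785
  · exact t1690_pchk_3786
  · exact t1690_pchk_3787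
  · exact t1690_pchk_3788
  · exact t1690_pchk_3789
  · exact t1690_pchk_3790
  · exact t1690_pchk_3791
  · exact t1690_pchk_3792
  · exact t1690_pchk_3793
  · exact t1690_pchk_3794
  · exact t1690_pchk_3795
  · exact t1690_pchk_3796
  · exact t1690_pchk_3797
  · exact t1690_pchk_3798
  · exact t1690_pchk_3799
  · exact t1690_pchk_3800
  · exact t1690_pchk_3801
  · exact t1690_pchk_3802
  · exact t1690_pchk_3803
  · exact t1690_pchk_3804
  · exact t1690_pchk_3805
  · exact t1690_pchk_3806
  · exact t1690_pchk_3807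
  · exact t1690_pchk_3808
  · exact t1690_pchk_3809
  · exact t1690_pchk_3810
  · exact t1690_pchk_3811
  · exact t1690_pchk_3812
  · exact t1690_pchk_3813
  · exact t1690_pchk_3814
  · exact t1690_pchk_3815
  · exact t1690_pchk_3816
  · exact t1690_pchk_3817
  · exact t1690_pchk_3818
  · exact t1690_pchk_3819
  · exact t1690_pchk_3820
  · exact t1690_pchk_3821
  · exact t1690_pchk_3822
  · exact t1690_pchk_3823
  · exact t1690_pchk_3824
  · exact t1690_pchk_3825
  · exact t1690_pchk_3826
  · exact t1690_pchk_3827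
  · exact t1690_pchk_3828
  · exact t1690_pchk_3829
  · exact t1690_pchk_3830
  · exact t1690_pchk_3831
  · exact t1690_pchk_3832
  · exact t1690_pchk_3833
  · exact t1690_pchk_3834
  · exact t1690_pchk_3835
  · exact t1690_pchk_3836
  · exact t1690_pchk_3837
  · exact t1690_pchk_3838
  · exact t1690_pchk_3839

end Cfsg.Agent.H35
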