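import Cfsg.Agent.H35.T1690.PTab

set_option autoImplicit false
set_option linter.all false
set_option Elab.async false

namespace Cfsg.Agent.H35

theorem t1690_pchk_3840 : allR t1690_pf 306936 6 (3840 * 2 ^ 6) = true := by decide +kernel
theorem t1690_pchk_3841 : allR t1690_pf 306936 6 (3841 * 2 ^ 6) = true := by decide +kernel
theorem t1690_pchk_3842 : allR t1690_pf 306936 6 (3842 * 2 ^ 6) = true := by decide +kernel
theorem t1690_pchk_3843 : allR t1690_pf 306936 6 (3843 * 2 ^ 6) = true := by decide +kernel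
theorem t1690_pchk_3844 : allR t1690_pf 306936 6 (3844 * 2 ^ 6) = true := by decide +kernel
theorem t1690_pchk_3845 : allR t1690_pf 306936 6 (3845 * 2 ^ 6) = true := by decide +kernel
theorem t1690_pchk_3846 : allR t1690_pf 306936 6 (3846 * 2 ^ 6) = true := by decide +kernel
theorem t1690_pchk_3847 : allR t1690_pf 306936 6 (3847 * 2 ^ 6) = true := by decide +kernel
theorem t1690_pchk_3848 : allR t1690_pf 306936 6 (3848 * 2 ^ 6) = true := by decide +kernel
theorem t1690_pchk_3849 : allR t1690_pf 306936 6 (3849 * 2 ^ 6) = true := by decide +kernel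
theorem t1690_pchk_3850 : allR t1690_pf 306936 6 (3850 * 2 ^ 6) = true := by decide +kernel
theorem t1690_pchk_3851 : allR t1690_pf 306936 6 (3851 * 2 ^ 6) = true := by decide +kernel
theorem t1690_pchk_3852 : allR t1690_pf 306936 6 (3852 * 2 ^ 6) = true := by decide +kernel
theorem t1690_pchk_3853 : allR t1690_pf 306936 6 (3853 * 2 ^ 6) = true := by decide +kernel
theorem t1690_pchk_3854 : allR t1690_pf 306936 6 (3854 * 2 ^ 6) = true := by decide +kernel
theorem t1690_pchk_3855 : allR t1690_pf 306936 6 (3855 * 2 ^ 6) = true := by decide +kernel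
theorem t1690_pchk_3856 : allR t1690_pf 306936 6 (3856 * 2 ^ 6) = true := by decide +kernel
theorem t1690_pchk_3857 : allR t1690_pf 306936 6 (3857 * 2 ^ 6) = true := by decide +kernel
theorem t1690_pchk_3858 : allR t1690_pf 306936 6 (3858 * 2 ^ 6) = true := by decide +kernel
theorem t1690_pchk_3859 : allR t1690_pf 306936 6 (3859 * 2 ^ 6) = true := by decide +kernel
theorem t1690_pchk_3860 : allR t1690_pf 306936 6 (3860 * 2 ^ 6) = true := by decide +kernel
theorem t1690_pchk_3861 : allR t1690_pf 306936 6 (3861 * 2 ^ 6) = true := by decide +kernel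
theorem t1690_pchk_3862 : allR t1690_pf 306936 6 (3862 * 2 ^ 6) = true := by decide +kernel
theorem t1690_pchk_3863 : allR t1690_pf 306936 6 (3863 * 2 ^ 6) = true := by decide +kernel
theorem t1690_pchk_3864 : allR t1690_pf 306936 6 (3864 * 2 ^ 6) = true := by decide +kernel
theorem t1690_pchk_3865 : allR t1690_pf 306936 6 (3865 * 2 ^ 6) = true := by decide +kernel
theorem t1690_pchk_3866 : allR t1690_pf 306936 6 (3866 * 2 ^ 6) = true := by decide +kernel
theorem t1690_pchk_3867 : allR t1690_pf 306936 6 (3867 * 2 ^ 6) = true := by decide +kernel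
theorem t1690_pchk_3868 : allR t1690_pf 306936 6 (3868 * 2 ^ 6) = true := by decide +kernel
theorem t1690_pchk_3869 : allR t1690_pf 306936 6 (3869 * 2 ^ 6) = true := by decide +kernel
theorem t1690_pchk_3870 : allR t1690_pf 306936 6 (3870 * 2 ^ 6) = true := by decide +kernel
theorem t1690_pchk_3871 : allR t1690_pf 306936 6 (3871 * 2 ^ 6) = true := by decide +kernel
theorem t1690_pchk_3872 : allR t1690_pf 306936 6 (3872 * 2 ^ 6) = true := by decide +kernel
theorem t1690_pchk_3873 : allR t1690_pf 306936 6 (3873 * 2 ^ 6) = true := by decide +kernel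
theorem t1690_pchk_3874 : allR t1690_pf 306936 6 (3874 * 2 ^ 6) = true := by decide +kernel
theorem t1690_pchk_3875 : allR t1690_pf 306936 6 (3875 * 2 ^ 6) = true := by decide +kernel
theorem t1690_pchk_3876 : allR t1690_pf 306936 6 (3876 * 2 ^ 6) = true := by decide +kernel
theorem t1690_pchk_3877 : allR t1690_pf 306936 6 (3877 * 2 ^ 6) = true := by decide +kernel
theorem t1690_pchk_3878 : allR t1690_pf 306936 6 (3878 * 2 ^ 6) = true := by decide +kernel
theorem t1690_pchk_3879 : allR t1690_pf 306936 6 (3879 * 2 ^ 6) = true := by decide +kernel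
theorem t1690_pchk_3880 : allR t1690_pf 306936 6 (3880 * 2 ^ 6) = true := by decide +kernel
theorem t1690_pchk_3881 : allR t1690_pf 306936 6 (3881 * 2 ^ 6) = true := by decide +kernel
theorem t1690_pchk_3882 : allR t1690_pf 306936 6 (3882 * 2 ^ 6) = true := by decide +kernel
theorem t1690_pchk_3883 : allR t1690_pf 306936 6 (3883 * 2 ^ 6) = true := by decide +kernel
theorem t1690_pchk_3884 : allR t1690_pf 306936 6 (3884 * 2 ^ 6) = true := by decide +kernel
theorem t1690_pchk_3885 : allR t1690_pf 306936 6 (3885 * 2 ^ 6) = true := by decide +kernel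
theorem t1690_pchk_3886 : allR t1690_pf 306936 6 (3886 * 2 ^ 6) = true := by decide +kernel
theorem t1690_pchk_3887 : allR t1690_pf 306936 6 (3887 * 2 ^ 6) = true := by decide +kernel
theorem t1690_pchk_3888 : allR t1690_pf 306936 6 (3888 * 2 ^ 6) = true := by decide +kernel
theorem t1690_pchk_3889 : allR t1690_pf 306936 6 (3889 * 2 ^ 6) = true := by decide +kernel
theorem t1690_pchk_3890 : allR t1690_pf 306936 6 (3890 * 2 ^ 6) = true := by decide +kernel
theorem t1690_pchk_3891 : allR t1690_pf 306936 6 (3891 * 2 ^ 6) = true := by decide +kernel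
theorem t1690_pchk_3892 : allR t1690_pf 306936 6 (3892 * 2 ^ 6) = true := by decide +kernel
theorem t1690_pchk_3893 : allR t1690_pf 306936 6 (3893 * 2 ^ 6) = true := by decide +kernel
theorem t1690_pchk_3894 : allR t1690_pf 306936 6 (3894 * 2 ^ 6) = true := by decide +kernel
theorem t1690_pchk_3895 : allR t1690_pf 306936 6 (3895 * 2 ^ 6) = true := by decide +kernel
theorem t1690_pchk_3896 : allR t1690_pf 306936 6 (3896 * 2 ^ 6) = true := by decide +kernel
theorem t1690_pchk_3897 : allR t1690_pf 306936 6 (3897 * 2 ^ 6) = true := by decide +kernel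
theorem t1690_pchk_3898 : allR t1690_pf 306936 6 (3898 * 2 ^ 6) = true := by decide +kernel
theorem t1690_pchk_3899 : allR t1690_pf 306936 6 (3899 * 2 ^ 6) = true := by decide +kernel
theorem t1690_pchk_3900 : allR t1690_pf 306936 6 (3900 * 2 ^ 6) = true := by decide +kernel
theorem t1690_pchk_3901 : allR t1690_pf 306936 6 (3901 * 2 ^ 6) = true := by decide +kernel
theorem t1690_pchk_3902 : allR t1690_pf 306936 6 (3902 * 2 ^ 6) = true := by decide +kernel
theorem t1690_pchk_3903 : allR t1690_pf 306936 6 (3903 * 2 ^ 6) = true := by decide +kernel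
theorem t1690_pchk_3904 : allR t1690_pf 306936 6 (3904 * 2 ^ 6) = true := by decide +kernel
theorem t1690_pchk_3905 : allR t1690_pf 306936 6 (3905 * 2 ^ 6) = true := by decide +kernel
theorem t1690_pchk_3906 : allR t1690_pf 306936 6 (3906 * 2 ^ 6) = true := by decide +kernel
theorem t1690_pchk_3907 : allR t1690_pf 306936 6 (3907 * 2 ^ 6) = true := by decide +kernel
theorem t1690_pchk_3908 : allR t1690_pf 306936 6 (3908 * 2 ^ 6) = true := by decide +kernel
theorem t1690_pchk_3909 : allR t1690_pf 306936 6 (3909 * 2 ^ 6) = true := by decide +kernel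
theorem t1690_pchk_3910 : allR t1690_pf 306936 6 (3910 * 2 ^ 6) = true := by decide +kernel
theorem t1690_pchk_3911 : allR t1690_pf 306936 6 (3911 * 2 ^ 6) = true := by decide +kernel
theorem t1690_pchk_3912 : allR t1690_pf 306936 6 (3912 * 2 ^ 6) = true := by decide +kernel
theorem t1690_pchk_3913 : allR t1690_pf 306936 6 (3913 * 2 ^ 6) = true := by decide +kernel
theorem t1690_pchk_3914 : allR t1690_pf 306936 6 (3914 * 2 ^ 6) = true := by decide +kernel
theorem t1690_pchk_3915 : allR t1690_pf 306936 6 (3915 * 2 ^ 6) = true := by decide +kernel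
theorem t1690_pchk_3916 : allR t1690_pf 306936 6 (3916 * 2 ^ 6) = true := by decide +kernel
theorem t1690_pchk_3917 : allR t1690_pf 306936 6 (3917 * 2 ^ 6) = true := by decide +kernel
theorem t1690_pchk_3918 : allR t1690_pf 306936 6 (3918 * 2 ^ 6) = true := by decide +kernel
theorem t1690_pchk_3919 : allR t1690_pf 306936 6 (3919 * 2 ^ 6) = true := by decide +kernel
theorem t1690_pchk_3920 : allR t1690_pf 306936 6 (3920 * 2 ^ 6) = true := by decide +kernel
theorem t1690_pchk_3921 : allR t1690_pf 306936 6 (3921 * 2 ^ 6) = true := by decide +kernel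
theorem t1690_pchk_3922 : allR t1690_pf 306936 6 (3922 * 2 ^ 6) = true := by decide +kernel
theorem t1690_pchk_3923 : allR t1690_pf 306936 6 (3923 * 2 ^ 6) = true := by decide +kernel
theorem t1690_pchk_3924 : allR t1690_pf 306936 6 (3924 * 2 ^ 6) = true := by decide +kernel
theorem t1690_pchk_3925 : allR t1690_pf 306936 6 (3925 * 2 ^ 6) = true := by decide +kernel
theorem t1690_pchk_3926 : allR t1690_pf 306936 6 (3926 * 2 ^ 6) = true := by decide +kernel
theorem t1690_pchk_3927 : allR t1690_pf 306936 6 (3927 * 2 ^ 6) = true := by decide +kernel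
theorem t1690_pchk_3928 : allR t1690_pf 306936 6 (3928 * 2 ^ 6) = true := by decide +kernel
theorem t1690_pchk_3929 : allR t1690_pf 306936 6 (3929 * 2 ^ 6) = true := by decide +kernel
theorem t1690_pchk_3930 : allR t1690_pf 306936 6 (3930 * 2 ^ 6) = true := by decide +kernel
theorem t1690_pchk_3931 : allR t1690_pf 306936 6 (3931 * 2 ^ 6) = true := by decide +kernel
theorem t1690_pchk_3932 : allR t1690_pf 306936 6 (3932 * 2 ^ 6) = true := by decide +kernel
theorem t1690_pchk_3933 : allR t1690_pf 306936 6 (3933 * 2 ^ 6) = true := by decide +kernel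
theorem t1690_pchk_3934 : allR t1690_pf 306936 6 (3934 * 2 ^ 6) = true := by decide +kernel
theorem t1690_pchk_3935 : allR t1690_pf 306936 6 (3935 * 2 ^ 6) = true := by decide +kernel
theorem t1690_pchk_3936 : allR t1690_pf 306936 6 (3936 * 2 ^ 6) = true := by decide +kernel
theorem t1690_pchk_3937 : allR t1690_pf 306936 6 (3937 * 2 ^ 6) = true := by decide +kernel
theorem t1690_pchk_3938 : allR t1690_pf 306936 6 (3938 * 2 ^ 6) = true := by decide +kernel
theorem t1690_pchk_3939 : allR t1690_pf 306936 6 (3939 * 2 ^ 6) = true := by decide +kernel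
theorem t1690_pchk_3940 : allR t1690_pf 306936 6 (3940 * 2 ^ 6) = true := by decide +kernel
theorem t1690_pchk_3941 : allR t1690_pf 306936 6 (3941 * 2 ^ 6) = true := by decide +kernel
theorem t1690_pchk_3942 : allR t1690_pf 306936 6 (3942 * 2 ^ 6) = true := by decide +kernel
theorem t1690_pchk_3943 : allR t1690_pf 306936 6 (3943 * 2 ^ 6) = true := by decide +kernel
theorem t1690_pchk_3944 : allR t1690_pf 306936 6 (3944 * 2 ^ 6) = true := by decide +kernel
theorem t1690_pchk_3945 : allR t1690_pf 306936 6 (3945 * 2 ^ 6) = true := by decide +kernel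
theorem t1690_pchk_3946 : allR t1690_pf 306936 6 (3946 * 2 ^ 6) = true := by decide +kernel
theorem t1690_pchk_3947 : allR t1690_pf 306936 6 (3947 * 2 ^ 6) = true := by decide +kernel
theorem t1690_pchk_3948 : allR t1690_pf 306936 6 (3948 * 2 ^ 6) = true := by decide +kernel
theorem t1690_pchk_3949 : allR t1690_pf 306936 6 (3949 * 2 ^ 6) = true := by decide +kernel
theorem t1690_pchk_3950 : allR t1690_pf 306936 6 (3950 * 2 ^ 6) = true := by decide +kernel
theorem t1690_pchk_3951 : allR t1690_pf 306936 6 (3951 * 2 ^ 6) = true := by decide +kernel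
theorem t1690_pchk_3952 : allR t1690_pf 306936 6 (3952 * 2 ^ 6) = true := by decide +kernel
theorem t1690_pchk_3953 : allR t1690_pf 306936 6 (3953 * 2 ^ 6) = true := by decide +kernel
theorem t1690_pchk_3954 : allR t1690_pf 306936 6 (3954 * 2 ^ 6) = true := by decide +kernel
theorem t1690_pchk_3955 : allR t1690_pf 306936 6 (3955 * 2 ^ 6) = true := by decide +kernel
theorem t1690_pchk_3956 : allR t1690_pf 306936 6 (3956 * 2 ^ 6) = true := by decide +kernel
theorem t1690_pchk_3957 : allR t1690_pf 306936 6 (3957 * 2 ^ 6) = true := by decide +kernel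
theorem t1690_pchk_3958 : allR t1690_pf 306936 6 (3958 * 2 ^ 6) = true := by decide +kernel
theorem t1690_pchk_3959 : allR t1690_pf 306936 6 (3959 * 2 ^ 6) = true := by decide +kernel

theorem t1690_pfile_32 : ∀ k, k < 3960 → 3840 ≤ k → allR t1690_pf 306936 6 (k * 2 ^ 6) = true := by
  intro k h1 h2
  interval_cases k
  · exact t1690_pchk_3840
  · exact t1690_pchk_3841
  · exact t1690_pchk_3842
  · exact t1690_pchk_3843
  · exact t1690_pchk_3844
  · exact t1690_pchk_3845
  · exact t1690_pchk_3846
  · exact t1690_pchk_3847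
  · exact t1690_pchk_3848
  · exact t1690_pchk_3849
  · exact t1690_pchk_3850
  · exact t1690_pchk_3851
  · exact t1690_pchk_3852
  · exact t1690_pchk_3853
  · exact t1690_pchk_3854
  · exact t1690_pchk_3855
  · exact t1690_pchk_3856
  · exact t1690_pchk_3857
  · exact t1690_pchk_3858
  · exact t1690_pchk_3859
  · exact t1690_pchk_3860
  · exact t1690_pchk_3861
  · exact t1690_pchk_3862
  · exact t1690_pchk_3863
  · exact t1690_pchk_3864
  · exact t1690_pchk_3865
  · exact t1690_pchk_3866
  · exact t1690_pchk_3867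
  · exact t1690_pchk_3868
  · exact t1690_pchk_3869
  · exact t1690_pchk_3870
  · exact t1690_pchk_3871
  · exact t1690_pchk_3872
  · exact t1690_pchk_3873
  · exact t1690_pchk_3874
  · exact t1690_pchk_3875
  · exact t1690_pchk_3876
  · exact t1690_pchk_3877
  · exact t1690_pchk_3878
  · exact t1690_pchk_3879
  · exact t1690_pchk_3880
  · exact t1690_pchk_3881
  · exact t1690_pchk_3882
  · exact t1690_pchk_3883
  · exact t1690_pchk_3884
  · exact t1690_pchk_3885
  · exact t1690_pchk_3886
  · exact t1690_pchk_3887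
  · exact t1690_pchk_3888
  · exact t1690_pchk_3889
  · exact t1690_pchk_3890
  · exact t1690_pchk_3891
  · exact t1690_pchk_3892
  · exact t1690_pchk_3893
  · exact t1690_pchk_3894
  · exact t1690_pchk_3895
  · exact t1690_pchk_3896
  · exact t1690_pchk_3897
  · exact t1690_pchk_3898
  · exact t1690_pchk_3899
  · exact t1690_pchk_3900
  · exact t1690_pchk_3901
  · exact t1690_pchk_3902
  · exact t1690_pchk_3903
  · exact t1690_pchk_3904
  · exact t1690_pchk_3905
  · exact t1690_pchk_3906
  · exact t1690_pchk_3907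
  · exact t1690_pchk_3908
  · exact t1690_pchk_3909
  · exact t1690_pchk_3910
  · exact t1690_pchk_3911
  · exact t1690_pchk_3912
  · exact t1690_pchk_3913
  · exact t1690_pchk_3914
  · exact t1690_pchk_3915
  · exact t1690_pchk_3916
  · exact t1690_pchk_3917
  · exact t1690_pchk_3918
  · exact t1690_pchk_3919
  · exact t1690_pchk_3920
  · exact t1690_pchk_3921
  · exact t1690_pchk_3922
  · exact t1690_pchk_3923
  · exact t1690_pchk_3924
  · exact t1690_pchk_3925
  · exact t1690_pchk_3926
  · exact t1690_pchk_3927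
  · exact t1690_pchk_3928
  · exact t1690_pchk_3929
  · exact t1690_pchk_3930
  · exact t1690_pchk_3931
  · exact t1690_pchk_3932
  · exact t1690_pchk_3933
  · exact t1690_pchk_3934
  · exact t1690_pchk_3935
  · exact t1690_pchk_3936
  · exact t1690_pchk_3937
  · exact t1690_pchk_3938
  · exact t1690_pchk_3939
  · exact t1690_pchk_3940
  · exact t1690_pchk_3941
  · exact t1690_pchk_3942
  · exact t1690_pchk_3943
  · exact t1690_pchk_3944
  · exact t1690_pchk_3945
  · exact t1690_pchk_3946
  · exact t1690_pchk_3947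
  · exact t1690_pchk_3948
  · exact t1690_pchk_3949
  · exact t1690_pchk_3950
  · exact t1690_pchk_3951
  · exact t1690_pchk_3952
  · exact t1690_pchk_3953
  · exact t1690_pchk_3954
  · exact t1690_pchk_3955
  · exact t1690_pchk_3956
  · exact t1690_pchk_3957
  · exact t1690_pchk_3958
  · exact t1690_pchk_3959

end Cfsg.Agent.H35
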