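import Cfsg.Agent.H35.T1690.PTab

set_option autoImplicit false
set_option linter.all false
set_option Elab.async false

namespace Cfsg.Agent.H35

theorem t1690_pchk_3960 : allR t1690_pf 306936 6 (3960 * 2 ^ 6) = true := by decide +kernel
theorem t1690_pchk_3961 : allR t1690_pf 306936 6 (3961 * 2 ^ 6) = true := by decide +kernel
theorem t1690_pchk_3962 : allR t1690_pf 306936 6 (3962 * 2 ^ 6) = true := by decide +kernel
theorem t1690_pchk_3963 : allR t1690_pf 306936 6 (3963 * 2 ^ 6) = true := by decide +kernel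
theorem t1690_pchk_3964 : allR t1690_pf 306936 6 (3964 * 2 ^ 6) = true := by decide +kernel
theorem t1690_pchk_3965 : allR t1690_pf 306936 6 (3965 * 2 ^ 6) = true := by decide +kernel
theorem t1690_pchk_3966 : allR t1690_pf 306936 6 (3966 * 2 ^ 6) = true := by decide +kernel
theorem t1690_pchk_3967 : allR t1690_pf 306936 6 (3967 * 2 ^ 6) = true := by decide +kernel
theorem t1690_pchk_3968 : allR t1690_pf 306936 6 (3968 * 2 ^ 6) = true := by decide +kernel
theorem t1690_pchk_3969 : allR t1690_pf 306936 6 (3969 * 2 ^ 6) = true := by decide +kernel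
theorem t1690_pchk_3970 : allR t1690_pf 306936 6 (3970 * 2 ^ 6) = true := by decide +kernel
theorem t1690_pchk_3971 : allR t1690_pf 306936 6 (3971 * 2 ^ 6) = true := by decide +kernel
theorem t1690_pchk_3972 : allR t1690_pf 306936 6 (3972 * 2 ^ 6) = true := by decide +kernel
theorem t1690_pchk_3973 : allR t1690_pf 306936 6 (3973 * 2 ^ 6) = true := by decide +kernel
theorem t1690_pchk_3974 : allR t1690_pf 306936 6 (3974 * 2 ^ 6) = true := by decide +kernel
theorem t1690_pchk_3975 : allR t1690_pf 306936 6 (3975 * 2 ^ 6) = true := by decide +kernel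
theorem t1690_pchk_3976 : allR t1690_pf 306936 6 (3976 * 2 ^ 6) = true := by decide +kernel
theorem t1690_pchk_3977 : allR t1690_pf 306936 6 (3977 * 2 ^ 6) = true := by decide +kernel
theorem t1690_pchk_3978 : allR t1690_pf 306936 6 (3978 * 2 ^ 6) = true := by decide +kernel
theorem t1690_pchk_3979 : allR t1690_pf 306936 6 (3979 * 2 ^ 6) = true := by decide +kernel
theorem t1690_pchk_3980 : allR t1690_pf 306936 6 (3980 * 2 ^ 6) = true := by decide +kernel
theorem t1690_pchk_3981 : allR t1690_pf 306936 6 (3981 * 2 ^ 6) = true := by decide +kernel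
theorem t1690_pchk_3982 : allR t1690_pf 306936 6 (3982 * 2 ^ 6) = true := by decide +kernel
theorem t1690_pchk_3983 : allR t1690_pf 306936 6 (3983 * 2 ^ 6) = true := by decide +kernel
theorem t1690_pchk_3984 : allR t1690_pf 306936 6 (3984 * 2 ^ 6) = true := by decide +kernel
theorem t1690_pchk_3985 : allR t1690_pf 306936 6 (3985 * 2 ^ 6) = true := by decide +kernel
theorem t1690_pchk_3986 : allR t1690_pf 306936 6 (3986 * 2 ^ 6) = true := by decide +kernel
theorem t1690_pchk_3987 : allR t1690_pf 306936 6 (3987 * 2 ^ 6) = true := by decide +kernel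
theorem t1690_pchk_3988 : allR t1690_pf 306936 6 (3988 * 2 ^ 6) = true := by decide +kernel
theorem t1690_pchk_3989 : allR t1690_pf 306936 6 (3989 * 2 ^ 6) = true := by decide +kernel
theorem t1690_pchk_3990 : allR t1690_pf 306936 6 (3990 * 2 ^ 6) = true := by decide +kernel
theorem t1690_pchk_3991 : allR t1690_pf 306936 6 (3991 * 2 ^ 6) = true := by decide +kernel
theorem t1690_pchk_3992 : allR t1690_pf 306936 6 (3992 * 2 ^ 6) = true := by decide +kernel
theorem t1690_pchk_3993 : allR t1690_pf 306936 6 (3993 * 2 ^ 6) = true := by decide +kernel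
theorem t1690_pchk_3994 : allR t1690_pf 306936 6 (3994 * 2 ^ 6) = true := by decide +kernel
theorem t1690_pchk_3995 : allR t1690_pf 306936 6 (3995 * 2 ^ 6) = true := by decide +kernel
theorem t1690_pchk_3996 : allR t1690_pf 306936 6 (3996 * 2 ^ 6) = true := by decide +kernel
theorem t1690_pchk_3997 : allR t1690_pf 306936 6 (3997 * 2 ^ 6) = true := by decide +kernel
theorem t1690_pchk_3998 : allR t1690_pf 306936 6 (3998 * 2 ^ 6) = true := by decide +kernel
theorem t1690_pchk_3999 : allR t1690_pf 306936 6 (3999 * 2 ^ 6) = true := by decide +kernel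
theorem t1690_pchk_4000 : allR t1690_pf 306936 6 (4000 * 2 ^ 6) = true := by decide +kernel
theorem t1690_pchk_4001 : allR t1690_pf 306936 6 (4001 * 2 ^ 6) = true := by decide +kernel
theorem t1690_pchk_4002 : allR t1690_pf 306936 6 (4002 * 2 ^ 6) = true := by decide +kernel
theorem t1690_pchk_4003 : allR t1690_pf 306936 6 (4003 * 2 ^ 6) = true := by decide +kernel
theorem t1690_pchk_4004 : allR t1690_pf 306936 6 (4004 * 2 ^ 6) = true := by decide +kernel
theorem t1690_pchk_4005 : allR t1690_pf 306936 6 (4005 * 2 ^ 6) = true := by decide +kernel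
theorem t1690_pchk_4006 : allR t1690_pf 306936 6 (4006 * 2 ^ 6) = true := by decide +kernel
theorem t1690_pchk_4007 : allR t1690_pf 306936 6 (4007 * 2 ^ 6) = true := by decide +kernel
theorem t1690_pchk_4008 : allR t1690_pf 306936 6 (4008 * 2 ^ 6) = true := by decide +kernel
theorem t1690_pchk_4009 : allR t1690_pf 306936 6 (4009 * 2 ^ 6) = true := by decide +kernel
theorem t1690_pchk_4010 : allR t1690_pf 306936 6 (4010 * 2 ^ 6) = true := by decide +kernel
theorem t1690_pchk_4011 : allR t1690_pf 306936 6 (4011 * 2 ^ 6) = true := by decide +kernel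
theorem t1690_pchk_4012 : allR t1690_pf 306936 6 (4012 * 2 ^ 6) = true := by decide +kernel
theorem t1690_pchk_4013 : allR t1690_pf 306936 6 (4013 * 2 ^ 6) = true := by decide +kernel
theorem t1690_pchk_4014 : allR t1690_pf 306936 6 (4014 * 2 ^ 6) = true := by decide +kernel
theorem t1690_pchk_4015 : allR t1690_pf 306936 6 (4015 * 2 ^ 6) = true := by decide +kernel
theorem t1690_pchk_4016 : allR t1690_pf 306936 6 (4016 * 2 ^ 6) = true := by decide +kernel
theorem t1690_pchk_4017 : allR t1690_pf 306936 6 (4017 * 2 ^ 6) = true := by decide +kernel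
theorem t1690_pchk_4018 : allR t1690_pf 306936 6 (4018 * 2 ^ 6) = true := by decide +kernel
theorem t1690_pchk_4019 : allR t1690_pf 306936 6 (4019 * 2 ^ 6) = true := by decide +kernel
theorem t1690_pchk_4020 : allR t1690_pf 306936 6 (4020 * 2 ^ 6) = true := by decide +kernel
theorem t1690_pchk_4021 : allR t1690_pf 306936 6 (4021 * 2 ^ 6) = true := by decide +kernel
theorem t1690_pchk_4022 : allR t1690_pf 306936 6 (4022 * 2 ^ 6) = true := by decide +kernel
theorem t1690_pchk_4023 : allR t1690_pf 306936 6 (4023 * 2 ^ 6) = true := by decide +kernel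
theorem t1690_pchk_4024 : allR t1690_pf 306936 6 (4024 * 2 ^ 6) = true := by decide +kernel
theorem t1690_pchk_4025 : allR t1690_pf 306936 6 (4025 * 2 ^ 6) = true := by decide +kernel
theorem t1690_pchk_4026 : allR t1690_pf 306936 6 (4026 * 2 ^ 6) = true := by decide +kernel
theorem t1690_pchk_4027 : allR t1690_pf 306936 6 (4027 * 2 ^ 6) = true := by decide +kernel
theorem t1690_pchk_4028 : allR t1690_pf 306936 6 (4028 * 2 ^ 6) = true := by decide +kernel
theorem t1690_pchk_4029 : allR t1690_pf 306936 6 (4029 * 2 ^ 6) = true := by decide +kernel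
theorem t1690_pchk_4030 : allR t1690_pf 306936 6 (4030 * 2 ^ 6) = true := by decide +kernel
theorem t1690_pchk_4031 : allR t1690_pf 306936 6 (4031 * 2 ^ 6) = true := by decide +kernel
theorem t1690_pchk_4032 : allR t1690_pf 306936 6 (4032 * 2 ^ 6) = true := by decide +kernel
theorem t1690_pchk_4033 : allR t1690_pf 306936 6 (4033 * 2 ^ 6) = true := by decide +kernel
theorem t1690_pchk_4034 : allR t1690_pf 306936 6 (4034 * 2 ^ 6) = true := by decide +kernel
theorem t1690_pchk_4035 : allR t1690_pf 306936 6 (4035 * 2 ^ 6) = true := by decide +kernel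
theorem t1690_pchk_4036 : allR t1690_pf 306936 6 (4036 * 2 ^ 6) = true := by decide +kernel
theorem t1690_pchk_4037 : allR t1690_pf 306936 6 (4037 * 2 ^ 6) = true := by decide +kernel
theorem t1690_pchk_4038 : allR t1690_pf 306936 6 (4038 * 2 ^ 6) = true := by decide +kernel
theorem t1690_pchk_4039 : allR t1690_pf 306936 6 (4039 * 2 ^ 6) = true := by decide +kernel
theorem t1690_pchk_4040 : allR t1690_pf 306936 6 (4040 * 2 ^ 6) = true := by decide +kernel
theorem t1690_pchk_4041 : allR t1690_pf 306936 6 (4041 * 2 ^ 6) = true := by decide +kernel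
theorem t1690_pchk_4042 : allR t1690_pf 306936 6 (4042 * 2 ^ 6) = true := by decide +kernel
theorem t1690_pchk_4043 : allR t1690_pf 306936 6 (4043 * 2 ^ 6) = true := by decide +kernel
theorem t1690_pchk_4044 : allR t1690_pf 306936 6 (4044 * 2 ^ 6) = true := by decide +kernel
theorem t1690_pchk_4045 : allR t1690_pf 306936 6 (4045 * 2 ^ 6) = true := by decide +kernel
theorem t1690_pchk_4046 : allR t1690_pf 306936 6 (4046 * 2 ^ 6) = true := by decide +kernel
theorem t1690_pchk_4047 : allR t1690_pf 306936 6 (4047 * 2 ^ 6) = true := by decide +kernel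
theorem t1690_pchk_4048 : allR t1690_pf 306936 6 (4048 * 2 ^ 6) = true := by decide +kernel
theorem t1690_pchk_4049 : allR t1690_pf 306936 6 (4049 * 2 ^ 6) = true := by decide +kernel
theorem t1690_pchk_4050 : allR t1690_pf 306936 6 (4050 * 2 ^ 6) = true := by decide +kernel
theorem t1690_pchk_4051 : allR t1690_pf 306936 6 (4051 * 2 ^ 6) = true := by decide +kernel
theorem t1690_pchk_4052 : allR t1690_pf 306936 6 (4052 * 2 ^ 6) = true := by decide +kernel
theorem t1690_pchk_4053 : allR t1690_pf 306936 6 (4053 * 2 ^ 6) = true := by decide +kernel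
theorem t1690_pchk_4054 : allR t1690_pf 306936 6 (4054 * 2 ^ 6) = true := by decide +kernel
theorem t1690_pchk_4055 : allR t1690_pf 306936 6 (4055 * 2 ^ 6) = true := by decide +kernel
theorem t1690_pchk_4056 : allR t1690_pf 306936 6 (4056 * 2 ^ 6) = true := by decide +kernel
theorem t1690_pchk_4057 : allR t1690_pf 306936 6 (4057 * 2 ^ 6) = true := by decide +kernel
theorem t1690_pchk_4058 : allR t1690_pf 306936 6 (4058 * 2 ^ 6) = true := by decide +kernel
theorem t1690_pchk_4059 : allR t1690_pf 306936 6 (4059 * 2 ^ 6) = true := by decide +kernel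
theorem t1690_pchk_4060 : allR t1690_pf 306936 6 (4060 * 2 ^ 6) = true := by decide +kernel
theorem t1690_pchk_4061 : allR t1690_pf 306936 6 (4061 * 2 ^ 6) = true := by decide +kernel
theorem t1690_pchk_4062 : allR t1690_pf 306936 6 (4062 * 2 ^ 6) = true := by decide +kernel
theorem t1690_pchk_4063 : allR t1690_pf 306936 6 (4063 * 2 ^ 6) = true := by decide +kernel
theorem t1690_pchk_4064 : allR t1690_pf 306936 6 (4064 * 2 ^ 6) = true := by decide +kernel
theorem t1690_pchk_4065 : allR t1690_pf 306936 6 (4065 * 2 ^ 6) = true := by decide +kernel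
theorem t1690_pchk_4066 : allR t1690_pf 306936 6 (4066 * 2 ^ 6) = true := by decide +kernel
theorem t1690_pchk_4067 : allR t1690_pf 306936 6 (4067 * 2 ^ 6) = true := by decide +kernel
theorem t1690_pchk_4068 : allR t1690_pf 306936 6 (4068 * 2 ^ 6) = true := by decide +kernel
theorem t1690_pchk_4069 : allR t1690_pf 306936 6 (4069 * 2 ^ 6) = true := by decide +kernel
theorem t1690_pchk_4070 : allR t1690_pf 306936 6 (4070 * 2 ^ 6) = true := by decide +kernel
theorem t1690_pchk_4071 : allR t1690_pf 306936 6 (4071 * 2 ^ 6) = true := by decide +kernel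
theorem t1690_pchk_4072 : allR t1690_pf 306936 6 (4072 * 2 ^ 6) = true := by decide +kernel
theorem t1690_pchk_4073 : allR t1690_pf 306936 6 (4073 * 2 ^ 6) = true := by decide +kernel
theorem t1690_pchk_4074 : allR t1690_pf 306936 6 (4074 * 2 ^ 6) = true := by decide +kernel
theorem t1690_pchk_4075 : allR t1690_pf 306936 6 (4075 * 2 ^ 6) = true := by decide +kernel
theorem t1690_pchk_4076 : allR t1690_pf 306936 6 (4076 * 2 ^ 6) = true := by decide +kernel
theorem t1690_pchk_4077 : allR t1690_pf 306936 6 (4077 * 2 ^ 6) = true := by decide +kernel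
theorem t1690_pchk_4078 : allR t1690_pf 306936 6 (4078 * 2 ^ 6) = true := by decide +kernel
theorem t1690_pchk_4079 : allR t1690_pf 306936 6 (4079 * 2 ^ 6) = true := by decide +kernel

theorem t1690_pfile_33 : ∀ k, k < 4080 → 3960 ≤ k → allR t1690_pf 306936 6 (k * 2 ^ 6) = true := by
  intro k h1 h2
  interval_cases k
  · exact t1690_pchk_3960
  · exact t1690_pchk_3961
  · exact t1690_pchk_3962
  · exact t1690_pchk_3963
  · exact t1690_pchk_3964
  · exact t1690_pchk_3965
  · exact t1690_pchk_3966
  · exact t1690_pchk_3967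
  · exact t1690_pchk_3968
  · exact t1690_pchk_3969
  · exact t1690_pchk_3970
  · exact t1690_pchk_3971
  · exact t1690_pchk_3972
  · exact t1690_pchk_3973
  · exact t1690_pchk_3974
  · exact t1690_pchk_3975
  · exact t1690_pchk_3976
  · exact t1690_pchk_3977
  · exact t1690_pchk_3978
  · exact t1690_pchk_3979
  · exact t1690_pchk_3980
  · exact t1690_pchk_3981
  · exact t1690_pchk_3982
  · exact t1690_pchk_3983
  · exact t1690_pchk_3984
  · exact t1690_pchk_3985
  · exact t1690_pchk_3986
  · exact t1690_pchk_3987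
  · exact t1690_pchk_3988
  · exact t1690_pchk_3989
  · exact t1690_pchk_3990
  · exact t1690_pchk_3991
  · exact t1690_pchk_3992
  · exact t1690_pchk_3993
  · exact t1690_pchk_3994
  · exact t1690_pchk_3995
  · exact t1690_pchk_3996
  · exact t1690_pchk_3997
  · exact t1690_pchk_3998
  · exact t1690_pchk_3999
  · exact t1690_pchk_4000
  · exact t1690_pchk_4001
  · exact t1690_pchk_4002
  · exact t1690_pchk_4003
  · exact t1690_pchk_4004
  · exact t1690_pchk_4005
  · exact t1690_pchk_4006
  · exact t1690_pchk_4007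
  · exact t1690_pchk_4008
  · exact t1690_pchk_4009
  · exact t1690_pchk_4010
  · exact t1690_pchk_4011
  · exact t1690_pchk_4012
  · exact t1690_pchk_4013
  · exact t1690_pchk_4014
  · exact t1690_pchk_4015
  · exact t1690_pchk_4016
  · exact t1690_pchk_4017
  · exact t1690_pchk_4018
  · exact t1690_pchk_4019
  · exact t1690_pchk_4020
  · exact t1690_pchk_4021
  · exact t1690_pchk_4022
  · exact t1690_pchk_4023
  · exact t1690_pchk_4024
  · exact t1690_pchk_4025
  · exact t1690_pchk_4026
  · exact t1690_pchk_4027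
  · exact t1690_pchk_4028
  · exact t1690_pchk_4029
  · exact t1690_pchk_4030
  · exact t1690_pchk_4031
  · exact t1690_pchk_4032
  · exact t1690_pchk_4033
  · exact t1690_pchk_4034
  · exact t1690_pchk_4035
  · exact t1690_pchk_4036
  · exact t1690_pchk_4037
  · exact t1690_pchk_4038
  · exact t1690_pchk_4039
  · exact t1690_pchk_4040
  · exact t1690_pchk_4041
  · exact t1690_pchk_4042
  · exact t1690_pchk_4043
  · exact t1690_pchk_4044
  · exact t1690_pchk_4045
  · exact t1690_pchk_4046
  · exact t1690_pchk_4047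
  · exact t1690_pchk_4048
  · exact t1690_pchk_4049
  · exact t1690_pchk_4050
  · exact t1690_pchk_4051
  · exact t1690_pchk_4052
  · exact t1690_pchk_4053
  · exact t1690_pchk_4054
  · exact t1690_pchk_4055
  · exact t1690_pchk_4056
  · exact t1690_pchk_4057
  · exact t1690_pchk_4058
  · exact t1690_pchk_4059
  · exact t1690_pchk_4060
  · exact t1690_pchk_4061
  · exact t1690_pchk_4062
  · exact t1690_pchk_4063
  · exact t1690_pchk_4064
  · exact t1690_pchk_4065
  · exact t1690_pchk_4066
  · exact t1690_pchk_4067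
  · exact t1690_pchk_4068
  · exact t1690_pchk_4069
  · exact t1690_pchk_4070
  · exact t1690_pchk_4071
  · exact t1690_pchk_4072
  · exact t1690_pchk_4073
  · exact t1690_pchk_4074
  · exact t1690_pchk_4075
  · exact t1690_pchk_4076
  · exact t1690_pchk_4077
  · exact t1690_pchk_4078
  · exact t1690_pchk_4079

end Cfsg.Agent.H35
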