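import Cfsg.Agent.H35.T1690.PTab

set_option autoImplicit false
set_option linter.all false
set_option Elab.async false

namespace Cfsg.Agent.H35

theorem t1690_pchk_4080 : allR t1690_pf 306936 6 (4080 * 2 ^ 6) = true := by decide +kernel
theorem t1690_pchk_4081 : allR t1690_pf 306936 6 (4081 * 2 ^ 6) = true := by decide +kernel
theorem t1690_pchk_4082 : allR t1690_pf 306936 6 (4082 * 2 ^ 6) = true := by decide +kernel
theorem t1690_pchk_4083 : allR t1690_pf 306936 6 (4083 * 2 ^ 6) = true := by decide +kernel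
theorem t1690_pchk_4084 : allR t1690_pf 306936 6 (4084 * 2 ^ 6) = true := by decide +kernel
theorem t1690_pchk_4085 : allR t1690_pf 306936 6 (4085 * 2 ^ 6) = true := by decide +kernel
theorem t1690_pchk_4086 : allR t1690_pf 306936 6 (4086 * 2 ^ 6) = true := by decide +kernel
theorem t1690_pchk_4087 : allR t1690_pf 306936 6 (4087 * 2 ^ 6) = true := by decide +kernel
theorem t1690_pchk_4088 : allR t1690_pf 306936 6 (4088 * 2 ^ 6) = true := by decide +kernel
theorem t1690_pchk_4089 : allR t1690_pf 306936 6 (4089 * 2 ^ 6) = true := by decide +kernel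
theorem t1690_pchk_4090 : allR t1690_pf 306936 6 (4090 * 2 ^ 6) = true := by decide +kernel
theorem t1690_pchk_4091 : allR t1690_pf 306936 6 (4091 * 2 ^ 6) = true := by decide +kernel
theorem t1690_pchk_4092 : allR t1690_pf 306936 6 (4092 * 2 ^ 6) = true := by decide +kernel
theorem t1690_pchk_4093 : allR t1690_pf 306936 6 (4093 * 2 ^ 6) = true := by decide +kernel
theorem t1690_pchk_4094 : allR t1690_pf 306936 6 (4094 * 2 ^ 6) = true := by decide +kernel
theorem t1690_pchk_4095 : allR t1690_pf 306936 6 (4095 * 2 ^ 6) = true := by decide +kernel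
theorem t1690_pchk_4096 : allR t1690_pf 306936 6 (4096 * 2 ^ 6) = true := by decide +kernel
theorem t1690_pchk_4097 : allR t1690_pf 306936 6 (4097 * 2 ^ 6) = true := by decide +kernel
theorem t1690_pchk_4098 : allR t1690_pf 306936 6 (4098 * 2 ^ 6) = true := by decide +kernel
theorem t1690_pchk_4099 : allR t1690_pf 306936 6 (4099 * 2 ^ 6) = true := by decide +kernel
theorem t1690_pchk_4100 : allR t1690_pf 306936 6 (4100 * 2 ^ 6) = true := by decide +kernel
theorem t1690_pchk_4101 : allR t1690_pf 306936 6 (4101 * 2 ^ 6) = true := by decide +kernel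
theorem t1690_pchk_4102 : allR t1690_pf 306936 6 (4102 * 2 ^ 6) = true := by decide +kernel
theorem t1690_pchk_4103 : allR t1690_pf 306936 6 (4103 * 2 ^ 6) = true := by decide +kernel
theorem t1690_pchk_4104 : allR t1690_pf 306936 6 (4104 * 2 ^ 6) = true := by decide +kernel
theorem t1690_pchk_4105 : allR t1690_pf 306936 6 (4105 * 2 ^ 6) = true := by decide +kernel
theorem t1690_pchk_4106 : allR t1690_pf 306936 6 (4106 * 2 ^ 6) = true := by decide +kernel
theorem t1690_pchk_4107 : allR t1690_pf 306936 6 (4107 * 2 ^ 6) = true := by decide +kernel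
theorem t1690_pchk_4108 : allR t1690_pf 306936 6 (4108 * 2 ^ 6) = true := by decide +kernel
theorem t1690_pchk_4109 : allR t1690_pf 306936 6 (4109 * 2 ^ 6) = true := by decide +kernel
theorem t1690_pchk_4110 : allR t1690_pf 306936 6 (4110 * 2 ^ 6) = true := by decide +kernel
theorem t1690_pchk_4111 : allR t1690_pf 306936 6 (4111 * 2 ^ 6) = true := by decide +kernel
theorem t1690_pchk_4112 : allR t1690_pf 306936 6 (4112 * 2 ^ 6) = true := by decide +kernel
theorem t1690_pchk_4113 : allR t1690_pf 306936 6 (4113 * 2 ^ 6) = true := by decide +kernel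
theorem t1690_pchk_4114 : allR t1690_pf 306936 6 (4114 * 2 ^ 6) = true := by decide +kernel
theorem t1690_pchk_4115 : allR t1690_pf 306936 6 (4115 * 2 ^ 6) = true := by decide +kernel
theorem t1690_pchk_4116 : allR t1690_pf 306936 6 (4116 * 2 ^ 6) = true := by decide +kernel
theorem t1690_pchk_4117 : allR t1690_pf 306936 6 (4117 * 2 ^ 6) = true := by decide +kernel
theorem t1690_pchk_4118 : allR t1690_pf 306936 6 (4118 * 2 ^ 6) = true := by decide +kernel
theorem t1690_pchk_4119 : allR t1690_pf 306936 6 (4119 * 2 ^ 6) = true := by decide +kernel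
theorem t1690_pchk_4120 : allR t1690_pf 306936 6 (4120 * 2 ^ 6) = true := by decide +kernel
theorem t1690_pchk_4121 : allR t1690_pf 306936 6 (4121 * 2 ^ 6) = true := by decide +kernel
theorem t1690_pchk_4122 : allR t1690_pf 306936 6 (4122 * 2 ^ 6) = true := by decide +kernel
theorem t1690_pchk_4123 : allR t1690_pf 306936 6 (4123 * 2 ^ 6) = true := by decide +kernel
theorem t1690_pchk_4124 : allR t1690_pf 306936 6 (4124 * 2 ^ 6) = true := by decide +kernel
theorem t1690_pchk_4125 : allR t1690_pf 306936 6 (4125 * 2 ^ 6) = true := by decide +kernel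
theorem t1690_pchk_4126 : allR t1690_pf 306936 6 (4126 * 2 ^ 6) = true := by decide +kernel
theorem t1690_pchk_4127 : allR t1690_pf 306936 6 (4127 * 2 ^ 6) = true := by decide +kernel
theorem t1690_pchk_4128 : allR t1690_pf 306936 6 (4128 * 2 ^ 6) = true := by decide +kernel
theorem t1690_pchk_4129 : allR t1690_pf 306936 6 (4129 * 2 ^ 6) = true := by decide +kernel
theorem t1690_pchk_4130 : allR t1690_pf 306936 6 (4130 * 2 ^ 6) = true := by decide +kernel
theorem t1690_pchk_4131 : allR t1690_pf 306936 6 (4131 * 2 ^ 6) = true := by decide +kernel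
theorem t1690_pchk_4132 : allR t1690_pf 306936 6 (4132 * 2 ^ 6) = true := by decide +kernel
theorem t1690_pchk_4133 : allR t1690_pf 306936 6 (4133 * 2 ^ 6) = true := by decide +kernel
theorem t1690_pchk_4134 : allR t1690_pf 306936 6 (4134 * 2 ^ 6) = true := by decide +kernel
theorem t1690_pchk_4135 : allR t1690_pf 306936 6 (4135 * 2 ^ 6) = true := by decide +kernel
theorem t1690_pchk_4136 : allR t1690_pf 306936 6 (4136 * 2 ^ 6) = true := by decide +kernel
theorem t1690_pchk_4137 : allR t1690_pf 306936 6 (4137 * 2 ^ 6) = true := by decide +kernel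
theorem t1690_pchk_4138 : allR t1690_pf 306936 6 (4138 * 2 ^ 6) = true := by decide +kernel
theorem t1690_pchk_4139 : allR t1690_pf 306936 6 (4139 * 2 ^ 6) = true := by decide +kernel
theorem t1690_pchk_4140 : allR t1690_pf 306936 6 (4140 * 2 ^ 6) = true := by decide +kernel
theorem t1690_pchk_4141 : allR t1690_pf 306936 6 (4141 * 2 ^ 6) = true := by decide +kernel
theorem t1690_pchk_4142 : allR t1690_pf 306936 6 (4142 * 2 ^ 6) = true := by decide +kernel
theorem t1690_pchk_4143 : allR t1690_pf 306936 6 (4143 * 2 ^ 6) = true := by decide +kernel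
theorem t1690_pchk_4144 : allR t1690_pf 306936 6 (4144 * 2 ^ 6) = true := by decide +kernel
theorem t1690_pchk_4145 : allR t1690_pf 306936 6 (4145 * 2 ^ 6) = true := by decide +kernel
theorem t1690_pchk_4146 : allR t1690_pf 306936 6 (4146 * 2 ^ 6) = true := by decide +kernel
theorem t1690_pchk_4147 : allR t1690_pf 306936 6 (4147 * 2 ^ 6) = true := by decide +kernel
theorem t1690_pchk_4148 : allR t1690_pf 306936 6 (4148 * 2 ^ 6) = true := by decide +kernel
theorem t1690_pchk_4149 : allR t1690_pf 306936 6 (4149 * 2 ^ 6) = true := by decide +kernel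
theorem t1690_pchk_4150 : allR t1690_pf 306936 6 (4150 * 2 ^ 6) = true := by decide +kernel
theorem t1690_pchk_4151 : allR t1690_pf 306936 6 (4151 * 2 ^ 6) = true := by decide +kernel
theorem t1690_pchk_4152 : allR t1690_pf 306936 6 (4152 * 2 ^ 6) = true := by decide +kernel
theorem t1690_pchk_4153 : allR t1690_pf 306936 6 (4153 * 2 ^ 6) = true := by decide +kernel
theorem t1690_pchk_4154 : allR t1690_pf 306936 6 (4154 * 2 ^ 6) = true := by decide +kernel
theorem t1690_pchk_4155 : allR t1690_pf 306936 6 (4155 * 2 ^ 6) = true := by decide +kernel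
theorem t1690_pchk_4156 : allR t1690_pf 306936 6 (4156 * 2 ^ 6) = true := by decide +kernel
theorem t1690_pchk_4157 : allR t1690_pf 306936 6 (4157 * 2 ^ 6) = true := by decide +kernel
theorem t1690_pchk_4158 : allR t1690_pf 306936 6 (4158 * 2 ^ 6) = true := by decide +kernel
theorem t1690_pchk_4159 : allR t1690_pf 306936 6 (4159 * 2 ^ 6) = true := by decide +kernel
theorem t1690_pchk_4160 : allR t1690_pf 306936 6 (4160 * 2 ^ 6) = true := by decide +kernel
theorem t1690_pchk_4161 : allR t1690_pf 306936 6 (4161 * 2 ^ 6) = true := by decide +kernel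
theorem t1690_pchk_4162 : allR t1690_pf 306936 6 (4162 * 2 ^ 6) = true := by decide +kernel
theorem t1690_pchk_4163 : allR t1690_pf 306936 6 (4163 * 2 ^ 6) = true := by decide +kernel
theorem t1690_pchk_4164 : allR t1690_pf 306936 6 (4164 * 2 ^ 6) = true := by decide +kernel
theorem t1690_pchk_4165 : allR t1690_pf 306936 6 (4165 * 2 ^ 6) = true := by decide +kernel
theorem t1690_pchk_4166 : allR t1690_pf 306936 6 (4166 * 2 ^ 6) = true := by decide +kernel
theorem t1690_pchk_4167 : allR t1690_pf 306936 6 (4167 * 2 ^ 6) = true := by decide +kernel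
theorem t1690_pchk_4168 : allR t1690_pf 306936 6 (4168 * 2 ^ 6) = true := by decide +kernel
theorem t1690_pchk_4169 : allR t1690_pf 306936 6 (4169 * 2 ^ 6) = true := by decide +kernel
theorem t1690_pchk_4170 : allR t1690_pf 306936 6 (4170 * 2 ^ 6) = true := by decide +kernel
theorem t1690_pchk_4171 : allR t1690_pf 306936 6 (4171 * 2 ^ 6) = true := by decide +kernel
theorem t1690_pchk_4172 : allR t1690_pf 306936 6 (4172 * 2 ^ 6) = true := by decide +kernel
theorem t1690_pchk_4173 : allR t1690_pf 306936 6 (4173 * 2 ^ 6) = true := by decide +kernel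
theorem t1690_pchk_4174 : allR t1690_pf 306936 6 (4174 * 2 ^ 6) = true := by decide +kernel
theorem t1690_pchk_4175 : allR t1690_pf 306936 6 (4175 * 2 ^ 6) = true := by decide +kernel
theorem t1690_pchk_4176 : allR t1690_pf 306936 6 (4176 * 2 ^ 6) = true := by decide +kernel
theorem t1690_pchk_4177 : allR t1690_pf 306936 6 (4177 * 2 ^ 6) = true := by decide +kernel
theorem t1690_pchk_4178 : allR t1690_pf 306936 6 (4178 * 2 ^ 6) = true := by decide +kernel
theorem t1690_pchk_4179 : allR t1690_pf 306936 6 (4179 * 2 ^ 6) = true := by decide +kernel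
theorem t1690_pchk_4180 : allR t1690_pf 306936 6 (4180 * 2 ^ 6) = true := by decide +kernel
theorem t1690_pchk_4181 : allR t1690_pf 306936 6 (4181 * 2 ^ 6) = true := by decide +kernel
theorem t1690_pchk_4182 : allR t1690_pf 306936 6 (4182 * 2 ^ 6) = true := by decide +kernel
theorem t1690_pchk_4183 : allR t1690_pf 306936 6 (4183 * 2 ^ 6) = true := by decide +kernel
theorem t1690_pchk_4184 : allR t1690_pf 306936 6 (4184 * 2 ^ 6) = true := by decide +kernel
theorem t1690_pchk_4185 : allR t1690_pf 306936 6 (4185 * 2 ^ 6) = true := by decide +kernel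
theorem t1690_pchk_4186 : allR t1690_pf 306936 6 (4186 * 2 ^ 6) = true := by decide +kernel
theorem t1690_pchk_4187 : allR t1690_pf 306936 6 (4187 * 2 ^ 6) = true := by decide +kernel
theorem t1690_pchk_4188 : allR t1690_pf 306936 6 (4188 * 2 ^ 6) = true := by decide +kernel
theorem t1690_pchk_4189 : allR t1690_pf 306936 6 (4189 * 2 ^ 6) = true := by decide +kernel
theorem t1690_pchk_4190 : allR t1690_pf 306936 6 (4190 * 2 ^ 6) = true := by decide +kernel
theorem t1690_pchk_4191 : allR t1690_pf 306936 6 (4191 * 2 ^ 6) = true := by decide +kernel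
theorem t1690_pchk_4192 : allR t1690_pf 306936 6 (4192 * 2 ^ 6) = true := by decide +kernel
theorem t1690_pchk_4193 : allR t1690_pf 306936 6 (4193 * 2 ^ 6) = true := by decide +kernel
theorem t1690_pchk_4194 : allR t1690_pf 306936 6 (4194 * 2 ^ 6) = true := by decide +kernel
theorem t1690_pchk_4195 : allR t1690_pf 306936 6 (4195 * 2 ^ 6) = true := by decide +kernel
theorem t1690_pchk_4196 : allR t1690_pf 306936 6 (4196 * 2 ^ 6) = true := by decide +kernel
theorem t1690_pchk_4197 : allR t1690_pf 306936 6 (4197 * 2 ^ 6) = true := by decide +kernel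
theorem t1690_pchk_4198 : allR t1690_pf 306936 6 (4198 * 2 ^ 6) = true := by decide +kernel
theorem t1690_pchk_4199 : allR t1690_pf 306936 6 (4199 * 2 ^ 6) = true := by decide +kernel

theorem t1690_pfile_34 : ∀ k, k < 4200 → 4080 ≤ k → allR t1690_pf 306936 6 (k * 2 ^ 6) = true := by
  intro k h1 h2
  interval_cases k
  · exact t1690_pchk_4080
  · exact t1690_pchk_4081
  · exact t1690_pchk_4082
  · exact t1690_pchk_4083
  · exact t1690_pchk_4084
  · exact t1690_pchk_4085
  · exact t1690_pchk_4086
  · exact t1690_pchk_4087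
  · exact t1690_pchk_4088
  · exact t1690_pchk_4089
  · exact t1690_pchk_4090
  · exact t1690_pchk_4091
  · exact t1690_pchk_4092
  · exact t1690_pchk_4093
  · exact t1690_pchk_4094
  · exact t1690_pchk_4095
  · exact t1690_pchk_4096
  · exact t1690_pchk_4097
  · exact t1690_pchk_4098
  · exact t1690_pchk_4099
  · exact t1690_pchk_4100
  · exact t1690_pchk_4101
  · exact t1690_pchk_4102
  · exact t1690_pchk_4103
  · exact t1690_pchk_4104
  · exact t1690_pchk_4105
  · exact t1690_pchk_4106
  · exact t1690_pchk_4107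
  · exact t1690_pchk_4108
  · exact t1690_pchk_4109
  · exact t1690_pchk_4110
  · exact t1690_pchk_4111
  · exact t1690_pchk_4112
  · exact t1690_pchk_4113
  · exact t1690_pchk_4114
  · exact t1690_pchk_4115
  · exact t1690_pchk_4116
  · exact t1690_pchk_4117
  · exact t1690_pchk_4118
  · exact t1690_pchk_4119
  · exact t1690_pchk_4120
  · exact t1690_pchk_4121
  · exact t1690_pchk_4122
  · exact t1690_pchk_4123
  · exact t1690_pchk_4124
  · exact t1690_pchk_4125
  · exact t1690_pchk_4126
  · exact t1690_pchk_4127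
  · exact t1690_pchk_4128
  · exact t1690_pchk_4129
  · exact t1690_pchk_4130
  · exact t1690_pchk_4131
  · exact t1690_pchk_4132
  · exact t1690_pchk_4133
  · exact t1690_pchk_4134
  · exact t1690_pchk_4135
  · exact t1690_pchk_4136
  · exact t1690_pchk_4137
  · exact t1690_pchk_4138
  · exact t1690_pchk_4139
  · exact t1690_pchk_4140
  · exact t1690_pchk_4141
  · exact t1690_pchk_4142
  · exact t1690_pchk_4143
  · exact t1690_pchk_4144
  · exact t1690_pchk_4145
  · exact t1690_pchk_4146
  · exact t1690_pchk_4147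
  · exact t1690_pchk_4148
  · exact t1690_pchk_4149
  · exact t1690_pchk_4150
  · exact t1690_pchk_4151
  · exact t1690_pchk_4152
  · exact t1690_pchk_4153
  · exact t1690_pchk_4154
  · exact t1690_pchk_4155
  · exact t1690_pchk_4156
  · exact t1690_pchk_4157
  · exact t1690_pchk_4158
  · exact t1690_pchk_4159
  · exact t1690_pchk_4160
  · exact t1690_pchk_4161
  · exact t1690_pchk_4162
  · exact t1690_pchk_4163
  · exact t1690_pchk_4164
  · exact t1690_pchk_4165
  · exact t1690_pchk_4166
  · exact t1690_pchk_4167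
  · exact t1690_pchk_4168
  · exact t1690_pchk_4169
  · exact t1690_pchk_4170
  · exact t1690_pchk_4171
  · exact t1690_pchk_4172
  · exact t1690_pchk_4173
  · exact t1690_pchk_4174
  · exact t1690_pchk_4175
  · exact t1690_pchk_4176
  · exact t1690_pchk_4177
  · exact t1690_pchk_4178
  · exact t1690_pchk_4179
  · exact t1690_pchk_4180
  · exact t1690_pchk_4181
  · exact t1690_pchk_4182
  · exact t1690_pchk_4183
  · exact t1690_pchk_4184
  · exact t1690_pchk_4185
  · exact t1690_pchk_4186
  · exact t1690_pchk_4187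
  · exact t1690_pchk_4188
  · exact t1690_pchk_4189
  · exact t1690_pchk_4190
  · exact t1690_pchk_4191
  · exact t1690_pchk_4192
  · exact t1690_pchk_4193
  · exact t1690_pchk_4194
  · exact t1690_pchk_4195
  · exact t1690_pchk_4196
  · exact t1690_pchk_4197
  · exact t1690_pchk_4198
  · exact t1690_pchk_4199

end Cfsg.Agent.H35
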