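import Cfsg.Agent.H35.T1690.PTab

set_option autoImplicit false
set_option linter.all false
set_option Elab.async false

namespace Cfsg.Agent.H35

theorem t1690_pchk_4200 : allR t1690_pf 306936 6 (4200 * 2 ^ 6) = true := by decide +kernel
theorem t1690_pchk_4201 : allR t1690_pf 306936 6 (4201 * 2 ^ 6) = true := by decide +kernel
theorem t1690_pchk_4202 : allR t1690_pf 306936 6 (4202 * 2 ^ 6) = true := by decide +kernel
theorem t1690_pchk_4203 : allR t1690_pf 306936 6 (4203 * 2 ^ 6) = true := by decide +kernel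
theorem t1690_pchk_4204 : allR t1690_pf 306936 6 (4204 * 2 ^ 6) = true := by decide +kernel
theorem t1690_pchk_4205 : allR t1690_pf 306936 6 (4205 * 2 ^ 6) = true := by decide +kernel
theorem t1690_pchk_4206 : allR t1690_pf 306936 6 (4206 * 2 ^ 6) = true := by decide +kernel
theorem t1690_pchk_4207 : allR t1690_pf 306936 6 (4207 * 2 ^ 6) = true := by decide +kernel
theorem t1690_pchk_4208 : allR t1690_pf 306936 6 (4208 * 2 ^ 6) = true := by decide +kernel
theorem t1690_pchk_4209 : allR t1690_pf 306936 6 (4209 * 2 ^ 6) = true := by decide +kernel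
theorem t1690_pchk_4210 : allR t1690_pf 306936 6 (4210 * 2 ^ 6) = true := by decide +kernel
theorem t1690_pchk_4211 : allR t1690_pf 306936 6 (4211 * 2 ^ 6) = true := by decide +kernel
theorem t1690_pchk_4212 : allR t1690_pf 306936 6 (4212 * 2 ^ 6) = true := by decide +kernel
theorem t1690_pchk_4213 : allR t1690_pf 306936 6 (4213 * 2 ^ 6) = true := by decide +kernel
theorem t1690_pchk_4214 : allR t1690_pf 306936 6 (4214 * 2 ^ 6) = true := by decide +kernel
theorem t1690_pchk_4215 : allR t1690_pf 306936 6 (4215 * 2 ^ 6) = true := by decide +kernel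
theorem t1690_pchk_4216 : allR t1690_pf 306936 6 (4216 * 2 ^ 6) = true := by decide +kernel
theorem t1690_pchk_4217 : allR t1690_pf 306936 6 (4217 * 2 ^ 6) = true := by decide +kernel
theorem t1690_pchk_4218 : allR t1690_pf 306936 6 (4218 * 2 ^ 6) = true := by decide +kernel
theorem t1690_pchk_4219 : allR t1690_pf 306936 6 (4219 * 2 ^ 6) = true := by decide +kernel
theorem t1690_pchk_4220 : allR t1690_pf 306936 6 (4220 * 2 ^ 6) = true := by decide +kernel
theorem t1690_pchk_4221 : allR t1690_pf 306936 6 (4221 * 2 ^ 6) = true := by decide +kernel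
theorem t1690_pchk_4222 : allR t1690_pf 306936 6 (4222 * 2 ^ 6) = true := by decide +kernel
theorem t1690_pchk_4223 : allR t1690_pf 306936 6 (4223 * 2 ^ 6) = true := by decide +kernel
theorem t1690_pchk_4224 : allR t1690_pf 306936 6 (4224 * 2 ^ 6) = true := by decide +kernel
theorem t1690_pchk_4225 : allR t1690_pf 306936 6 (4225 * 2 ^ 6) = true := by decide +kernel
theorem t1690_pchk_4226 : allR t1690_pf 306936 6 (4226 * 2 ^ 6) = true := by decide +kernel
theorem t1690_pchk_4227 : allR t1690_pf 306936 6 (4227 * 2 ^ 6) = true := by decide +kernel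
theorem t1690_pchk_4228 : allR t1690_pf 306936 6 (4228 * 2 ^ 6) = true := by decide +kernel
theorem t1690_pchk_4229 : allR t1690_pf 306936 6 (4229 * 2 ^ 6) = true := by decide +kernel
theorem t1690_pchk_4230 : allR t1690_pf 306936 6 (4230 * 2 ^ 6) = true := by decide +kernel
theorem t1690_pchk_4231 : allR t1690_pf 306936 6 (4231 * 2 ^ 6) = true := by decide +kernel
theorem t1690_pchk_4232 : allR t1690_pf 306936 6 (4232 * 2 ^ 6) = true := by decide +kernel
theorem t1690_pchk_4233 : allR t1690_pf 306936 6 (4233 * 2 ^ 6) = true := by decide +kernel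
theorem t1690_pchk_4234 : allR t1690_pf 306936 6 (4234 * 2 ^ 6) = true := by decide +kernel
theorem t1690_pchk_4235 : allR t1690_pf 306936 6 (4235 * 2 ^ 6) = true := by decide +kernel
theorem t1690_pchk_4236 : allR t1690_pf 306936 6 (4236 * 2 ^ 6) = true := by decide +kernel
theorem t1690_pchk_4237 : allR t1690_pf 306936 6 (4237 * 2 ^ 6) = true := by decide +kernel
theorem t1690_pchk_4238 : allR t1690_pf 306936 6 (4238 * 2 ^ 6) = true := by decide +kernel
theorem t1690_pchk_4239 : allR t1690_pf 306936 6 (4239 * 2 ^ 6) = true := by decide +kernel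
theorem t1690_pchk_4240 : allR t1690_pf 306936 6 (4240 * 2 ^ 6) = true := by decide +kernel
theorem t1690_pchk_4241 : allR t1690_pf 306936 6 (4241 * 2 ^ 6) = true := by decide +kernel
theorem t1690_pchk_4242 : allR t1690_pf 306936 6 (4242 * 2 ^ 6) = true := by decide +kernel
theorem t1690_pchk_4243 : allR t1690_pf 306936 6 (4243 * 2 ^ 6) = true := by decide +kernel
theorem t1690_pchk_4244 : allR t1690_pf 306936 6 (4244 * 2 ^ 6) = true := by decide +kernel
theorem t1690_pchk_4245 : allR t1690_pf 306936 6 (4245 * 2 ^ 6) = true := by decide +kernel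
theorem t1690_pchk_4246 : allR t1690_pf 306936 6 (4246 * 2 ^ 6) = true := by decide +kernel
theorem t1690_pchk_4247 : allR t1690_pf 306936 6 (4247 * 2 ^ 6) = true := by decide +kernel
theorem t1690_pchk_4248 : allR t1690_pf 306936 6 (4248 * 2 ^ 6) = true := by decide +kernel
theorem t1690_pchk_4249 : allR t1690_pf 306936 6 (4249 * 2 ^ 6) = true := by decide +kernel
theorem t1690_pchk_4250 : allR t1690_pf 306936 6 (4250 * 2 ^ 6) = true := by decide +kernel
theorem t1690_pchk_4251 : allR t1690_pf 306936 6 (4251 * 2 ^ 6) = true := by decide +kernel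
theorem t1690_pchk_4252 : allR t1690_pf 306936 6 (4252 * 2 ^ 6) = true := by decide +kernel
theorem t1690_pchk_4253 : allR t1690_pf 306936 6 (4253 * 2 ^ 6) = true := by decide +kernel
theorem t1690_pchk_4254 : allR t1690_pf 306936 6 (4254 * 2 ^ 6) = true := by decide +kernel
theorem t1690_pchk_4255 : allR t1690_pf 306936 6 (4255 * 2 ^ 6) = true := by decide +kernel
theorem t1690_pchk_4256 : allR t1690_pf 306936 6 (4256 * 2 ^ 6) = true := by decide +kernel
theorem t1690_pchk_4257 : allR t1690_pf 306936 6 (4257 * 2 ^ 6) = true := by decide +kernel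
theorem t1690_pchk_4258 : allR t1690_pf 306936 6 (4258 * 2 ^ 6) = true := by decide +kernel
theorem t1690_pchk_4259 : allR t1690_pf 306936 6 (4259 * 2 ^ 6) = true := by decide +kernel
theorem t1690_pchk_4260 : allR t1690_pf 306936 6 (4260 * 2 ^ 6) = true := by decide +kernel
theorem t1690_pchk_4261 : allR t1690_pf 306936 6 (4261 * 2 ^ 6) = true := by decide +kernel
theorem t1690_pchk_4262 : allR t1690_pf 306936 6 (4262 * 2 ^ 6) = true := by decide +kernel
theorem t1690_pchk_4263 : allR t1690_pf 306936 6 (4263 * 2 ^ 6) = true := by decide +kernel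
theorem t1690_pchk_4264 : allR t1690_pf 306936 6 (4264 * 2 ^ 6) = true := by decide +kernel
theorem t1690_pchk_4265 : allR t1690_pf 306936 6 (4265 * 2 ^ 6) = true := by decide +kernel
theorem t1690_pchk_4266 : allR t1690_pf 306936 6 (4266 * 2 ^ 6) = true := by decide +kernel
theorem t1690_pchk_4267 : allR t1690_pf 306936 6 (4267 * 2 ^ 6) = true := by decide +kernel
theorem t1690_pchk_4268 : allR t1690_pf 306936 6 (4268 * 2 ^ 6) = true := by decide +kernel
theorem t1690_pchk_4269 : allR t1690_pf 306936 6 (4269 * 2 ^ 6) = true := by decide +kernel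
theorem t1690_pchk_4270 : allR t1690_pf 306936 6 (4270 * 2 ^ 6) = true := by decide +kernel
theorem t1690_pchk_4271 : allR t1690_pf 306936 6 (4271 * 2 ^ 6) = true := by decide +kernel
theorem t1690_pchk_4272 : allR t1690_pf 306936 6 (4272 * 2 ^ 6) = true := by decide +kernel
theorem t1690_pchk_4273 : allR t1690_pf 306936 6 (4273 * 2 ^ 6) = true := by decide +kernel
theorem t1690_pchk_4274 : allR t1690_pf 306936 6 (4274 * 2 ^ 6) = true := by decide +kernel
theorem t1690_pchk_4275 : allR t1690_pf 306936 6 (4275 * 2 ^ 6) = true := by decide +kernel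
theorem t1690_pchk_4276 : allR t1690_pf 306936 6 (4276 * 2 ^ 6) = true := by decide +kernel
theorem t1690_pchk_4277 : allR t1690_pf 306936 6 (4277 * 2 ^ 6) = true := by decide +kernel
theorem t1690_pchk_4278 : allR t1690_pf 306936 6 (4278 * 2 ^ 6) = true := by decide +kernel
theorem t1690_pchk_4279 : allR t1690_pf 306936 6 (4279 * 2 ^ 6) = true := by decide +kernel
theorem t1690_pchk_4280 : allR t1690_pf 306936 6 (4280 * 2 ^ 6) = true := by decide +kernel
theorem t1690_pchk_4281 : allR t1690_pf 306936 6 (4281 * 2 ^ 6) = true := by decide +kernel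
theorem t1690_pchk_4282 : allR t1690_pf 306936 6 (4282 * 2 ^ 6) = true := by decide +kernel
theorem t1690_pchk_4283 : allR t1690_pf 306936 6 (4283 * 2 ^ 6) = true := by decide +kernel
theorem t1690_pchk_4284 : allR t1690_pf 306936 6 (4284 * 2 ^ 6) = true := by decide +kernel
theorem t1690_pchk_4285 : allR t1690_pf 306936 6 (4285 * 2 ^ 6) = true := by decide +kernel
theorem t1690_pchk_4286 : allR t1690_pf 306936 6 (4286 * 2 ^ 6) = true := by decide +kernel
theorem t1690_pchk_4287 : allR t1690_pf 306936 6 (4287 * 2 ^ 6) = true := by decide +kernel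
theorem t1690_pchk_4288 : allR t1690_pf 306936 6 (4288 * 2 ^ 6) = true := by decide +kernel
theorem t1690_pchk_4289 : allR t1690_pf 306936 6 (4289 * 2 ^ 6) = true := by decide +kernel
theorem t1690_pchk_4290 : allR t1690_pf 306936 6 (4290 * 2 ^ 6) = true := by decide +kernel
theorem t1690_pchk_4291 : allR t1690_pf 306936 6 (4291 * 2 ^ 6) = true := by decide +kernel
theorem t1690_pchk_4292 : allR t1690_pf 306936 6 (4292 * 2 ^ 6) = true := by decide +kernel
theorem t1690_pchk_4293 : allR t1690_pf 306936 6 (4293 * 2 ^ 6) = true := by decide +kernel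
theorem t1690_pchk_4294 : allR t1690_pf 306936 6 (4294 * 2 ^ 6) = true := by decide +kernel
theorem t1690_pchk_4295 : allR t1690_pf 306936 6 (4295 * 2 ^ 6) = true := by decide +kernel
theorem t1690_pchk_4296 : allR t1690_pf 306936 6 (4296 * 2 ^ 6) = true := by decide +kernel
theorem t1690_pchk_4297 : allR t1690_pf 306936 6 (4297 * 2 ^ 6) = true := by decide +kernel
theorem t1690_pchk_4298 : allR t1690_pf 306936 6 (4298 * 2 ^ 6) = true := by decide +kernel
theorem t1690_pchk_4299 : allR t1690_pf 306936 6 (4299 * 2 ^ 6) = true := by decide +kernel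
theorem t1690_pchk_4300 : allR t1690_pf 306936 6 (4300 * 2 ^ 6) = true := by decide +kernel
theorem t1690_pchk_4301 : allR t1690_pf 306936 6 (4301 * 2 ^ 6) = true := by decide +kernel
theorem t1690_pchk_4302 : allR t1690_pf 306936 6 (4302 * 2 ^ 6) = true := by decide +kernel
theorem t1690_pchk_4303 : allR t1690_pf 306936 6 (4303 * 2 ^ 6) = true := by decide +kernel
theorem t1690_pchk_4304 : allR t1690_pf 306936 6 (4304 * 2 ^ 6) = true := by decide +kernel
theorem t1690_pchk_4305 : allR t1690_pf 306936 6 (4305 * 2 ^ 6) = true := by decide +kernel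
theorem t1690_pchk_4306 : allR t1690_pf 306936 6 (4306 * 2 ^ 6) = true := by decide +kernel
theorem t1690_pchk_4307 : allR t1690_pf 306936 6 (4307 * 2 ^ 6) = true := by decide +kernel
theorem t1690_pchk_4308 : allR t1690_pf 306936 6 (4308 * 2 ^ 6) = true := by decide +kernel
theorem t1690_pchk_4309 : allR t1690_pf 306936 6 (4309 * 2 ^ 6) = true := by decide +kernel
theorem t1690_pchk_4310 : allR t1690_pf 306936 6 (4310 * 2 ^ 6) = true := by decide +kernel
theorem t1690_pchk_4311 : allR t1690_pf 306936 6 (4311 * 2 ^ 6) = true := by decide +kernel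
theorem t1690_pchk_4312 : allR t1690_pf 306936 6 (4312 * 2 ^ 6) = true := by decide +kernel
theorem t1690_pchk_4313 : allR t1690_pf 306936 6 (4313 * 2 ^ 6) = true := by decide +kernel
theorem t1690_pchk_4314 : allR t1690_pf 306936 6 (4314 * 2 ^ 6) = true := by decide +kernel
theorem t1690_pchk_4315 : allR t1690_pf 306936 6 (4315 * 2 ^ 6) = true := by decide +kernel
theorem t1690_pchk_4316 : allR t1690_pf 306936 6 (4316 * 2 ^ 6) = true := by decide +kernel
theorem t1690_pchk_4317 : allR t1690_pf 306936 6 (4317 * 2 ^ 6) = true := by decide +kernel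
theorem t1690_pchk_4318 : allR t1690_pf 306936 6 (4318 * 2 ^ 6) = true := by decide +kernel
theorem t1690_pchk_4319 : allR t1690_pf 306936 6 (4319 * 2 ^ 6) = true := by decide +kernel

theorem t1690_pfile_35 : ∀ k, k < 4320 → 4200 ≤ k → allR t1690_pf 306936 6 (k * 2 ^ 6) = true := by
  intro k h1 h2
  interval_cases k
  · exact t1690_pchk_4200
  · exact t1690_pchk_4201
  · exact t1690_pchk_4202
  · exact t1690_pchk_4203
  · exact t1690_pchk_4204
  · exact t1690_pchk_4205
  · exact t1690_pchk_4206
  · exact t1690_pchk_4207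
  · exact t1690_pchk_4208
  · exact t1690_pchk_4209
  · exact t1690_pchk_4210
  · exact t1690_pchk_4211
  · exact t1690_pchk_4212
  · exact t1690_pchk_4213
  · exact t1690_pchk_4214
  · exact t1690_pchk_4215
  · exact t1690_pchk_4216
  · exact t1690_pchk_4217
  · exact t1690_pchk_4218
  · exact t1690_pchk_4219
  · exact t1690_pchk_4220
  · exact t1690_pchk_4221
  · exact t1690_pchk_4222
  · exact t1690_pchk_4223
  · exact t1690_pchk_4224
  · exact t1690_pchk_4225
  · exact t1690_pchk_4226
  · exact t1690_pchk_4227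
  · exact t1690_pchk_4228
  · exact t1690_pchk_4229
  · exact t1690_pchk_4230
  · exact t1690_pchk_4231
  · exact t1690_pchk_4232
  · exact t1690_pchk_4233
  · exact t1690_pchk_4234
  · exact t1690_pchk_4235
  · exact t1690_pchk_4236
  · exact t1690_pchk_4237
  · exact t1690_pchk_4238
  · exact t1690_pchk_4239
  · exact t1690_pchk_4240
  · exact t1690_pchk_4241
  · exact t1690_pchk_4242
  · exact t1690_pchk_4243
  · exact t1690_pchk_4244
  · exact t1690_pchk_4245
  · exact t1690_pchk_4246
  · exact t1690_pchk_4247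
  · exact t1690_pchk_4248
  · exact t1690_pchk_4249
  · exact t1690_pchk_4250
  · exact t1690_pchk_4251
  · exact t1690_pchk_4252
  · exact t1690_pchk_4253
  · exact t1690_pchk_4254
  · exact t1690_pchk_4255
  · exact t1690_pchk_4256
  · exact t1690_pchk_4257
  · exact t1690_pchk_4258
  · exact t1690_pchk_4259
  · exact t1690_pchk_4260
  · exact t1690_pchk_4261
  · exact t1690_pchk_4262
  · exact t1690_pchk_4263
  · exact t1690_pchk_4264
  · exact t1690_pchk_4265
  · exact t1690_pchk_4266
  · exact t1690_pchk_4267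
  · exact t1690_pchk_4268
  · exact t1690_pchk_4269
  · exact t1690_pchk_4270
  · exact t1690_pchk_4271
  · exact t1690_pchk_4272
  · exact t1690_pchk_4273
  · exact t1690_pchk_4274
  · exact t1690_pchk_4275
  · exact t1690_pchk_4276
  · exact t1690_pchk_4277
  · exact t1690_pchk_4278
  · exact t1690_pchk_4279
  · exact t1690_pchk_4280
  · exact t1690_pchk_4281
  · exact t1690_pchk_4282
  · exact t1690_pchk_4283
  · exact t1690_pchk_4284
  · exact t1690_pchk_4285
  · exact t1690_pchk_4286
  · exact t1690_pchk_4287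
  · exact t1690_pchk_4288
  · exact t1690_pchk_4289
  · exact t1690_pchk_4290
  · exact t1690_pchk_4291
  · exact t1690_pchk_4292
  · exact t1690_pchk_4293
  · exact t1690_pchk_4294
  · exact t1690_pchk_4295
  · exact t1690_pchk_4296
  · exact t1690_pchk_4297
  · exact t1690_pchk_4298
  · exact t1690_pchk_4299
  · exact t1690_pchk_4300
  · exact t1690_pchk_4301
  · exact t1690_pchk_4302
  · exact t1690_pchk_4303
  · exact t1690_pchk_4304
  · exact t1690_pchk_4305
  · exact t1690_pchk_4306
  · exact t1690_pchk_4307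
  · exact t1690_pchk_4308
  · exact t1690_pchk_4309
  · exact t1690_pchk_4310
  · exact t1690_pchk_4311
  · exact t1690_pchk_4312
  · exact t1690_pchk_4313
  · exact t1690_pchk_4314
  · exact t1690_pchk_4315
  · exact t1690_pchk_4316
  · exact t1690_pchk_4317
  · exact t1690_pchk_4318
  · exact t1690_pchk_4319

end Cfsg.Agent.H35
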