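import Cfsg.Agent.H35.T1690.PTab

set_option autoImplicit false
set_option linter.all false
set_option Elab.async false

namespace Cfsg.Agent.H35

theorem t1690_pchk_4320 : allR t1690_pf 306936 6 (4320 * 2 ^ 6) = true := by decide +kernel
theorem t1690_pchk_4321 : allR t1690_pf 306936 6 (4321 * 2 ^ 6) = true := by decide +kernel
theorem t1690_pchk_4322 : allR t1690_pf 306936 6 (4322 * 2 ^ 6) = true := by decide +kernel
theorem t1690_pchk_4323 : allR t1690_pf 306936 6 (4323 * 2 ^ 6) = true := by decide +kernel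
theorem t1690_pchk_4324 : allR t1690_pf 306936 6 (4324 * 2 ^ 6) = true := by decide +kernel
theorem t1690_pchk_4325 : allR t1690_pf 306936 6 (4325 * 2 ^ 6) = true := by decide +kernel
theorem t1690_pchk_4326 : allR t1690_pf 306936 6 (4326 * 2 ^ 6) = true := by decide +kernel
theorem t1690_pchk_4327 : allR t1690_pf 306936 6 (4327 * 2 ^ 6) = true := by decide +kernel
theorem t1690_pchk_4328 : allR t1690_pf 306936 6 (4328 * 2 ^ 6) = true := by decide +kernel
theorem t1690_pchk_4329 : allR t1690_pf 306936 6 (4329 * 2 ^ 6) = true := by decide +kernel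
theorem t1690_pchk_4330 : allR t1690_pf 306936 6 (4330 * 2 ^ 6) = true := by decide +kernel
theorem t1690_pchk_4331 : allR t1690_pf 306936 6 (4331 * 2 ^ 6) = true := by decide +kernel
theorem t1690_pchk_4332 : allR t1690_pf 306936 6 (4332 * 2 ^ 6) = true := by decide +kernel
theorem t1690_pchk_4333 : allR t1690_pf 306936 6 (4333 * 2 ^ 6) = true := by decide +kernel
theorem t1690_pchk_4334 : allR t1690_pf 306936 6 (4334 * 2 ^ 6) = true := by decide +kernel
theorem t1690_pchk_4335 : allR t1690_pf 306936 6 (4335 * 2 ^ 6) = true := by decide +kernel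
theorem t1690_pchk_4336 : allR t1690_pf 306936 6 (4336 * 2 ^ 6) = true := by decide +kernel
theorem t1690_pchk_4337 : allR t1690_pf 306936 6 (4337 * 2 ^ 6) = true := by decide +kernel
theorem t1690_pchk_4338 : allR t1690_pf 306936 6 (4338 * 2 ^ 6) = true := by decide +kernel
theorem t1690_pchk_4339 : allR t1690_pf 306936 6 (4339 * 2 ^ 6) = true := by decide +kernel
theorem t1690_pchk_4340 : allR t1690_pf 306936 6 (4340 * 2 ^ 6) = true := by decide +kernel
theorem t1690_pchk_4341 : allR t1690_pf 306936 6 (4341 * 2 ^ 6) = true := by decide +kernel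
theorem t1690_pchk_4342 : allR t1690_pf 306936 6 (4342 * 2 ^ 6) = true := by decide +kernel
theorem t1690_pchk_4343 : allR t1690_pf 306936 6 (4343 * 2 ^ 6) = true := by decide +kernel
theorem t1690_pchk_4344 : allR t1690_pf 306936 6 (4344 * 2 ^ 6) = true := by decide +kernel
theorem t1690_pchk_4345 : allR t1690_pf 306936 6 (4345 * 2 ^ 6) = true := by decide +kernel
theorem t1690_pchk_4346 : allR t1690_pf 306936 6 (4346 * 2 ^ 6) = true := by decide +kernel
theorem t1690_pchk_4347 : allR t1690_pf 306936 6 (4347 * 2 ^ 6) = true := by decide +kernel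
theorem t1690_pchk_4348 : allR t1690_pf 306936 6 (4348 * 2 ^ 6) = true := by decide +kernel
theorem t1690_pchk_4349 : allR t1690_pf 306936 6 (4349 * 2 ^ 6) = true := by decide +kernel
theorem t1690_pchk_4350 : allR t1690_pf 306936 6 (4350 * 2 ^ 6) = true := by decide +kernel
theorem t1690_pchk_4351 : allR t1690_pf 306936 6 (4351 * 2 ^ 6) = true := by decide +kernel
theorem t1690_pchk_4352 : allR t1690_pf 306936 6 (4352 * 2 ^ 6) = true := by decide +kernel
theorem t1690_pchk_4353 : allR t1690_pf 306936 6 (4353 * 2 ^ 6) = true := by decide +kernel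
theorem t1690_pchk_4354 : allR t1690_pf 306936 6 (4354 * 2 ^ 6) = true := by decide +kernel
theorem t1690_pchk_4355 : allR t1690_pf 306936 6 (4355 * 2 ^ 6) = true := by decide +kernel
theorem t1690_pchk_4356 : allR t1690_pf 306936 6 (4356 * 2 ^ 6) = true := by decide +kernel
theorem t1690_pchk_4357 : allR t1690_pf 306936 6 (4357 * 2 ^ 6) = true := by decide +kernel
theorem t1690_pchk_4358 : allR t1690_pf 306936 6 (4358 * 2 ^ 6) = true := by decide +kernel
theorem t1690_pchk_4359 : allR t1690_pf 306936 6 (4359 * 2 ^ 6) = true := by decide +kernel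
theorem t1690_pchk_4360 : allR t1690_pf 306936 6 (4360 * 2 ^ 6) = true := by decide +kernel
theorem t1690_pchk_4361 : allR t1690_pf 306936 6 (4361 * 2 ^ 6) = true := by decide +kernel
theorem t1690_pchk_4362 : allR t1690_pf 306936 6 (4362 * 2 ^ 6) = true := by decide +kernel
theorem t1690_pchk_4363 : allR t1690_pf 306936 6 (4363 * 2 ^ 6) = true := by decide +kernel
theorem t1690_pchk_4364 : allR t1690_pf 306936 6 (4364 * 2 ^ 6) = true := by decide +kernel
theorem t1690_pchk_4365 : allR t1690_pf 306936 6 (4365 * 2 ^ 6) = true := by decide +kernel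
theorem t1690_pchk_4366 : allR t1690_pf 306936 6 (4366 * 2 ^ 6) = true := by decide +kernel
theorem t1690_pchk_4367 : allR t1690_pf 306936 6 (4367 * 2 ^ 6) = true := by decide +kernel
theorem t1690_pchk_4368 : allR t1690_pf 306936 6 (4368 * 2 ^ 6) = true := by decide +kernel
theorem t1690_pchk_4369 : allR t1690_pf 306936 6 (4369 * 2 ^ 6) = true := by decide +kernel
theorem t1690_pchk_4370 : allR t1690_pf 306936 6 (4370 * 2 ^ 6) = true := by decide +kernel
theorem t1690_pchk_4371 : allR t1690_pf 306936 6 (4371 * 2 ^ 6) = true := by decide +kernel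
theorem t1690_pchk_4372 : allR t1690_pf 306936 6 (4372 * 2 ^ 6) = true := by decide +kernel
theorem t1690_pchk_4373 : allR t1690_pf 306936 6 (4373 * 2 ^ 6) = true := by decide +kernel
theorem t1690_pchk_4374 : allR t1690_pf 306936 6 (4374 * 2 ^ 6) = true := by decide +kernel
theorem t1690_pchk_4375 : allR t1690_pf 306936 6 (4375 * 2 ^ 6) = true := by decide +kernel
theorem t1690_pchk_4376 : allR t1690_pf 306936 6 (4376 * 2 ^ 6) = true := by decide +kernel
theorem t1690_pchk_4377 : allR t1690_pf 306936 6 (4377 * 2 ^ 6) = true := by decide +kernel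
theorem t1690_pchk_4378 : allR t1690_pf 306936 6 (4378 * 2 ^ 6) = true := by decide +kernel
theorem t1690_pchk_4379 : allR t1690_pf 306936 6 (4379 * 2 ^ 6) = true := by decide +kernel
theorem t1690_pchk_4380 : allR t1690_pf 306936 6 (4380 * 2 ^ 6) = true := by decide +kernel
theorem t1690_pchk_4381 : allR t1690_pf 306936 6 (4381 * 2 ^ 6) = true := by decide +kernel
theorem t1690_pchk_4382 : allR t1690_pf 306936 6 (4382 * 2 ^ 6) = true := by decide +kernel
theorem t1690_pchk_4383 : allR t1690_pf 306936 6 (4383 * 2 ^ 6) = true := by decide +kernel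
theorem t1690_pchk_4384 : allR t1690_pf 306936 6 (4384 * 2 ^ 6) = true := by decide +kernel
theorem t1690_pchk_4385 : allR t1690_pf 306936 6 (4385 * 2 ^ 6) = true := by decide +kernel
theorem t1690_pchk_4386 : allR t1690_pf 306936 6 (4386 * 2 ^ 6) = true := by decide +kernel
theorem t1690_pchk_4387 : allR t1690_pf 306936 6 (4387 * 2 ^ 6) = true := by decide +kernel
theorem t1690_pchk_4388 : allR t1690_pf 306936 6 (4388 * 2 ^ 6) = true := by decide +kernel
theorem t1690_pchk_4389 : allR t1690_pf 306936 6 (4389 * 2 ^ 6) = true := by decide +kernel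
theorem t1690_pchk_4390 : allR t1690_pf 306936 6 (4390 * 2 ^ 6) = true := by decide +kernel
theorem t1690_pchk_4391 : allR t1690_pf 306936 6 (4391 * 2 ^ 6) = true := by decide +kernel
theorem t1690_pchk_4392 : allR t1690_pf 306936 6 (4392 * 2 ^ 6) = true := by decide +kernel
theorem t1690_pchk_4393 : allR t1690_pf 306936 6 (4393 * 2 ^ 6) = true := by decide +kernel
theorem t1690_pchk_4394 : allR t1690_pf 306936 6 (4394 * 2 ^ 6) = true := by decide +kernel
theorem t1690_pchk_4395 : allR t1690_pf 306936 6 (4395 * 2 ^ 6) = true := by decide +kernel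
theorem t1690_pchk_4396 : allR t1690_pf 306936 6 (4396 * 2 ^ 6) = true := by decide +kernel
theorem t1690_pchk_4397 : allR t1690_pf 306936 6 (4397 * 2 ^ 6) = true := by decide +kernel
theorem t1690_pchk_4398 : allR t1690_pf 306936 6 (4398 * 2 ^ 6) = true := by decide +kernel
theorem t1690_pchk_4399 : allR t1690_pf 306936 6 (4399 * 2 ^ 6) = true := by decide +kernel
theorem t1690_pchk_4400 : allR t1690_pf 306936 6 (4400 * 2 ^ 6) = true := by decide +kernel
theorem t1690_pchk_4401 : allR t1690_pf 306936 6 (4401 * 2 ^ 6) = true := by decide +kernel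
theorem t1690_pchk_4402 : allR t1690_pf 306936 6 (4402 * 2 ^ 6) = true := by decide +kernel
theorem t1690_pchk_4403 : allR t1690_pf 306936 6 (4403 * 2 ^ 6) = true := by decide +kernel
theorem t1690_pchk_4404 : allR t1690_pf 306936 6 (4404 * 2 ^ 6) = true := by decide +kernel
theorem t1690_pchk_4405 : allR t1690_pf 306936 6 (4405 * 2 ^ 6) = true := by decide +kernel
theorem t1690_pchk_4406 : allR t1690_pf 306936 6 (4406 * 2 ^ 6) = true := by decide +kernel
theorem t1690_pchk_4407 : allR t1690_pf 306936 6 (4407 * 2 ^ 6) = true := by decide +kernel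
theorem t1690_pchk_4408 : allR t1690_pf 306936 6 (4408 * 2 ^ 6) = true := by decide +kernel
theorem t1690_pchk_4409 : allR t1690_pf 306936 6 (4409 * 2 ^ 6) = true := by decide +kernel
theorem t1690_pchk_4410 : allR t1690_pf 306936 6 (4410 * 2 ^ 6) = true := by decide +kernel
theorem t1690_pchk_4411 : allR t1690_pf 306936 6 (4411 * 2 ^ 6) = true := by decide +kernel
theorem t1690_pchk_4412 : allR t1690_pf 306936 6 (4412 * 2 ^ 6) = true := by decide +kernel
theorem t1690_pchk_4413 : allR t1690_pf 306936 6 (4413 * 2 ^ 6) = true := by decide +kernel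
theorem t1690_pchk_4414 : allR t1690_pf 306936 6 (4414 * 2 ^ 6) = true := by decide +kernel
theorem t1690_pchk_4415 : allR t1690_pf 306936 6 (4415 * 2 ^ 6) = true := by decide +kernel
theorem t1690_pchk_4416 : allR t1690_pf 306936 6 (4416 * 2 ^ 6) = true := by decide +kernel
theorem t1690_pchk_4417 : allR t1690_pf 306936 6 (4417 * 2 ^ 6) = true := by decide +kernel
theorem t1690_pchk_4418 : allR t1690_pf 306936 6 (4418 * 2 ^ 6) = true := by decide +kernel
theorem t1690_pchk_4419 : allR t1690_pf 306936 6 (4419 * 2 ^ 6) = true := by decide +kernel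
theorem t1690_pchk_4420 : allR t1690_pf 306936 6 (4420 * 2 ^ 6) = true := by decide +kernel
theorem t1690_pchk_4421 : allR t1690_pf 306936 6 (4421 * 2 ^ 6) = true := by decide +kernel
theorem t1690_pchk_4422 : allR t1690_pf 306936 6 (4422 * 2 ^ 6) = true := by decide +kernel
theorem t1690_pchk_4423 : allR t1690_pf 306936 6 (4423 * 2 ^ 6) = true := by decide +kernel
theorem t1690_pchk_4424 : allR t1690_pf 306936 6 (4424 * 2 ^ 6) = true := by decide +kernel
theorem t1690_pchk_4425 : allR t1690_pf 306936 6 (4425 * 2 ^ 6) = true := by decide +kernel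
theorem t1690_pchk_4426 : allR t1690_pf 306936 6 (4426 * 2 ^ 6) = true := by decide +kernel
theorem t1690_pchk_4427 : allR t1690_pf 306936 6 (4427 * 2 ^ 6) = true := by decide +kernel
theorem t1690_pchk_4428 : allR t1690_pf 306936 6 (4428 * 2 ^ 6) = true := by decide +kernel
theorem t1690_pchk_4429 : allR t1690_pf 306936 6 (4429 * 2 ^ 6) = true := by decide +kernel
theorem t1690_pchk_4430 : allR t1690_pf 306936 6 (4430 * 2 ^ 6) = true := by decide +kernel
theorem t1690_pchk_4431 : allR t1690_pf 306936 6 (4431 * 2 ^ 6) = true := by decide +kernel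
theorem t1690_pchk_4432 : allR t1690_pf 306936 6 (4432 * 2 ^ 6) = true := by decide +kernel
theorem t1690_pchk_4433 : allR t1690_pf 306936 6 (4433 * 2 ^ 6) = true := by decide +kernel
theorem t1690_pchk_4434 : allR t1690_pf 306936 6 (4434 * 2 ^ 6) = true := by decide +kernel
theorem t1690_pchk_4435 : allR t1690_pf 306936 6 (4435 * 2 ^ 6) = true := by decide +kernel
theorem t1690_pchk_4436 : allR t1690_pf 306936 6 (4436 * 2 ^ 6) = true := by decide +kernel
theorem t1690_pchk_4437 : allR t1690_pf 306936 6 (4437 * 2 ^ 6) = true := by decide +kernel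
theorem t1690_pchk_4438 : allR t1690_pf 306936 6 (4438 * 2 ^ 6) = true := by decide +kernel
theorem t1690_pchk_4439 : allR t1690_pf 306936 6 (4439 * 2 ^ 6) = true := by decide +kernel

theorem t1690_pfile_36 : ∀ k, k < 4440 → 4320 ≤ k → allR t1690_pf 306936 6 (k * 2 ^ 6) = true := by
  intro k h1 h2
  interval_cases k
  · exact t1690_pchk_4320
  · exact t1690_pchk_4321
  · exact t1690_pchk_4322
  · exact t1690_pchk_4323
  · exact t1690_pchk_4324
  · exact t1690_pchk_4325
  · exact t1690_pchk_4326
  · exact t1690_pchk_4327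
  · exact t1690_pchk_4328
  · exact t1690_pchk_4329
  · exact t1690_pchk_4330
  · exact t1690_pchk_4331
  · exact t1690_pchk_4332
  · exact t1690_pchk_4333
  · exact t1690_pchk_4334
  · exact t1690_pchk_4335
  · exact t1690_pchk_4336
  · exact t1690_pchk_4337
  · exact t1690_pchk_4338
  · exact t1690_pchk_4339
  · exact t1690_pchk_4340
  · exact t1690_pchk_4341
  · exact t1690_pchk_4342
  · exact t1690_pchk_4343
  · exact t1690_pchk_4344
  · exact t1690_pchk_4345
  · exact t1690_pchk_4346
  · exact t1690_pchk_4347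
  · exact t1690_pchk_4348
  · exact t1690_pchk_4349
  · exact t1690_pchk_4350
  · exact t1690_pchk_4351
  · exact t1690_pchk_4352
  · exact t1690_pchk_4353
  · exact t1690_pchk_4354
  · exact t1690_pchk_4355
  · exact t1690_pchk_4356
  · exact t1690_pchk_4357
  · exact t1690_pchk_4358
  · exact t1690_pchk_4359
  · exact t1690_pchk_4360
  · exact t1690_pchk_4361
  · exact t1690_pchk_4362
  · exact t1690_pchk_4363
  · exact t1690_pchk_4364
  · exact t1690_pchk_4365
  · exact t1690_pchk_4366
  · exact t1690_pchk_4367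
  · exact t1690_pchk_4368
  · exact t1690_pchk_4369
  · exact t1690_pchk_4370
  · exact t1690_pchk_4371
  · exact t1690_pchk_4372
  · exact t1690_pchk_4373
  · exact t1690_pchk_4374
  · exact t1690_pchk_4375
  · exact t1690_pchk_4376
  · exact t1690_pchk_4377
  · exact t1690_pchk_4378
  · exact t1690_pchk_4379
  · exact t1690_pchk_4380
  · exact t1690_pchk_4381
  · exact t1690_pchk_4382
  · exact t1690_pchk_4383
  · exact t1690_pchk_4384
  · exact t1690_pchk_4385
  · exact t1690_pchk_4386
  · exact t1690_pchk_4387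
  · exact t1690_pchk_4388
  · exact t1690_pchk_4389
  · exact t1690_pchk_4390
  · exact t1690_pchk_4391
  · exact t1690_pchk_4392
  · exact t1690_pchk_4393
  · exact t1690_pchk_4394
  · exact t1690_pchk_4395
  · exact t1690_pchk_4396
  · exact t1690_pchk_4397
  · exact t1690_pchk_4398
  · exact t1690_pchk_4399
  · exact t1690_pchk_4400
  · exact t1690_pchk_4401
  · exact t1690_pchk_4402
  · exact t1690_pchk_4403
  · exact t1690_pchk_4404
  · exact t1690_pchk_4405
  · exact t1690_pchk_4406
  · exact t1690_pchk_4407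
  · exact t1690_pchk_4408
  · exact t1690_pchk_4409
  · exact t1690_pchk_4410
  · exact t1690_pchk_4411
  · exact t1690_pchk_4412
  · exact t1690_pchk_4413
  · exact t1690_pchk_4414
  · exact t1690_pchk_4415
  · exact t1690_pchk_4416
  · exact t1690_pchk_4417
  · exact t1690_pchk_4418
  · exact t1690_pchk_4419
  · exact t1690_pchk_4420
  · exact t1690_pchk_4421
  · exact t1690_pchk_4422
  · exact t1690_pchk_4423
  · exact t1690_pchk_4424
  · exact t1690_pchk_4425
  · exact t1690_pchk_4426
  · exact t1690_pchk_4427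
  · exact t1690_pchk_4428
  · exact t1690_pchk_4429
  · exact t1690_pchk_4430
  · exact t1690_pchk_4431
  · exact t1690_pchk_4432
  · exact t1690_pchk_4433
  · exact t1690_pchk_4434
  · exact t1690_pchk_4435
  · exact t1690_pchk_4436
  · exact t1690_pchk_4437
  · exact t1690_pchk_4438
  · exact t1690_pchk_4439

end Cfsg.Agent.H35
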