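import Cfsg.Agent.H35.T1690.PTab

set_option autoImplicit false
set_option linter.all false
set_option Elab.async false

namespace Cfsg.Agent.H35

theorem t1690_pchk_4440 : allR t1690_pf 306936 6 (4440 * 2 ^ 6) = true := by decide +kernel
theorem t1690_pchk_4441 : allR t1690_pf 306936 6 (4441 * 2 ^ 6) = true := by decide +kernel
theorem t1690_pchk_4442 : allR t1690_pf 306936 6 (4442 * 2 ^ 6) = true := by decide +kernel
theorem t1690_pchk_4443 : allR t1690_pf 306936 6 (4443 * 2 ^ 6) = true := by decide +kernel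
theorem t1690_pchk_4444 : allR t1690_pf 306936 6 (4444 * 2 ^ 6) = true := by decide +kernel
theorem t1690_pchk_4445 : allR t1690_pf 306936 6 (4445 * 2 ^ 6) = true := by decide +kernel
theorem t1690_pchk_4446 : allR t1690_pf 306936 6 (4446 * 2 ^ 6) = true := by decide +kernel
theorem t1690_pchk_4447 : allR t1690_pf 306936 6 (4447 * 2 ^ 6) = true := by decide +kernel
theorem t1690_pchk_4448 : allR t1690_pf 306936 6 (4448 * 2 ^ 6) = true := by decide +kernel
theorem t1690_pchk_4449 : allR t1690_pf 306936 6 (4449 * 2 ^ 6) = true := by decide +kernel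
theorem t1690_pchk_4450 : allR t1690_pf 306936 6 (4450 * 2 ^ 6) = true := by decide +kernel
theorem t1690_pchk_4451 : allR t1690_pf 306936 6 (4451 * 2 ^ 6) = true := by decide +kernel
theorem t1690_pchk_4452 : allR t1690_pf 306936 6 (4452 * 2 ^ 6) = true := by decide +kernel
theorem t1690_pchk_4453 : allR t1690_pf 306936 6 (4453 * 2 ^ 6) = true := by decide +kernel
theorem t1690_pchk_4454 : allR t1690_pf 306936 6 (4454 * 2 ^ 6) = true := by decide +kernel
theorem t1690_pchk_4455 : allR t1690_pf 306936 6 (4455 * 2 ^ 6) = true := by decide +kernel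
theorem t1690_pchk_4456 : allR t1690_pf 306936 6 (4456 * 2 ^ 6) = true := by decide +kernel
theorem t1690_pchk_4457 : allR t1690_pf 306936 6 (4457 * 2 ^ 6) = true := by decide +kernel
theorem t1690_pchk_4458 : allR t1690_pf 306936 6 (4458 * 2 ^ 6) = true := by decide +kernel
theorem t1690_pchk_4459 : allR t1690_pf 306936 6 (4459 * 2 ^ 6) = true := by decide +kernel
theorem t1690_pchk_4460 : allR t1690_pf 306936 6 (4460 * 2 ^ 6) = true := by decide +kernel
theorem t1690_pchk_4461 : allR t1690_pf 306936 6 (4461 * 2 ^ 6) = true := by decide +kernel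
theorem t1690_pchk_4462 : allR t1690_pf 306936 6 (4462 * 2 ^ 6) = true := by decide +kernel
theorem t1690_pchk_4463 : allR t1690_pf 306936 6 (4463 * 2 ^ 6) = true := by decide +kernel
theorem t1690_pchk_4464 : allR t1690_pf 306936 6 (4464 * 2 ^ 6) = true := by decide +kernel
theorem t1690_pchk_4465 : allR t1690_pf 306936 6 (4465 * 2 ^ 6) = true := by decide +kernel
theorem t1690_pchk_4466 : allR t1690_pf 306936 6 (4466 * 2 ^ 6) = true := by decide +kernel
theorem t1690_pchk_4467 : allR t1690_pf 306936 6 (4467 * 2 ^ 6) = true := by decide +kernel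
theorem t1690_pchk_4468 : allR t1690_pf 306936 6 (4468 * 2 ^ 6) = true := by decide +kernel
theorem t1690_pchk_4469 : allR t1690_pf 306936 6 (4469 * 2 ^ 6) = true := by decide +kernel
theorem t1690_pchk_4470 : allR t1690_pf 306936 6 (4470 * 2 ^ 6) = true := by decide +kernel
theorem t1690_pchk_4471 : allR t1690_pf 306936 6 (4471 * 2 ^ 6) = true := by decide +kernel
theorem t1690_pchk_4472 : allR t1690_pf 306936 6 (4472 * 2 ^ 6) = true := by decide +kernel
theorem t1690_pchk_4473 : allR t1690_pf 306936 6 (4473 * 2 ^ 6) = true := by decide +kernel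
theorem t1690_pchk_4474 : allR t1690_pf 306936 6 (4474 * 2 ^ 6) = true := by decide +kernel
theorem t1690_pchk_4475 : allR t1690_pf 306936 6 (4475 * 2 ^ 6) = true := by decide +kernel
theorem t1690_pchk_4476 : allR t1690_pf 306936 6 (4476 * 2 ^ 6) = true := by decide +kernel
theorem t1690_pchk_4477 : allR t1690_pf 306936 6 (4477 * 2 ^ 6) = true := by decide +kernel
theorem t1690_pchk_4478 : allR t1690_pf 306936 6 (4478 * 2 ^ 6) = true := by decide +kernel
theorem t1690_pchk_4479 : allR t1690_pf 306936 6 (4479 * 2 ^ 6) = true := by decide +kernel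
theorem t1690_pchk_4480 : allR t1690_pf 306936 6 (4480 * 2 ^ 6) = true := by decide +kernel
theorem t1690_pchk_4481 : allR t1690_pf 306936 6 (4481 * 2 ^ 6) = true := by decide +kernel
theorem t1690_pchk_4482 : allR t1690_pf 306936 6 (4482 * 2 ^ 6) = true := by decide +kernel
theorem t1690_pchk_4483 : allR t1690_pf 306936 6 (4483 * 2 ^ 6) = true := by decide +kernel
theorem t1690_pchk_4484 : allR t1690_pf 306936 6 (4484 * 2 ^ 6) = true := by decide +kernel
theorem t1690_pchk_4485 : allR t1690_pf 306936 6 (4485 * 2 ^ 6) = true := by decide +kernel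
theorem t1690_pchk_4486 : allR t1690_pf 306936 6 (4486 * 2 ^ 6) = true := by decide +kernel
theorem t1690_pchk_4487 : allR t1690_pf 306936 6 (4487 * 2 ^ 6) = true := by decide +kernel
theorem t1690_pchk_4488 : allR t1690_pf 306936 6 (4488 * 2 ^ 6) = true := by decide +kernel
theorem t1690_pchk_4489 : allR t1690_pf 306936 6 (4489 * 2 ^ 6) = true := by decide +kernel
theorem t1690_pchk_4490 : allR t1690_pf 306936 6 (4490 * 2 ^ 6) = true := by decide +kernel
theorem t1690_pchk_4491 : allR t1690_pf 306936 6 (4491 * 2 ^ 6) = true := by decide +kernel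
theorem t1690_pchk_4492 : allR t1690_pf 306936 6 (4492 * 2 ^ 6) = true := by decide +kernel
theorem t1690_pchk_4493 : allR t1690_pf 306936 6 (4493 * 2 ^ 6) = true := by decide +kernel
theorem t1690_pchk_4494 : allR t1690_pf 306936 6 (4494 * 2 ^ 6) = true := by decide +kernel
theorem t1690_pchk_4495 : allR t1690_pf 306936 6 (4495 * 2 ^ 6) = true := by decide +kernel
theorem t1690_pchk_4496 : allR t1690_pf 306936 6 (4496 * 2 ^ 6) = true := by decide +kernel
theorem t1690_pchk_4497 : allR t1690_pf 306936 6 (4497 * 2 ^ 6) = true := by decide +kernel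
theorem t1690_pchk_4498 : allR t1690_pf 306936 6 (4498 * 2 ^ 6) = true := by decide +kernel
theorem t1690_pchk_4499 : allR t1690_pf 306936 6 (4499 * 2 ^ 6) = true := by decide +kernel
theorem t1690_pchk_4500 : allR t1690_pf 306936 6 (4500 * 2 ^ 6) = true := by decide +kernel
theorem t1690_pchk_4501 : allR t1690_pf 306936 6 (4501 * 2 ^ 6) = true := by decide +kernel
theorem t1690_pchk_4502 : allR t1690_pf 306936 6 (4502 * 2 ^ 6) = true := by decide +kernel
theorem t1690_pchk_4503 : allR t1690_pf 306936 6 (4503 * 2 ^ 6) = true := by decide +kernel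
theorem t1690_pchk_4504 : allR t1690_pf 306936 6 (4504 * 2 ^ 6) = true := by decide +kernel
theorem t1690_pchk_4505 : allR t1690_pf 306936 6 (4505 * 2 ^ 6) = true := by decide +kernel
theorem t1690_pchk_4506 : allR t1690_pf 306936 6 (4506 * 2 ^ 6) = true := by decide +kernel
theorem t1690_pchk_4507 : allR t1690_pf 306936 6 (4507 * 2 ^ 6) = true := by decide +kernel
theorem t1690_pchk_4508 : allR t1690_pf 306936 6 (4508 * 2 ^ 6) = true := by decide +kernel
theorem t1690_pchk_4509 : allR t1690_pf 306936 6 (4509 * 2 ^ 6) = true := by decide +kernel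
theorem t1690_pchk_4510 : allR t1690_pf 306936 6 (4510 * 2 ^ 6) = true := by decide +kernel
theorem t1690_pchk_4511 : allR t1690_pf 306936 6 (4511 * 2 ^ 6) = true := by decide +kernel
theorem t1690_pchk_4512 : allR t1690_pf 306936 6 (4512 * 2 ^ 6) = true := by decide +kernel
theorem t1690_pchk_4513 : allR t1690_pf 306936 6 (4513 * 2 ^ 6) = true := by decide +kernel
theorem t1690_pchk_4514 : allR t1690_pf 306936 6 (4514 * 2 ^ 6) = true := by decide +kernel
theorem t1690_pchk_4515 : allR t1690_pf 306936 6 (4515 * 2 ^ 6) = true := by decide +kernel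
theorem t1690_pchk_4516 : allR t1690_pf 306936 6 (4516 * 2 ^ 6) = true := by decide +kernel
theorem t1690_pchk_4517 : allR t1690_pf 306936 6 (4517 * 2 ^ 6) = true := by decide +kernel
theorem t1690_pchk_4518 : allR t1690_pf 306936 6 (4518 * 2 ^ 6) = true := by decide +kernel
theorem t1690_pchk_4519 : allR t1690_pf 306936 6 (4519 * 2 ^ 6) = true := by decide +kernel
theorem t1690_pchk_4520 : allR t1690_pf 306936 6 (4520 * 2 ^ 6) = true := by decide +kernel
theorem t1690_pchk_4521 : allR t1690_pf 306936 6 (4521 * 2 ^ 6) = true := by decide +kernel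
theorem t1690_pchk_4522 : allR t1690_pf 306936 6 (4522 * 2 ^ 6) = true := by decide +kernel
theorem t1690_pchk_4523 : allR t1690_pf 306936 6 (4523 * 2 ^ 6) = true := by decide +kernel
theorem t1690_pchk_4524 : allR t1690_pf 306936 6 (4524 * 2 ^ 6) = true := by decide +kernel
theorem t1690_pchk_4525 : allR t1690_pf 306936 6 (4525 * 2 ^ 6) = true := by decide +kernel
theorem t1690_pchk_4526 : allR t1690_pf 306936 6 (4526 * 2 ^ 6) = true := by decide +kernel
theorem t1690_pchk_4527 : allR t1690_pf 306936 6 (4527 * 2 ^ 6) = true := by decide +kernel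
theorem t1690_pchk_4528 : allR t1690_pf 306936 6 (4528 * 2 ^ 6) = true := by decide +kernel
theorem t1690_pchk_4529 : allR t1690_pf 306936 6 (4529 * 2 ^ 6) = true := by decide +kernel
theorem t1690_pchk_4530 : allR t1690_pf 306936 6 (4530 * 2 ^ 6) = true := by decide +kernel
theorem t1690_pchk_4531 : allR t1690_pf 306936 6 (4531 * 2 ^ 6) = true := by decide +kernel
theorem t1690_pchk_4532 : allR t1690_pf 306936 6 (4532 * 2 ^ 6) = true := by decide +kernel
theorem t1690_pchk_4533 : allR t1690_pf 306936 6 (4533 * 2 ^ 6) = true := by decide +kernel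
theorem t1690_pchk_4534 : allR t1690_pf 306936 6 (4534 * 2 ^ 6) = true := by decide +kernel
theorem t1690_pchk_4535 : allR t1690_pf 306936 6 (4535 * 2 ^ 6) = true := by decide +kernel
theorem t1690_pchk_4536 : allR t1690_pf 306936 6 (4536 * 2 ^ 6) = true := by decide +kernel
theorem t1690_pchk_4537 : allR t1690_pf 306936 6 (4537 * 2 ^ 6) = true := by decide +kernel
theorem t1690_pchk_4538 : allR t1690_pf 306936 6 (4538 * 2 ^ 6) = true := by decide +kernel
theorem t1690_pchk_4539 : allR t1690_pf 306936 6 (4539 * 2 ^ 6) = true := by decide +kernel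
theorem t1690_pchk_4540 : allR t1690_pf 306936 6 (4540 * 2 ^ 6) = true := by decide +kernel
theorem t1690_pchk_4541 : allR t1690_pf 306936 6 (4541 * 2 ^ 6) = true := by decide +kernel
theorem t1690_pchk_4542 : allR t1690_pf 306936 6 (4542 * 2 ^ 6) = true := by decide +kernel
theorem t1690_pchk_4543 : allR t1690_pf 306936 6 (4543 * 2 ^ 6) = true := by decide +kernel
theorem t1690_pchk_4544 : allR t1690_pf 306936 6 (4544 * 2 ^ 6) = true := by decide +kernel
theorem t1690_pchk_4545 : allR t1690_pf 306936 6 (4545 * 2 ^ 6) = true := by decide +kernel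
theorem t1690_pchk_4546 : allR t1690_pf 306936 6 (4546 * 2 ^ 6) = true := by decide +kernel
theorem t1690_pchk_4547 : allR t1690_pf 306936 6 (4547 * 2 ^ 6) = true := by decide +kernel
theorem t1690_pchk_4548 : allR t1690_pf 306936 6 (4548 * 2 ^ 6) = true := by decide +kernel
theorem t1690_pchk_4549 : allR t1690_pf 306936 6 (4549 * 2 ^ 6) = true := by decide +kernel
theorem t1690_pchk_4550 : allR t1690_pf 306936 6 (4550 * 2 ^ 6) = true := by decide +kernel
theorem t1690_pchk_4551 : allR t1690_pf 306936 6 (4551 * 2 ^ 6) = true := by decide +kernel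
theorem t1690_pchk_4552 : allR t1690_pf 306936 6 (4552 * 2 ^ 6) = true := by decide +kernel
theorem t1690_pchk_4553 : allR t1690_pf 306936 6 (4553 * 2 ^ 6) = true := by decide +kernel
theorem t1690_pchk_4554 : allR t1690_pf 306936 6 (4554 * 2 ^ 6) = true := by decide +kernel
theorem t1690_pchk_4555 : allR t1690_pf 306936 6 (4555 * 2 ^ 6) = true := by decide +kernel
theorem t1690_pchk_4556 : allR t1690_pf 306936 6 (4556 * 2 ^ 6) = true := by decide +kernel
theorem t1690_pchk_4557 : allR t1690_pf 306936 6 (4557 * 2 ^ 6) = true := by decide +kernel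
theorem t1690_pchk_4558 : allR t1690_pf 306936 6 (4558 * 2 ^ 6) = true := by decide +kernel
theorem t1690_pchk_4559 : allR t1690_pf 306936 6 (4559 * 2 ^ 6) = true := by decide +kernel

theorem t1690_pfile_37 : ∀ k, k < 4560 → 4440 ≤ k → allR t1690_pf 306936 6 (k * 2 ^ 6) = true := by
  intro k h1 h2
  interval_cases k
  · exact t1690_pchk_4440
  · exact t1690_pchk_4441
  · exact t1690_pchk_4442
  · exact t1690_pchk_4443
  · exact t1690_pchk_4444
  · exact t1690_pchk_4445
  · exact t1690_pchk_4446
  · exact t1690_pchk_4447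
  · exact t1690_pchk_4448
  · exact t1690_pchk_4449
  · exact t1690_pchk_4450
  · exact t1690_pchk_4451
  · exact t1690_pchk_4452
  · exact t1690_pchk_4453
  · exact t1690_pchk_4454
  · exact t1690_pchk_4455
  · exact t1690_pchk_4456
  · exact t1690_pchk_4457
  · exact t1690_pchk_4458
  · exact t1690_pchk_4459
  · exact t1690_pchk_4460
  · exact t1690_pchk_4461
  · exact t1690_pchk_4462
  · exact t1690_pchk_4463
  · exact t1690_pchk_4464
  · exact t1690_pchk_4465
  · exact t1690_pchk_4466
  · exact t1690_pchk_4467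
  · exact t1690_pchk_4468
  · exact t1690_pchk_4469
  · exact t1690_pchk_4470
  · exact t1690_pchk_4471
  · exact t1690_pchk_4472
  · exact t1690_pchk_4473
  · exact t1690_pchk_4474
  · exact t1690_pchk_4475
  · exact t1690_pchk_4476
  · exact t1690_pchk_4477
  · exact t1690_pchk_4478
  · exact t1690_pchk_4479
  · exact t1690_pchk_4480
  · exact t1690_pchk_4481
  · exact t1690_pchk_4482
  · exact t1690_pchk_4483
  · exact t1690_pchk_4484
  · exact t1690_pchk_4485
  · exact t1690_pchk_4486
  · exact t1690_pchk_4487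
  · exact t1690_pchk_4488
  · exact t1690_pchk_4489
  · exact t1690_pchk_4490
  · exact t1690_pchk_4491
  · exact t1690_pchk_4492
  · exact t1690_pchk_4493
  · exact t1690_pchk_4494
  · exact t1690_pchk_4495
  · exact t1690_pchk_4496
  · exact t1690_pchk_4497
  · exact t1690_pchk_4498
  · exact t1690_pchk_4499
  · exact t1690_pchk_4500
  · exact t1690_pchk_4501
  · exact t1690_pchk_4502
  · exact t1690_pchk_4503
  · exact t1690_pchk_4504
  · exact t1690_pchk_4505
  · exact t1690_pchk_4506
  · exact t1690_pchk_4507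
  · exact t1690_pchk_4508
  · exact t1690_pchk_4509
  · exact t1690_pchk_4510
  · exact t1690_pchk_4511
  · exact t1690_pchk_4512
  · exact t1690_pchk_4513
  · exact t1690_pchk_4514
  · exact t1690_pchk_4515
  · exact t1690_pchk_4516
  · exact t1690_pchk_4517
  · exact t1690_pchk_4518
  · exact t1690_pchk_4519
  · exact t1690_pchk_4520
  · exact t1690_pchk_4521
  · exact t1690_pchk_4522
  · exact t1690_pchk_4523
  · exact t1690_pchk_4524
  · exact t1690_pchk_4525
  · exact t1690_pchk_4526
  · exact t1690_pchk_4527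
  · exact t1690_pchk_4528
  · exact t1690_pchk_4529
  · exact t1690_pchk_4530
  · exact t1690_pchk_4531
  · exact t1690_pchk_4532
  · exact t1690_pchk_4533
  · exact t1690_pchk_4534
  · exact t1690_pchk_4535
  · exact t1690_pchk_4536
  · exact t1690_pchk_4537
  · exact t1690_pchk_4538
  · exact t1690_pchk_4539
  · exact t1690_pchk_4540
  · exact t1690_pchk_4541
  · exact t1690_pchk_4542
  · exact t1690_pchk_4543
  · exact t1690_pchk_4544
  · exact t1690_pchk_4545
  · exact t1690_pchk_4546
  · exact t1690_pchk_4547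
  · exact t1690_pchk_4548
  · exact t1690_pchk_4549
  · exact t1690_pchk_4550
  · exact t1690_pchk_4551
  · exact t1690_pchk_4552
  · exact t1690_pchk_4553
  · exact t1690_pchk_4554
  · exact t1690_pchk_4555
  · exact t1690_pchk_4556
  · exact t1690_pchk_4557
  · exact t1690_pchk_4558
  · exact t1690_pchk_4559

end Cfsg.Agent.H35
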