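import Cfsg.Agent.H35.T1690.PTab

set_option autoImplicit false
set_option linter.all false
set_option Elab.async false

namespace Cfsg.Agent.H35

theorem t1690_pchk_4560 : allR t1690_pf 306936 6 (4560 * 2 ^ 6) = true := by decide +kernel
theorem t1690_pchk_4561 : allR t1690_pf 306936 6 (4561 * 2 ^ 6) = true := by decide +kernel
theorem t1690_pchk_4562 : allR t1690_pf 306936 6 (4562 * 2 ^ 6) = true := by decide +kernel
theorem t1690_pchk_4563 : allR t1690_pf 306936 6 (4563 * 2 ^ 6) = true := by decide +kernel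
theorem t1690_pchk_4564 : allR t1690_pf 306936 6 (4564 * 2 ^ 6) = true := by decide +kernel
theorem t1690_pchk_4565 : allR t1690_pf 306936 6 (4565 * 2 ^ 6) = true := by decide +kernel
theorem t1690_pchk_4566 : allR t1690_pf 306936 6 (4566 * 2 ^ 6) = true := by decide +kernel
theorem t1690_pchk_4567 : allR t1690_pf 306936 6 (4567 * 2 ^ 6) = true := by decide +kernel
theorem t1690_pchk_4568 : allR t1690_pf 306936 6 (4568 * 2 ^ 6) = true := by decide +kernel
theorem t1690_pchk_4569 : allR t1690_pf 306936 6 (4569 * 2 ^ 6) = true := by decide +kernel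
theorem t1690_pchk_4570 : allR t1690_pf 306936 6 (4570 * 2 ^ 6) = true := by decide +kernel
theorem t1690_pchk_4571 : allR t1690_pf 306936 6 (4571 * 2 ^ 6) = true := by decide +kernel
theorem t1690_pchk_4572 : allR t1690_pf 306936 6 (4572 * 2 ^ 6) = true := by decide +kernel
theorem t1690_pchk_4573 : allR t1690_pf 306936 6 (4573 * 2 ^ 6) = true := by decide +kernel
theorem t1690_pchk_4574 : allR t1690_pf 306936 6 (4574 * 2 ^ 6) = true := by decide +kernel
theorem t1690_pchk_4575 : allR t1690_pf 306936 6 (4575 * 2 ^ 6) = true := by decide +kernel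
theorem t1690_pchk_4576 : allR t1690_pf 306936 6 (4576 * 2 ^ 6) = true := by decide +kernel
theorem t1690_pchk_4577 : allR t1690_pf 306936 6 (4577 * 2 ^ 6) = true := by decide +kernel
theorem t1690_pchk_4578 : allR t1690_pf 306936 6 (4578 * 2 ^ 6) = true := by decide +kernel
theorem t1690_pchk_4579 : allR t1690_pf 306936 6 (4579 * 2 ^ 6) = true := by decide +kernel
theorem t1690_pchk_4580 : allR t1690_pf 306936 6 (4580 * 2 ^ 6) = true := by decide +kernel
theorem t1690_pchk_4581 : allR t1690_pf 306936 6 (4581 * 2 ^ 6) = true := by decide +kernel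
theorem t1690_pchk_4582 : allR t1690_pf 306936 6 (4582 * 2 ^ 6) = true := by decide +kernel
theorem t1690_pchk_4583 : allR t1690_pf 306936 6 (4583 * 2 ^ 6) = true := by decide +kernel
theorem t1690_pchk_4584 : allR t1690_pf 306936 6 (4584 * 2 ^ 6) = true := by decide +kernel
theorem t1690_pchk_4585 : allR t1690_pf 306936 6 (4585 * 2 ^ 6) = true := by decide +kernel
theorem t1690_pchk_4586 : allR t1690_pf 306936 6 (4586 * 2 ^ 6) = true := by decide +kernel
theorem t1690_pchk_4587 : allR t1690_pf 306936 6 (4587 * 2 ^ 6) = true := by decide +kernel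
theorem t1690_pchk_4588 : allR t1690_pf 306936 6 (4588 * 2 ^ 6) = true := by decide +kernel
theorem t1690_pchk_4589 : allR t1690_pf 306936 6 (4589 * 2 ^ 6) = true := by decide +kernel
theorem t1690_pchk_4590 : allR t1690_pf 306936 6 (4590 * 2 ^ 6) = true := by decide +kernel
theorem t1690_pchk_4591 : allR t1690_pf 306936 6 (4591 * 2 ^ 6) = true := by decide +kernel
theorem t1690_pchk_4592 : allR t1690_pf 306936 6 (4592 * 2 ^ 6) = true := by decide +kernel
theorem t1690_pchk_4593 : allR t1690_pf 306936 6 (4593 * 2 ^ 6) = true := by decide +kernel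
theorem t1690_pchk_4594 : allR t1690_pf 306936 6 (4594 * 2 ^ 6) = true := by decide +kernel
theorem t1690_pchk_4595 : allR t1690_pf 306936 6 (4595 * 2 ^ 6) = true := by decide +kernel
theorem t1690_pchk_4596 : allR t1690_pf 306936 6 (4596 * 2 ^ 6) = true := by decide +kernel
theorem t1690_pchk_4597 : allR t1690_pf 306936 6 (4597 * 2 ^ 6) = true := by decide +kernel
theorem t1690_pchk_4598 : allR t1690_pf 306936 6 (4598 * 2 ^ 6) = true := by decide +kernel
theorem t1690_pchk_4599 : allR t1690_pf 306936 6 (4599 * 2 ^ 6) = true := by decide +kernel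
theorem t1690_pchk_4600 : allR t1690_pf 306936 6 (4600 * 2 ^ 6) = true := by decide +kernel
theorem t1690_pchk_4601 : allR t1690_pf 306936 6 (4601 * 2 ^ 6) = true := by decide +kernel
theorem t1690_pchk_4602 : allR t1690_pf 306936 6 (4602 * 2 ^ 6) = true := by decide +kernel
theorem t1690_pchk_4603 : allR t1690_pf 306936 6 (4603 * 2 ^ 6) = true := by decide +kernel
theorem t1690_pchk_4604 : allR t1690_pf 306936 6 (4604 * 2 ^ 6) = true := by decide +kernel
theorem t1690_pchk_4605 : allR t1690_pf 306936 6 (4605 * 2 ^ 6) = true := by decide +kernel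
theorem t1690_pchk_4606 : allR t1690_pf 306936 6 (4606 * 2 ^ 6) = true := by decide +kernel
theorem t1690_pchk_4607 : allR t1690_pf 306936 6 (4607 * 2 ^ 6) = true := by decide +kernel
theorem t1690_pchk_4608 : allR t1690_pf 306936 6 (4608 * 2 ^ 6) = true := by decide +kernel
theorem t1690_pchk_4609 : allR t1690_pf 306936 6 (4609 * 2 ^ 6) = true := by decide +kernel
theorem t1690_pchk_4610 : allR t1690_pf 306936 6 (4610 * 2 ^ 6) = true := by decide +kernel
theorem t1690_pchk_4611 : allR t1690_pf 306936 6 (4611 * 2 ^ 6) = true := by decide +kernel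
theorem t1690_pchk_4612 : allR t1690_pf 306936 6 (4612 * 2 ^ 6) = true := by decide +kernel
theorem t1690_pchk_4613 : allR t1690_pf 306936 6 (4613 * 2 ^ 6) = true := by decide +kernel
theorem t1690_pchk_4614 : allR t1690_pf 306936 6 (4614 * 2 ^ 6) = true := by decide +kernel
theorem t1690_pchk_4615 : allR t1690_pf 306936 6 (4615 * 2 ^ 6) = true := by decide +kernel
theorem t1690_pchk_4616 : allR t1690_pf 306936 6 (4616 * 2 ^ 6) = true := by decide +kernel
theorem t1690_pchk_4617 : allR t1690_pf 306936 6 (4617 * 2 ^ 6) = true := by decide +kernel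
theorem t1690_pchk_4618 : allR t1690_pf 306936 6 (4618 * 2 ^ 6) = true := by decide +kernel
theorem t1690_pchk_4619 : allR t1690_pf 306936 6 (4619 * 2 ^ 6) = true := by decide +kernel
theorem t1690_pchk_4620 : allR t1690_pf 306936 6 (4620 * 2 ^ 6) = true := by decide +kernel
theorem t1690_pchk_4621 : allR t1690_pf 306936 6 (4621 * 2 ^ 6) = true := by decide +kernel
theorem t1690_pchk_4622 : allR t1690_pf 306936 6 (4622 * 2 ^ 6) = true := by decide +kernel
theorem t1690_pchk_4623 : allR t1690_pf 306936 6 (4623 * 2 ^ 6) = true := by decide +kernel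
theorem t1690_pchk_4624 : allR t1690_pf 306936 6 (4624 * 2 ^ 6) = true := by decide +kernel
theorem t1690_pchk_4625 : allR t1690_pf 306936 6 (4625 * 2 ^ 6) = true := by decide +kernel
theorem t1690_pchk_4626 : allR t1690_pf 306936 6 (4626 * 2 ^ 6) = true := by decide +kernel
theorem t1690_pchk_4627 : allR t1690_pf 306936 6 (4627 * 2 ^ 6) = true := by decide +kernel
theorem t1690_pchk_4628 : allR t1690_pf 306936 6 (4628 * 2 ^ 6) = true := by decide +kernel
theorem t1690_pchk_4629 : allR t1690_pf 306936 6 (4629 * 2 ^ 6) = true := by decide +kernel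
theorem t1690_pchk_4630 : allR t1690_pf 306936 6 (4630 * 2 ^ 6) = true := by decide +kernel
theorem t1690_pchk_4631 : allR t1690_pf 306936 6 (4631 * 2 ^ 6) = true := by decide +kernel
theorem t1690_pchk_4632 : allR t1690_pf 306936 6 (4632 * 2 ^ 6) = true := by decide +kernel
theorem t1690_pchk_4633 : allR t1690_pf 306936 6 (4633 * 2 ^ 6) = true := by decide +kernel
theorem t1690_pchk_4634 : allR t1690_pf 306936 6 (4634 * 2 ^ 6) = true := by decide +kernel
theorem t1690_pchk_4635 : allR t1690_pf 306936 6 (4635 * 2 ^ 6) = true := by decide +kernel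
theorem t1690_pchk_4636 : allR t1690_pf 306936 6 (4636 * 2 ^ 6) = true := by decide +kernel
theorem t1690_pchk_4637 : allR t1690_pf 306936 6 (4637 * 2 ^ 6) = true := by decide +kernel
theorem t1690_pchk_4638 : allR t1690_pf 306936 6 (4638 * 2 ^ 6) = true := by decide +kernel
theorem t1690_pchk_4639 : allR t1690_pf 306936 6 (4639 * 2 ^ 6) = true := by decide +kernel
theorem t1690_pchk_4640 : allR t1690_pf 306936 6 (4640 * 2 ^ 6) = true := by decide +kernel
theorem t1690_pchk_4641 : allR t1690_pf 306936 6 (4641 * 2 ^ 6) = true := by decide +kernel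
theorem t1690_pchk_4642 : allR t1690_pf 306936 6 (4642 * 2 ^ 6) = true := by decide +kernel
theorem t1690_pchk_4643 : allR t1690_pf 306936 6 (4643 * 2 ^ 6) = true := by decide +kernel
theorem t1690_pchk_4644 : allR t1690_pf 306936 6 (4644 * 2 ^ 6) = true := by decide +kernel
theorem t1690_pchk_4645 : allR t1690_pf 306936 6 (4645 * 2 ^ 6) = true := by decide +kernel
theorem t1690_pchk_4646 : allR t1690_pf 306936 6 (4646 * 2 ^ 6) = true := by decide +kernel
theorem t1690_pchk_4647 : allR t1690_pf 306936 6 (4647 * 2 ^ 6) = true := by decide +kernel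
theorem t1690_pchk_4648 : allR t1690_pf 306936 6 (4648 * 2 ^ 6) = true := by decide +kernel
theorem t1690_pchk_4649 : allR t1690_pf 306936 6 (4649 * 2 ^ 6) = true := by decide +kernel
theorem t1690_pchk_4650 : allR t1690_pf 306936 6 (4650 * 2 ^ 6) = true := by decide +kernel
theorem t1690_pchk_4651 : allR t1690_pf 306936 6 (4651 * 2 ^ 6) = true := by decide +kernel
theorem t1690_pchk_4652 : allR t1690_pf 306936 6 (4652 * 2 ^ 6) = true := by decide +kernel
theorem t1690_pchk_4653 : allR t1690_pf 306936 6 (4653 * 2 ^ 6) = true := by decide +kernel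
theorem t1690_pchk_4654 : allR t1690_pf 306936 6 (4654 * 2 ^ 6) = true := by decide +kernel
theorem t1690_pchk_4655 : allR t1690_pf 306936 6 (4655 * 2 ^ 6) = true := by decide +kernel
theorem t1690_pchk_4656 : allR t1690_pf 306936 6 (4656 * 2 ^ 6) = true := by decide +kernel
theorem t1690_pchk_4657 : allR t1690_pf 306936 6 (4657 * 2 ^ 6) = true := by decide +kernel
theorem t1690_pchk_4658 : allR t1690_pf 306936 6 (4658 * 2 ^ 6) = true := by decide +kernel
theorem t1690_pchk_4659 : allR t1690_pf 306936 6 (4659 * 2 ^ 6) = true := by decide +kernel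
theorem t1690_pchk_4660 : allR t1690_pf 306936 6 (4660 * 2 ^ 6) = true := by decide +kernel
theorem t1690_pchk_4661 : allR t1690_pf 306936 6 (4661 * 2 ^ 6) = true := by decide +kernel
theorem t1690_pchk_4662 : allR t1690_pf 306936 6 (4662 * 2 ^ 6) = true := by decide +kernel
theorem t1690_pchk_4663 : allR t1690_pf 306936 6 (4663 * 2 ^ 6) = true := by decide +kernel
theorem t1690_pchk_4664 : allR t1690_pf 306936 6 (4664 * 2 ^ 6) = true := by decide +kernel
theorem t1690_pchk_4665 : allR t1690_pf 306936 6 (4665 * 2 ^ 6) = true := by decide +kernel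
theorem t1690_pchk_4666 : allR t1690_pf 306936 6 (4666 * 2 ^ 6) = true := by decide +kernel
theorem t1690_pchk_4667 : allR t1690_pf 306936 6 (4667 * 2 ^ 6) = true := by decide +kernel
theorem t1690_pchk_4668 : allR t1690_pf 306936 6 (4668 * 2 ^ 6) = true := by decide +kernel
theorem t1690_pchk_4669 : allR t1690_pf 306936 6 (4669 * 2 ^ 6) = true := by decide +kernel
theorem t1690_pchk_4670 : allR t1690_pf 306936 6 (4670 * 2 ^ 6) = true := by decide +kernel
theorem t1690_pchk_4671 : allR t1690_pf 306936 6 (4671 * 2 ^ 6) = true := by decide +kernel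
theorem t1690_pchk_4672 : allR t1690_pf 306936 6 (4672 * 2 ^ 6) = true := by decide +kernel
theorem t1690_pchk_4673 : allR t1690_pf 306936 6 (4673 * 2 ^ 6) = true := by decide +kernel
theorem t1690_pchk_4674 : allR t1690_pf 306936 6 (4674 * 2 ^ 6) = true := by decide +kernel
theorem t1690_pchk_4675 : allR t1690_pf 306936 6 (4675 * 2 ^ 6) = true := by decide +kernel
theorem t1690_pchk_4676 : allR t1690_pf 306936 6 (4676 * 2 ^ 6) = true := by decide +kernel
theorem t1690_pchk_4677 : allR t1690_pf 306936 6 (4677 * 2 ^ 6) = true := by decide +kernel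
theorem t1690_pchk_4678 : allR t1690_pf 306936 6 (4678 * 2 ^ 6) = true := by decide +kernel
theorem t1690_pchk_4679 : allR t1690_pf 306936 6 (4679 * 2 ^ 6) = true := by decide +kernel

theorem t1690_pfile_38 : ∀ k, k < 4680 → 4560 ≤ k → allR t1690_pf 306936 6 (k * 2 ^ 6) = true := by
  intro k h1 h2
  interval_cases k
  · exact t1690_pchk_4560
  · exact t1690_pchk_4561
  · exact t1690_pchk_4562
  · exact t1690_pchk_4563
  · exact t1690_pchk_4564
  · exact t1690_pchk_4565
  · exact t1690_pchk_4566
  · exact t1690_pchk_4567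
  · exact t1690_pchk_4568
  · exact t1690_pchk_4569
  · exact t1690_pchk_4570
  · exact t1690_pchk_4571
  · exact t1690_pchk_4572
  · exact t1690_pchk_4573
  · exact t1690_pchk_4574
  · exact t1690_pchk_4575
  · exact t1690_pchk_4576
  · exact t1690_pchk_4577
  · exact t1690_pchk_4578
  · exact t1690_pchk_4579
  · exact t1690_pchk_4580
  · exact t1690_pchk_4581
  · exact t1690_pchk_4582
  · exact t1690_pchk_4583
  · exact t1690_pchk_4584
  · exact t1690_pchk_4585
  · exact t1690_pchk_4586
  · exact t1690_pchk_4587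
  · exact t1690_pchk_4588
  · exact t1690_pchk_4589
  · exact t1690_pchk_4590
  · exact t1690_pchk_4591
  · exact t1690_pchk_4592
  · exact t1690_pchk_4593
  · exact t1690_pchk_4594
  · exact t1690_pchk_4595
  · exact t1690_pchk_4596
  · exact t1690_pchk_4597
  · exact t1690_pchk_4598
  · exact t1690_pchk_4599
  · exact t1690_pchk_4600
  · exact t1690_pchk_4601
  · exact t1690_pchk_4602
  · exact t1690_pchk_4603
  · exact t1690_pchk_4604
  · exact t1690_pchk_4605
  · exact t1690_pchk_4606
  · exact t1690_pchk_4607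
  · exact t1690_pchk_4608
  · exact t1690_pchk_4609
  · exact t1690_pchk_4610
  · exact t1690_pchk_4611
  · exact t1690_pchk_4612
  · exact t1690_pchk_4613
  · exact t1690_pchk_4614
  · exact t1690_pchk_4615
  · exact t1690_pchk_4616
  · exact t1690_pchk_4617
  · exact t1690_pchk_4618
  · exact t1690_pchk_4619
  · exact t1690_pchk_4620
  · exact t1690_pchk_4621
  · exact t1690_pchk_4622
  · exact t1690_pchk_4623
  · exact t1690_pchk_4624
  · exact t1690_pchk_4625
  · exact t1690_pchk_4626
  · exact t1690_pchk_4627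
  · exact t1690_pchk_4628
  · exact t1690_pchk_4629
  · exact t1690_pchk_4630
  · exact t1690_pchk_4631
  · exact t1690_pchk_4632
  · exact t1690_pchk_4633
  · exact t1690_pchk_4634
  · exact t1690_pchk_4635
  · exact t1690_pchk_4636
  · exact t1690_pchk_4637
  · exact t1690_pchk_4638
  · exact t1690_pchk_4639
  · exact t1690_pchk_4640
  · exact t1690_pchk_4641
  · exact t1690_pchk_4642
  · exact t1690_pchk_4643
  · exact t1690_pchk_4644
  · exact t1690_pchk_4645
  · exact t1690_pchk_4646
  · exact t1690_pchk_4647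
  · exact t1690_pchk_4648
  · exact t1690_pchk_4649
  · exact t1690_pchk_4650
  · exact t1690_pchk_4651
  · exact t1690_pchk_4652
  · exact t1690_pchk_4653
  · exact t1690_pchk_4654
  · exact t1690_pchk_4655
  · exact t1690_pchk_4656
  · exact t1690_pchk_4657
  · exact t1690_pchk_4658
  · exact t1690_pchk_4659
  · exact t1690_pchk_4660
  · exact t1690_pchk_4661
  · exact t1690_pchk_4662
  · exact t1690_pchk_4663
  · exact t1690_pchk_4664
  · exact t1690_pchk_4665
  · exact t1690_pchk_4666
  · exact t1690_pchk_4667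
  · exact t1690_pchk_4668
  · exact t1690_pchk_4669
  · exact t1690_pchk_4670
  · exact t1690_pchk_4671
  · exact t1690_pchk_4672
  · exact t1690_pchk_4673
  · exact t1690_pchk_4674
  · exact t1690_pchk_4675
  · exact t1690_pchk_4676
  · exact t1690_pchk_4677
  · exact t1690_pchk_4678
  · exact t1690_pchk_4679

end Cfsg.Agent.H35
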