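import Cfsg.Agent.H35.T1690.PTab

set_option autoImplicit false
set_option linter.all false
set_option Elab.async false

namespace Cfsg.Agent.H35

theorem t1690_pchk_4680 : allR t1690_pf 306936 6 (4680 * 2 ^ 6) = true := by decide +kernel
theorem t1690_pchk_4681 : allR t1690_pf 306936 6 (4681 * 2 ^ 6) = true := by decide +kernel
theorem t1690_pchk_4682 : allR t1690_pf 306936 6 (4682 * 2 ^ 6) = true := by decide +kernel
theorem t1690_pchk_4683 : allR t1690_pf 306936 6 (4683 * 2 ^ 6) = true := by decide +kernel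
theorem t1690_pchk_4684 : allR t1690_pf 306936 6 (4684 * 2 ^ 6) = true := by decide +kernel
theorem t1690_pchk_4685 : allR t1690_pf 306936 6 (4685 * 2 ^ 6) = true := by decide +kernel
theorem t1690_pchk_4686 : allR t1690_pf 306936 6 (4686 * 2 ^ 6) = true := by decide +kernel
theorem t1690_pchk_4687 : allR t1690_pf 306936 6 (4687 * 2 ^ 6) = true := by decide +kernel
theorem t1690_pchk_4688 : allR t1690_pf 306936 6 (4688 * 2 ^ 6) = true := by decide +kernel
theorem t1690_pchk_4689 : allR t1690_pf 306936 6 (4689 * 2 ^ 6) = true := by decide +kernel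
theorem t1690_pchk_4690 : allR t1690_pf 306936 6 (4690 * 2 ^ 6) = true := by decide +kernel
theorem t1690_pchk_4691 : allR t1690_pf 306936 6 (4691 * 2 ^ 6) = true := by decide +kernel
theorem t1690_pchk_4692 : allR t1690_pf 306936 6 (4692 * 2 ^ 6) = true := by decide +kernel
theorem t1690_pchk_4693 : allR t1690_pf 306936 6 (4693 * 2 ^ 6) = true := by decide +kernel
theorem t1690_pchk_4694 : allR t1690_pf 306936 6 (4694 * 2 ^ 6) = true := by decide +kernel
theorem t1690_pchk_4695 : allR t1690_pf 306936 6 (4695 * 2 ^ 6) = true := by decide +kernel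
theorem t1690_pchk_4696 : allR t1690_pf 306936 6 (4696 * 2 ^ 6) = true := by decide +kernel
theorem t1690_pchk_4697 : allR t1690_pf 306936 6 (4697 * 2 ^ 6) = true := by decide +kernel
theorem t1690_pchk_4698 : allR t1690_pf 306936 6 (4698 * 2 ^ 6) = true := by decide +kernel
theorem t1690_pchk_4699 : allR t1690_pf 306936 6 (4699 * 2 ^ 6) = true := by decide +kernel
theorem t1690_pchk_4700 : allR t1690_pf 306936 6 (4700 * 2 ^ 6) = true := by decide +kernel
theorem t1690_pchk_4701 : allR t1690_pf 306936 6 (4701 * 2 ^ 6) = true := by decide +kernel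
theorem t1690_pchk_4702 : allR t1690_pf 306936 6 (4702 * 2 ^ 6) = true := by decide +kernel
theorem t1690_pchk_4703 : allR t1690_pf 306936 6 (4703 * 2 ^ 6) = true := by decide +kernel
theorem t1690_pchk_4704 : allR t1690_pf 306936 6 (4704 * 2 ^ 6) = true := by decide +kernel
theorem t1690_pchk_4705 : allR t1690_pf 306936 6 (4705 * 2 ^ 6) = true := by decide +kernel
theorem t1690_pchk_4706 : allR t1690_pf 306936 6 (4706 * 2 ^ 6) = true := by decide +kernel
theorem t1690_pchk_4707 : allR t1690_pf 306936 6 (4707 * 2 ^ 6) = true := by decide +kernel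
theorem t1690_pchk_4708 : allR t1690_pf 306936 6 (4708 * 2 ^ 6) = true := by decide +kernel
theorem t1690_pchk_4709 : allR t1690_pf 306936 6 (4709 * 2 ^ 6) = true := by decide +kernel
theorem t1690_pchk_4710 : allR t1690_pf 306936 6 (4710 * 2 ^ 6) = true := by decide +kernel
theorem t1690_pchk_4711 : allR t1690_pf 306936 6 (4711 * 2 ^ 6) = true := by decide +kernel
theorem t1690_pchk_4712 : allR t1690_pf 306936 6 (4712 * 2 ^ 6) = true := by decide +kernel
theorem t1690_pchk_4713 : allR t1690_pf 306936 6 (4713 * 2 ^ 6) = true := by decide +kernel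
theorem t1690_pchk_4714 : allR t1690_pf 306936 6 (4714 * 2 ^ 6) = true := by decide +kernel
theorem t1690_pchk_4715 : allR t1690_pf 306936 6 (4715 * 2 ^ 6) = true := by decide +kernel
theorem t1690_pchk_4716 : allR t1690_pf 306936 6 (4716 * 2 ^ 6) = true := by decide +kernel
theorem t1690_pchk_4717 : allR t1690_pf 306936 6 (4717 * 2 ^ 6) = true := by decide +kernel
theorem t1690_pchk_4718 : allR t1690_pf 306936 6 (4718 * 2 ^ 6) = true := by decide +kernel
theorem t1690_pchk_4719 : allR t1690_pf 306936 6 (4719 * 2 ^ 6) = true := by decide +kernel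
theorem t1690_pchk_4720 : allR t1690_pf 306936 6 (4720 * 2 ^ 6) = true := by decide +kernel
theorem t1690_pchk_4721 : allR t1690_pf 306936 6 (4721 * 2 ^ 6) = true := by decide +kernel
theorem t1690_pchk_4722 : allR t1690_pf 306936 6 (4722 * 2 ^ 6) = true := by decide +kernel
theorem t1690_pchk_4723 : allR t1690_pf 306936 6 (4723 * 2 ^ 6) = true := by decide +kernel
theorem t1690_pchk_4724 : allR t1690_pf 306936 6 (4724 * 2 ^ 6) = true := by decide +kernel
theorem t1690_pchk_4725 : allR t1690_pf 306936 6 (4725 * 2 ^ 6) = true := by decide +kernel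
theorem t1690_pchk_4726 : allR t1690_pf 306936 6 (4726 * 2 ^ 6) = true := by decide +kernel
theorem t1690_pchk_4727 : allR t1690_pf 306936 6 (4727 * 2 ^ 6) = true := by decide +kernel
theorem t1690_pchk_4728 : allR t1690_pf 306936 6 (4728 * 2 ^ 6) = true := by decide +kernel
theorem t1690_pchk_4729 : allR t1690_pf 306936 6 (4729 * 2 ^ 6) = true := by decide +kernel
theorem t1690_pchk_4730 : allR t1690_pf 306936 6 (4730 * 2 ^ 6) = true := by decide +kernel
theorem t1690_pchk_4731 : allR t1690_pf 306936 6 (4731 * 2 ^ 6) = true := by decide +kernel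
theorem t1690_pchk_4732 : allR t1690_pf 306936 6 (4732 * 2 ^ 6) = true := by decide +kernel
theorem t1690_pchk_4733 : allR t1690_pf 306936 6 (4733 * 2 ^ 6) = true := by decide +kernel
theorem t1690_pchk_4734 : allR t1690_pf 306936 6 (4734 * 2 ^ 6) = true := by decide +kernel
theorem t1690_pchk_4735 : allR t1690_pf 306936 6 (4735 * 2 ^ 6) = true := by decide +kernel
theorem t1690_pchk_4736 : allR t1690_pf 306936 6 (4736 * 2 ^ 6) = true := by decide +kernel
theorem t1690_pchk_4737 : allR t1690_pf 306936 6 (4737 * 2 ^ 6) = true := by decide +kernel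
theorem t1690_pchk_4738 : allR t1690_pf 306936 6 (4738 * 2 ^ 6) = true := by decide +kernel
theorem t1690_pchk_4739 : allR t1690_pf 306936 6 (4739 * 2 ^ 6) = true := by decide +kernel
theorem t1690_pchk_4740 : allR t1690_pf 306936 6 (4740 * 2 ^ 6) = true := by decide +kernel
theorem t1690_pchk_4741 : allR t1690_pf 306936 6 (4741 * 2 ^ 6) = true := by decide +kernel
theorem t1690_pchk_4742 : allR t1690_pf 306936 6 (4742 * 2 ^ 6) = true := by decide +kernel
theorem t1690_pchk_4743 : allR t1690_pf 306936 6 (4743 * 2 ^ 6) = true := by decide +kernel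
theorem t1690_pchk_4744 : allR t1690_pf 306936 6 (4744 * 2 ^ 6) = true := by decide +kernel
theorem t1690_pchk_4745 : allR t1690_pf 306936 6 (4745 * 2 ^ 6) = true := by decide +kernel
theorem t1690_pchk_4746 : allR t1690_pf 306936 6 (4746 * 2 ^ 6) = true := by decide +kernel
theorem t1690_pchk_4747 : allR t1690_pf 306936 6 (4747 * 2 ^ 6) = true := by decide +kernel
theorem t1690_pchk_4748 : allR t1690_pf 306936 6 (4748 * 2 ^ 6) = true := by decide +kernel
theorem t1690_pchk_4749 : allR t1690_pf 306936 6 (4749 * 2 ^ 6) = true := by decide +kernel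
theorem t1690_pchk_4750 : allR t1690_pf 306936 6 (4750 * 2 ^ 6) = true := by decide +kernel
theorem t1690_pchk_4751 : allR t1690_pf 306936 6 (4751 * 2 ^ 6) = true := by decide +kernel
theorem t1690_pchk_4752 : allR t1690_pf 306936 6 (4752 * 2 ^ 6) = true := by decide +kernel
theorem t1690_pchk_4753 : allR t1690_pf 306936 6 (4753 * 2 ^ 6) = true := by decide +kernel
theorem t1690_pchk_4754 : allR t1690_pf 306936 6 (4754 * 2 ^ 6) = true := by decide +kernel
theorem t1690_pchk_4755 : allR t1690_pf 306936 6 (4755 * 2 ^ 6) = true := by decide +kernel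
theorem t1690_pchk_4756 : allR t1690_pf 306936 6 (4756 * 2 ^ 6) = true := by decide +kernel
theorem t1690_pchk_4757 : allR t1690_pf 306936 6 (4757 * 2 ^ 6) = true := by decide +kernel
theorem t1690_pchk_4758 : allR t1690_pf 306936 6 (4758 * 2 ^ 6) = true := by decide +kernel
theorem t1690_pchk_4759 : allR t1690_pf 306936 6 (4759 * 2 ^ 6) = true := by decide +kernel
theorem t1690_pchk_4760 : allR t1690_pf 306936 6 (4760 * 2 ^ 6) = true := by decide +kernel
theorem t1690_pchk_4761 : allR t1690_pf 306936 6 (4761 * 2 ^ 6) = true := by decide +kernel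
theorem t1690_pchk_4762 : allR t1690_pf 306936 6 (4762 * 2 ^ 6) = true := by decide +kernel
theorem t1690_pchk_4763 : allR t1690_pf 306936 6 (4763 * 2 ^ 6) = true := by decide +kernel
theorem t1690_pchk_4764 : allR t1690_pf 306936 6 (4764 * 2 ^ 6) = true := by decide +kernel
theorem t1690_pchk_4765 : allR t1690_pf 306936 6 (4765 * 2 ^ 6) = true := by decide +kernel
theorem t1690_pchk_4766 : allR t1690_pf 306936 6 (4766 * 2 ^ 6) = true := by decide +kernel
theorem t1690_pchk_4767 : allR t1690_pf 306936 6 (4767 * 2 ^ 6) = true := by decide +kernel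
theorem t1690_pchk_4768 : allR t1690_pf 306936 6 (4768 * 2 ^ 6) = true := by decide +kernel
theorem t1690_pchk_4769 : allR t1690_pf 306936 6 (4769 * 2 ^ 6) = true := by decide +kernel
theorem t1690_pchk_4770 : allR t1690_pf 306936 6 (4770 * 2 ^ 6) = true := by decide +kernel
theorem t1690_pchk_4771 : allR t1690_pf 306936 6 (4771 * 2 ^ 6) = true := by decide +kernel
theorem t1690_pchk_4772 : allR t1690_pf 306936 6 (4772 * 2 ^ 6) = true := by decide +kernel
theorem t1690_pchk_4773 : allR t1690_pf 306936 6 (4773 * 2 ^ 6) = true := by decide +kernel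
theorem t1690_pchk_4774 : allR t1690_pf 306936 6 (4774 * 2 ^ 6) = true := by decide +kernel
theorem t1690_pchk_4775 : allR t1690_pf 306936 6 (4775 * 2 ^ 6) = true := by decide +kernel
theorem t1690_pchk_4776 : allR t1690_pf 306936 6 (4776 * 2 ^ 6) = true := by decide +kernel
theorem t1690_pchk_4777 : allR t1690_pf 306936 6 (4777 * 2 ^ 6) = true := by decide +kernel
theorem t1690_pchk_4778 : allR t1690_pf 306936 6 (4778 * 2 ^ 6) = true := by decide +kernel
theorem t1690_pchk_4779 : allR t1690_pf 306936 6 (4779 * 2 ^ 6) = true := by decide +kernel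
theorem t1690_pchk_4780 : allR t1690_pf 306936 6 (4780 * 2 ^ 6) = true := by decide +kernel
theorem t1690_pchk_4781 : allR t1690_pf 306936 6 (4781 * 2 ^ 6) = true := by decide +kernel
theorem t1690_pchk_4782 : allR t1690_pf 306936 6 (4782 * 2 ^ 6) = true := by decide +kernel
theorem t1690_pchk_4783 : allR t1690_pf 306936 6 (4783 * 2 ^ 6) = true := by decide +kernel
theorem t1690_pchk_4784 : allR t1690_pf 306936 6 (4784 * 2 ^ 6) = true := by decide +kernel
theorem t1690_pchk_4785 : allR t1690_pf 306936 6 (4785 * 2 ^ 6) = true := by decide +kernel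
theorem t1690_pchk_4786 : allR t1690_pf 306936 6 (4786 * 2 ^ 6) = true := by decide +kernel
theorem t1690_pchk_4787 : allR t1690_pf 306936 6 (4787 * 2 ^ 6) = true := by decide +kernel
theorem t1690_pchk_4788 : allR t1690_pf 306936 6 (4788 * 2 ^ 6) = true := by decide +kernel
theorem t1690_pchk_4789 : allR t1690_pf 306936 6 (4789 * 2 ^ 6) = true := by decide +kernel
theorem t1690_pchk_4790 : allR t1690_pf 306936 6 (4790 * 2 ^ 6) = true := by decide +kernel
theorem t1690_pchk_4791 : allR t1690_pf 306936 6 (4791 * 2 ^ 6) = true := by decide +kernel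
theorem t1690_pchk_4792 : allR t1690_pf 306936 6 (4792 * 2 ^ 6) = true := by decide +kernel
theorem t1690_pchk_4793 : allR t1690_pf 306936 6 (4793 * 2 ^ 6) = true := by decide +kernel
theorem t1690_pchk_4794 : allR t1690_pf 306936 6 (4794 * 2 ^ 6) = true := by decide +kernel
theorem t1690_pchk_4795 : allR t1690_pf 306936 6 (4795 * 2 ^ 6) = true := by decide +kernel

theorem t1690_pfile_39 : ∀ k, k < 4796 → 4680 ≤ k → allR t1690_pf 306936 6 (k * 2 ^ 6) = true := by
  intro k h1 h2
  interval_cases k
  · exact t1690_pchk_4680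
  · exact t1690_pchk_4681
  · exact t1690_pchk_4682
  · exact t1690_pchk_4683
  · exact t1690_pchk_4684
  · exact t1690_pchk_4685
  · exact t1690_pchk_4686
  · exact t1690_pchk_4687
  · exact t1690_pchk_4688
  · exact t1690_pchk_4689
  · exact t1690_pchk_4690
  · exact t1690_pchk_4691
  · exact t1690_pchk_4692
  · exact t1690_pchk_4693
  · exact t1690_pchk_4694
  · exact t1690_pchk_4695
  · exact t1690_pchk_4696
  · exact t1690_pchk_4697
  · exact t1690_pchk_4698
  · exact t1690_pchk_4699
  · exact t1690_pchk_4700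
  · exact t1690_pchk_4701
  · exact t1690_pchk_4702
  · exact t1690_pchk_4703
  · exact t1690_pchk_4704
  · exact t1690_pchk_4705
  · exact t1690_pchk_4706
  · exact t1690_pchk_4707
  · exact t1690_pchk_4708
  · exact t1690_pchk_4709
  · exact t1690_pchk_4710
  · exact t1690_pchk_4711
  · exact t1690_pchk_4712
  · exact t1690_pchk_4713
  · exact t1690_pchk_4714
  · exact t1690_pchk_4715
  · exact t1690_pchk_4716
  · exact t1690_pchk_4717
  · exact t1690_pchk_4718
  · exact t1690_pchk_4719
  · exact t1690_pchk_4720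
  · exact t1690_pchk_4721
  · exact t1690_pchk_4722
  · exact t1690_pchk_4723
  · exact t1690_pchk_4724
  · exact t1690_pchk_4725
  · exact t1690_pchk_4726
  · exact t1690_pchk_4727
  · exact t1690_pchk_4728
  · exact t1690_pchk_4729
  · exact t1690_pchk_4730
  · exact t1690_pchk_4731
  · exact t1690_pchk_4732
  · exact t1690_pchk_4733
  · exact t1690_pchk_4734
  · exact t1690_pchk_4735
  · exact t1690_pchk_4736
  · exact t1690_pchk_4737
  · exact t1690_pchk_4738
  · exact t1690_pchk_4739
  · exact t1690_pchk_4740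
  · exact t1690_pchk_4741
  · exact t1690_pchk_4742
  · exact t1690_pchk_4743
  · exact t1690_pchk_4744
  · exact t1690_pchk_4745
  · exact t1690_pchk_4746
  · exact t1690_pchk_4747
  · exact t1690_pchk_4748
  · exact t1690_pchk_4749
  · exact t1690_pchk_4750
  · exact t1690_pchk_4751
  · exact t1690_pchk_4752
  · exact t1690_pchk_4753
  · exact t1690_pchk_4754
  · exact t1690_pchk_4755
  · exact t1690_pchk_4756
  · exact t1690_pchk_4757
  · exact t1690_pchk_4758
  · exact t1690_pchk_4759
  · exact t1690_pchk_4760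
  · exact t1690_pchk_4761
  · exact t1690_pchk_4762
  · exact t1690_pchk_4763
  · exact t1690_pchk_4764
  · exact t1690_pchk_4765
  · exact t1690_pchk_4766
  · exact t1690_pchk_4767
  · exact t1690_pchk_4768
  · exact t1690_pchk_4769
  · exact t1690_pchk_4770
  · exact t1690_pchk_4771
  · exact t1690_pchk_4772
  · exact t1690_pchk_4773
  · exact t1690_pchk_4774
  · exact t1690_pchk_4775
  · exact t1690_pchk_4776
  · exact t1690_pchk_4777
  · exact t1690_pchk_4778
  · exact t1690_pchk_4779
  · exact t1690_pchk_4780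
  · exact t1690_pchk_4781
  · exact t1690_pchk_4782
  · exact t1690_pchk_4783
  · exact t1690_pchk_4784
  · exact t1690_pchk_4785
  · exact t1690_pchk_4786
  · exact t1690_pchk_4787
  · exact t1690_pchk_4788
  · exact t1690_pchk_4789
  · exact t1690_pchk_4790
  · exact t1690_pchk_4791
  · exact t1690_pchk_4792
  · exact t1690_pchk_4793
  · exact t1690_pchk_4794
  · exact t1690_pchk_4795

end Cfsg.Agent.H35
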