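import Cfsg.Agent.H35.T1690.PTab

set_option autoImplicit false
set_option linter.all false
set_option Elab.async false

namespace Cfsg.Agent.H35

theorem t1690_pchk_720 : allR t1690_pf 306936 6 (720 * 2 ^ 6) = true := by decide +kernel
theorem t1690_pchk_721 : allR t1690_pf 306936 6 (721 * 2 ^ 6) = true := by decide +kernel
theorem t1690_pchk_722 : allR t1690_pf 306936 6 (722 * 2 ^ 6) = true := by decide +kernel
theorem t1690_pchk_723 : allR t1690_pf 306936 6 (723 * 2 ^ 6) = true := by decide +kernel
theorem t1690_pchk_724 : allR t1690_pf 306936 6 (724 * 2 ^ 6) = true := by decide +kernel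
theorem t1690_pchk_725 : allR t1690_pf 306936 6 (725 * 2 ^ 6) = true := by decide +kernel
theorem t1690_pchk_726 : allR t1690_pf 306936 6 (726 * 2 ^ 6) = true := by decide +kernel
theorem t1690_pchk_727 : allR t1690_pf 306936 6 (727 * 2 ^ 6) = true := by decide +kernel
theorem t1690_pchk_728 : allR t1690_pf 306936 6 (728 * 2 ^ 6) = true := by decide +kernel
theorem t1690_pchk_729 : allR t1690_pf 306936 6 (729 * 2 ^ 6) = true := by decide +kernel
theorem t1690_pchk_730 : allR t1690_pf 306936 6 (730 * 2 ^ 6) = true := by decide +kernel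
theorem t1690_pchk_731 : allR t1690_pf 306936 6 (731 * 2 ^ 6) = true := by decide +kernel
theorem t1690_pchk_732 : allR t1690_pf 306936 6 (732 * 2 ^ 6) = true := by decide +kernel
theorem t1690_pchk_733 : allR t1690_pf 306936 6 (733 * 2 ^ 6) = true := by decide +kernel
theorem t1690_pchk_734 : allR t1690_pf 306936 6 (734 * 2 ^ 6) = true := by decide +kernel
theorem t1690_pchk_735 : allR t1690_pf 306936 6 (735 * 2 ^ 6) = true := by decide +kernel
theorem t1690_pchk_736 : allR t1690_pf 306936 6 (736 * 2 ^ 6) = true := by decide +kernel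
theorem t1690_pchk_737 : allR t1690_pf 306936 6 (737 * 2 ^ 6) = true := by decide +kernel
theorem t1690_pchk_738 : allR t1690_pf 306936 6 (738 * 2 ^ 6) = true := by decide +kernel
theorem t1690_pchk_739 : allR t1690_pf 306936 6 (739 * 2 ^ 6) = true := by decide +kernel
theorem t1690_pchk_740 : allR t1690_pf 306936 6 (740 * 2 ^ 6) = true := by decide +kernel
theorem t1690_pchk_741 : allR t1690_pf 306936 6 (741 * 2 ^ 6) = true := by decide +kernel
theorem t1690_pchk_742 : allR t1690_pf 306936 6 (742 * 2 ^ 6) = true := by decide +kernel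
theorem t1690_pchk_743 : allR t1690_pf 306936 6 (743 * 2 ^ 6) = true := by decide +kernel
theorem t1690_pchk_744 : allR t1690_pf 306936 6 (744 * 2 ^ 6) = true := by decide +kernel
theorem t1690_pchk_745 : allR t1690_pf 306936 6 (745 * 2 ^ 6) = true := by decide +kernel
theorem t1690_pchk_746 : allR t1690_pf 306936 6 (746 * 2 ^ 6) = true := by decide +kernel
theorem t1690_pchk_747 : allR t1690_pf 306936 6 (747 * 2 ^ 6) = true := by decide +kernel
theorem t1690_pchk_748 : allR t1690_pf 306936 6 (748 * 2 ^ 6) = true := by decide +kernel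
theorem t1690_pchk_749 : allR t1690_pf 306936 6 (749 * 2 ^ 6) = true := by decide +kernel
theorem t1690_pchk_750 : allR t1690_pf 306936 6 (750 * 2 ^ 6) = true := by decide +kernel
theorem t1690_pchk_751 : allR t1690_pf 306936 6 (751 * 2 ^ 6) = true := by decide +kernel
theorem t1690_pchk_752 : allR t1690_pf 306936 6 (752 * 2 ^ 6) = true := by decide +kernel
theorem t1690_pchk_753 : allR t1690_pf 306936 6 (753 * 2 ^ 6) = true := by decide +kernel
theorem t1690_pchk_754 : allR t1690_pf 306936 6 (754 * 2 ^ 6) = true := by decide +kernel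
theorem t1690_pchk_755 : allR t1690_pf 306936 6 (755 * 2 ^ 6) = true := by decide +kernel
theorem t1690_pchk_756 : allR t1690_pf 306936 6 (756 * 2 ^ 6) = true := by decide +kernel
theorem t1690_pchk_757 : allR t1690_pf 306936 6 (757 * 2 ^ 6) = true := by decide +kernel
theorem t1690_pchk_758 : allR t1690_pf 306936 6 (758 * 2 ^ 6) = true := by decide +kernel
theorem t1690_pchk_759 : allR t1690_pf 306936 6 (759 * 2 ^ 6) = true := by decide +kernel
theorem t1690_pchk_760 : allR t1690_pf 306936 6 (760 * 2 ^ 6) = true := by decide +kernel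
theorem t1690_pchk_761 : allR t1690_pf 306936 6 (761 * 2 ^ 6) = true := by decide +kernel
theorem t1690_pchk_762 : allR t1690_pf 306936 6 (762 * 2 ^ 6) = true := by decide +kernel
theorem t1690_pchk_763 : allR t1690_pf 306936 6 (763 * 2 ^ 6) = true := by decide +kernel
theorem t1690_pchk_764 : allR t1690_pf 306936 6 (764 * 2 ^ 6) = true := by decide +kernel
theorem t1690_pchk_765 : allR t1690_pf 306936 6 (765 * 2 ^ 6) = true := by decide +kernel
theorem t1690_pchk_766 : allR t1690_pf 306936 6 (766 * 2 ^ 6) = true := by decide +kernel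
theorem t1690_pchk_767 : allR t1690_pf 306936 6 (767 * 2 ^ 6) = true := by decide +kernel
theorem t1690_pchk_768 : allR t1690_pf 306936 6 (768 * 2 ^ 6) = true := by decide +kernel
theorem t1690_pchk_769 : allR t1690_pf 306936 6 (769 * 2 ^ 6) = true := by decide +kernel
theorem t1690_pchk_770 : allR t1690_pf 306936 6 (770 * 2 ^ 6) = true := by decide +kernel
theorem t1690_pchk_771 : allR t1690_pf 306936 6 (771 * 2 ^ 6) = true := by decide +kernel
theorem t1690_pchk_772 : allR t1690_pf 306936 6 (772 * 2 ^ 6) = true := by decide +kernel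
theorem t1690_pchk_773 : allR t1690_pf 306936 6 (773 * 2 ^ 6) = true := by decide +kernel
theorem t1690_pchk_774 : allR t1690_pf 306936 6 (774 * 2 ^ 6) = true := by decide +kernel
theorem t1690_pchk_775 : allR t1690_pf 306936 6 (775 * 2 ^ 6) = true := by decide +kernel
theorem t1690_pchk_776 : allR t1690_pf 306936 6 (776 * 2 ^ 6) = true := by decide +kernel
theorem t1690_pchk_777 : allR t1690_pf 306936 6 (777 * 2 ^ 6) = true := by decide +kernel
theorem t1690_pchk_778 : allR t1690_pf 306936 6 (778 * 2 ^ 6) = true := by decide +kernel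
theorem t1690_pchk_779 : allR t1690_pf 306936 6 (779 * 2 ^ 6) = true := by decide +kernel
theorem t1690_pchk_780 : allR t1690_pf 306936 6 (780 * 2 ^ 6) = true := by decide +kernel
theorem t1690_pchk_781 : allR t1690_pf 306936 6 (781 * 2 ^ 6) = true := by decide +kernel
theorem t1690_pchk_782 : allR t1690_pf 306936 6 (782 * 2 ^ 6) = true := by decide +kernel
theorem t1690_pchk_783 : allR t1690_pf 306936 6 (783 * 2 ^ 6) = true := by decide +kernel
theorem t1690_pchk_784 : allR t1690_pf 306936 6 (784 * 2 ^ 6) = true := by decide +kernel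
theorem t1690_pchk_785 : allR t1690_pf 306936 6 (785 * 2 ^ 6) = true := by decide +kernel
theorem t1690_pchk_786 : allR t1690_pf 306936 6 (786 * 2 ^ 6) = true := by decide +kernel
theorem t1690_pchk_787 : allR t1690_pf 306936 6 (787 * 2 ^ 6) = true := by decide +kernel
theorem t1690_pchk_788 : allR t1690_pf 306936 6 (788 * 2 ^ 6) = true := by decide +kernel
theorem t1690_pchk_789 : allR t1690_pf 306936 6 (789 * 2 ^ 6) = true := by decide +kernel
theorem t1690_pchk_790 : allR t1690_pf 306936 6 (790 * 2 ^ 6) = true := by decide +kernel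
theorem t1690_pchk_791 : allR t1690_pf 306936 6 (791 * 2 ^ 6) = true := by decide +kernel
theorem t1690_pchk_792 : allR t1690_pf 306936 6 (792 * 2 ^ 6) = true := by decide +kernel
theorem t1690_pchk_793 : allR t1690_pf 306936 6 (793 * 2 ^ 6) = true := by decide +kernel
theorem t1690_pchk_794 : allR t1690_pf 306936 6 (794 * 2 ^ 6) = true := by decide +kernel
theorem t1690_pchk_795 : allR t1690_pf 306936 6 (795 * 2 ^ 6) = true := by decide +kernel
theorem t1690_pchk_796 : allR t1690_pf 306936 6 (796 * 2 ^ 6) = true := by decide +kernel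
theorem t1690_pchk_797 : allR t1690_pf 306936 6 (797 * 2 ^ 6) = true := by decide +kernel
theorem t1690_pchk_798 : allR t1690_pf 306936 6 (798 * 2 ^ 6) = true := by decide +kernel
theorem t1690_pchk_799 : allR t1690_pf 306936 6 (799 * 2 ^ 6) = true := by decide +kernel
theorem t1690_pchk_800 : allR t1690_pf 306936 6 (800 * 2 ^ 6) = true := by decide +kernel
theorem t1690_pchk_801 : allR t1690_pf 306936 6 (801 * 2 ^ 6) = true := by decide +kernel
theorem t1690_pchk_802 : allR t1690_pf 306936 6 (802 * 2 ^ 6) = true := by decide +kernel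
theorem t1690_pchk_803 : allR t1690_pf 306936 6 (803 * 2 ^ 6) = true := by decide +kernel
theorem t1690_pchk_804 : allR t1690_pf 306936 6 (804 * 2 ^ 6) = true := by decide +kernel
theorem t1690_pchk_805 : allR t1690_pf 306936 6 (805 * 2 ^ 6) = true := by decide +kernel
theorem t1690_pchk_806 : allR t1690_pf 306936 6 (806 * 2 ^ 6) = true := by decide +kernel
theorem t1690_pchk_807 : allR t1690_pf 306936 6 (807 * 2 ^ 6) = true := by decide +kernel
theorem t1690_pchk_808 : allR t1690_pf 306936 6 (808 * 2 ^ 6) = true := by decide +kernel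
theorem t1690_pchk_809 : allR t1690_pf 306936 6 (809 * 2 ^ 6) = true := by decide +kernel
theorem t1690_pchk_810 : allR t1690_pf 306936 6 (810 * 2 ^ 6) = true := by decide +kernel
theorem t1690_pchk_811 : allR t1690_pf 306936 6 (811 * 2 ^ 6) = true := by decide +kernel
theorem t1690_pchk_812 : allR t1690_pf 306936 6 (812 * 2 ^ 6) = true := by decide +kernel
theorem t1690_pchk_813 : allR t1690_pf 306936 6 (813 * 2 ^ 6) = true := by decide +kernel
theorem t1690_pchk_814 : allR t1690_pf 306936 6 (814 * 2 ^ 6) = true := by decide +kernel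
theorem t1690_pchk_815 : allR t1690_pf 306936 6 (815 * 2 ^ 6) = true := by decide +kernel
theorem t1690_pchk_816 : allR t1690_pf 306936 6 (816 * 2 ^ 6) = true := by decide +kernel
theorem t1690_pchk_817 : allR t1690_pf 306936 6 (817 * 2 ^ 6) = true := by decide +kernel
theorem t1690_pchk_818 : allR t1690_pf 306936 6 (818 * 2 ^ 6) = true := by decide +kernel
theorem t1690_pchk_819 : allR t1690_pf 306936 6 (819 * 2 ^ 6) = true := by decide +kernel
theorem t1690_pchk_820 : allR t1690_pf 306936 6 (820 * 2 ^ 6) = true := by decide +kernel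
theorem t1690_pchk_821 : allR t1690_pf 306936 6 (821 * 2 ^ 6) = true := by decide +kernel
theorem t1690_pchk_822 : allR t1690_pf 306936 6 (822 * 2 ^ 6) = true := by decide +kernel
theorem t1690_pchk_823 : allR t1690_pf 306936 6 (823 * 2 ^ 6) = true := by decide +kernel
theorem t1690_pchk_824 : allR t1690_pf 306936 6 (824 * 2 ^ 6) = true := by decide +kernel
theorem t1690_pchk_825 : allR t1690_pf 306936 6 (825 * 2 ^ 6) = true := by decide +kernel
theorem t1690_pchk_826 : allR t1690_pf 306936 6 (826 * 2 ^ 6) = true := by decide +kernel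
theorem t1690_pchk_827 : allR t1690_pf 306936 6 (827 * 2 ^ 6) = true := by decide +kernel
theorem t1690_pchk_828 : allR t1690_pf 306936 6 (828 * 2 ^ 6) = true := by decide +kernel
theorem t1690_pchk_829 : allR t1690_pf 306936 6 (829 * 2 ^ 6) = true := by decide +kernel
theorem t1690_pchk_830 : allR t1690_pf 306936 6 (830 * 2 ^ 6) = true := by decide +kernel
theorem t1690_pchk_831 : allR t1690_pf 306936 6 (831 * 2 ^ 6) = true := by decide +kernel
theorem t1690_pchk_832 : allR t1690_pf 306936 6 (832 * 2 ^ 6) = true := by decide +kernel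
theorem t1690_pchk_833 : allR t1690_pf 306936 6 (833 * 2 ^ 6) = true := by decide +kernel
theorem t1690_pchk_834 : allR t1690_pf 306936 6 (834 * 2 ^ 6) = true := by decide +kernel
theorem t1690_pchk_835 : allR t1690_pf 306936 6 (835 * 2 ^ 6) = true := by decide +kernel
theorem t1690_pchk_836 : allR t1690_pf 306936 6 (836 * 2 ^ 6) = true := by decide +kernel
theorem t1690_pchk_837 : allR t1690_pf 306936 6 (837 * 2 ^ 6) = true := by decide +kernel
theorem t1690_pchk_838 : allR t1690_pf 306936 6 (838 * 2 ^ 6) = true := by decide +kernel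
theorem t1690_pchk_839 : allR t1690_pf 306936 6 (839 * 2 ^ 6) = true := by decide +kernel

theorem t1690_pfile_6 : ∀ k, k < 840 → 720 ≤ k → allR t1690_pf 306936 6 (k * 2 ^ 6) = true := by
  intro k h1 h2
  interval_cases k
  · exact t1690_pchk_720
  · exact t1690_pchk_721
  · exact t1690_pchk_722
  · exact t1690_pchk_723
  · exact t1690_pchk_724
  · exact t1690_pchk_725
  · exact t1690_pchk_726
  · exact t1690_pchk_727
  · exact t1690_pchk_728
  · exact t1690_pchk_729
  · exact t1690_pchk_730
  · exact t1690_pchk_731
  · exact t1690_pchk_732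
  · exact t1690_pchk_733
  · exact t1690_pchk_734
  · exact t1690_pchk_735
  · exact t1690_pchk_736
  · exact t1690_pchk_737
  · exact t1690_pchk_738
  · exact t1690_pchk_739
  · exact t1690_pchk_740
  · exact t1690_pchk_741
  · exact t1690_pchk_742
  · exact t1690_pchk_743
  · exact t1690_pchk_744
  · exact t1690_pchk_745
  · exact t1690_pchk_746
  · exact t1690_pchk_747
  · exact t1690_pchk_748
  · exact t1690_pchk_749
  · exact t1690_pchk_750
  · exact t1690_pchk_751
  · exact t1690_pchk_752
  · exact t1690_pchk_753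
  · exact t1690_pchk_754
  · exact t1690_pchk_755
  · exact t1690_pchk_756
  · exact t1690_pchk_757
  · exact t1690_pchk_758
  · exact t1690_pchk_759
  · exact t1690_pchk_760
  · exact t1690_pchk_761
  · exact t1690_pchk_762
  · exact t1690_pchk_763
  · exact t1690_pchk_764
  · exact t1690_pchk_765
  · exact t1690_pchk_766
  · exact t1690_pchk_767
  · exact t1690_pchk_768
  · exact t1690_pchk_769
  · exact t1690_pchk_770
  · exact t1690_pchk_771
  · exact t1690_pchk_772
  · exact t1690_pchk_773
  · exact t1690_pchk_774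
  · exact t1690_pchk_775
  · exact t1690_pchk_776
  · exact t1690_pchk_777
  · exact t1690_pchk_778
  · exact t1690_pchk_779
  · exact t1690_pchk_780
  · exact t1690_pchk_781
  · exact t1690_pchk_782
  · exact t1690_pchk_783
  · exact t1690_pchk_784
  · exact t1690_pchk_785
  · exact t1690_pchk_786
  · exact t1690_pchk_787
  · exact t1690_pchk_788
  · exact t1690_pchk_789
  · exact t1690_pchk_790
  · exact t1690_pchk_791
  · exact t1690_pchk_792
  · exact t1690_pchk_793
  · exact t1690_pchk_794
  · exact t1690_pchk_795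
  · exact t1690_pchk_796
  · exact t1690_pchk_797
  · exact t1690_pchk_798
  · exact t1690_pchk_799
  · exact t1690_pchk_800
  · exact t1690_pchk_801
  · exact t1690_pchk_802
  · exact t1690_pchk_803
  · exact t1690_pchk_804
  · exact t1690_pchk_805
  · exact t1690_pchk_806
  · exact t1690_pchk_807
  · exact t1690_pchk_808
  · exact t1690_pchk_809
  · exact t1690_pchk_810
  · exact t1690_pchk_811
  · exact t1690_pchk_812
  · exact t1690_pchk_813
  · exact t1690_pchk_814
  · exact t1690_pchk_815
  · exact t1690_pchk_816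
  · exact t1690_pchk_817
  · exact t1690_pchk_818
  · exact t1690_pchk_819
  · exact t1690_pchk_820
  · exact t1690_pchk_821
  · exact t1690_pchk_822
  · exact t1690_pchk_823
  · exact t1690_pchk_824
  · exact t1690_pchk_825
  · exact t1690_pchk_826
  · exact t1690_pchk_827
  · exact t1690_pchk_828
  · exact t1690_pchk_829
  · exact t1690_pchk_830
  · exact t1690_pchk_831
  · exact t1690_pchk_832
  · exact t1690_pchk_833
  · exact t1690_pchk_834
  · exact t1690_pchk_835
  · exact t1690_pchk_836
  · exact t1690_pchk_837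
  · exact t1690_pchk_838
  · exact t1690_pchk_839

end Cfsg.Agent.H35
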