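import Cfsg.Agent.H35.T1690.PTab

set_option autoImplicit false
set_option linter.all false
set_option Elab.async false

namespace Cfsg.Agent.H35

theorem t1690_pchk_960 : allR t1690_pf 306936 6 (960 * 2 ^ 6) = true := by decide +kernel
theorem t1690_pchk_961 : allR t1690_pf 306936 6 (961 * 2 ^ 6) = true := by decide +kernel
theorem t1690_pchk_962 : allR t1690_pf 306936 6 (962 * 2 ^ 6) = true := by decide +kernel
theorem t1690_pchk_963 : allR t1690_pf 306936 6 (963 * 2 ^ 6) = true := by decide +kernel
theorem t1690_pchk_964 : allR t1690_pf 306936 6 (964 * 2 ^ 6) = true := by decide +kernel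
theorem t1690_pchk_965 : allR t1690_pf 306936 6 (965 * 2 ^ 6) = true := by decide +kernel
theorem t1690_pchk_966 : allR t1690_pf 306936 6 (966 * 2 ^ 6) = true := by decide +kernel
theorem t1690_pchk_967 : allR t1690_pf 306936 6 (967 * 2 ^ 6) = true := by decide +kernel
theorem t1690_pchk_968 : allR t1690_pf 306936 6 (968 * 2 ^ 6) = true := by decide +kernel
theorem t1690_pchk_969 : allR t1690_pf 306936 6 (969 * 2 ^ 6) = true := by decide +kernel
theorem t1690_pchk_970 : allR t1690_pf 306936 6 (970 * 2 ^ 6) = true := by decide +kernel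
theorem t1690_pchk_971 : allR t1690_pf 306936 6 (971 * 2 ^ 6) = true := by decide +kernel
theorem t1690_pchk_972 : allR t1690_pf 306936 6 (972 * 2 ^ 6) = true := by decide +kernel
theorem t1690_pchk_973 : allR t1690_pf 306936 6 (973 * 2 ^ 6) = true := by decide +kernel
theorem t1690_pchk_974 : allR t1690_pf 306936 6 (974 * 2 ^ 6) = true := by decide +kernel
theorem t1690_pchk_975 : allR t1690_pf 306936 6 (975 * 2 ^ 6) = true := by decide +kernel
theorem t1690_pchk_976 : allR t1690_pf 306936 6 (976 * 2 ^ 6) = true := by decide +kernel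
theorem t1690_pchk_977 : allR t1690_pf 306936 6 (977 * 2 ^ 6) = true := by decide +kernel
theorem t1690_pchk_978 : allR t1690_pf 306936 6 (978 * 2 ^ 6) = true := by decide +kernel
theorem t1690_pchk_979 : allR t1690_pf 306936 6 (979 * 2 ^ 6) = true := by decide +kernel
theorem t1690_pchk_980 : allR t1690_pf 306936 6 (980 * 2 ^ 6) = true := by decide +kernel
theorem t1690_pchk_981 : allR t1690_pf 306936 6 (981 * 2 ^ 6) = true := by decide +kernel
theorem t1690_pchk_982 : allR t1690_pf 306936 6 (982 * 2 ^ 6) = true := by decide +kernel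
theorem t1690_pchk_983 : allR t1690_pf 306936 6 (983 * 2 ^ 6) = true := by decide +kernel
theorem t1690_pchk_984 : allR t1690_pf 306936 6 (984 * 2 ^ 6) = true := by decide +kernel
theorem t1690_pchk_985 : allR t1690_pf 306936 6 (985 * 2 ^ 6) = true := by decide +kernel
theorem t1690_pchk_986 : allR t1690_pf 306936 6 (986 * 2 ^ 6) = true := by decide +kernel
theorem t1690_pchk_987 : allR t1690_pf 306936 6 (987 * 2 ^ 6) = true := by decide +kernel
theorem t1690_pchk_988 : allR t1690_pf 306936 6 (988 * 2 ^ 6) = true := by decide +kernel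
theorem t1690_pchk_989 : allR t1690_pf 306936 6 (989 * 2 ^ 6) = true := by decide +kernel
theorem t1690_pchk_990 : allR t1690_pf 306936 6 (990 * 2 ^ 6) = true := by decide +kernel
theorem t1690_pchk_991 : allR t1690_pf 306936 6 (991 * 2 ^ 6) = true := by decide +kernel
theorem t1690_pchk_992 : allR t1690_pf 306936 6 (992 * 2 ^ 6) = true := by decide +kernel
theorem t1690_pchk_993 : allR t1690_pf 306936 6 (993 * 2 ^ 6) = true := by decide +kernel
theorem t1690_pchk_994 : allR t1690_pf 306936 6 (994 * 2 ^ 6) = true := by decide +kernel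
theorem t1690_pchk_995 : allR t1690_pf 306936 6 (995 * 2 ^ 6) = true := by decide +kernel
theorem t1690_pchk_996 : allR t1690_pf 306936 6 (996 * 2 ^ 6) = true := by decide +kernel
theorem t1690_pchk_997 : allR t1690_pf 306936 6 (997 * 2 ^ 6) = true := by decide +kernel
theorem t1690_pchk_998 : allR t1690_pf 306936 6 (998 * 2 ^ 6) = true := by decide +kernel
theorem t1690_pchk_999 : allR t1690_pf 306936 6 (999 * 2 ^ 6) = true := by decide +kernel
theorem t1690_pchk_1000 : allR t1690_pf 306936 6 (1000 * 2 ^ 6) = true := by decide +kernel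
theorem t1690_pchk_1001 : allR t1690_pf 306936 6 (1001 * 2 ^ 6) = true := by decide +kernel
theorem t1690_pchk_1002 : allR t1690_pf 306936 6 (1002 * 2 ^ 6) = true := by decide +kernel
theorem t1690_pchk_1003 : allR t1690_pf 306936 6 (1003 * 2 ^ 6) = true := by decide +kernel
theorem t1690_pchk_1004 : allR t1690_pf 306936 6 (1004 * 2 ^ 6) = true := by decide +kernel
theorem t1690_pchk_1005 : allR t1690_pf 306936 6 (1005 * 2 ^ 6) = true := by decide +kernel
theorem t1690_pchk_1006 : allR t1690_pf 306936 6 (1006 * 2 ^ 6) = true := by decide +kernel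
theorem t1690_pchk_1007 : allR t1690_pf 306936 6 (1007 * 2 ^ 6) = true := by decide +kernel
theorem t1690_pchk_1008 : allR t1690_pf 306936 6 (1008 * 2 ^ 6) = true := by decide +kernel
theorem t1690_pchk_1009 : allR t1690_pf 306936 6 (1009 * 2 ^ 6) = true := by decide +kernel
theorem t1690_pchk_1010 : allR t1690_pf 306936 6 (1010 * 2 ^ 6) = true := by decide +kernel
theorem t1690_pchk_1011 : allR t1690_pf 306936 6 (1011 * 2 ^ 6) = true := by decide +kernel
theorem t1690_pchk_1012 : allR t1690_pf 306936 6 (1012 * 2 ^ 6) = true := by decide +kernel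
theorem t1690_pchk_1013 : allR t1690_pf 306936 6 (1013 * 2 ^ 6) = true := by decide +kernel
theorem t1690_pchk_1014 : allR t1690_pf 306936 6 (1014 * 2 ^ 6) = true := by decide +kernel
theorem t1690_pchk_1015 : allR t1690_pf 306936 6 (1015 * 2 ^ 6) = true := by decide +kernel
theorem t1690_pchk_1016 : allR t1690_pf 306936 6 (1016 * 2 ^ 6) = true := by decide +kernel
theorem t1690_pchk_1017 : allR t1690_pf 306936 6 (1017 * 2 ^ 6) = true := by decide +kernel
theorem t1690_pchk_1018 : allR t1690_pf 306936 6 (1018 * 2 ^ 6) = true := by decide +kernel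
theorem t1690_pchk_1019 : allR t1690_pf 306936 6 (1019 * 2 ^ 6) = true := by decide +kernel
theorem t1690_pchk_1020 : allR t1690_pf 306936 6 (1020 * 2 ^ 6) = true := by decide +kernel
theorem t1690_pchk_1021 : allR t1690_pf 306936 6 (1021 * 2 ^ 6) = true := by decide +kernel
theorem t1690_pchk_1022 : allR t1690_pf 306936 6 (1022 * 2 ^ 6) = true := by decide +kernel
theorem t1690_pchk_1023 : allR t1690_pf 306936 6 (1023 * 2 ^ 6) = true := by decide +kernel
theorem t1690_pchk_1024 : allR t1690_pf 306936 6 (1024 * 2 ^ 6) = true := by decide +kernel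
theorem t1690_pchk_1025 : allR t1690_pf 306936 6 (1025 * 2 ^ 6) = true := by decide +kernel
theorem t1690_pchk_1026 : allR t1690_pf 306936 6 (1026 * 2 ^ 6) = true := by decide +kernel
theorem t1690_pchk_1027 : allR t1690_pf 306936 6 (1027 * 2 ^ 6) = true := by decide +kernel
theorem t1690_pchk_1028 : allR t1690_pf 306936 6 (1028 * 2 ^ 6) = true := by decide +kernel
theorem t1690_pchk_1029 : allR t1690_pf 306936 6 (1029 * 2 ^ 6) = true := by decide +kernel
theorem t1690_pchk_1030 : allR t1690_pf 306936 6 (1030 * 2 ^ 6) = true := by decide +kernel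
theorem t1690_pchk_1031 : allR t1690_pf 306936 6 (1031 * 2 ^ 6) = true := by decide +kernel
theorem t1690_pchk_1032 : allR t1690_pf 306936 6 (1032 * 2 ^ 6) = true := by decide +kernel
theorem t1690_pchk_1033 : allR t1690_pf 306936 6 (1033 * 2 ^ 6) = true := by decide +kernel
theorem t1690_pchk_1034 : allR t1690_pf 306936 6 (1034 * 2 ^ 6) = true := by decide +kernel
theorem t1690_pchk_1035 : allR t1690_pf 306936 6 (1035 * 2 ^ 6) = true := by decide +kernel
theorem t1690_pchk_1036 : allR t1690_pf 306936 6 (1036 * 2 ^ 6) = true := by decide +kernel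
theorem t1690_pchk_1037 : allR t1690_pf 306936 6 (1037 * 2 ^ 6) = true := by decide +kernel
theorem t1690_pchk_1038 : allR t1690_pf 306936 6 (1038 * 2 ^ 6) = true := by decide +kernel
theorem t1690_pchk_1039 : allR t1690_pf 306936 6 (1039 * 2 ^ 6) = true := by decide +kernel
theorem t1690_pchk_1040 : allR t1690_pf 306936 6 (1040 * 2 ^ 6) = true := by decide +kernel
theorem t1690_pchk_1041 : allR t1690_pf 306936 6 (1041 * 2 ^ 6) = true := by decide +kernel
theorem t1690_pchk_1042 : allR t1690_pf 306936 6 (1042 * 2 ^ 6) = true := by decide +kernel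
theorem t1690_pchk_1043 : allR t1690_pf 306936 6 (1043 * 2 ^ 6) = true := by decide +kernel
theorem t1690_pchk_1044 : allR t1690_pf 306936 6 (1044 * 2 ^ 6) = true := by decide +kernel
theorem t1690_pchk_1045 : allR t1690_pf 306936 6 (1045 * 2 ^ 6) = true := by decide +kernel
theorem t1690_pchk_1046 : allR t1690_pf 306936 6 (1046 * 2 ^ 6) = true := by decide +kernel
theorem t1690_pchk_1047 : allR t1690_pf 306936 6 (1047 * 2 ^ 6) = true := by decide +kernel
theorem t1690_pchk_1048 : allR t1690_pf 306936 6 (1048 * 2 ^ 6) = true := by decide +kernel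
theorem t1690_pchk_1049 : allR t1690_pf 306936 6 (1049 * 2 ^ 6) = true := by decide +kernel
theorem t1690_pchk_1050 : allR t1690_pf 306936 6 (1050 * 2 ^ 6) = true := by decide +kernel
theorem t1690_pchk_1051 : allR t1690_pf 306936 6 (1051 * 2 ^ 6) = true := by decide +kernel
theorem t1690_pchk_1052 : allR t1690_pf 306936 6 (1052 * 2 ^ 6) = true := by decide +kernel
theorem t1690_pchk_1053 : allR t1690_pf 306936 6 (1053 * 2 ^ 6) = true := by decide +kernel
theorem t1690_pchk_1054 : allR t1690_pf 306936 6 (1054 * 2 ^ 6) = true := by decide +kernel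
theorem t1690_pchk_1055 : allR t1690_pf 306936 6 (1055 * 2 ^ 6) = true := by decide +kernel
theorem t1690_pchk_1056 : allR t1690_pf 306936 6 (1056 * 2 ^ 6) = true := by decide +kernel
theorem t1690_pchk_1057 : allR t1690_pf 306936 6 (1057 * 2 ^ 6) = true := by decide +kernel
theorem t1690_pchk_1058 : allR t1690_pf 306936 6 (1058 * 2 ^ 6) = true := by decide +kernel
theorem t1690_pchk_1059 : allR t1690_pf 306936 6 (1059 * 2 ^ 6) = true := by decide +kernel
theorem t1690_pchk_1060 : allR t1690_pf 306936 6 (1060 * 2 ^ 6) = true := by decide +kernel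
theorem t1690_pchk_1061 : allR t1690_pf 306936 6 (1061 * 2 ^ 6) = true := by decide +kernel
theorem t1690_pchk_1062 : allR t1690_pf 306936 6 (1062 * 2 ^ 6) = true := by decide +kernel
theorem t1690_pchk_1063 : allR t1690_pf 306936 6 (1063 * 2 ^ 6) = true := by decide +kernel
theorem t1690_pchk_1064 : allR t1690_pf 306936 6 (1064 * 2 ^ 6) = true := by decide +kernel
theorem t1690_pchk_1065 : allR t1690_pf 306936 6 (1065 * 2 ^ 6) = true := by decide +kernel
theorem t1690_pchk_1066 : allR t1690_pf 306936 6 (1066 * 2 ^ 6) = true := by decide +kernel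
theorem t1690_pchk_1067 : allR t1690_pf 306936 6 (1067 * 2 ^ 6) = true := by decide +kernel
theorem t1690_pchk_1068 : allR t1690_pf 306936 6 (1068 * 2 ^ 6) = true := by decide +kernel
theorem t1690_pchk_1069 : allR t1690_pf 306936 6 (1069 * 2 ^ 6) = true := by decide +kernel
theorem t1690_pchk_1070 : allR t1690_pf 306936 6 (1070 * 2 ^ 6) = true := by decide +kernel
theorem t1690_pchk_1071 : allR t1690_pf 306936 6 (1071 * 2 ^ 6) = true := by decide +kernel
theorem t1690_pchk_1072 : allR t1690_pf 306936 6 (1072 * 2 ^ 6) = true := by decide +kernel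
theorem t1690_pchk_1073 : allR t1690_pf 306936 6 (1073 * 2 ^ 6) = true := by decide +kernel
theorem t1690_pchk_1074 : allR t1690_pf 306936 6 (1074 * 2 ^ 6) = true := by decide +kernel
theorem t1690_pchk_1075 : allR t1690_pf 306936 6 (1075 * 2 ^ 6) = true := by decide +kernel
theorem t1690_pchk_1076 : allR t1690_pf 306936 6 (1076 * 2 ^ 6) = true := by decide +kernel
theorem t1690_pchk_1077 : allR t1690_pf 306936 6 (1077 * 2 ^ 6) = true := by decide +kernel
theorem t1690_pchk_1078 : allR t1690_pf 306936 6 (1078 * 2 ^ 6) = true := by decide +kernel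
theorem t1690_pchk_1079 : allR t1690_pf 306936 6 (1079 * 2 ^ 6) = true := by decide +kernel

theorem t1690_pfile_8 : ∀ k, k < 1080 → 960 ≤ k → allR t1690_pf 306936 6 (k * 2 ^ 6) = true := by
  intro k h1 h2
  interval_cases k
  · exact t1690_pchk_960
  · exact t1690_pchk_961
  · exact t1690_pchk_962
  · exact t1690_pchk_963
  · exact t1690_pchk_964
  · exact t1690_pchk_965
  · exact t1690_pchk_966
  · exact t1690_pchk_967
  · exact t1690_pchk_968
  · exact t1690_pchk_969
  · exact t1690_pchk_970
  · exact t1690_pchk_971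
  · exact t1690_pchk_972
  · exact t1690_pchk_973
  · exact t1690_pchk_974
  · exact t1690_pchk_975
  · exact t1690_pchk_976
  · exact t1690_pchk_977
  · exact t1690_pchk_978
  · exact t1690_pchk_979
  · exact t1690_pchk_980
  · exact t1690_pchk_981
  · exact t1690_pchk_982
  · exact t1690_pchk_983
  · exact t1690_pchk_984
  · exact t1690_pchk_985
  · exact t1690_pchk_986
  · exact t1690_pchk_987
  · exact t1690_pchk_988
  · exact t1690_pchk_989
  · exact t1690_pchk_990
  · exact t1690_pchk_991
  · exact t1690_pchk_992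
  · exact t1690_pchk_993
  · exact t1690_pchk_994
  · exact t1690_pchk_995
  · exact t1690_pchk_996
  · exact t1690_pchk_997
  · exact t1690_pchk_998
  · exact t1690_pchk_999
  · exact t1690_pchk_1000
  · exact t1690_pchk_1001
  · exact t1690_pchk_1002
  · exact t1690_pchk_1003
  · exact t1690_pchk_1004
  · exact t1690_pchk_1005
  · exact t1690_pchk_1006
  · exact t1690_pchk_1007
  · exact t1690_pchk_1008
  · exact t1690_pchk_1009
  · exact t1690_pchk_1010
  · exact t1690_pchk_1011
  · exact t1690_pchk_1012
  · exact t1690_pchk_1013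
  · exact t1690_pchk_1014
  · exact t1690_pchk_1015
  · exact t1690_pchk_1016
  · exact t1690_pchk_1017
  · exact t1690_pchk_1018
  · exact t1690_pchk_1019
  · exact t1690_pchk_1020
  · exact t1690_pchk_1021
  · exact t1690_pchk_1022
  · exact t1690_pchk_1023
  · exact t1690_pchk_1024
  · exact t1690_pchk_1025
  · exact t1690_pchk_1026
  · exact t1690_pchk_1027
  · exact t1690_pchk_1028
  · exact t1690_pchk_1029
  · exact t1690_pchk_1030
  · exact t1690_pchk_1031
  · exact t1690_pchk_1032
  · exact t1690_pchk_1033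
  · exact t1690_pchk_1034
  · exact t1690_pchk_1035
  · exact t1690_pchk_1036
  · exact t1690_pchk_1037
  · exact t1690_pchk_1038
  · exact t1690_pchk_1039
  · exact t1690_pchk_1040
  · exact t1690_pchk_1041
  · exact t1690_pchk_1042
  · exact t1690_pchk_1043
  · exact t1690_pchk_1044
  · exact t1690_pchk_1045
  · exact t1690_pchk_1046
  · exact t1690_pchk_1047
  · exact t1690_pchk_1048
  · exact t1690_pchk_1049
  · exact t1690_pchk_1050
  · exact t1690_pchk_1051
  · exact t1690_pchk_1052
  · exact t1690_pchk_1053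
  · exact t1690_pchk_1054
  · exact t1690_pchk_1055
  · exact t1690_pchk_1056
  · exact t1690_pchk_1057
  · exact t1690_pchk_1058
  · exact t1690_pchk_1059
  · exact t1690_pchk_1060
  · exact t1690_pchk_1061
  · exact t1690_pchk_1062
  · exact t1690_pchk_1063
  · exact t1690_pchk_1064
  · exact t1690_pchk_1065
  · exact t1690_pchk_1066
  · exact t1690_pchk_1067
  · exact t1690_pchk_1068
  · exact t1690_pchk_1069
  · exact t1690_pchk_1070
  · exact t1690_pchk_1071
  · exact t1690_pchk_1072
  · exact t1690_pchk_1073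
  · exact t1690_pchk_1074
  · exact t1690_pchk_1075
  · exact t1690_pchk_1076
  · exact t1690_pchk_1077
  · exact t1690_pchk_1078
  · exact t1690_pchk_1079

end Cfsg.Agent.H35
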