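import Cfsg.Agent.H35.T1690.PTab

set_option autoImplicit false
set_option linter.all false
set_option Elab.async false

namespace Cfsg.Agent.H35

theorem t1690_pchk_1080 : allR t1690_pf 306936 6 (1080 * 2 ^ 6) = true := by decide +kernel
theorem t1690_pchk_1081 : allR t1690_pf 306936 6 (1081 * 2 ^ 6) = true := by decide +kernel
theorem t1690_pchk_1082 : allR t1690_pf 306936 6 (1082 * 2 ^ 6) = true := by decide +kernel
theorem t1690_pchk_1083 : allR t1690_pf 306936 6 (1083 * 2 ^ 6) = true := by decide +kernel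
theorem t1690_pchk_1084 : allR t1690_pf 306936 6 (1084 * 2 ^ 6) = true := by decide +kernel
theorem t1690_pchk_1085 : allR t1690_pf 306936 6 (1085 * 2 ^ 6) = true := by decide +kernel
theorem t1690_pchk_1086 : allR t1690_pf 306936 6 (1086 * 2 ^ 6) = true := by decide +kernel
theorem t1690_pchk_1087 : allR t1690_pf 306936 6 (1087 * 2 ^ 6) = true := by decide +kernel
theorem t1690_pchk_1088 : allR t1690_pf 306936 6 (1088 * 2 ^ 6) = true := by decide +kernel
theorem t1690_pchk_1089 : allR t1690_pf 306936 6 (1089 * 2 ^ 6) = true := by decide +kernel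
theorem t1690_pchk_1090 : allR t1690_pf 306936 6 (1090 * 2 ^ 6) = true := by decide +kernel
theorem t1690_pchk_1091 : allR t1690_pf 306936 6 (1091 * 2 ^ 6) = true := by decide +kernel
theorem t1690_pchk_1092 : allR t1690_pf 306936 6 (1092 * 2 ^ 6) = true := by decide +kernel
theorem t1690_pchk_1093 : allR t1690_pf 306936 6 (1093 * 2 ^ 6) = true := by decide +kernel
theorem t1690_pchk_1094 : allR t1690_pf 306936 6 (1094 * 2 ^ 6) = true := by decide +kernel
theorem t1690_pchk_1095 : allR t1690_pf 306936 6 (1095 * 2 ^ 6) = true := by decide +kernel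
theorem t1690_pchk_1096 : allR t1690_pf 306936 6 (1096 * 2 ^ 6) = true := by decide +kernel
theorem t1690_pchk_1097 : allR t1690_pf 306936 6 (1097 * 2 ^ 6) = true := by decide +kernel
theorem t1690_pchk_1098 : allR t1690_pf 306936 6 (1098 * 2 ^ 6) = true := by decide +kernel
theorem t1690_pchk_1099 : allR t1690_pf 306936 6 (1099 * 2 ^ 6) = true := by decide +kernel
theorem t1690_pchk_1100 : allR t1690_pf 306936 6 (1100 * 2 ^ 6) = true := by decide +kernel
theorem t1690_pchk_1101 : allR t1690_pf 306936 6 (1101 * 2 ^ 6) = true := by decide +kernel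
theorem t1690_pchk_1102 : allR t1690_pf 306936 6 (1102 * 2 ^ 6) = true := by decide +kernel
theorem t1690_pchk_1103 : allR t1690_pf 306936 6 (1103 * 2 ^ 6) = true := by decide +kernel
theorem t1690_pchk_1104 : allR t1690_pf 306936 6 (1104 * 2 ^ 6) = true := by decide +kernel
theorem t1690_pchk_1105 : allR t1690_pf 306936 6 (1105 * 2 ^ 6) = true := by decide +kernel
theorem t1690_pchk_1106 : allR t1690_pf 306936 6 (1106 * 2 ^ 6) = true := by decide +kernel
theorem t1690_pchk_1107 : allR t1690_pf 306936 6 (1107 * 2 ^ 6) = true := by decide +kernel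
theorem t1690_pchk_1108 : allR t1690_pf 306936 6 (1108 * 2 ^ 6) = true := by decide +kernel
theorem t1690_pchk_1109 : allR t1690_pf 306936 6 (1109 * 2 ^ 6) = true := by decide +kernel
theorem t1690_pchk_1110 : allR t1690_pf 306936 6 (1110 * 2 ^ 6) = true := by decide +kernel
theorem t1690_pchk_1111 : allR t1690_pf 306936 6 (1111 * 2 ^ 6) = true := by decide +kernel
theorem t1690_pchk_1112 : allR t1690_pf 306936 6 (1112 * 2 ^ 6) = true := by decide +kernel
theorem t1690_pchk_1113 : allR t1690_pf 306936 6 (1113 * 2 ^ 6) = true := by decide +kernel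
theorem t1690_pchk_1114 : allR t1690_pf 306936 6 (1114 * 2 ^ 6) = true := by decide +kernel
theorem t1690_pchk_1115 : allR t1690_pf 306936 6 (1115 * 2 ^ 6) = true := by decide +kernel
theorem t1690_pchk_1116 : allR t1690_pf 306936 6 (1116 * 2 ^ 6) = true := by decide +kernel
theorem t1690_pchk_1117 : allR t1690_pf 306936 6 (1117 * 2 ^ 6) = true := by decide +kernel
theorem t1690_pchk_1118 : allR t1690_pf 306936 6 (1118 * 2 ^ 6) = true := by decide +kernel
theorem t1690_pchk_1119 : allR t1690_pf 306936 6 (1119 * 2 ^ 6) = true := by decide +kernel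
theorem t1690_pchk_1120 : allR t1690_pf 306936 6 (1120 * 2 ^ 6) = true := by decide +kernel
theorem t1690_pchk_1121 : allR t1690_pf 306936 6 (1121 * 2 ^ 6) = true := by decide +kernel
theorem t1690_pchk_1122 : allR t1690_pf 306936 6 (1122 * 2 ^ 6) = true := by decide +kernel
theorem t1690_pchk_1123 : allR t1690_pf 306936 6 (1123 * 2 ^ 6) = true := by decide +kernel
theorem t1690_pchk_1124 : allR t1690_pf 306936 6 (1124 * 2 ^ 6) = true := by decide +kernel
theorem t1690_pchk_1125 : allR t1690_pf 306936 6 (1125 * 2 ^ 6) = true := by decide +kernel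
theorem t1690_pchk_1126 : allR t1690_pf 306936 6 (1126 * 2 ^ 6) = true := by decide +kernel
theorem t1690_pchk_1127 : allR t1690_pf 306936 6 (1127 * 2 ^ 6) = true := by decide +kernel
theorem t1690_pchk_1128 : allR t1690_pf 306936 6 (1128 * 2 ^ 6) = true := by decide +kernel
theorem t1690_pchk_1129 : allR t1690_pf 306936 6 (1129 * 2 ^ 6) = true := by decide +kernel
theorem t1690_pchk_1130 : allR t1690_pf 306936 6 (1130 * 2 ^ 6) = true := by decide +kernel
theorem t1690_pchk_1131 : allR t1690_pf 306936 6 (1131 * 2 ^ 6) = true := by decide +kernel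
theorem t1690_pchk_1132 : allR t1690_pf 306936 6 (1132 * 2 ^ 6) = true := by decide +kernel
theorem t1690_pchk_1133 : allR t1690_pf 306936 6 (1133 * 2 ^ 6) = true := by decide +kernel
theorem t1690_pchk_1134 : allR t1690_pf 306936 6 (1134 * 2 ^ 6) = true := by decide +kernel
theorem t1690_pchk_1135 : allR t1690_pf 306936 6 (1135 * 2 ^ 6) = true := by decide +kernel
theorem t1690_pchk_1136 : allR t1690_pf 306936 6 (1136 * 2 ^ 6) = true := by decide +kernel
theorem t1690_pchk_1137 : allR t1690_pf 306936 6 (1137 * 2 ^ 6) = true := by decide +kernel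
theorem t1690_pchk_1138 : allR t1690_pf 306936 6 (1138 * 2 ^ 6) = true := by decide +kernel
theorem t1690_pchk_1139 : allR t1690_pf 306936 6 (1139 * 2 ^ 6) = true := by decide +kernel
theorem t1690_pchk_1140 : allR t1690_pf 306936 6 (1140 * 2 ^ 6) = true := by decide +kernel
theorem t1690_pchk_1141 : allR t1690_pf 306936 6 (1141 * 2 ^ 6) = true := by decide +kernel
theorem t1690_pchk_1142 : allR t1690_pf 306936 6 (1142 * 2 ^ 6) = true := by decide +kernel
theorem t1690_pchk_1143 : allR t1690_pf 306936 6 (1143 * 2 ^ 6) = true := by decide +kernel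
theorem t1690_pchk_1144 : allR t1690_pf 306936 6 (1144 * 2 ^ 6) = true := by decide +kernel
theorem t1690_pchk_1145 : allR t1690_pf 306936 6 (1145 * 2 ^ 6) = true := by decide +kernel
theorem t1690_pchk_1146 : allR t1690_pf 306936 6 (1146 * 2 ^ 6) = true := by decide +kernel
theorem t1690_pchk_1147 : allR t1690_pf 306936 6 (1147 * 2 ^ 6) = true := by decide +kernel
theorem t1690_pchk_1148 : allR t1690_pf 306936 6 (1148 * 2 ^ 6) = true := by decide +kernel
theorem t1690_pchk_1149 : allR t1690_pf 306936 6 (1149 * 2 ^ 6) = true := by decide +kernel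
theorem t1690_pchk_1150 : allR t1690_pf 306936 6 (1150 * 2 ^ 6) = true := by decide +kernel
theorem t1690_pchk_1151 : allR t1690_pf 306936 6 (1151 * 2 ^ 6) = true := by decide +kernel
theorem t1690_pchk_1152 : allR t1690_pf 306936 6 (1152 * 2 ^ 6) = true := by decide +kernel
theorem t1690_pchk_1153 : allR t1690_pf 306936 6 (1153 * 2 ^ 6) = true := by decide +kernel
theorem t1690_pchk_1154 : allR t1690_pf 306936 6 (1154 * 2 ^ 6) = true := by decide +kernel
theorem t1690_pchk_1155 : allR t1690_pf 306936 6 (1155 * 2 ^ 6) = true := by decide +kernel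
theorem t1690_pchk_1156 : allR t1690_pf 306936 6 (1156 * 2 ^ 6) = true := by decide +kernel
theorem t1690_pchk_1157 : allR t1690_pf 306936 6 (1157 * 2 ^ 6) = true := by decide +kernel
theorem t1690_pchk_1158 : allR t1690_pf 306936 6 (1158 * 2 ^ 6) = true := by decide +kernel
theorem t1690_pchk_1159 : allR t1690_pf 306936 6 (1159 * 2 ^ 6) = true := by decide +kernel
theorem t1690_pchk_1160 : allR t1690_pf 306936 6 (1160 * 2 ^ 6) = true := by decide +kernel
theorem t1690_pchk_1161 : allR t1690_pf 306936 6 (1161 * 2 ^ 6) = true := by decide +kernel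
theorem t1690_pchk_1162 : allR t1690_pf 306936 6 (1162 * 2 ^ 6) = true := by decide +kernel
theorem t1690_pchk_1163 : allR t1690_pf 306936 6 (1163 * 2 ^ 6) = true := by decide +kernel
theorem t1690_pchk_1164 : allR t1690_pf 306936 6 (1164 * 2 ^ 6) = true := by decide +kernel
theorem t1690_pchk_1165 : allR t1690_pf 306936 6 (1165 * 2 ^ 6) = true := by decide +kernel
theorem t1690_pchk_1166 : allR t1690_pf 306936 6 (1166 * 2 ^ 6) = true := by decide +kernel
theorem t1690_pchk_1167 : allR t1690_pf 306936 6 (1167 * 2 ^ 6) = true := by decide +kernel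
theorem t1690_pchk_1168 : allR t1690_pf 306936 6 (1168 * 2 ^ 6) = true := by decide +kernel
theorem t1690_pchk_1169 : allR t1690_pf 306936 6 (1169 * 2 ^ 6) = true := by decide +kernel
theorem t1690_pchk_1170 : allR t1690_pf 306936 6 (1170 * 2 ^ 6) = true := by decide +kernel
theorem t1690_pchk_1171 : allR t1690_pf 306936 6 (1171 * 2 ^ 6) = true := by decide +kernel
theorem t1690_pchk_1172 : allR t1690_pf 306936 6 (1172 * 2 ^ 6) = true := by decide +kernel
theorem t1690_pchk_1173 : allR t1690_pf 306936 6 (1173 * 2 ^ 6) = true := by decide +kernel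
theorem t1690_pchk_1174 : allR t1690_pf 306936 6 (1174 * 2 ^ 6) = true := by decide +kernel
theorem t1690_pchk_1175 : allR t1690_pf 306936 6 (1175 * 2 ^ 6) = true := by decide +kernel
theorem t1690_pchk_1176 : allR t1690_pf 306936 6 (1176 * 2 ^ 6) = true := by decide +kernel
theorem t1690_pchk_1177 : allR t1690_pf 306936 6 (1177 * 2 ^ 6) = true := by decide +kernel
theorem t1690_pchk_1178 : allR t1690_pf 306936 6 (1178 * 2 ^ 6) = true := by decide +kernel
theorem t1690_pchk_1179 : allR t1690_pf 306936 6 (1179 * 2 ^ 6) = true := by decide +kernel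
theorem t1690_pchk_1180 : allR t1690_pf 306936 6 (1180 * 2 ^ 6) = true := by decide +kernel
theorem t1690_pchk_1181 : allR t1690_pf 306936 6 (1181 * 2 ^ 6) = true := by decide +kernel
theorem t1690_pchk_1182 : allR t1690_pf 306936 6 (1182 * 2 ^ 6) = true := by decide +kernel
theorem t1690_pchk_1183 : allR t1690_pf 306936 6 (1183 * 2 ^ 6) = true := by decide +kernel
theorem t1690_pchk_1184 : allR t1690_pf 306936 6 (1184 * 2 ^ 6) = true := by decide +kernel
theorem t1690_pchk_1185 : allR t1690_pf 306936 6 (1185 * 2 ^ 6) = true := by decide +kernel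
theorem t1690_pchk_1186 : allR t1690_pf 306936 6 (1186 * 2 ^ 6) = true := by decide +kernel
theorem t1690_pchk_1187 : allR t1690_pf 306936 6 (1187 * 2 ^ 6) = true := by decide +kernel
theorem t1690_pchk_1188 : allR t1690_pf 306936 6 (1188 * 2 ^ 6) = true := by decide +kernel
theorem t1690_pchk_1189 : allR t1690_pf 306936 6 (1189 * 2 ^ 6) = true := by decide +kernel
theorem t1690_pchk_1190 : allR t1690_pf 306936 6 (1190 * 2 ^ 6) = true := by decide +kernel
theorem t1690_pchk_1191 : allR t1690_pf 306936 6 (1191 * 2 ^ 6) = true := by decide +kernel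
theorem t1690_pchk_1192 : allR t1690_pf 306936 6 (1192 * 2 ^ 6) = true := by decide +kernel
theorem t1690_pchk_1193 : allR t1690_pf 306936 6 (1193 * 2 ^ 6) = true := by decide +kernel
theorem t1690_pchk_1194 : allR t1690_pf 306936 6 (1194 * 2 ^ 6) = true := by decide +kernel
theorem t1690_pchk_1195 : allR t1690_pf 306936 6 (1195 * 2 ^ 6) = true := by decide +kernel
theorem t1690_pchk_1196 : allR t1690_pf 306936 6 (1196 * 2 ^ 6) = true := by decide +kernel
theorem t1690_pchk_1197 : allR t1690_pf 306936 6 (1197 * 2 ^ 6) = true := by decide +kernel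
theorem t1690_pchk_1198 : allR t1690_pf 306936 6 (1198 * 2 ^ 6) = true := by decide +kernel
theorem t1690_pchk_1199 : allR t1690_pf 306936 6 (1199 * 2 ^ 6) = true := by decide +kernel

theorem t1690_pfile_9 : ∀ k, k < 1200 → 1080 ≤ k → allR t1690_pf 306936 6 (k * 2 ^ 6) = true := by
  intro k h1 h2
  interval_cases k
  · exact t1690_pchk_1080
  · exact t1690_pchk_1081
  · exact t1690_pchk_1082
  · exact t1690_pchk_1083
  · exact t1690_pchk_1084
  · exact t1690_pchk_1085
  · exact t1690_pchk_1086
  · exact t1690_pchk_1087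
  · exact t1690_pchk_1088
  · exact t1690_pchk_1089
  · exact t1690_pchk_1090
  · exact t1690_pchk_1091
  · exact t1690_pchk_1092
  · exact t1690_pchk_1093
  · exact t1690_pchk_1094
  · exact t1690_pchk_1095
  · exact t1690_pchk_1096
  · exact t1690_pchk_1097
  · exact t1690_pchk_1098
  · exact t1690_pchk_1099
  · exact t1690_pchk_1100
  · exact t1690_pchk_1101
  · exact t1690_pchk_1102
  · exact t1690_pchk_1103
  · exact t1690_pchk_1104
  · exact t1690_pchk_1105
  · exact t1690_pchk_1106
  · exact t1690_pchk_1107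
  · exact t1690_pchk_1108
  · exact t1690_pchk_1109
  · exact t1690_pchk_1110
  · exact t1690_pchk_1111
  · exact t1690_pchk_1112
  · exact t1690_pchk_1113
  · exact t1690_pchk_1114
  · exact t1690_pchk_1115
  · exact t1690_pchk_1116
  · exact t1690_pchk_1117
  · exact t1690_pchk_1118
  · exact t1690_pchk_1119
  · exact t1690_pchk_1120
  · exact t1690_pchk_1121
  · exact t1690_pchk_1122
  · exact t1690_pchk_1123
  · exact t1690_pchk_1124
  · exact t1690_pchk_1125
  · exact t1690_pchk_1126
  · exact t1690_pchk_1127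
  · exact t1690_pchk_1128
  · exact t1690_pchk_1129
  · exact t1690_pchk_1130
  · exact t1690_pchk_1131
  · exact t1690_pchk_1132
  · exact t1690_pchk_1133
  · exact t1690_pchk_1134
  · exact t1690_pchk_1135
  · exact t1690_pchk_1136
  · exact t1690_pchk_1137
  · exact t1690_pchk_1138
  · exact t1690_pchk_1139
  · exact t1690_pchk_1140
  · exact t1690_pchk_1141
  · exact t1690_pchk_1142
  · exact t1690_pchk_1143
  · exact t1690_pchk_1144
  · exact t1690_pchk_1145
  · exact t1690_pchk_1146
  · exact t1690_pchk_1147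
  · exact t1690_pchk_1148
  · exact t1690_pchk_1149
  · exact t1690_pchk_1150
  · exact t1690_pchk_1151
  · exact t1690_pchk_1152
  · exact t1690_pchk_1153
  · exact t1690_pchk_1154
  · exact t1690_pchk_1155
  · exact t1690_pchk_1156
  · exact t1690_pchk_1157
  · exact t1690_pchk_1158
  · exact t1690_pchk_1159
  · exact t1690_pchk_1160
  · exact t1690_pchk_1161
  · exact t1690_pchk_1162
  · exact t1690_pchk_1163
  · exact t1690_pchk_1164
  · exact t1690_pchk_1165
  · exact t1690_pchk_1166
  · exact t1690_pchk_1167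
  · exact t1690_pchk_1168
  · exact t1690_pchk_1169
  · exact t1690_pchk_1170
  · exact t1690_pchk_1171
  · exact t1690_pchk_1172
  · exact t1690_pchk_1173
  · exact t1690_pchk_1174
  · exact t1690_pchk_1175
  · exact t1690_pchk_1176
  · exact t1690_pchk_1177
  · exact t1690_pchk_1178
  · exact t1690_pchk_1179
  · exact t1690_pchk_1180
  · exact t1690_pchk_1181
  · exact t1690_pchk_1182
  · exact t1690_pchk_1183
  · exact t1690_pchk_1184
  · exact t1690_pchk_1185
  · exact t1690_pchk_1186
  · exact t1690_pchk_1187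
  · exact t1690_pchk_1188
  · exact t1690_pchk_1189
  · exact t1690_pchk_1190
  · exact t1690_pchk_1191
  · exact t1690_pchk_1192
  · exact t1690_pchk_1193
  · exact t1690_pchk_1194
  · exact t1690_pchk_1195
  · exact t1690_pchk_1196
  · exact t1690_pchk_1197
  · exact t1690_pchk_1198
  · exact t1690_pchk_1199

end Cfsg.Agent.H35
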