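import Cfsg.Agent.H35.T1690.PChk0
import Cfsg.Agent.H35.T1690.PChk1
import Cfsg.Agent.H35.T1690.PChk2
import Cfsg.Agent.H35.T1690.PChk3
import Cfsg.Agent.H35.T1690.PChk4
import Cfsg.Agent.H35.T1690.PChk5
import Cfsg.Agent.H35.T1690.PChk6
import Cfsg.Agent.H35.T1690.PChk7
import Cfsg.Agent.H35.T1690.PChk8
import Cfsg.Agent.H35.T1690.PChk9
import Cfsg.Agent.H35.T1690.PChk10
import Cfsg.Agent.H35.T1690.PChk11
import Cfsg.Agent.H35.T1690.PChk12
import Cfsg.Agent.H35.T1690.PChk13
import Cfsg.Agent.H35.T1690.PChk14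
import Cfsg.Agent.H35.T1690.PChk15
import Cfsg.Agent.H35.T1690.PChk16
import Cfsg.Agent.H35.T1690.PChk17
import Cfsg.Agent.H35.T1690.PChk18
import Cfsg.Agent.H35.T1690.PChk19
import Cfsg.Agent.H35.T1690.PChk20
import Cfsg.Agent.H35.T1690.PChk21
import Cfsg.Agent.H35.T1690.PChk22
import Cfsg.Agent.H35.T1690.PChk23
import Cfsg.Agent.H35.T1690.PChk24
import Cfsg.Agent.H35.T1690.PChk25
import Cfsg.Agent.H35.T1690.PChk26
import Cfsg.Agent.H35.T1690.PChk27
import Cfsg.Agent.H35.T1690.PChk28
import Cfsg.Agent.H35.T1690.PChk29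
import Cfsg.Agent.H35.T1690.PChk30
import Cfsg.Agent.H35.T1690.PChk31
import Cfsg.Agent.H35.T1690.PChk32
import Cfsg.Agent.H35.T1690.PChk33
import Cfsg.Agent.H35.T1690.PChk34
import Cfsg.Agent.H35.T1690.PChk35
import Cfsg.Agent.H35.T1690.PChk36
import Cfsg.Agent.H35.T1690.PChk37
import Cfsg.Agent.H35.T1690.PChk38
import Cfsg.Agent.H35.T1690.PChk39

set_option autoImplicit false
set_option linter.all false

namespace Cfsg.Agent.H35

theorem t1690_pall : ∀ p, p < 306936 → t1690_pf p = true := by
  apply allR_blocks t1690_pf 306936 6 4796 _ (by decide)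
  intro k hk
  by_cases h0 : k < 120
  · exact t1690_pfile_0 k h0 (by omega)
  by_cases h1 : k < 240
  · exact t1690_pfile_1 k h1 (by omega)
  by_cases h2 : k < 360
  · exact t1690_pfile_2 k h2 (by omega)
  by_cases h3 : k < 480
  · exact t1690_pfile_3 k h3 (by omega)
  by_cases h4 : k < 600
  · exact t1690_pfile_4 k h4 (by omega)
  by_cases h5 : k < 720
  · exact t1690_pfile_5 k h5 (by omega)
  by_cases h6 : k < 840
  · exact t1690_pfile_6 k h6 (by omega)
  by_cases h7 : k < 960
  · exact t1690_pfile_7 k h7 (by omega)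
  by_cases h8 : k < 1080
  · exact t1690_pfile_8 k h8 (by omega)
  by_cases h9 : k < 1200
  · exact t1690_pfile_9 k h9 (by omega)
  by_cases h10 : k < 1320
  · exact t1690_pfile_10 k h10 (by omega)
  by_cases h11 : k < 1440
  · exact t1690_pfile_11 k h11 (by omega)
  by_cases h12 : k < 1560
  · exact t1690_pfile_12 k h12 (by omega)
  by_cases h13 : k < 1680
  · exact t1690_pfile_13 k h13 (by omega)
  by_cases h14 : k < 1800
  · exact t1690_pfile_14 k h14 (by omega)
  by_cases h15 : k < 1920
  · exact t1690_pfile_15 k h15 (by omega)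
  by_cases h16 : k < 2040
  · exact t1690_pfile_16 k h16 (by omega)
  by_cases h17 : k < 2160
  · exact t1690_pfile_17 k h17 (by omega)
  by_cases h18 : k < 2280
  · exact t1690_pfile_18 k h18 (by omega)
  by_cases h19 : k < 2400
  · exact t1690_pfile_19 k h19 (by omega)
  by_cases h20 : k < 2520
  · exact t1690_pfile_20 k h20 (by omega)
  by_cases h21 : k < 2640
  · exact t1690_pfile_21 k h21 (by omega)
  by_cases h22 : k < 2760
  · exact t1690_pfile_22 k h22 (by omega)
  by_cases h23 : k < 2880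
  · exact t1690_pfile_23 k h23 (by omega)
  by_cases h24 : k < 3000
  · exact t1690_pfile_24 k h24 (by omega)
  by_cases h25 : k < 3120
  · exact t1690_pfile_25 k h25 (by omega)
  by_cases h26 : k < 3240
  · exact t1690_pfile_26 k h26 (by omega)
  by_cases h27 : k < 3360
  · exact t1690_pfile_27 k h27 (by omega)
  by_cases h28 : k < 3480
  · exact t1690_pfile_28 k h28 (by omega)
  by_cases h29 : k < 3600
  · exact t1690_pfile_29 k h29 (by omega)
  by_cases h30 : k < 3720
  · exact t1690_pfile_30 k h30 (by omega)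
  by_cases h31 : k < 3840
  · exact t1690_pfile_31 k h31 (by omega)
  by_cases h32 : k < 3960
  · exact t1690_pfile_32 k h32 (by omega)
  by_cases h33 : k < 4080
  · exact t1690_pfile_33 k h33 (by omega)
  by_cases h34 : k < 4200
  · exact t1690_pfile_34 k h34 (by omega)
  by_cases h35 : k < 4320
  · exact t1690_pfile_35 k h35 (by omega)
  by_cases h36 : k < 4440
  · exact t1690_pfile_36 k h36 (by omega)
  by_cases h37 : k < 4560
  · exact t1690_pfile_37 k h37 (by omega)
  by_cases h38 : k < 4680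
  · exact t1690_pfile_38 k h38 (by omega)
  by_cases h39 : k < 4796
  · exact t1690_pfile_39 k h39 (by omega)
  exact absurd hk (by omega)

theorem t1690_psub : t1690_pd.subOK t1690_sw = true := by decide +kernel

end Cfsg.Agent.H35
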