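import Cfsg.Agent.H35.T1690.PTab

set_option autoImplicit false
set_option linter.all false
set_option Elab.async false

namespace Cfsg.Agent.H35

theorem t1690_pchk_0 : allR t1690_pf 306936 6 (0 * 2 ^ 6) = true := by decide +kernel
theorem t1690_pchk_1 : allR t1690_pf 306936 6 (1 * 2 ^ 6) = true := by decide +kernel
theorem t1690_pchk_2 : allR t1690_pf 306936 6 (2 * 2 ^ 6) = true := by decide +kernel
theorem t1690_pchk_3 : allR t1690_pf 306936 6 (3 * 2 ^ 6) = true := by decide +kernel
theorem t1690_pchk_4 : allR t1690_pf 306936 6 (4 * 2 ^ 6) = true := by decide +kernel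
theorem t1690_pchk_5 : allR t1690_pf 306936 6 (5 * 2 ^ 6) = true := by decide +kernel
theorem t1690_pchk_6 : allR t1690_pf 306936 6 (6 * 2 ^ 6) = true := by decide +kernel
theorem t1690_pchk_7 : allR t1690_pf 306936 6 (7 * 2 ^ 6) = true := by decide +kernel
theorem t1690_pchk_8 : allR t1690_pf 306936 6 (8 * 2 ^ 6) = true := by decide +kernel
theorem t1690_pchk_9 : allR t1690_pf 306936 6 (9 * 2 ^ 6) = true := by decide +kernel
theorem t1690_pchk_10 : allR t1690_pf 306936 6 (10 * 2 ^ 6) = true := by decide +kernel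
theorem t1690_pchk_11 : allR t1690_pf 306936 6 (11 * 2 ^ 6) = true := by decide +kernel
theorem t1690_pchk_12 : allR t1690_pf 306936 6 (12 * 2 ^ 6) = true := by decide +kernel
theorem t1690_pchk_13 : allR t1690_pf 306936 6 (13 * 2 ^ 6) = true := by decide +kernel
theorem t1690_pchk_14 : allR t1690_pf 306936 6 (14 * 2 ^ 6) = true := by decide +kernel
theorem t1690_pchk_15 : allR t1690_pf 306936 6 (15 * 2 ^ 6) = true := by decide +kernel
theorem t1690_pchk_16 : allR t1690_pf 306936 6 (16 * 2 ^ 6) = true := by decide +kernel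
theorem t1690_pchk_17 : allR t1690_pf 306936 6 (17 * 2 ^ 6) = true := by decide +kernel
theorem t1690_pchk_18 : allR t1690_pf 306936 6 (18 * 2 ^ 6) = true := by decide +kernel
theorem t1690_pchk_19 : allR t1690_pf 306936 6 (19 * 2 ^ 6) = true := by decide +kernel
theorem t1690_pchk_20 : allR t1690_pf 306936 6 (20 * 2 ^ 6) = true := by decide +kernel
theorem t1690_pchk_21 : allR t1690_pf 306936 6 (21 * 2 ^ 6) = true := by decide +kernel
theorem t1690_pchk_22 : allR t1690_pf 306936 6 (22 * 2 ^ 6) = true := by decide +kernel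
theorem t1690_pchk_23 : allR t1690_pf 306936 6 (23 * 2 ^ 6) = true := by decide +kernel
theorem t1690_pchk_24 : allR t1690_pf 306936 6 (24 * 2 ^ 6) = true := by decide +kernel
theorem t1690_pchk_25 : allR t1690_pf 306936 6 (25 * 2 ^ 6) = true := by decide +kernel
theorem t1690_pchk_26 : allR t1690_pf 306936 6 (26 * 2 ^ 6) = true := by decide +kernel
theorem t1690_pchk_27 : allR t1690_pf 306936 6 (27 * 2 ^ 6) = true := by decide +kernel
theorem t1690_pchk_28 : allR t1690_pf 306936 6 (28 * 2 ^ 6) = true := by decide +kernel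
theorem t1690_pchk_29 : allR t1690_pf 306936 6 (29 * 2 ^ 6) = true := by decide +kernel
theorem t1690_pchk_30 : allR t1690_pf 306936 6 (30 * 2 ^ 6) = true := by decide +kernel
theorem t1690_pchk_31 : allR t1690_pf 306936 6 (31 * 2 ^ 6) = true := by decide +kernel
theorem t1690_pchk_32 : allR t1690_pf 306936 6 (32 * 2 ^ 6) = true := by decide +kernel
theorem t1690_pchk_33 : allR t1690_pf 306936 6 (33 * 2 ^ 6) = true := by decide +kernel
theorem t1690_pchk_34 : allR t1690_pf 306936 6 (34 * 2 ^ 6) = true := by decide +kernel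
theorem t1690_pchk_35 : allR t1690_pf 306936 6 (35 * 2 ^ 6) = true := by decide +kernel
theorem t1690_pchk_36 : allR t1690_pf 306936 6 (36 * 2 ^ 6) = true := by decide +kernel
theorem t1690_pchk_37 : allR t1690_pf 306936 6 (37 * 2 ^ 6) = true := by decide +kernel
theorem t1690_pchk_38 : allR t1690_pf 306936 6 (38 * 2 ^ 6) = true := by decide +kernel
theorem t1690_pchk_39 : allR t1690_pf 306936 6 (39 * 2 ^ 6) = true := by decide +kernel
theorem t1690_pchk_40 : allR t1690_pf 306936 6 (40 * 2 ^ 6) = true := by decide +kernel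
theorem t1690_pchk_41 : allR t1690_pf 306936 6 (41 * 2 ^ 6) = true := by decide +kernel
theorem t1690_pchk_42 : allR t1690_pf 306936 6 (42 * 2 ^ 6) = true := by decide +kernel
theorem t1690_pchk_43 : allR t1690_pf 306936 6 (43 * 2 ^ 6) = true := by decide +kernel
theorem t1690_pchk_44 : allR t1690_pf 306936 6 (44 * 2 ^ 6) = true := by decide +kernel
theorem t1690_pchk_45 : allR t1690_pf 306936 6 (45 * 2 ^ 6) = true := by decide +kernel
theorem t1690_pchk_46 : allR t1690_pf 306936 6 (46 * 2 ^ 6) = true := by decide +kernel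
theorem t1690_pchk_47 : allR t1690_pf 306936 6 (47 * 2 ^ 6) = true := by decide +kernel
theorem t1690_pchk_48 : allR t1690_pf 306936 6 (48 * 2 ^ 6) = true := by decide +kernel
theorem t1690_pchk_49 : allR t1690_pf 306936 6 (49 * 2 ^ 6) = true := by decide +kernel
theorem t1690_pchk_50 : allR t1690_pf 306936 6 (50 * 2 ^ 6) = true := by decide +kernel
theorem t1690_pchk_51 : allR t1690_pf 306936 6 (51 * 2 ^ 6) = true := by decide +kernel
theorem t1690_pchk_52 : allR t1690_pf 306936 6 (52 * 2 ^ 6) = true := by decide +kernel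
theorem t1690_pchk_53 : allR t1690_pf 306936 6 (53 * 2 ^ 6) = true := by decide +kernel
theorem t1690_pchk_54 : allR t1690_pf 306936 6 (54 * 2 ^ 6) = true := by decide +kernel
theorem t1690_pchk_55 : allR t1690_pf 306936 6 (55 * 2 ^ 6) = true := by decide +kernel
theorem t1690_pchk_56 : allR t1690_pf 306936 6 (56 * 2 ^ 6) = true := by decide +kernel
theorem t1690_pchk_57 : allR t1690_pf 306936 6 (57 * 2 ^ 6) = true := by decide +kernel
theorem t1690_pchk_58 : allR t1690_pf 306936 6 (58 * 2 ^ 6) = true := by decide +kernel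
theorem t1690_pchk_59 : allR t1690_pf 306936 6 (59 * 2 ^ 6) = true := by decide +kernel
theorem t1690_pchk_60 : allR t1690_pf 306936 6 (60 * 2 ^ 6) = true := by decide +kernel
theorem t1690_pchk_61 : allR t1690_pf 306936 6 (61 * 2 ^ 6) = true := by decide +kernel
theorem t1690_pchk_62 : allR t1690_pf 306936 6 (62 * 2 ^ 6) = true := by decide +kernel
theorem t1690_pchk_63 : allR t1690_pf 306936 6 (63 * 2 ^ 6) = true := by decide +kernel
theorem t1690_pchk_64 : allR t1690_pf 306936 6 (64 * 2 ^ 6) = true := by decide +kernel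
theorem t1690_pchk_65 : allR t1690_pf 306936 6 (65 * 2 ^ 6) = true := by decide +kernel
theorem t1690_pchk_66 : allR t1690_pf 306936 6 (66 * 2 ^ 6) = true := by decide +kernel
theorem t1690_pchk_67 : allR t1690_pf 306936 6 (67 * 2 ^ 6) = true := by decide +kernel
theorem t1690_pchk_68 : allR t1690_pf 306936 6 (68 * 2 ^ 6) = true := by decide +kernel
theorem t1690_pchk_69 : allR t1690_pf 306936 6 (69 * 2 ^ 6) = true := by decide +kernel
theorem t1690_pchk_70 : allR t1690_pf 306936 6 (70 * 2 ^ 6) = true := by decide +kernel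
theorem t1690_pchk_71 : allR t1690_pf 306936 6 (71 * 2 ^ 6) = true := by decide +kernel
theorem t1690_pchk_72 : allR t1690_pf 306936 6 (72 * 2 ^ 6) = true := by decide +kernel
theorem t1690_pchk_73 : allR t1690_pf 306936 6 (73 * 2 ^ 6) = true := by decide +kernel
theorem t1690_pchk_74 : allR t1690_pf 306936 6 (74 * 2 ^ 6) = true := by decide +kernel
theorem t1690_pchk_75 : allR t1690_pf 306936 6 (75 * 2 ^ 6) = true := by decide +kernel
theorem t1690_pchk_76 : allR t1690_pf 306936 6 (76 * 2 ^ 6) = true := by decide +kernel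
theorem t1690_pchk_77 : allR t1690_pf 306936 6 (77 * 2 ^ 6) = true := by decide +kernel
theorem t1690_pchk_78 : allR t1690_pf 306936 6 (78 * 2 ^ 6) = true := by decide +kernel
theorem t1690_pchk_79 : allR t1690_pf 306936 6 (79 * 2 ^ 6) = true := by decide +kernel
theorem t1690_pchk_80 : allR t1690_pf 306936 6 (80 * 2 ^ 6) = true := by decide +kernel
theorem t1690_pchk_81 : allR t1690_pf 306936 6 (81 * 2 ^ 6) = true := by decide +kernel
theorem t1690_pchk_82 : allR t1690_pf 306936 6 (82 * 2 ^ 6) = true := by decide +kernel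
theorem t1690_pchk_83 : allR t1690_pf 306936 6 (83 * 2 ^ 6) = true := by decide +kernel
theorem t1690_pchk_84 : allR t1690_pf 306936 6 (84 * 2 ^ 6) = true := by decide +kernel
theorem t1690_pchk_85 : allR t1690_pf 306936 6 (85 * 2 ^ 6) = true := by decide +kernel
theorem t1690_pchk_86 : allR t1690_pf 306936 6 (86 * 2 ^ 6) = true := by decide +kernel
theorem t1690_pchk_87 : allR t1690_pf 306936 6 (87 * 2 ^ 6) = true := by decide +kernel
theorem t1690_pchk_88 : allR t1690_pf 306936 6 (88 * 2 ^ 6) = true := by decide +kernel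
theorem t1690_pchk_89 : allR t1690_pf 306936 6 (89 * 2 ^ 6) = true := by decide +kernel
theorem t1690_pchk_90 : allR t1690_pf 306936 6 (90 * 2 ^ 6) = true := by decide +kernel
theorem t1690_pchk_91 : allR t1690_pf 306936 6 (91 * 2 ^ 6) = true := by decide +kernel
theorem t1690_pchk_92 : allR t1690_pf 306936 6 (92 * 2 ^ 6) = true := by decide +kernel
theorem t1690_pchk_93 : allR t1690_pf 306936 6 (93 * 2 ^ 6) = true := by decide +kernel
theorem t1690_pchk_94 : allR t1690_pf 306936 6 (94 * 2 ^ 6) = true := by decide +kernel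
theorem t1690_pchk_95 : allR t1690_pf 306936 6 (95 * 2 ^ 6) = true := by decide +kernel
theorem t1690_pchk_96 : allR t1690_pf 306936 6 (96 * 2 ^ 6) = true := by decide +kernel
theorem t1690_pchk_97 : allR t1690_pf 306936 6 (97 * 2 ^ 6) = true := by decide +kernel
theorem t1690_pchk_98 : allR t1690_pf 306936 6 (98 * 2 ^ 6) = true := by decide +kernel
theorem t1690_pchk_99 : allR t1690_pf 306936 6 (99 * 2 ^ 6) = true := by decide +kernel
theorem t1690_pchk_100 : allR t1690_pf 306936 6 (100 * 2 ^ 6) = true := by decide +kernel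
theorem t1690_pchk_101 : allR t1690_pf 306936 6 (101 * 2 ^ 6) = true := by decide +kernel
theorem t1690_pchk_102 : allR t1690_pf 306936 6 (102 * 2 ^ 6) = true := by decide +kernel
theorem t1690_pchk_103 : allR t1690_pf 306936 6 (103 * 2 ^ 6) = true := by decide +kernel
theorem t1690_pchk_104 : allR t1690_pf 306936 6 (104 * 2 ^ 6) = true := by decide +kernel
theorem t1690_pchk_105 : allR t1690_pf 306936 6 (105 * 2 ^ 6) = true := by decide +kernel
theorem t1690_pchk_106 : allR t1690_pf 306936 6 (106 * 2 ^ 6) = true := by decide +kernel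
theorem t1690_pchk_107 : allR t1690_pf 306936 6 (107 * 2 ^ 6) = true := by decide +kernel
theorem t1690_pchk_108 : allR t1690_pf 306936 6 (108 * 2 ^ 6) = true := by decide +kernel
theorem t1690_pchk_109 : allR t1690_pf 306936 6 (109 * 2 ^ 6) = true := by decide +kernel
theorem t1690_pchk_110 : allR t1690_pf 306936 6 (110 * 2 ^ 6) = true := by decide +kernel
theorem t1690_pchk_111 : allR t1690_pf 306936 6 (111 * 2 ^ 6) = true := by decide +kernel
theorem t1690_pchk_112 : allR t1690_pf 306936 6 (112 * 2 ^ 6) = true := by decide +kernel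
theorem t1690_pchk_113 : allR t1690_pf 306936 6 (113 * 2 ^ 6) = true := by decide +kernel
theorem t1690_pchk_114 : allR t1690_pf 306936 6 (114 * 2 ^ 6) = true := by decide +kernel
theorem t1690_pchk_115 : allR t1690_pf 306936 6 (115 * 2 ^ 6) = true := by decide +kernel
theorem t1690_pchk_116 : allR t1690_pf 306936 6 (116 * 2 ^ 6) = true := by decide +kernel
theorem t1690_pchk_117 : allR t1690_pf 306936 6 (117 * 2 ^ 6) = true := by decide +kernel
theorem t1690_pchk_118 : allR t1690_pf 306936 6 (118 * 2 ^ 6) = true := by decide +kernel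
theorem t1690_pchk_119 : allR t1690_pf 306936 6 (119 * 2 ^ 6) = true := by decide +kernel

theorem t1690_pfile_0 : ∀ k, k < 120 → 0 ≤ k → allR t1690_pf 306936 6 (k * 2 ^ 6) = true := by
  intro k h1 h2
  interval_cases k
  · exact t1690_pchk_0
  · exact t1690_pchk_1
  · exact t1690_pchk_2
  · exact t1690_pchk_3
  · exact t1690_pchk_4
  · exact t1690_pchk_5
  · exact t1690_pchk_6
  · exact t1690_pchk_7
  · exact t1690_pchk_8
  · exact t1690_pchk_9
  · exact t1690_pchk_10
  · exact t1690_pchk_11
  · exact t1690_pchk_12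
  · exact t1690_pchk_13
  · exact t1690_pchk_14
  · exact t1690_pchk_15
  · exact t1690_pchk_16
  · exact t1690_pchk_17
  · exact t1690_pchk_18
  · exact t1690_pchk_19
  · exact t1690_pchk_20
  · exact t1690_pchk_21
  · exact t1690_pchk_22
  · exact t1690_pchk_23
  · exact t1690_pchk_24
  · exact t1690_pchk_25
  · exact t1690_pchk_26
  · exact t1690_pchk_27
  · exact t1690_pchk_28
  · exact t1690_pchk_29
  · exact t1690_pchk_30
  · exact t1690_pchk_31
  · exact t1690_pchk_32
  · exact t1690_pchk_33
  · exact t1690_pchk_34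
  · exact t1690_pchk_35
  · exact t1690_pchk_36
  · exact t1690_pchk_37
  · exact t1690_pchk_38
  · exact t1690_pchk_39
  · exact t1690_pchk_40
  · exact t1690_pchk_41
  · exact t1690_pchk_42
  · exact t1690_pchk_43
  · exact t1690_pchk_44
  · exact t1690_pchk_45
  · exact t1690_pchk_46
  · exact t1690_pchk_47
  · exact t1690_pchk_48
  · exact t1690_pchk_49
  · exact t1690_pchk_50
  · exact t1690_pchk_51
  · exact t1690_pchk_52
  · exact t1690_pchk_53
  · exact t1690_pchk_54
  · exact t1690_pchk_55
  · exact t1690_pchk_56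
  · exact t1690_pchk_57
  · exact t1690_pchk_58
  · exact t1690_pchk_59
  · exact t1690_pchk_60
  · exact t1690_pchk_61
  · exact t1690_pchk_62
  · exact t1690_pchk_63
  · exact t1690_pchk_64
  · exact t1690_pchk_65
  · exact t1690_pchk_66
  · exact t1690_pchk_67
  · exact t1690_pchk_68
  · exact t1690_pchk_69
  · exact t1690_pchk_70
  · exact t1690_pchk_71
  · exact t1690_pchk_72
  · exact t1690_pchk_73
  · exact t1690_pchk_74
  · exact t1690_pchk_75
  · exact t1690_pchk_76
  · exact t1690_pchk_77
  · exact t1690_pchk_78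
  · exact t1690_pchk_79
  · exact t1690_pchk_80
  · exact t1690_pchk_81
  · exact t1690_pchk_82
  · exact t1690_pchk_83
  · exact t1690_pchk_84
  · exact t1690_pchk_85
  · exact t1690_pchk_86
  · exact t1690_pchk_87
  · exact t1690_pchk_88
  · exact t1690_pchk_89
  · exact t1690_pchk_90
  · exact t1690_pchk_91
  · exact t1690_pchk_92
  · exact t1690_pchk_93
  · exact t1690_pchk_94
  · exact t1690_pchk_95
  · exact t1690_pchk_96
  · exact t1690_pchk_97
  · exact t1690_pchk_98
  · exact t1690_pchk_99
  · exact t1690_pchk_100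
  · exact t1690_pchk_101
  · exact t1690_pchk_102
  · exact t1690_pchk_103
  · exact t1690_pchk_104
  · exact t1690_pchk_105
  · exact t1690_pchk_106
  · exact t1690_pchk_107
  · exact t1690_pchk_108
  · exact t1690_pchk_109
  · exact t1690_pchk_110
  · exact t1690_pchk_111
  · exact t1690_pchk_112
  · exact t1690_pchk_113
  · exact t1690_pchk_114
  · exact t1690_pchk_115
  · exact t1690_pchk_116
  · exact t1690_pchk_117
  · exact t1690_pchk_118
  · exact t1690_pchk_119

end Cfsg.Agent.H35
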