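import Cfsg.Agent.H35.T1690.PTab

set_option autoImplicit false
set_option linter.all false
set_option Elab.async false

namespace Cfsg.Agent.H35

theorem t1690_pchk_3480 : allR t1690_pf 306936 6 (3480 * 2 ^ 6) = true := by decide +kernel
theorem t1690_pchk_3481 : allR t1690_pf 306936 6 (3481 * 2 ^ 6) = true := by decide +kernel
theorem t1690_pchk_3482 : allR t1690_pf 306936 6 (3482 * 2 ^ 6) = true := by decide +kernel
theorem t1690_pchk_3483 : allR t1690_pf 306936 6 (3483 * 2 ^ 6) = true := by decide +kernel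
theorem t1690_pchk_3484 : allR t1690_pf 306936 6 (3484 * 2 ^ 6) = true := by decide +kernel
theorem t1690_pchk_3485 : allR t1690_pf 306936 6 (3485 * 2 ^ 6) = true := by decide +kernel
theorem t1690_pchk_3486 : allR t1690_pf 306936 6 (3486 * 2 ^ 6) = true := by decide +kernel
theorem t1690_pchk_3487 : allR t1690_pf 306936 6 (3487 * 2 ^ 6) = true := by decide +kernel
theorem t1690_pchk_3488 : allR t1690_pf 306936 6 (3488 * 2 ^ 6) = true := by decide +kernel
theorem t1690_pchk_3489 : allR t1690_pf 306936 6 (3489 * 2 ^ 6) = true := by decide +kernel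
theorem t1690_pchk_3490 : allR t1690_pf 306936 6 (3490 * 2 ^ 6) = true := by decide +kernel
theorem t1690_pchk_3491 : allR t1690_pf 306936 6 (3491 * 2 ^ 6) = true := by decide +kernel
theorem t1690_pchk_3492 : allR t1690_pf 306936 6 (3492 * 2 ^ 6) = true := by decide +kernel
theorem t1690_pchk_3493 : allR t1690_pf 306936 6 (3493 * 2 ^ 6) = true := by decide +kernel
theorem t1690_pchk_3494 : allR t1690_pf 306936 6 (3494 * 2 ^ 6) = true := by decide +kernel
theorem t1690_pchk_3495 : allR t1690_pf 306936 6 (3495 * 2 ^ 6) = true := by decide +kernel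
theorem t1690_pchk_3496 : allR t1690_pf 306936 6 (3496 * 2 ^ 6) = true := by decide +kernel
theorem t1690_pchk_3497 : allR t1690_pf 306936 6 (3497 * 2 ^ 6) = true := by decide +kernel
theorem t1690_pchk_3498 : allR t1690_pf 306936 6 (3498 * 2 ^ 6) = true := by decide +kernel
theorem t1690_pchk_3499 : allR t1690_pf 306936 6 (3499 * 2 ^ 6) = true := by decide +kernel
theorem t1690_pchk_3500 : allR t1690_pf 306936 6 (3500 * 2 ^ 6) = true := by decide +kernel
theorem t1690_pchk_3501 : allR t1690_pf 306936 6 (3501 * 2 ^ 6) = true := by decide +kernel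
theorem t1690_pchk_3502 : allR t1690_pf 306936 6 (3502 * 2 ^ 6) = true := by decide +kernel
theorem t1690_pchk_3503 : allR t1690_pf 306936 6 (3503 * 2 ^ 6) = true := by decide +kernel
theorem t1690_pchk_3504 : allR t1690_pf 306936 6 (3504 * 2 ^ 6) = true := by decide +kernel
theorem t1690_pchk_3505 : allR t1690_pf 306936 6 (3505 * 2 ^ 6) = true := by decide +kernel
theorem t1690_pchk_3506 : allR t1690_pf 306936 6 (3506 * 2 ^ 6) = true := by decide +kernel
theorem t1690_pchk_3507 : allR t1690_pf 306936 6 (3507 * 2 ^ 6) = true := by decide +kernel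
theorem t1690_pchk_3508 : allR t1690_pf 306936 6 (3508 * 2 ^ 6) = true := by decide +kernel
theorem t1690_pchk_3509 : allR t1690_pf 306936 6 (3509 * 2 ^ 6) = true := by decide +kernel
theorem t1690_pchk_3510 : allR t1690_pf 306936 6 (3510 * 2 ^ 6) = true := by decide +kernel
theorem t1690_pchk_3511 : allR t1690_pf 306936 6 (3511 * 2 ^ 6) = true := by decide +kernel
theorem t1690_pchk_3512 : allR t1690_pf 306936 6 (3512 * 2 ^ 6) = true := by decide +kernel
theorem t1690_pchk_3513 : allR t1690_pf 306936 6 (3513 * 2 ^ 6) = true := by decide +kernel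
theorem t1690_pchk_3514 : allR t1690_pf 306936 6 (3514 * 2 ^ 6) = true := by decide +kernel
theorem t1690_pchk_3515 : allR t1690_pf 306936 6 (3515 * 2 ^ 6) = true := by decide +kernel
theorem t1690_pchk_3516 : allR t1690_pf 306936 6 (3516 * 2 ^ 6) = true := by decide +kernel
theorem t1690_pchk_3517 : allR t1690_pf 306936 6 (3517 * 2 ^ 6) = true := by decide +kernel
theorem t1690_pchk_3518 : allR t1690_pf 306936 6 (3518 * 2 ^ 6) = true := by decide +kernel
theorem t1690_pchk_3519 : allR t1690_pf 306936 6 (3519 * 2 ^ 6) = true := by decide +kernel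
theorem t1690_pchk_3520 : allR t1690_pf 306936 6 (3520 * 2 ^ 6) = true := by decide +kernel
theorem t1690_pchk_3521 : allR t1690_pf 306936 6 (3521 * 2 ^ 6) = true := by decide +kernel
theorem t1690_pchk_3522 : allR t1690_pf 306936 6 (3522 * 2 ^ 6) = true := by decide +kernel
theorem t1690_pchk_3523 : allR t1690_pf 306936 6 (3523 * 2 ^ 6) = true := by decide +kernel
theorem t1690_pchk_3524 : allR t1690_pf 306936 6 (3524 * 2 ^ 6) = true := by decide +kernel
theorem t1690_pchk_3525 : allR t1690_pf 306936 6 (3525 * 2 ^ 6) = true := by decide +kernel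
theorem t1690_pchk_3526 : allR t1690_pf 306936 6 (3526 * 2 ^ 6) = true := by decide +kernel
theorem t1690_pchk_3527 : allR t1690_pf 306936 6 (3527 * 2 ^ 6) = true := by decide +kernel
theorem t1690_pchk_3528 : allR t1690_pf 306936 6 (3528 * 2 ^ 6) = true := by decide +kernel
theorem t1690_pchk_3529 : allR t1690_pf 306936 6 (3529 * 2 ^ 6) = true := by decide +kernel
theorem t1690_pchk_3530 : allR t1690_pf 306936 6 (3530 * 2 ^ 6) = true := by decide +kernel
theorem t1690_pchk_3531 : allR t1690_pf 306936 6 (3531 * 2 ^ 6) = true := by decide +kernel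
theorem t1690_pchk_3532 : allR t1690_pf 306936 6 (3532 * 2 ^ 6) = true := by decide +kernel
theorem t1690_pchk_3533 : allR t1690_pf 306936 6 (3533 * 2 ^ 6) = true := by decide +kernel
theorem t1690_pchk_3534 : allR t1690_pf 306936 6 (3534 * 2 ^ 6) = true := by decide +kernel
theorem t1690_pchk_3535 : allR t1690_pf 306936 6 (3535 * 2 ^ 6) = true := by decide +kernel
theorem t1690_pchk_3536 : allR t1690_pf 306936 6 (3536 * 2 ^ 6) = true := by decide +kernel
theorem t1690_pchk_3537 : allR t1690_pf 306936 6 (3537 * 2 ^ 6) = true := by decide +kernel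
theorem t1690_pchk_3538 : allR t1690_pf 306936 6 (3538 * 2 ^ 6) = true := by decide +kernel
theorem t1690_pchk_3539 : allR t1690_pf 306936 6 (3539 * 2 ^ 6) = true := by decide +kernel
theorem t1690_pchk_3540 : allR t1690_pf 306936 6 (3540 * 2 ^ 6) = true := by decide +kernel
theorem t1690_pchk_3541 : allR t1690_pf 306936 6 (3541 * 2 ^ 6) = true := by decide +kernel
theorem t1690_pchk_3542 : allR t1690_pf 306936 6 (3542 * 2 ^ 6) = true := by decide +kernel
theorem t1690_pchk_3543 : allR t1690_pf 306936 6 (3543 * 2 ^ 6) = true := by decide +kernel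
theorem t1690_pchk_3544 : allR t1690_pf 306936 6 (3544 * 2 ^ 6) = true := by decide +kernel
theorem t1690_pchk_3545 : allR t1690_pf 306936 6 (3545 * 2 ^ 6) = true := by decide +kernel
theorem t1690_pchk_3546 : allR t1690_pf 306936 6 (3546 * 2 ^ 6) = true := by decide +kernel
theorem t1690_pchk_3547 : allR t1690_pf 306936 6 (3547 * 2 ^ 6) = true := by decide +kernel
theorem t1690_pchk_3548 : allR t1690_pf 306936 6 (3548 * 2 ^ 6) = true := by decide +kernel
theorem t1690_pchk_3549 : allR t1690_pf 306936 6 (3549 * 2 ^ 6) = true := by decide +kernel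
theorem t1690_pchk_3550 : allR t1690_pf 306936 6 (3550 * 2 ^ 6) = true := by decide +kernel
theorem t1690_pchk_3551 : allR t1690_pf 306936 6 (3551 * 2 ^ 6) = true := by decide +kernel
theorem t1690_pchk_3552 : allR t1690_pf 306936 6 (3552 * 2 ^ 6) = true := by decide +kernel
theorem t1690_pchk_3553 : allR t1690_pf 306936 6 (3553 * 2 ^ 6) = true := by decide +kernel
theorem t1690_pchk_3554 : allR t1690_pf 306936 6 (3554 * 2 ^ 6) = true := by decide +kernel
theorem t1690_pchk_3555 : allR t1690_pf 306936 6 (3555 * 2 ^ 6) = true := by decide +kernel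
theorem t1690_pchk_3556 : allR t1690_pf 306936 6 (3556 * 2 ^ 6) = true := by decide +kernel
theorem t1690_pchk_3557 : allR t1690_pf 306936 6 (3557 * 2 ^ 6) = true := by decide +kernel
theorem t1690_pchk_3558 : allR t1690_pf 306936 6 (3558 * 2 ^ 6) = true := by decide +kernel
theorem t1690_pchk_3559 : allR t1690_pf 306936 6 (3559 * 2 ^ 6) = true := by decide +kernel
theorem t1690_pchk_3560 : allR t1690_pf 306936 6 (3560 * 2 ^ 6) = true := by decide +kernel
theorem t1690_pchk_3561 : allR t1690_pf 306936 6 (3561 * 2 ^ 6) = true := by decide +kernel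
theorem t1690_pchk_3562 : allR t1690_pf 306936 6 (3562 * 2 ^ 6) = true := by decide +kernel
theorem t1690_pchk_3563 : allR t1690_pf 306936 6 (3563 * 2 ^ 6) = true := by decide +kernel
theorem t1690_pchk_3564 : allR t1690_pf 306936 6 (3564 * 2 ^ 6) = true := by decide +kernel
theorem t1690_pchk_3565 : allR t1690_pf 306936 6 (3565 * 2 ^ 6) = true := by decide +kernel
theorem t1690_pchk_3566 : allR t1690_pf 306936 6 (3566 * 2 ^ 6) = true := by decide +kernel
theorem t1690_pchk_3567 : allR t1690_pf 306936 6 (3567 * 2 ^ 6) = true := by decide +kernel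
theorem t1690_pchk_3568 : allR t1690_pf 306936 6 (3568 * 2 ^ 6) = true := by decide +kernel
theorem t1690_pchk_3569 : allR t1690_pf 306936 6 (3569 * 2 ^ 6) = true := by decide +kernel
theorem t1690_pchk_3570 : allR t1690_pf 306936 6 (3570 * 2 ^ 6) = true := by decide +kernel
theorem t1690_pchk_3571 : allR t1690_pf 306936 6 (3571 * 2 ^ 6) = true := by decide +kernel
theorem t1690_pchk_3572 : allR t1690_pf 306936 6 (3572 * 2 ^ 6) = true := by decide +kernel
theorem t1690_pchk_3573 : allR t1690_pf 306936 6 (3573 * 2 ^ 6) = true := by decide +kernel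
theorem t1690_pchk_3574 : allR t1690_pf 306936 6 (3574 * 2 ^ 6) = true := by decide +kernel
theorem t1690_pchk_3575 : allR t1690_pf 306936 6 (3575 * 2 ^ 6) = true := by decide +kernel
theorem t1690_pchk_3576 : allR t1690_pf 306936 6 (3576 * 2 ^ 6) = true := by decide +kernel
theorem t1690_pchk_3577 : allR t1690_pf 306936 6 (3577 * 2 ^ 6) = true := by decide +kernel
theorem t1690_pchk_3578 : allR t1690_pf 306936 6 (3578 * 2 ^ 6) = true := by decide +kernel
theorem t1690_pchk_3579 : allR t1690_pf 306936 6 (3579 * 2 ^ 6) = true := by decide +kernel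
theorem t1690_pchk_3580 : allR t1690_pf 306936 6 (3580 * 2 ^ 6) = true := by decide +kernel
theorem t1690_pchk_3581 : allR t1690_pf 306936 6 (3581 * 2 ^ 6) = true := by decide +kernel
theorem t1690_pchk_3582 : allR t1690_pf 306936 6 (3582 * 2 ^ 6) = true := by decide +kernel
theorem t1690_pchk_3583 : allR t1690_pf 306936 6 (3583 * 2 ^ 6) = true := by decide +kernel
theorem t1690_pchk_3584 : allR t1690_pf 306936 6 (3584 * 2 ^ 6) = true := by decide +kernel
theorem t1690_pchk_3585 : allR t1690_pf 306936 6 (3585 * 2 ^ 6) = true := by decide +kernel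
theorem t1690_pchk_3586 : allR t1690_pf 306936 6 (3586 * 2 ^ 6) = true := by decide +kernel
theorem t1690_pchk_3587 : allR t1690_pf 306936 6 (3587 * 2 ^ 6) = true := by decide +kernel
theorem t1690_pchk_3588 : allR t1690_pf 306936 6 (3588 * 2 ^ 6) = true := by decide +kernel
theorem t1690_pchk_3589 : allR t1690_pf 306936 6 (3589 * 2 ^ 6) = true := by decide +kernel
theorem t1690_pchk_3590 : allR t1690_pf 306936 6 (3590 * 2 ^ 6) = true := by decide +kernel
theorem t1690_pchk_3591 : allR t1690_pf 306936 6 (3591 * 2 ^ 6) = true := by decide +kernel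
theorem t1690_pchk_3592 : allR t1690_pf 306936 6 (3592 * 2 ^ 6) = true := by decide +kernel
theorem t1690_pchk_3593 : allR t1690_pf 306936 6 (3593 * 2 ^ 6) = true := by decide +kernel
theorem t1690_pchk_3594 : allR t1690_pf 306936 6 (3594 * 2 ^ 6) = true := by decide +kernel
theorem t1690_pchk_3595 : allR t1690_pf 306936 6 (3595 * 2 ^ 6) = true := by decide +kernel
theorem t1690_pchk_3596 : allR t1690_pf 306936 6 (3596 * 2 ^ 6) = true := by decide +kernel
theorem t1690_pchk_3597 : allR t1690_pf 306936 6 (3597 * 2 ^ 6) = true := by decide +kernel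
theorem t1690_pchk_3598 : allR t1690_pf 306936 6 (3598 * 2 ^ 6) = true := by decide +kernel
theorem t1690_pchk_3599 : allR t1690_pf 306936 6 (3599 * 2 ^ 6) = true := by decide +kernel

theorem t1690_pfile_29 : ∀ k, k < 3600 → 3480 ≤ k → allR t1690_pf 306936 6 (k * 2 ^ 6) = true := by
  intro k h1 h2
  interval_cases k
  · exact t1690_pchk_3480
  · exact t1690_pchk_3481
  · exact t1690_pchk_3482
  · exact t1690_pchk_3483
  · exact t1690_pchk_3484
  · exact t1690_pchk_3485
  · exact t1690_pchk_3486
  · exact t1690_pchk_3487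
  · exact t1690_pchk_3488
  · exact t1690_pchk_3489
  · exact t1690_pchk_3490
  · exact t1690_pchk_3491
  · exact t1690_pchk_3492
  · exact t1690_pchk_3493
  · exact t1690_pchk_3494
  · exact t1690_pchk_3495
  · exact t1690_pchk_3496
  · exact t1690_pchk_3497
  · exact t1690_pchk_3498
  · exact t1690_pchk_3499
  · exact t1690_pchk_3500
  · exact t1690_pchk_3501
  · exact t1690_pchk_3502
  · exact t1690_pchk_3503
  · exact t1690_pchk_3504
  · exact t1690_pchk_3505
  · exact t1690_pchk_3506
  · exact t1690_pchk_3507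
  · exact t1690_pchk_3508
  · exact t1690_pchk_3509
  · exact t1690_pchk_3510
  · exact t1690_pchk_3511
  · exact t1690_pchk_3512
  · exact t1690_pchk_3513
  · exact t1690_pchk_3514
  · exact t1690_pchk_3515
  · exact t1690_pchk_3516
  · exact t1690_pchk_3517
  · exact t1690_pchk_3518
  · exact t1690_pchk_3519
  · exact t1690_pchk_3520
  · exact t1690_pchk_3521
  · exact t1690_pchk_3522
  · exact t1690_pchk_3523
  · exact t1690_pchk_3524
  · exact t1690_pchk_3525
  · exact t1690_pchk_3526
  · exact t1690_pchk_3527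
  · exact t1690_pchk_3528
  · exact t1690_pchk_3529
  · exact t1690_pchk_3530
  · exact t1690_pchk_3531
  · exact t1690_pchk_3532
  · exact t1690_pchk_3533
  · exact t1690_pchk_3534
  · exact t1690_pchk_3535
  · exact t1690_pchk_3536
  · exact t1690_pchk_3537
  · exact t1690_pchk_3538
  · exact t1690_pchk_3539
  · exact t1690_pchk_3540
  · exact t1690_pchk_3541
  · exact t1690_pchk_3542
  · exact t1690_pchk_3543
  · exact t1690_pchk_3544
  · exact t1690_pchk_3545
  · exact t1690_pchk_3546
  · exact t1690_pchk_3547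
  · exact t1690_pchk_3548
  · exact t1690_pchk_3549
  · exact t1690_pchk_3550
  · exact t1690_pchk_3551
  · exact t1690_pchk_3552
  · exact t1690_pchk_3553
  · exact t1690_pchk_3554
  · exact t1690_pchk_3555
  · exact t1690_pchk_3556
  · exact t1690_pchk_3557
  · exact t1690_pchk_3558
  · exact t1690_pchk_3559
  · exact t1690_pchk_3560
  · exact t1690_pchk_3561
  · exact t1690_pchk_3562
  · exact t1690_pchk_3563
  · exact t1690_pchk_3564
  · exact t1690_pchk_3565
  · exact t1690_pchk_3566
  · exact t1690_pchk_3567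
  · exact t1690_pchk_3568
  · exact t1690_pchk_3569
  · exact t1690_pchk_3570
  · exact t1690_pchk_3571
  · exact t1690_pchk_3572
  · exact t1690_pchk_3573
  · exact t1690_pchk_3574
  · exact t1690_pchk_3575
  · exact t1690_pchk_3576
  · exact t1690_pchk_3577
  · exact t1690_pchk_3578
  · exact t1690_pchk_3579
  · exact t1690_pchk_3580
  · exact t1690_pchk_3581
  · exact t1690_pchk_3582
  · exact t1690_pchk_3583
  · exact t1690_pchk_3584
  · exact t1690_pchk_3585
  · exact t1690_pchk_3586
  · exact t1690_pchk_3587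
  · exact t1690_pchk_3588
  · exact t1690_pchk_3589
  · exact t1690_pchk_3590
  · exact t1690_pchk_3591
  · exact t1690_pchk_3592
  · exact t1690_pchk_3593
  · exact t1690_pchk_3594
  · exact t1690_pchk_3595
  · exact t1690_pchk_3596
  · exact t1690_pchk_3597
  · exact t1690_pchk_3598
  · exact t1690_pchk_3599

end Cfsg.Agent.H35
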