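import Cfsg.Agent.H35.T1690.RTab

set_option autoImplicit false
set_option linter.all false
set_option Elab.async false

namespace Cfsg.Agent.H35

theorem t1690_rchk_80 : allR t1690_rf 352792 6 (80 * 2 ^ 6) = true := by decide +kernel
theorem t1690_rchk_81 : allR t1690_rf 352792 6 (81 * 2 ^ 6) = true := by decide +kernel
theorem t1690_rchk_82 : allR t1690_rf 352792 6 (82 * 2 ^ 6) = true := by decide +kernel
theorem t1690_rchk_83 : allR t1690_rf 352792 6 (83 * 2 ^ 6) = true := by decide +kernel
theorem t1690_rchk_84 : allR t1690_rf 352792 6 (84 * 2 ^ 6) = true := by decide +kernel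
theorem t1690_rchk_85 : allR t1690_rf 352792 6 (85 * 2 ^ 6) = true := by decide +kernel
theorem t1690_rchk_86 : allR t1690_rf 352792 6 (86 * 2 ^ 6) = true := by decide +kernel
theorem t1690_rchk_87 : allR t1690_rf 352792 6 (87 * 2 ^ 6) = true := by decide +kernel
theorem t1690_rchk_88 : allR t1690_rf 352792 6 (88 * 2 ^ 6) = true := by decide +kernel
theorem t1690_rchk_89 : allR t1690_rf 352792 6 (89 * 2 ^ 6) = true := by decide +kernel
theorem t1690_rchk_90 : allR t1690_rf 352792 6 (90 * 2 ^ 6) = true := by decide +kernel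
theorem t1690_rchk_91 : allR t1690_rf 352792 6 (91 * 2 ^ 6) = true := by decide +kernel
theorem t1690_rchk_92 : allR t1690_rf 352792 6 (92 * 2 ^ 6) = true := by decide +kernel
theorem t1690_rchk_93 : allR t1690_rf 352792 6 (93 * 2 ^ 6) = true := by decide +kernel
theorem t1690_rchk_94 : allR t1690_rf 352792 6 (94 * 2 ^ 6) = true := by decide +kernel
theorem t1690_rchk_95 : allR t1690_rf 352792 6 (95 * 2 ^ 6) = true := by decide +kernel
theorem t1690_rchk_96 : allR t1690_rf 352792 6 (96 * 2 ^ 6) = true := by decide +kernel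
theorem t1690_rchk_97 : allR t1690_rf 352792 6 (97 * 2 ^ 6) = true := by decide +kernel
theorem t1690_rchk_98 : allR t1690_rf 352792 6 (98 * 2 ^ 6) = true := by decide +kernel
theorem t1690_rchk_99 : allR t1690_rf 352792 6 (99 * 2 ^ 6) = true := by decide +kernel
theorem t1690_rchk_100 : allR t1690_rf 352792 6 (100 * 2 ^ 6) = true := by decide +kernel
theorem t1690_rchk_101 : allR t1690_rf 352792 6 (101 * 2 ^ 6) = true := by decide +kernel
theorem t1690_rchk_102 : allR t1690_rf 352792 6 (102 * 2 ^ 6) = true := by decide +kernel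
theorem t1690_rchk_103 : allR t1690_rf 352792 6 (103 * 2 ^ 6) = true := by decide +kernel
theorem t1690_rchk_104 : allR t1690_rf 352792 6 (104 * 2 ^ 6) = true := by decide +kernel
theorem t1690_rchk_105 : allR t1690_rf 352792 6 (105 * 2 ^ 6) = true := by decide +kernel
theorem t1690_rchk_106 : allR t1690_rf 352792 6 (106 * 2 ^ 6) = true := by decide +kernel
theorem t1690_rchk_107 : allR t1690_rf 352792 6 (107 * 2 ^ 6) = true := by decide +kernel
theorem t1690_rchk_108 : allR t1690_rf 352792 6 (108 * 2 ^ 6) = true := by decide +kernel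
theorem t1690_rchk_109 : allR t1690_rf 352792 6 (109 * 2 ^ 6) = true := by decide +kernel
theorem t1690_rchk_110 : allR t1690_rf 352792 6 (110 * 2 ^ 6) = true := by decide +kernel
theorem t1690_rchk_111 : allR t1690_rf 352792 6 (111 * 2 ^ 6) = true := by decide +kernel
theorem t1690_rchk_112 : allR t1690_rf 352792 6 (112 * 2 ^ 6) = true := by decide +kernel
theorem t1690_rchk_113 : allR t1690_rf 352792 6 (113 * 2 ^ 6) = true := by decide +kernel
theorem t1690_rchk_114 : allR t1690_rf 352792 6 (114 * 2 ^ 6) = true := by decide +kernel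
theorem t1690_rchk_115 : allR t1690_rf 352792 6 (115 * 2 ^ 6) = true := by decide +kernel
theorem t1690_rchk_116 : allR t1690_rf 352792 6 (116 * 2 ^ 6) = true := by decide +kernel
theorem t1690_rchk_117 : allR t1690_rf 352792 6 (117 * 2 ^ 6) = true := by decide +kernel
theorem t1690_rchk_118 : allR t1690_rf 352792 6 (118 * 2 ^ 6) = true := by decide +kernel
theorem t1690_rchk_119 : allR t1690_rf 352792 6 (119 * 2 ^ 6) = true := by decide +kernel
theorem t1690_rchk_120 : allR t1690_rf 352792 6 (120 * 2 ^ 6) = true := by decide +kernel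
theorem t1690_rchk_121 : allR t1690_rf 352792 6 (121 * 2 ^ 6) = true := by decide +kernel
theorem t1690_rchk_122 : allR t1690_rf 352792 6 (122 * 2 ^ 6) = true := by decide +kernel
theorem t1690_rchk_123 : allR t1690_rf 352792 6 (123 * 2 ^ 6) = true := by decide +kernel
theorem t1690_rchk_124 : allR t1690_rf 352792 6 (124 * 2 ^ 6) = true := by decide +kernel
theorem t1690_rchk_125 : allR t1690_rf 352792 6 (125 * 2 ^ 6) = true := by decide +kernel
theorem t1690_rchk_126 : allR t1690_rf 352792 6 (126 * 2 ^ 6) = true := by decide +kernel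
theorem t1690_rchk_127 : allR t1690_rf 352792 6 (127 * 2 ^ 6) = true := by decide +kernel
theorem t1690_rchk_128 : allR t1690_rf 352792 6 (128 * 2 ^ 6) = true := by decide +kernel
theorem t1690_rchk_129 : allR t1690_rf 352792 6 (129 * 2 ^ 6) = true := by decide +kernel
theorem t1690_rchk_130 : allR t1690_rf 352792 6 (130 * 2 ^ 6) = true := by decide +kernel
theorem t1690_rchk_131 : allR t1690_rf 352792 6 (131 * 2 ^ 6) = true := by decide +kernel
theorem t1690_rchk_132 : allR t1690_rf 352792 6 (132 * 2 ^ 6) = true := by decide +kernel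
theorem t1690_rchk_133 : allR t1690_rf 352792 6 (133 * 2 ^ 6) = true := by decide +kernel
theorem t1690_rchk_134 : allR t1690_rf 352792 6 (134 * 2 ^ 6) = true := by decide +kernel
theorem t1690_rchk_135 : allR t1690_rf 352792 6 (135 * 2 ^ 6) = true := by decide +kernel
theorem t1690_rchk_136 : allR t1690_rf 352792 6 (136 * 2 ^ 6) = true := by decide +kernel
theorem t1690_rchk_137 : allR t1690_rf 352792 6 (137 * 2 ^ 6) = true := by decide +kernel
theorem t1690_rchk_138 : allR t1690_rf 352792 6 (138 * 2 ^ 6) = true := by decide +kernel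
theorem t1690_rchk_139 : allR t1690_rf 352792 6 (139 * 2 ^ 6) = true := by decide +kernel
theorem t1690_rchk_140 : allR t1690_rf 352792 6 (140 * 2 ^ 6) = true := by decide +kernel
theorem t1690_rchk_141 : allR t1690_rf 352792 6 (141 * 2 ^ 6) = true := by decide +kernel
theorem t1690_rchk_142 : allR t1690_rf 352792 6 (142 * 2 ^ 6) = true := by decide +kernel
theorem t1690_rchk_143 : allR t1690_rf 352792 6 (143 * 2 ^ 6) = true := by decide +kernel
theorem t1690_rchk_144 : allR t1690_rf 352792 6 (144 * 2 ^ 6) = true := by decide +kernel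
theorem t1690_rchk_145 : allR t1690_rf 352792 6 (145 * 2 ^ 6) = true := by decide +kernel
theorem t1690_rchk_146 : allR t1690_rf 352792 6 (146 * 2 ^ 6) = true := by decide +kernel
theorem t1690_rchk_147 : allR t1690_rf 352792 6 (147 * 2 ^ 6) = true := by decide +kernel
theorem t1690_rchk_148 : allR t1690_rf 352792 6 (148 * 2 ^ 6) = true := by decide +kernel
theorem t1690_rchk_149 : allR t1690_rf 352792 6 (149 * 2 ^ 6) = true := by decide +kernel
theorem t1690_rchk_150 : allR t1690_rf 352792 6 (150 * 2 ^ 6) = true := by decide +kernel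
theorem t1690_rchk_151 : allR t1690_rf 352792 6 (151 * 2 ^ 6) = true := by decide +kernel
theorem t1690_rchk_152 : allR t1690_rf 352792 6 (152 * 2 ^ 6) = true := by decide +kernel
theorem t1690_rchk_153 : allR t1690_rf 352792 6 (153 * 2 ^ 6) = true := by decide +kernel
theorem t1690_rchk_154 : allR t1690_rf 352792 6 (154 * 2 ^ 6) = true := by decide +kernel
theorem t1690_rchk_155 : allR t1690_rf 352792 6 (155 * 2 ^ 6) = true := by decide +kernel
theorem t1690_rchk_156 : allR t1690_rf 352792 6 (156 * 2 ^ 6) = true := by decide +kernel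
theorem t1690_rchk_157 : allR t1690_rf 352792 6 (157 * 2 ^ 6) = true := by decide +kernel
theorem t1690_rchk_158 : allR t1690_rf 352792 6 (158 * 2 ^ 6) = true := by decide +kernel
theorem t1690_rchk_159 : allR t1690_rf 352792 6 (159 * 2 ^ 6) = true := by decide +kernel

theorem t1690_rfile_1 : ∀ k, k < 160 → 80 ≤ k → allR t1690_rf 352792 6 (k * 2 ^ 6) = true := by
  intro k h1 h2
  interval_cases k
  · exact t1690_rchk_80
  · exact t1690_rchk_81
  · exact t1690_rchk_82
  · exact t1690_rchk_83
  · exact t1690_rchk_84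
  · exact t1690_rchk_85
  · exact t1690_rchk_86
  · exact t1690_rchk_87
  · exact t1690_rchk_88
  · exact t1690_rchk_89
  · exact t1690_rchk_90
  · exact t1690_rchk_91
  · exact t1690_rchk_92
  · exact t1690_rchk_93
  · exact t1690_rchk_94
  · exact t1690_rchk_95
  · exact t1690_rchk_96
  · exact t1690_rchk_97
  · exact t1690_rchk_98
  · exact t1690_rchk_99
  · exact t1690_rchk_100
  · exact t1690_rchk_101
  · exact t1690_rchk_102
  · exact t1690_rchk_103
  · exact t1690_rchk_104
  · exact t1690_rchk_105
  · exact t1690_rchk_106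
  · exact t1690_rchk_107
  · exact t1690_rchk_108
  · exact t1690_rchk_109
  · exact t1690_rchk_110
  · exact t1690_rchk_111
  · exact t1690_rchk_112
  · exact t1690_rchk_113
  · exact t1690_rchk_114
  · exact t1690_rchk_115
  · exact t1690_rchk_116
  · exact t1690_rchk_117
  · exact t1690_rchk_118
  · exact t1690_rchk_119
  · exact t1690_rchk_120
  · exact t1690_rchk_121
  · exact t1690_rchk_122
  · exact t1690_rchk_123
  · exact t1690_rchk_124
  · exact t1690_rchk_125
  · exact t1690_rchk_126
  · exact t1690_rchk_127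
  · exact t1690_rchk_128
  · exact t1690_rchk_129
  · exact t1690_rchk_130
  · exact t1690_rchk_131
  · exact t1690_rchk_132
  · exact t1690_rchk_133
  · exact t1690_rchk_134
  · exact t1690_rchk_135
  · exact t1690_rchk_136
  · exact t1690_rchk_137
  · exact t1690_rchk_138
  · exact t1690_rchk_139
  · exact t1690_rchk_140
  · exact t1690_rchk_141
  · exact t1690_rchk_142
  · exact t1690_rchk_143
  · exact t1690_rchk_144
  · exact t1690_rchk_145
  · exact t1690_rchk_146
  · exact t1690_rchk_147
  · exact t1690_rchk_148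
  · exact t1690_rchk_149
  · exact t1690_rchk_150
  · exact t1690_rchk_151
  · exact t1690_rchk_152
  · exact t1690_rchk_153
  · exact t1690_rchk_154
  · exact t1690_rchk_155
  · exact t1690_rchk_156
  · exact t1690_rchk_157
  · exact t1690_rchk_158
  · exact t1690_rchk_159

end Cfsg.Agent.H35
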