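import Cfsg.Agent.H35.T1690.RTab

set_option autoImplicit false
set_option linter.all false
set_option Elab.async false

namespace Cfsg.Agent.H35

theorem t1690_rchk_960 : allR t1690_rf 352792 6 (960 * 2 ^ 6) = true := by decide +kernel
theorem t1690_rchk_961 : allR t1690_rf 352792 6 (961 * 2 ^ 6) = true := by decide +kernel
theorem t1690_rchk_962 : allR t1690_rf 352792 6 (962 * 2 ^ 6) = true := by decide +kernel
theorem t1690_rchk_963 : allR t1690_rf 352792 6 (963 * 2 ^ 6) = true := by decide +kernel
theorem t1690_rchk_964 : allR t1690_rf 352792 6 (964 * 2 ^ 6) = true := by decide +kernel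
theorem t1690_rchk_965 : allR t1690_rf 352792 6 (965 * 2 ^ 6) = true := by decide +kernel
theorem t1690_rchk_966 : allR t1690_rf 352792 6 (966 * 2 ^ 6) = true := by decide +kernel
theorem t1690_rchk_967 : allR t1690_rf 352792 6 (967 * 2 ^ 6) = true := by decide +kernel
theorem t1690_rchk_968 : allR t1690_rf 352792 6 (968 * 2 ^ 6) = true := by decide +kernel
theorem t1690_rchk_969 : allR t1690_rf 352792 6 (969 * 2 ^ 6) = true := by decide +kernel
theorem t1690_rchk_970 : allR t1690_rf 352792 6 (970 * 2 ^ 6) = true := by decide +kernel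
theorem t1690_rchk_971 : allR t1690_rf 352792 6 (971 * 2 ^ 6) = true := by decide +kernel
theorem t1690_rchk_972 : allR t1690_rf 352792 6 (972 * 2 ^ 6) = true := by decide +kernel
theorem t1690_rchk_973 : allR t1690_rf 352792 6 (973 * 2 ^ 6) = true := by decide +kernel
theorem t1690_rchk_974 : allR t1690_rf 352792 6 (974 * 2 ^ 6) = true := by decide +kernel
theorem t1690_rchk_975 : allR t1690_rf 352792 6 (975 * 2 ^ 6) = true := by decide +kernel
theorem t1690_rchk_976 : allR t1690_rf 352792 6 (976 * 2 ^ 6) = true := by decide +kernel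
theorem t1690_rchk_977 : allR t1690_rf 352792 6 (977 * 2 ^ 6) = true := by decide +kernel
theorem t1690_rchk_978 : allR t1690_rf 352792 6 (978 * 2 ^ 6) = true := by decide +kernel
theorem t1690_rchk_979 : allR t1690_rf 352792 6 (979 * 2 ^ 6) = true := by decide +kernel
theorem t1690_rchk_980 : allR t1690_rf 352792 6 (980 * 2 ^ 6) = true := by decide +kernel
theorem t1690_rchk_981 : allR t1690_rf 352792 6 (981 * 2 ^ 6) = true := by decide +kernel
theorem t1690_rchk_982 : allR t1690_rf 352792 6 (982 * 2 ^ 6) = true := by decide +kernel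
theorem t1690_rchk_983 : allR t1690_rf 352792 6 (983 * 2 ^ 6) = true := by decide +kernel
theorem t1690_rchk_984 : allR t1690_rf 352792 6 (984 * 2 ^ 6) = true := by decide +kernel
theorem t1690_rchk_985 : allR t1690_rf 352792 6 (985 * 2 ^ 6) = true := by decide +kernel
theorem t1690_rchk_986 : allR t1690_rf 352792 6 (986 * 2 ^ 6) = true := by decide +kernel
theorem t1690_rchk_987 : allR t1690_rf 352792 6 (987 * 2 ^ 6) = true := by decide +kernel
theorem t1690_rchk_988 : allR t1690_rf 352792 6 (988 * 2 ^ 6) = true := by decide +kernel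
theorem t1690_rchk_989 : allR t1690_rf 352792 6 (989 * 2 ^ 6) = true := by decide +kernel
theorem t1690_rchk_990 : allR t1690_rf 352792 6 (990 * 2 ^ 6) = true := by decide +kernel
theorem t1690_rchk_991 : allR t1690_rf 352792 6 (991 * 2 ^ 6) = true := by decide +kernel
theorem t1690_rchk_992 : allR t1690_rf 352792 6 (992 * 2 ^ 6) = true := by decide +kernel
theorem t1690_rchk_993 : allR t1690_rf 352792 6 (993 * 2 ^ 6) = true := by decide +kernel
theorem t1690_rchk_994 : allR t1690_rf 352792 6 (994 * 2 ^ 6) = true := by decide +kernel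
theorem t1690_rchk_995 : allR t1690_rf 352792 6 (995 * 2 ^ 6) = true := by decide +kernel
theorem t1690_rchk_996 : allR t1690_rf 352792 6 (996 * 2 ^ 6) = true := by decide +kernel
theorem t1690_rchk_997 : allR t1690_rf 352792 6 (997 * 2 ^ 6) = true := by decide +kernel
theorem t1690_rchk_998 : allR t1690_rf 352792 6 (998 * 2 ^ 6) = true := by decide +kernel
theorem t1690_rchk_999 : allR t1690_rf 352792 6 (999 * 2 ^ 6) = true := by decide +kernel
theorem t1690_rchk_1000 : allR t1690_rf 352792 6 (1000 * 2 ^ 6) = true := by decide +kernel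
theorem t1690_rchk_1001 : allR t1690_rf 352792 6 (1001 * 2 ^ 6) = true := by decide +kernel
theorem t1690_rchk_1002 : allR t1690_rf 352792 6 (1002 * 2 ^ 6) = true := by decide +kernel
theorem t1690_rchk_1003 : allR t1690_rf 352792 6 (1003 * 2 ^ 6) = true := by decide +kernel
theorem t1690_rchk_1004 : allR t1690_rf 352792 6 (1004 * 2 ^ 6) = true := by decide +kernel
theorem t1690_rchk_1005 : allR t1690_rf 352792 6 (1005 * 2 ^ 6) = true := by decide +kernel
theorem t1690_rchk_1006 : allR t1690_rf 352792 6 (1006 * 2 ^ 6) = true := by decide +kernel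
theorem t1690_rchk_1007 : allR t1690_rf 352792 6 (1007 * 2 ^ 6) = true := by decide +kernel
theorem t1690_rchk_1008 : allR t1690_rf 352792 6 (1008 * 2 ^ 6) = true := by decide +kernel
theorem t1690_rchk_1009 : allR t1690_rf 352792 6 (1009 * 2 ^ 6) = true := by decide +kernel
theorem t1690_rchk_1010 : allR t1690_rf 352792 6 (1010 * 2 ^ 6) = true := by decide +kernel
theorem t1690_rchk_1011 : allR t1690_rf 352792 6 (1011 * 2 ^ 6) = true := by decide +kernel
theorem t1690_rchk_1012 : allR t1690_rf 352792 6 (1012 * 2 ^ 6) = true := by decide +kernel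
theorem t1690_rchk_1013 : allR t1690_rf 352792 6 (1013 * 2 ^ 6) = true := by decide +kernel
theorem t1690_rchk_1014 : allR t1690_rf 352792 6 (1014 * 2 ^ 6) = true := by decide +kernel
theorem t1690_rchk_1015 : allR t1690_rf 352792 6 (1015 * 2 ^ 6) = true := by decide +kernel
theorem t1690_rchk_1016 : allR t1690_rf 352792 6 (1016 * 2 ^ 6) = true := by decide +kernel
theorem t1690_rchk_1017 : allR t1690_rf 352792 6 (1017 * 2 ^ 6) = true := by decide +kernel
theorem t1690_rchk_1018 : allR t1690_rf 352792 6 (1018 * 2 ^ 6) = true := by decide +kernel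
theorem t1690_rchk_1019 : allR t1690_rf 352792 6 (1019 * 2 ^ 6) = true := by decide +kernel
theorem t1690_rchk_1020 : allR t1690_rf 352792 6 (1020 * 2 ^ 6) = true := by decide +kernel
theorem t1690_rchk_1021 : allR t1690_rf 352792 6 (1021 * 2 ^ 6) = true := by decide +kernel
theorem t1690_rchk_1022 : allR t1690_rf 352792 6 (1022 * 2 ^ 6) = true := by decide +kernel
theorem t1690_rchk_1023 : allR t1690_rf 352792 6 (1023 * 2 ^ 6) = true := by decide +kernel
theorem t1690_rchk_1024 : allR t1690_rf 352792 6 (1024 * 2 ^ 6) = true := by decide +kernel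
theorem t1690_rchk_1025 : allR t1690_rf 352792 6 (1025 * 2 ^ 6) = true := by decide +kernel
theorem t1690_rchk_1026 : allR t1690_rf 352792 6 (1026 * 2 ^ 6) = true := by decide +kernel
theorem t1690_rchk_1027 : allR t1690_rf 352792 6 (1027 * 2 ^ 6) = true := by decide +kernel
theorem t1690_rchk_1028 : allR t1690_rf 352792 6 (1028 * 2 ^ 6) = true := by decide +kernel
theorem t1690_rchk_1029 : allR t1690_rf 352792 6 (1029 * 2 ^ 6) = true := by decide +kernel
theorem t1690_rchk_1030 : allR t1690_rf 352792 6 (1030 * 2 ^ 6) = true := by decide +kernel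
theorem t1690_rchk_1031 : allR t1690_rf 352792 6 (1031 * 2 ^ 6) = true := by decide +kernel
theorem t1690_rchk_1032 : allR t1690_rf 352792 6 (1032 * 2 ^ 6) = true := by decide +kernel
theorem t1690_rchk_1033 : allR t1690_rf 352792 6 (1033 * 2 ^ 6) = true := by decide +kernel
theorem t1690_rchk_1034 : allR t1690_rf 352792 6 (1034 * 2 ^ 6) = true := by decide +kernel
theorem t1690_rchk_1035 : allR t1690_rf 352792 6 (1035 * 2 ^ 6) = true := by decide +kernel
theorem t1690_rchk_1036 : allR t1690_rf 352792 6 (1036 * 2 ^ 6) = true := by decide +kernel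
theorem t1690_rchk_1037 : allR t1690_rf 352792 6 (1037 * 2 ^ 6) = true := by decide +kernel
theorem t1690_rchk_1038 : allR t1690_rf 352792 6 (1038 * 2 ^ 6) = true := by decide +kernel
theorem t1690_rchk_1039 : allR t1690_rf 352792 6 (1039 * 2 ^ 6) = true := by decide +kernel

theorem t1690_rfile_12 : ∀ k, k < 1040 → 960 ≤ k → allR t1690_rf 352792 6 (k * 2 ^ 6) = true := by
  intro k h1 h2
  interval_cases k
  · exact t1690_rchk_960
  · exact t1690_rchk_961
  · exact t1690_rchk_962
  · exact t1690_rchk_963
  · exact t1690_rchk_964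
  · exact t1690_rchk_965
  · exact t1690_rchk_966
  · exact t1690_rchk_967
  · exact t1690_rchk_968
  · exact t1690_rchk_969
  · exact t1690_rchk_970
  · exact t1690_rchk_971
  · exact t1690_rchk_972
  · exact t1690_rchk_973
  · exact t1690_rchk_974
  · exact t1690_rchk_975
  · exact t1690_rchk_976
  · exact t1690_rchk_977
  · exact t1690_rchk_978
  · exact t1690_rchk_979
  · exact t1690_rchk_980
  · exact t1690_rchk_981
  · exact t1690_rchk_982
  · exact t1690_rchk_983
  · exact t1690_rchk_984
  · exact t1690_rchk_985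
  · exact t1690_rchk_986
  · exact t1690_rchk_987
  · exact t1690_rchk_988
  · exact t1690_rchk_989
  · exact t1690_rchk_990
  · exact t1690_rchk_991
  · exact t1690_rchk_992
  · exact t1690_rchk_993
  · exact t1690_rchk_994
  · exact t1690_rchk_995
  · exact t1690_rchk_996
  · exact t1690_rchk_997
  · exact t1690_rchk_998
  · exact t1690_rchk_999
  · exact t1690_rchk_1000
  · exact t1690_rchk_1001
  · exact t1690_rchk_1002
  · exact t1690_rchk_1003
  · exact t1690_rchk_1004
  · exact t1690_rchk_1005
  · exact t1690_rchk_1006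
  · exact t1690_rchk_1007
  · exact t1690_rchk_1008
  · exact t1690_rchk_1009
  · exact t1690_rchk_1010
  · exact t1690_rchk_1011
  · exact t1690_rchk_1012
  · exact t1690_rchk_1013
  · exact t1690_rchk_1014
  · exact t1690_rchk_1015
  · exact t1690_rchk_1016
  · exact t1690_rchk_1017
  · exact t1690_rchk_1018
  · exact t1690_rchk_1019
  · exact t1690_rchk_1020
  · exact t1690_rchk_1021
  · exact t1690_rchk_1022
  · exact t1690_rchk_1023
  · exact t1690_rchk_1024
  · exact t1690_rchk_1025
  · exact t1690_rchk_1026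
  · exact t1690_rchk_1027
  · exact t1690_rchk_1028
  · exact t1690_rchk_1029
  · exact t1690_rchk_1030
  · exact t1690_rchk_1031
  · exact t1690_rchk_1032
  · exact t1690_rchk_1033
  · exact t1690_rchk_1034
  · exact t1690_rchk_1035
  · exact t1690_rchk_1036
  · exact t1690_rchk_1037
  · exact t1690_rchk_1038
  · exact t1690_rchk_1039

end Cfsg.Agent.H35
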