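import Cfsg.Agent.H35.T1690.RTab

set_option autoImplicit false
set_option linter.all false
set_option Elab.async false

namespace Cfsg.Agent.H35

theorem t1690_rchk_1520 : allR t1690_rf 352792 6 (1520 * 2 ^ 6) = true := by decide +kernel
theorem t1690_rchk_1521 : allR t1690_rf 352792 6 (1521 * 2 ^ 6) = true := by decide +kernel
theorem t1690_rchk_1522 : allR t1690_rf 352792 6 (1522 * 2 ^ 6) = true := by decide +kernel
theorem t1690_rchk_1523 : allR t1690_rf 352792 6 (1523 * 2 ^ 6) = true := by decide +kernel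
theorem t1690_rchk_1524 : allR t1690_rf 352792 6 (1524 * 2 ^ 6) = true := by decide +kernel
theorem t1690_rchk_1525 : allR t1690_rf 352792 6 (1525 * 2 ^ 6) = true := by decide +kernel
theorem t1690_rchk_1526 : allR t1690_rf 352792 6 (1526 * 2 ^ 6) = true := by decide +kernel
theorem t1690_rchk_1527 : allR t1690_rf 352792 6 (1527 * 2 ^ 6) = true := by decide +kernel
theorem t1690_rchk_1528 : allR t1690_rf 352792 6 (1528 * 2 ^ 6) = true := by decide +kernel
theorem t1690_rchk_1529 : allR t1690_rf 352792 6 (1529 * 2 ^ 6) = true := by decide +kernel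
theorem t1690_rchk_1530 : allR t1690_rf 352792 6 (1530 * 2 ^ 6) = true := by decide +kernel
theorem t1690_rchk_1531 : allR t1690_rf 352792 6 (1531 * 2 ^ 6) = true := by decide +kernel
theorem t1690_rchk_1532 : allR t1690_rf 352792 6 (1532 * 2 ^ 6) = true := by decide +kernel
theorem t1690_rchk_1533 : allR t1690_rf 352792 6 (1533 * 2 ^ 6) = true := by decide +kernel
theorem t1690_rchk_1534 : allR t1690_rf 352792 6 (1534 * 2 ^ 6) = true := by decide +kernel
theorem t1690_rchk_1535 : allR t1690_rf 352792 6 (1535 * 2 ^ 6) = true := by decide +kernel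
theorem t1690_rchk_1536 : allR t1690_rf 352792 6 (1536 * 2 ^ 6) = true := by decide +kernel
theorem t1690_rchk_1537 : allR t1690_rf 352792 6 (1537 * 2 ^ 6) = true := by decide +kernel
theorem t1690_rchk_1538 : allR t1690_rf 352792 6 (1538 * 2 ^ 6) = true := by decide +kernel
theorem t1690_rchk_1539 : allR t1690_rf 352792 6 (1539 * 2 ^ 6) = true := by decide +kernel
theorem t1690_rchk_1540 : allR t1690_rf 352792 6 (1540 * 2 ^ 6) = true := by decide +kernel
theorem t1690_rchk_1541 : allR t1690_rf 352792 6 (1541 * 2 ^ 6) = true := by decide +kernel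
theorem t1690_rchk_1542 : allR t1690_rf 352792 6 (1542 * 2 ^ 6) = true := by decide +kernel
theorem t1690_rchk_1543 : allR t1690_rf 352792 6 (1543 * 2 ^ 6) = true := by decide +kernel
theorem t1690_rchk_1544 : allR t1690_rf 352792 6 (1544 * 2 ^ 6) = true := by decide +kernel
theorem t1690_rchk_1545 : allR t1690_rf 352792 6 (1545 * 2 ^ 6) = true := by decide +kernel
theorem t1690_rchk_1546 : allR t1690_rf 352792 6 (1546 * 2 ^ 6) = true := by decide +kernel
theorem t1690_rchk_1547 : allR t1690_rf 352792 6 (1547 * 2 ^ 6) = true := by decide +kernel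
theorem t1690_rchk_1548 : allR t1690_rf 352792 6 (1548 * 2 ^ 6) = true := by decide +kernel
theorem t1690_rchk_1549 : allR t1690_rf 352792 6 (1549 * 2 ^ 6) = true := by decide +kernel
theorem t1690_rchk_1550 : allR t1690_rf 352792 6 (1550 * 2 ^ 6) = true := by decide +kernel
theorem t1690_rchk_1551 : allR t1690_rf 352792 6 (1551 * 2 ^ 6) = true := by decide +kernel
theorem t1690_rchk_1552 : allR t1690_rf 352792 6 (1552 * 2 ^ 6) = true := by decide +kernel
theorem t1690_rchk_1553 : allR t1690_rf 352792 6 (1553 * 2 ^ 6) = true := by decide +kernel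
theorem t1690_rchk_1554 : allR t1690_rf 352792 6 (1554 * 2 ^ 6) = true := by decide +kernel
theorem t1690_rchk_1555 : allR t1690_rf 352792 6 (1555 * 2 ^ 6) = true := by decide +kernel
theorem t1690_rchk_1556 : allR t1690_rf 352792 6 (1556 * 2 ^ 6) = true := by decide +kernel
theorem t1690_rchk_1557 : allR t1690_rf 352792 6 (1557 * 2 ^ 6) = true := by decide +kernel
theorem t1690_rchk_1558 : allR t1690_rf 352792 6 (1558 * 2 ^ 6) = true := by decide +kernel
theorem t1690_rchk_1559 : allR t1690_rf 352792 6 (1559 * 2 ^ 6) = true := by decide +kernel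
theorem t1690_rchk_1560 : allR t1690_rf 352792 6 (1560 * 2 ^ 6) = true := by decide +kernel
theorem t1690_rchk_1561 : allR t1690_rf 352792 6 (1561 * 2 ^ 6) = true := by decide +kernel
theorem t1690_rchk_1562 : allR t1690_rf 352792 6 (1562 * 2 ^ 6) = true := by decide +kernel
theorem t1690_rchk_1563 : allR t1690_rf 352792 6 (1563 * 2 ^ 6) = true := by decide +kernel
theorem t1690_rchk_1564 : allR t1690_rf 352792 6 (1564 * 2 ^ 6) = true := by decide +kernel
theorem t1690_rchk_1565 : allR t1690_rf 352792 6 (1565 * 2 ^ 6) = true := by decide +kernel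
theorem t1690_rchk_1566 : allR t1690_rf 352792 6 (1566 * 2 ^ 6) = true := by decide +kernel
theorem t1690_rchk_1567 : allR t1690_rf 352792 6 (1567 * 2 ^ 6) = true := by decide +kernel
theorem t1690_rchk_1568 : allR t1690_rf 352792 6 (1568 * 2 ^ 6) = true := by decide +kernel
theorem t1690_rchk_1569 : allR t1690_rf 352792 6 (1569 * 2 ^ 6) = true := by decide +kernel
theorem t1690_rchk_1570 : allR t1690_rf 352792 6 (1570 * 2 ^ 6) = true := by decide +kernel
theorem t1690_rchk_1571 : allR t1690_rf 352792 6 (1571 * 2 ^ 6) = true := by decide +kernel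
theorem t1690_rchk_1572 : allR t1690_rf 352792 6 (1572 * 2 ^ 6) = true := by decide +kernel
theorem t1690_rchk_1573 : allR t1690_rf 352792 6 (1573 * 2 ^ 6) = true := by decide +kernel
theorem t1690_rchk_1574 : allR t1690_rf 352792 6 (1574 * 2 ^ 6) = true := by decide +kernel
theorem t1690_rchk_1575 : allR t1690_rf 352792 6 (1575 * 2 ^ 6) = true := by decide +kernel
theorem t1690_rchk_1576 : allR t1690_rf 352792 6 (1576 * 2 ^ 6) = true := by decide +kernel
theorem t1690_rchk_1577 : allR t1690_rf 352792 6 (1577 * 2 ^ 6) = true := by decide +kernel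
theorem t1690_rchk_1578 : allR t1690_rf 352792 6 (1578 * 2 ^ 6) = true := by decide +kernel
theorem t1690_rchk_1579 : allR t1690_rf 352792 6 (1579 * 2 ^ 6) = true := by decide +kernel
theorem t1690_rchk_1580 : allR t1690_rf 352792 6 (1580 * 2 ^ 6) = true := by decide +kernel
theorem t1690_rchk_1581 : allR t1690_rf 352792 6 (1581 * 2 ^ 6) = true := by decide +kernel
theorem t1690_rchk_1582 : allR t1690_rf 352792 6 (1582 * 2 ^ 6) = true := by decide +kernel
theorem t1690_rchk_1583 : allR t1690_rf 352792 6 (1583 * 2 ^ 6) = true := by decide +kernel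
theorem t1690_rchk_1584 : allR t1690_rf 352792 6 (1584 * 2 ^ 6) = true := by decide +kernel
theorem t1690_rchk_1585 : allR t1690_rf 352792 6 (1585 * 2 ^ 6) = true := by decide +kernel
theorem t1690_rchk_1586 : allR t1690_rf 352792 6 (1586 * 2 ^ 6) = true := by decide +kernel
theorem t1690_rchk_1587 : allR t1690_rf 352792 6 (1587 * 2 ^ 6) = true := by decide +kernel
theorem t1690_rchk_1588 : allR t1690_rf 352792 6 (1588 * 2 ^ 6) = true := by decide +kernel
theorem t1690_rchk_1589 : allR t1690_rf 352792 6 (1589 * 2 ^ 6) = true := by decide +kernel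
theorem t1690_rchk_1590 : allR t1690_rf 352792 6 (1590 * 2 ^ 6) = true := by decide +kernel
theorem t1690_rchk_1591 : allR t1690_rf 352792 6 (1591 * 2 ^ 6) = true := by decide +kernel
theorem t1690_rchk_1592 : allR t1690_rf 352792 6 (1592 * 2 ^ 6) = true := by decide +kernel
theorem t1690_rchk_1593 : allR t1690_rf 352792 6 (1593 * 2 ^ 6) = true := by decide +kernel
theorem t1690_rchk_1594 : allR t1690_rf 352792 6 (1594 * 2 ^ 6) = true := by decide +kernel
theorem t1690_rchk_1595 : allR t1690_rf 352792 6 (1595 * 2 ^ 6) = true := by decide +kernel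
theorem t1690_rchk_1596 : allR t1690_rf 352792 6 (1596 * 2 ^ 6) = true := by decide +kernel
theorem t1690_rchk_1597 : allR t1690_rf 352792 6 (1597 * 2 ^ 6) = true := by decide +kernel
theorem t1690_rchk_1598 : allR t1690_rf 352792 6 (1598 * 2 ^ 6) = true := by decide +kernel
theorem t1690_rchk_1599 : allR t1690_rf 352792 6 (1599 * 2 ^ 6) = true := by decide +kernel

theorem t1690_rfile_19 : ∀ k, k < 1600 → 1520 ≤ k → allR t1690_rf 352792 6 (k * 2 ^ 6) = true := by
  intro k h1 h2
  interval_cases k
  · exact t1690_rchk_1520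
  · exact t1690_rchk_1521
  · exact t1690_rchk_1522
  · exact t1690_rchk_1523
  · exact t1690_rchk_1524
  · exact t1690_rchk_1525
  · exact t1690_rchk_1526
  · exact t1690_rchk_1527
  · exact t1690_rchk_1528
  · exact t1690_rchk_1529
  · exact t1690_rchk_1530
  · exact t1690_rchk_1531
  · exact t1690_rchk_1532
  · exact t1690_rchk_1533
  · exact t1690_rchk_1534
  · exact t1690_rchk_1535
  · exact t1690_rchk_1536
  · exact t1690_rchk_1537
  · exact t1690_rchk_1538
  · exact t1690_rchk_1539
  · exact t1690_rchk_1540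
  · exact t1690_rchk_1541
  · exact t1690_rchk_1542
  · exact t1690_rchk_1543
  · exact t1690_rchk_1544
  · exact t1690_rchk_1545
  · exact t1690_rchk_1546
  · exact t1690_rchk_1547
  · exact t1690_rchk_1548
  · exact t1690_rchk_1549
  · exact t1690_rchk_1550
  · exact t1690_rchk_1551
  · exact t1690_rchk_1552
  · exact t1690_rchk_1553
  · exact t1690_rchk_1554
  · exact t1690_rchk_1555
  · exact t1690_rchk_1556
  · exact t1690_rchk_1557
  · exact t1690_rchk_1558
  · exact t1690_rchk_1559
  · exact t1690_rchk_1560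
  · exact t1690_rchk_1561
  · exact t1690_rchk_1562
  · exact t1690_rchk_1563
  · exact t1690_rchk_1564
  · exact t1690_rchk_1565
  · exact t1690_rchk_1566
  · exact t1690_rchk_1567
  · exact t1690_rchk_1568
  · exact t1690_rchk_1569
  · exact t1690_rchk_1570
  · exact t1690_rchk_1571
  · exact t1690_rchk_1572
  · exact t1690_rchk_1573
  · exact t1690_rchk_1574
  · exact t1690_rchk_1575
  · exact t1690_rchk_1576
  · exact t1690_rchk_1577
  · exact t1690_rchk_1578
  · exact t1690_rchk_1579
  · exact t1690_rchk_1580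
  · exact t1690_rchk_1581
  · exact t1690_rchk_1582
  · exact t1690_rchk_1583
  · exact t1690_rchk_1584
  · exact t1690_rchk_1585
  · exact t1690_rchk_1586
  · exact t1690_rchk_1587
  · exact t1690_rchk_1588
  · exact t1690_rchk_1589
  · exact t1690_rchk_1590
  · exact t1690_rchk_1591
  · exact t1690_rchk_1592
  · exact t1690_rchk_1593
  · exact t1690_rchk_1594
  · exact t1690_rchk_1595
  · exact t1690_rchk_1596
  · exact t1690_rchk_1597
  · exact t1690_rchk_1598
  · exact t1690_rchk_1599

end Cfsg.Agent.H35
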