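import Cfsg.Agent.H35.T1690.RTab

set_option autoImplicit false
set_option linter.all false
set_option Elab.async false

namespace Cfsg.Agent.H35

theorem t1690_rchk_160 : allR t1690_rf 352792 6 (160 * 2 ^ 6) = true := by decide +kernel
theorem t1690_rchk_161 : allR t1690_rf 352792 6 (161 * 2 ^ 6) = true := by decide +kernel
theorem t1690_rchk_162 : allR t1690_rf 352792 6 (162 * 2 ^ 6) = true := by decide +kernel
theorem t1690_rchk_163 : allR t1690_rf 352792 6 (163 * 2 ^ 6) = true := by decide +kernel
theorem t1690_rchk_164 : allR t1690_rf 352792 6 (164 * 2 ^ 6) = true := by decide +kernel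
theorem t1690_rchk_165 : allR t1690_rf 352792 6 (165 * 2 ^ 6) = true := by decide +kernel
theorem t1690_rchk_166 : allR t1690_rf 352792 6 (166 * 2 ^ 6) = true := by decide +kernel
theorem t1690_rchk_167 : allR t1690_rf 352792 6 (167 * 2 ^ 6) = true := by decide +kernel
theorem t1690_rchk_168 : allR t1690_rf 352792 6 (168 * 2 ^ 6) = true := by decide +kernel
theorem t1690_rchk_169 : allR t1690_rf 352792 6 (169 * 2 ^ 6) = true := by decide +kernel
theorem t1690_rchk_170 : allR t1690_rf 352792 6 (170 * 2 ^ 6) = true := by decide +kernel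
theorem t1690_rchk_171 : allR t1690_rf 352792 6 (171 * 2 ^ 6) = true := by decide +kernel
theorem t1690_rchk_172 : allR t1690_rf 352792 6 (172 * 2 ^ 6) = true := by decide +kernel
theorem t1690_rchk_173 : allR t1690_rf 352792 6 (173 * 2 ^ 6) = true := by decide +kernel
theorem t1690_rchk_174 : allR t1690_rf 352792 6 (174 * 2 ^ 6) = true := by decide +kernel
theorem t1690_rchk_175 : allR t1690_rf 352792 6 (175 * 2 ^ 6) = true := by decide +kernel
theorem t1690_rchk_176 : allR t1690_rf 352792 6 (176 * 2 ^ 6) = true := by decide +kernel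
theorem t1690_rchk_177 : allR t1690_rf 352792 6 (177 * 2 ^ 6) = true := by decide +kernel
theorem t1690_rchk_178 : allR t1690_rf 352792 6 (178 * 2 ^ 6) = true := by decide +kernel
theorem t1690_rchk_179 : allR t1690_rf 352792 6 (179 * 2 ^ 6) = true := by decide +kernel
theorem t1690_rchk_180 : allR t1690_rf 352792 6 (180 * 2 ^ 6) = true := by decide +kernel
theorem t1690_rchk_181 : allR t1690_rf 352792 6 (181 * 2 ^ 6) = true := by decide +kernel
theorem t1690_rchk_182 : allR t1690_rf 352792 6 (182 * 2 ^ 6) = true := by decide +kernel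
theorem t1690_rchk_183 : allR t1690_rf 352792 6 (183 * 2 ^ 6) = true := by decide +kernel
theorem t1690_rchk_184 : allR t1690_rf 352792 6 (184 * 2 ^ 6) = true := by decide +kernel
theorem t1690_rchk_185 : allR t1690_rf 352792 6 (185 * 2 ^ 6) = true := by decide +kernel
theorem t1690_rchk_186 : allR t1690_rf 352792 6 (186 * 2 ^ 6) = true := by decide +kernel
theorem t1690_rchk_187 : allR t1690_rf 352792 6 (187 * 2 ^ 6) = true := by decide +kernel
theorem t1690_rchk_188 : allR t1690_rf 352792 6 (188 * 2 ^ 6) = true := by decide +kernel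
theorem t1690_rchk_189 : allR t1690_rf 352792 6 (189 * 2 ^ 6) = true := by decide +kernel
theorem t1690_rchk_190 : allR t1690_rf 352792 6 (190 * 2 ^ 6) = true := by decide +kernel
theorem t1690_rchk_191 : allR t1690_rf 352792 6 (191 * 2 ^ 6) = true := by decide +kernel
theorem t1690_rchk_192 : allR t1690_rf 352792 6 (192 * 2 ^ 6) = true := by decide +kernel
theorem t1690_rchk_193 : allR t1690_rf 352792 6 (193 * 2 ^ 6) = true := by decide +kernel
theorem t1690_rchk_194 : allR t1690_rf 352792 6 (194 * 2 ^ 6) = true := by decide +kernel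
theorem t1690_rchk_195 : allR t1690_rf 352792 6 (195 * 2 ^ 6) = true := by decide +kernel
theorem t1690_rchk_196 : allR t1690_rf 352792 6 (196 * 2 ^ 6) = true := by decide +kernel
theorem t1690_rchk_197 : allR t1690_rf 352792 6 (197 * 2 ^ 6) = true := by decide +kernel
theorem t1690_rchk_198 : allR t1690_rf 352792 6 (198 * 2 ^ 6) = true := by decide +kernel
theorem t1690_rchk_199 : allR t1690_rf 352792 6 (199 * 2 ^ 6) = true := by decide +kernel
theorem t1690_rchk_200 : allR t1690_rf 352792 6 (200 * 2 ^ 6) = true := by decide +kernel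
theorem t1690_rchk_201 : allR t1690_rf 352792 6 (201 * 2 ^ 6) = true := by decide +kernel
theorem t1690_rchk_202 : allR t1690_rf 352792 6 (202 * 2 ^ 6) = true := by decide +kernel
theorem t1690_rchk_203 : allR t1690_rf 352792 6 (203 * 2 ^ 6) = true := by decide +kernel
theorem t1690_rchk_204 : allR t1690_rf 352792 6 (204 * 2 ^ 6) = true := by decide +kernel
theorem t1690_rchk_205 : allR t1690_rf 352792 6 (205 * 2 ^ 6) = true := by decide +kernel
theorem t1690_rchk_206 : allR t1690_rf 352792 6 (206 * 2 ^ 6) = true := by decide +kernel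
theorem t1690_rchk_207 : allR t1690_rf 352792 6 (207 * 2 ^ 6) = true := by decide +kernel
theorem t1690_rchk_208 : allR t1690_rf 352792 6 (208 * 2 ^ 6) = true := by decide +kernel
theorem t1690_rchk_209 : allR t1690_rf 352792 6 (209 * 2 ^ 6) = true := by decide +kernel
theorem t1690_rchk_210 : allR t1690_rf 352792 6 (210 * 2 ^ 6) = true := by decide +kernel
theorem t1690_rchk_211 : allR t1690_rf 352792 6 (211 * 2 ^ 6) = true := by decide +kernel
theorem t1690_rchk_212 : allR t1690_rf 352792 6 (212 * 2 ^ 6) = true := by decide +kernel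
theorem t1690_rchk_213 : allR t1690_rf 352792 6 (213 * 2 ^ 6) = true := by decide +kernel
theorem t1690_rchk_214 : allR t1690_rf 352792 6 (214 * 2 ^ 6) = true := by decide +kernel
theorem t1690_rchk_215 : allR t1690_rf 352792 6 (215 * 2 ^ 6) = true := by decide +kernel
theorem t1690_rchk_216 : allR t1690_rf 352792 6 (216 * 2 ^ 6) = true := by decide +kernel
theorem t1690_rchk_217 : allR t1690_rf 352792 6 (217 * 2 ^ 6) = true := by decide +kernel
theorem t1690_rchk_218 : allR t1690_rf 352792 6 (218 * 2 ^ 6) = true := by decide +kernel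
theorem t1690_rchk_219 : allR t1690_rf 352792 6 (219 * 2 ^ 6) = true := by decide +kernel
theorem t1690_rchk_220 : allR t1690_rf 352792 6 (220 * 2 ^ 6) = true := by decide +kernel
theorem t1690_rchk_221 : allR t1690_rf 352792 6 (221 * 2 ^ 6) = true := by decide +kernel
theorem t1690_rchk_222 : allR t1690_rf 352792 6 (222 * 2 ^ 6) = true := by decide +kernel
theorem t1690_rchk_223 : allR t1690_rf 352792 6 (223 * 2 ^ 6) = true := by decide +kernel
theorem t1690_rchk_224 : allR t1690_rf 352792 6 (224 * 2 ^ 6) = true := by decide +kernel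
theorem t1690_rchk_225 : allR t1690_rf 352792 6 (225 * 2 ^ 6) = true := by decide +kernel
theorem t1690_rchk_226 : allR t1690_rf 352792 6 (226 * 2 ^ 6) = true := by decide +kernel
theorem t1690_rchk_227 : allR t1690_rf 352792 6 (227 * 2 ^ 6) = true := by decide +kernel
theorem t1690_rchk_228 : allR t1690_rf 352792 6 (228 * 2 ^ 6) = true := by decide +kernel
theorem t1690_rchk_229 : allR t1690_rf 352792 6 (229 * 2 ^ 6) = true := by decide +kernel
theorem t1690_rchk_230 : allR t1690_rf 352792 6 (230 * 2 ^ 6) = true := by decide +kernel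
theorem t1690_rchk_231 : allR t1690_rf 352792 6 (231 * 2 ^ 6) = true := by decide +kernel
theorem t1690_rchk_232 : allR t1690_rf 352792 6 (232 * 2 ^ 6) = true := by decide +kernel
theorem t1690_rchk_233 : allR t1690_rf 352792 6 (233 * 2 ^ 6) = true := by decide +kernel
theorem t1690_rchk_234 : allR t1690_rf 352792 6 (234 * 2 ^ 6) = true := by decide +kernel
theorem t1690_rchk_235 : allR t1690_rf 352792 6 (235 * 2 ^ 6) = true := by decide +kernel
theorem t1690_rchk_236 : allR t1690_rf 352792 6 (236 * 2 ^ 6) = true := by decide +kernel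
theorem t1690_rchk_237 : allR t1690_rf 352792 6 (237 * 2 ^ 6) = true := by decide +kernel
theorem t1690_rchk_238 : allR t1690_rf 352792 6 (238 * 2 ^ 6) = true := by decide +kernel
theorem t1690_rchk_239 : allR t1690_rf 352792 6 (239 * 2 ^ 6) = true := by decide +kernel

theorem t1690_rfile_2 : ∀ k, k < 240 → 160 ≤ k → allR t1690_rf 352792 6 (k * 2 ^ 6) = true := by
  intro k h1 h2
  interval_cases k
  · exact t1690_rchk_160
  · exact t1690_rchk_161
  · exact t1690_rchk_162
  · exact t1690_rchk_163
  · exact t1690_rchk_164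
  · exact t1690_rchk_165
  · exact t1690_rchk_166
  · exact t1690_rchk_167
  · exact t1690_rchk_168
  · exact t1690_rchk_169
  · exact t1690_rchk_170
  · exact t1690_rchk_171
  · exact t1690_rchk_172
  · exact t1690_rchk_173
  · exact t1690_rchk_174
  · exact t1690_rchk_175
  · exact t1690_rchk_176
  · exact t1690_rchk_177
  · exact t1690_rchk_178
  · exact t1690_rchk_179
  · exact t1690_rchk_180
  · exact t1690_rchk_181
  · exact t1690_rchk_182
  · exact t1690_rchk_183
  · exact t1690_rchk_184
  · exact t1690_rchk_185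
  · exact t1690_rchk_186
  · exact t1690_rchk_187
  · exact t1690_rchk_188
  · exact t1690_rchk_189
  · exact t1690_rchk_190
  · exact t1690_rchk_191
  · exact t1690_rchk_192
  · exact t1690_rchk_193
  · exact t1690_rchk_194
  · exact t1690_rchk_195
  · exact t1690_rchk_196
  · exact t1690_rchk_197
  · exact t1690_rchk_198
  · exact t1690_rchk_199
  · exact t1690_rchk_200
  · exact t1690_rchk_201
  · exact t1690_rchk_202
  · exact t1690_rchk_203
  · exact t1690_rchk_204
  · exact t1690_rchk_205
  · exact t1690_rchk_206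
  · exact t1690_rchk_207
  · exact t1690_rchk_208
  · exact t1690_rchk_209
  · exact t1690_rchk_210
  · exact t1690_rchk_211
  · exact t1690_rchk_212
  · exact t1690_rchk_213
  · exact t1690_rchk_214
  · exact t1690_rchk_215
  · exact t1690_rchk_216
  · exact t1690_rchk_217
  · exact t1690_rchk_218
  · exact t1690_rchk_219
  · exact t1690_rchk_220
  · exact t1690_rchk_221
  · exact t1690_rchk_222
  · exact t1690_rchk_223
  · exact t1690_rchk_224
  · exact t1690_rchk_225
  · exact t1690_rchk_226
  · exact t1690_rchk_227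
  · exact t1690_rchk_228
  · exact t1690_rchk_229
  · exact t1690_rchk_230
  · exact t1690_rchk_231
  · exact t1690_rchk_232
  · exact t1690_rchk_233
  · exact t1690_rchk_234
  · exact t1690_rchk_235
  · exact t1690_rchk_236
  · exact t1690_rchk_237
  · exact t1690_rchk_238
  · exact t1690_rchk_239

end Cfsg.Agent.H35
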