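import Cfsg.Agent.H35.T1690.RTab

set_option autoImplicit false
set_option linter.all false
set_option Elab.async false

namespace Cfsg.Agent.H35

theorem t1690_rchk_1760 : allR t1690_rf 352792 6 (1760 * 2 ^ 6) = true := by decide +kernel
theorem t1690_rchk_1761 : allR t1690_rf 352792 6 (1761 * 2 ^ 6) = true := by decide +kernel
theorem t1690_rchk_1762 : allR t1690_rf 352792 6 (1762 * 2 ^ 6) = true := by decide +kernel
theorem t1690_rchk_1763 : allR t1690_rf 352792 6 (1763 * 2 ^ 6) = true := by decide +kernel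
theorem t1690_rchk_1764 : allR t1690_rf 352792 6 (1764 * 2 ^ 6) = true := by decide +kernel
theorem t1690_rchk_1765 : allR t1690_rf 352792 6 (1765 * 2 ^ 6) = true := by decide +kernel
theorem t1690_rchk_1766 : allR t1690_rf 352792 6 (1766 * 2 ^ 6) = true := by decide +kernel
theorem t1690_rchk_1767 : allR t1690_rf 352792 6 (1767 * 2 ^ 6) = true := by decide +kernel
theorem t1690_rchk_1768 : allR t1690_rf 352792 6 (1768 * 2 ^ 6) = true := by decide +kernel
theorem t1690_rchk_1769 : allR t1690_rf 352792 6 (1769 * 2 ^ 6) = true := by decide +kernel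
theorem t1690_rchk_1770 : allR t1690_rf 352792 6 (1770 * 2 ^ 6) = true := by decide +kernel
theorem t1690_rchk_1771 : allR t1690_rf 352792 6 (1771 * 2 ^ 6) = true := by decide +kernel
theorem t1690_rchk_1772 : allR t1690_rf 352792 6 (1772 * 2 ^ 6) = true := by decide +kernel
theorem t1690_rchk_1773 : allR t1690_rf 352792 6 (1773 * 2 ^ 6) = true := by decide +kernel
theorem t1690_rchk_1774 : allR t1690_rf 352792 6 (1774 * 2 ^ 6) = true := by decide +kernel
theorem t1690_rchk_1775 : allR t1690_rf 352792 6 (1775 * 2 ^ 6) = true := by decide +kernel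
theorem t1690_rchk_1776 : allR t1690_rf 352792 6 (1776 * 2 ^ 6) = true := by decide +kernel
theorem t1690_rchk_1777 : allR t1690_rf 352792 6 (1777 * 2 ^ 6) = true := by decide +kernel
theorem t1690_rchk_1778 : allR t1690_rf 352792 6 (1778 * 2 ^ 6) = true := by decide +kernel
theorem t1690_rchk_1779 : allR t1690_rf 352792 6 (1779 * 2 ^ 6) = true := by decide +kernel
theorem t1690_rchk_1780 : allR t1690_rf 352792 6 (1780 * 2 ^ 6) = true := by decide +kernel
theorem t1690_rchk_1781 : allR t1690_rf 352792 6 (1781 * 2 ^ 6) = true := by decide +kernel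
theorem t1690_rchk_1782 : allR t1690_rf 352792 6 (1782 * 2 ^ 6) = true := by decide +kernel
theorem t1690_rchk_1783 : allR t1690_rf 352792 6 (1783 * 2 ^ 6) = true := by decide +kernel
theorem t1690_rchk_1784 : allR t1690_rf 352792 6 (1784 * 2 ^ 6) = true := by decide +kernel
theorem t1690_rchk_1785 : allR t1690_rf 352792 6 (1785 * 2 ^ 6) = true := by decide +kernel
theorem t1690_rchk_1786 : allR t1690_rf 352792 6 (1786 * 2 ^ 6) = true := by decide +kernel
theorem t1690_rchk_1787 : allR t1690_rf 352792 6 (1787 * 2 ^ 6) = true := by decide +kernel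
theorem t1690_rchk_1788 : allR t1690_rf 352792 6 (1788 * 2 ^ 6) = true := by decide +kernel
theorem t1690_rchk_1789 : allR t1690_rf 352792 6 (1789 * 2 ^ 6) = true := by decide +kernel
theorem t1690_rchk_1790 : allR t1690_rf 352792 6 (1790 * 2 ^ 6) = true := by decide +kernel
theorem t1690_rchk_1791 : allR t1690_rf 352792 6 (1791 * 2 ^ 6) = true := by decide +kernel
theorem t1690_rchk_1792 : allR t1690_rf 352792 6 (1792 * 2 ^ 6) = true := by decide +kernel
theorem t1690_rchk_1793 : allR t1690_rf 352792 6 (1793 * 2 ^ 6) = true := by decide +kernel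
theorem t1690_rchk_1794 : allR t1690_rf 352792 6 (1794 * 2 ^ 6) = true := by decide +kernel
theorem t1690_rchk_1795 : allR t1690_rf 352792 6 (1795 * 2 ^ 6) = true := by decide +kernel
theorem t1690_rchk_1796 : allR t1690_rf 352792 6 (1796 * 2 ^ 6) = true := by decide +kernel
theorem t1690_rchk_1797 : allR t1690_rf 352792 6 (1797 * 2 ^ 6) = true := by decide +kernel
theorem t1690_rchk_1798 : allR t1690_rf 352792 6 (1798 * 2 ^ 6) = true := by decide +kernel
theorem t1690_rchk_1799 : allR t1690_rf 352792 6 (1799 * 2 ^ 6) = true := by decide +kernel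
theorem t1690_rchk_1800 : allR t1690_rf 352792 6 (1800 * 2 ^ 6) = true := by decide +kernel
theorem t1690_rchk_1801 : allR t1690_rf 352792 6 (1801 * 2 ^ 6) = true := by decide +kernel
theorem t1690_rchk_1802 : allR t1690_rf 352792 6 (1802 * 2 ^ 6) = true := by decide +kernel
theorem t1690_rchk_1803 : allR t1690_rf 352792 6 (1803 * 2 ^ 6) = true := by decide +kernel
theorem t1690_rchk_1804 : allR t1690_rf 352792 6 (1804 * 2 ^ 6) = true := by decide +kernel
theorem t1690_rchk_1805 : allR t1690_rf 352792 6 (1805 * 2 ^ 6) = true := by decide +kernel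
theorem t1690_rchk_1806 : allR t1690_rf 352792 6 (1806 * 2 ^ 6) = true := by decide +kernel
theorem t1690_rchk_1807 : allR t1690_rf 352792 6 (1807 * 2 ^ 6) = true := by decide +kernel
theorem t1690_rchk_1808 : allR t1690_rf 352792 6 (1808 * 2 ^ 6) = true := by decide +kernel
theorem t1690_rchk_1809 : allR t1690_rf 352792 6 (1809 * 2 ^ 6) = true := by decide +kernel
theorem t1690_rchk_1810 : allR t1690_rf 352792 6 (1810 * 2 ^ 6) = true := by decide +kernel
theorem t1690_rchk_1811 : allR t1690_rf 352792 6 (1811 * 2 ^ 6) = true := by decide +kernel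
theorem t1690_rchk_1812 : allR t1690_rf 352792 6 (1812 * 2 ^ 6) = true := by decide +kernel
theorem t1690_rchk_1813 : allR t1690_rf 352792 6 (1813 * 2 ^ 6) = true := by decide +kernel
theorem t1690_rchk_1814 : allR t1690_rf 352792 6 (1814 * 2 ^ 6) = true := by decide +kernel
theorem t1690_rchk_1815 : allR t1690_rf 352792 6 (1815 * 2 ^ 6) = true := by decide +kernel
theorem t1690_rchk_1816 : allR t1690_rf 352792 6 (1816 * 2 ^ 6) = true := by decide +kernel
theorem t1690_rchk_1817 : allR t1690_rf 352792 6 (1817 * 2 ^ 6) = true := by decide +kernel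
theorem t1690_rchk_1818 : allR t1690_rf 352792 6 (1818 * 2 ^ 6) = true := by decide +kernel
theorem t1690_rchk_1819 : allR t1690_rf 352792 6 (1819 * 2 ^ 6) = true := by decide +kernel
theorem t1690_rchk_1820 : allR t1690_rf 352792 6 (1820 * 2 ^ 6) = true := by decide +kernel
theorem t1690_rchk_1821 : allR t1690_rf 352792 6 (1821 * 2 ^ 6) = true := by decide +kernel
theorem t1690_rchk_1822 : allR t1690_rf 352792 6 (1822 * 2 ^ 6) = true := by decide +kernel
theorem t1690_rchk_1823 : allR t1690_rf 352792 6 (1823 * 2 ^ 6) = true := by decide +kernel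
theorem t1690_rchk_1824 : allR t1690_rf 352792 6 (1824 * 2 ^ 6) = true := by decide +kernel
theorem t1690_rchk_1825 : allR t1690_rf 352792 6 (1825 * 2 ^ 6) = true := by decide +kernel
theorem t1690_rchk_1826 : allR t1690_rf 352792 6 (1826 * 2 ^ 6) = true := by decide +kernel
theorem t1690_rchk_1827 : allR t1690_rf 352792 6 (1827 * 2 ^ 6) = true := by decide +kernel
theorem t1690_rchk_1828 : allR t1690_rf 352792 6 (1828 * 2 ^ 6) = true := by decide +kernel
theorem t1690_rchk_1829 : allR t1690_rf 352792 6 (1829 * 2 ^ 6) = true := by decide +kernel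
theorem t1690_rchk_1830 : allR t1690_rf 352792 6 (1830 * 2 ^ 6) = true := by decide +kernel
theorem t1690_rchk_1831 : allR t1690_rf 352792 6 (1831 * 2 ^ 6) = true := by decide +kernel
theorem t1690_rchk_1832 : allR t1690_rf 352792 6 (1832 * 2 ^ 6) = true := by decide +kernel
theorem t1690_rchk_1833 : allR t1690_rf 352792 6 (1833 * 2 ^ 6) = true := by decide +kernel
theorem t1690_rchk_1834 : allR t1690_rf 352792 6 (1834 * 2 ^ 6) = true := by decide +kernel
theorem t1690_rchk_1835 : allR t1690_rf 352792 6 (1835 * 2 ^ 6) = true := by decide +kernel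
theorem t1690_rchk_1836 : allR t1690_rf 352792 6 (1836 * 2 ^ 6) = true := by decide +kernel
theorem t1690_rchk_1837 : allR t1690_rf 352792 6 (1837 * 2 ^ 6) = true := by decide +kernel
theorem t1690_rchk_1838 : allR t1690_rf 352792 6 (1838 * 2 ^ 6) = true := by decide +kernel
theorem t1690_rchk_1839 : allR t1690_rf 352792 6 (1839 * 2 ^ 6) = true := by decide +kernel

theorem t1690_rfile_22 : ∀ k, k < 1840 → 1760 ≤ k → allR t1690_rf 352792 6 (k * 2 ^ 6) = true := by
  intro k h1 h2
  interval_cases k
  · exact t1690_rchk_1760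
  · exact t1690_rchk_1761
  · exact t1690_rchk_1762
  · exact t1690_rchk_1763
  · exact t1690_rchk_1764
  · exact t1690_rchk_1765
  · exact t1690_rchk_1766
  · exact t1690_rchk_1767
  · exact t1690_rchk_1768
  · exact t1690_rchk_1769
  · exact t1690_rchk_1770
  · exact t1690_rchk_1771
  · exact t1690_rchk_1772
  · exact t1690_rchk_1773
  · exact t1690_rchk_1774
  · exact t1690_rchk_1775
  · exact t1690_rchk_1776
  · exact t1690_rchk_1777
  · exact t1690_rchk_1778
  · exact t1690_rchk_1779
  · exact t1690_rchk_1780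
  · exact t1690_rchk_1781
  · exact t1690_rchk_1782
  · exact t1690_rchk_1783
  · exact t1690_rchk_1784
  · exact t1690_rchk_1785
  · exact t1690_rchk_1786
  · exact t1690_rchk_1787
  · exact t1690_rchk_1788
  · exact t1690_rchk_1789
  · exact t1690_rchk_1790
  · exact t1690_rchk_1791
  · exact t1690_rchk_1792
  · exact t1690_rchk_1793
  · exact t1690_rchk_1794
  · exact t1690_rchk_1795
  · exact t1690_rchk_1796
  · exact t1690_rchk_1797
  · exact t1690_rchk_1798
  · exact t1690_rchk_1799
  · exact t1690_rchk_1800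
  · exact t1690_rchk_1801
  · exact t1690_rchk_1802
  · exact t1690_rchk_1803
  · exact t1690_rchk_1804
  · exact t1690_rchk_1805
  · exact t1690_rchk_1806
  · exact t1690_rchk_1807
  · exact t1690_rchk_1808
  · exact t1690_rchk_1809
  · exact t1690_rchk_1810
  · exact t1690_rchk_1811
  · exact t1690_rchk_1812
  · exact t1690_rchk_1813
  · exact t1690_rchk_1814
  · exact t1690_rchk_1815
  · exact t1690_rchk_1816
  · exact t1690_rchk_1817
  · exact t1690_rchk_1818
  · exact t1690_rchk_1819
  · exact t1690_rchk_1820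
  · exact t1690_rchk_1821
  · exact t1690_rchk_1822
  · exact t1690_rchk_1823
  · exact t1690_rchk_1824
  · exact t1690_rchk_1825
  · exact t1690_rchk_1826
  · exact t1690_rchk_1827
  · exact t1690_rchk_1828
  · exact t1690_rchk_1829
  · exact t1690_rchk_1830
  · exact t1690_rchk_1831
  · exact t1690_rchk_1832
  · exact t1690_rchk_1833
  · exact t1690_rchk_1834
  · exact t1690_rchk_1835
  · exact t1690_rchk_1836
  · exact t1690_rchk_1837
  · exact t1690_rchk_1838
  · exact t1690_rchk_1839

end Cfsg.Agent.H35
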