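import Cfsg.Agent.H35.T1690.RTab

set_option autoImplicit false
set_option linter.all false
set_option Elab.async false

namespace Cfsg.Agent.H35

theorem t1690_rchk_1920 : allR t1690_rf 352792 6 (1920 * 2 ^ 6) = true := by decide +kernel
theorem t1690_rchk_1921 : allR t1690_rf 352792 6 (1921 * 2 ^ 6) = true := by decide +kernel
theorem t1690_rchk_1922 : allR t1690_rf 352792 6 (1922 * 2 ^ 6) = true := by decide +kernel
theorem t1690_rchk_1923 : allR t1690_rf 352792 6 (1923 * 2 ^ 6) = true := by decide +kernel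
theorem t1690_rchk_1924 : allR t1690_rf 352792 6 (1924 * 2 ^ 6) = true := by decide +kernel
theorem t1690_rchk_1925 : allR t1690_rf 352792 6 (1925 * 2 ^ 6) = true := by decide +kernel
theorem t1690_rchk_1926 : allR t1690_rf 352792 6 (1926 * 2 ^ 6) = true := by decide +kernel
theorem t1690_rchk_1927 : allR t1690_rf 352792 6 (1927 * 2 ^ 6) = true := by decide +kernel
theorem t1690_rchk_1928 : allR t1690_rf 352792 6 (1928 * 2 ^ 6) = true := by decide +kernel
theorem t1690_rchk_1929 : allR t1690_rf 352792 6 (1929 * 2 ^ 6) = true := by decide +kernel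
theorem t1690_rchk_1930 : allR t1690_rf 352792 6 (1930 * 2 ^ 6) = true := by decide +kernel
theorem t1690_rchk_1931 : allR t1690_rf 352792 6 (1931 * 2 ^ 6) = true := by decide +kernel
theorem t1690_rchk_1932 : allR t1690_rf 352792 6 (1932 * 2 ^ 6) = true := by decide +kernel
theorem t1690_rchk_1933 : allR t1690_rf 352792 6 (1933 * 2 ^ 6) = true := by decide +kernel
theorem t1690_rchk_1934 : allR t1690_rf 352792 6 (1934 * 2 ^ 6) = true := by decide +kernel
theorem t1690_rchk_1935 : allR t1690_rf 352792 6 (1935 * 2 ^ 6) = true := by decide +kernel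
theorem t1690_rchk_1936 : allR t1690_rf 352792 6 (1936 * 2 ^ 6) = true := by decide +kernel
theorem t1690_rchk_1937 : allR t1690_rf 352792 6 (1937 * 2 ^ 6) = true := by decide +kernel
theorem t1690_rchk_1938 : allR t1690_rf 352792 6 (1938 * 2 ^ 6) = true := by decide +kernel
theorem t1690_rchk_1939 : allR t1690_rf 352792 6 (1939 * 2 ^ 6) = true := by decide +kernel
theorem t1690_rchk_1940 : allR t1690_rf 352792 6 (1940 * 2 ^ 6) = true := by decide +kernel
theorem t1690_rchk_1941 : allR t1690_rf 352792 6 (1941 * 2 ^ 6) = true := by decide +kernel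
theorem t1690_rchk_1942 : allR t1690_rf 352792 6 (1942 * 2 ^ 6) = true := by decide +kernel
theorem t1690_rchk_1943 : allR t1690_rf 352792 6 (1943 * 2 ^ 6) = true := by decide +kernel
theorem t1690_rchk_1944 : allR t1690_rf 352792 6 (1944 * 2 ^ 6) = true := by decide +kernel
theorem t1690_rchk_1945 : allR t1690_rf 352792 6 (1945 * 2 ^ 6) = true := by decide +kernel
theorem t1690_rchk_1946 : allR t1690_rf 352792 6 (1946 * 2 ^ 6) = true := by decide +kernel
theorem t1690_rchk_1947 : allR t1690_rf 352792 6 (1947 * 2 ^ 6) = true := by decide +kernel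
theorem t1690_rchk_1948 : allR t1690_rf 352792 6 (1948 * 2 ^ 6) = true := by decide +kernel
theorem t1690_rchk_1949 : allR t1690_rf 352792 6 (1949 * 2 ^ 6) = true := by decide +kernel
theorem t1690_rchk_1950 : allR t1690_rf 352792 6 (1950 * 2 ^ 6) = true := by decide +kernel
theorem t1690_rchk_1951 : allR t1690_rf 352792 6 (1951 * 2 ^ 6) = true := by decide +kernel
theorem t1690_rchk_1952 : allR t1690_rf 352792 6 (1952 * 2 ^ 6) = true := by decide +kernel
theorem t1690_rchk_1953 : allR t1690_rf 352792 6 (1953 * 2 ^ 6) = true := by decide +kernel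
theorem t1690_rchk_1954 : allR t1690_rf 352792 6 (1954 * 2 ^ 6) = true := by decide +kernel
theorem t1690_rchk_1955 : allR t1690_rf 352792 6 (1955 * 2 ^ 6) = true := by decide +kernel
theorem t1690_rchk_1956 : allR t1690_rf 352792 6 (1956 * 2 ^ 6) = true := by decide +kernel
theorem t1690_rchk_1957 : allR t1690_rf 352792 6 (1957 * 2 ^ 6) = true := by decide +kernel
theorem t1690_rchk_1958 : allR t1690_rf 352792 6 (1958 * 2 ^ 6) = true := by decide +kernel
theorem t1690_rchk_1959 : allR t1690_rf 352792 6 (1959 * 2 ^ 6) = true := by decide +kernel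
theorem t1690_rchk_1960 : allR t1690_rf 352792 6 (1960 * 2 ^ 6) = true := by decide +kernel
theorem t1690_rchk_1961 : allR t1690_rf 352792 6 (1961 * 2 ^ 6) = true := by decide +kernel
theorem t1690_rchk_1962 : allR t1690_rf 352792 6 (1962 * 2 ^ 6) = true := by decide +kernel
theorem t1690_rchk_1963 : allR t1690_rf 352792 6 (1963 * 2 ^ 6) = true := by decide +kernel
theorem t1690_rchk_1964 : allR t1690_rf 352792 6 (1964 * 2 ^ 6) = true := by decide +kernel
theorem t1690_rchk_1965 : allR t1690_rf 352792 6 (1965 * 2 ^ 6) = true := by decide +kernel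
theorem t1690_rchk_1966 : allR t1690_rf 352792 6 (1966 * 2 ^ 6) = true := by decide +kernel
theorem t1690_rchk_1967 : allR t1690_rf 352792 6 (1967 * 2 ^ 6) = true := by decide +kernel
theorem t1690_rchk_1968 : allR t1690_rf 352792 6 (1968 * 2 ^ 6) = true := by decide +kernel
theorem t1690_rchk_1969 : allR t1690_rf 352792 6 (1969 * 2 ^ 6) = true := by decide +kernel
theorem t1690_rchk_1970 : allR t1690_rf 352792 6 (1970 * 2 ^ 6) = true := by decide +kernel
theorem t1690_rchk_1971 : allR t1690_rf 352792 6 (1971 * 2 ^ 6) = true := by decide +kernel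
theorem t1690_rchk_1972 : allR t1690_rf 352792 6 (1972 * 2 ^ 6) = true := by decide +kernel
theorem t1690_rchk_1973 : allR t1690_rf 352792 6 (1973 * 2 ^ 6) = true := by decide +kernel
theorem t1690_rchk_1974 : allR t1690_rf 352792 6 (1974 * 2 ^ 6) = true := by decide +kernel
theorem t1690_rchk_1975 : allR t1690_rf 352792 6 (1975 * 2 ^ 6) = true := by decide +kernel
theorem t1690_rchk_1976 : allR t1690_rf 352792 6 (1976 * 2 ^ 6) = true := by decide +kernel
theorem t1690_rchk_1977 : allR t1690_rf 352792 6 (1977 * 2 ^ 6) = true := by decide +kernel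
theorem t1690_rchk_1978 : allR t1690_rf 352792 6 (1978 * 2 ^ 6) = true := by decide +kernel
theorem t1690_rchk_1979 : allR t1690_rf 352792 6 (1979 * 2 ^ 6) = true := by decide +kernel
theorem t1690_rchk_1980 : allR t1690_rf 352792 6 (1980 * 2 ^ 6) = true := by decide +kernel
theorem t1690_rchk_1981 : allR t1690_rf 352792 6 (1981 * 2 ^ 6) = true := by decide +kernel
theorem t1690_rchk_1982 : allR t1690_rf 352792 6 (1982 * 2 ^ 6) = true := by decide +kernel
theorem t1690_rchk_1983 : allR t1690_rf 352792 6 (1983 * 2 ^ 6) = true := by decide +kernel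
theorem t1690_rchk_1984 : allR t1690_rf 352792 6 (1984 * 2 ^ 6) = true := by decide +kernel
theorem t1690_rchk_1985 : allR t1690_rf 352792 6 (1985 * 2 ^ 6) = true := by decide +kernel
theorem t1690_rchk_1986 : allR t1690_rf 352792 6 (1986 * 2 ^ 6) = true := by decide +kernel
theorem t1690_rchk_1987 : allR t1690_rf 352792 6 (1987 * 2 ^ 6) = true := by decide +kernel
theorem t1690_rchk_1988 : allR t1690_rf 352792 6 (1988 * 2 ^ 6) = true := by decide +kernel
theorem t1690_rchk_1989 : allR t1690_rf 352792 6 (1989 * 2 ^ 6) = true := by decide +kernel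
theorem t1690_rchk_1990 : allR t1690_rf 352792 6 (1990 * 2 ^ 6) = true := by decide +kernel
theorem t1690_rchk_1991 : allR t1690_rf 352792 6 (1991 * 2 ^ 6) = true := by decide +kernel
theorem t1690_rchk_1992 : allR t1690_rf 352792 6 (1992 * 2 ^ 6) = true := by decide +kernel
theorem t1690_rchk_1993 : allR t1690_rf 352792 6 (1993 * 2 ^ 6) = true := by decide +kernel
theorem t1690_rchk_1994 : allR t1690_rf 352792 6 (1994 * 2 ^ 6) = true := by decide +kernel
theorem t1690_rchk_1995 : allR t1690_rf 352792 6 (1995 * 2 ^ 6) = true := by decide +kernel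
theorem t1690_rchk_1996 : allR t1690_rf 352792 6 (1996 * 2 ^ 6) = true := by decide +kernel
theorem t1690_rchk_1997 : allR t1690_rf 352792 6 (1997 * 2 ^ 6) = true := by decide +kernel
theorem t1690_rchk_1998 : allR t1690_rf 352792 6 (1998 * 2 ^ 6) = true := by decide +kernel
theorem t1690_rchk_1999 : allR t1690_rf 352792 6 (1999 * 2 ^ 6) = true := by decide +kernel

theorem t1690_rfile_24 : ∀ k, k < 2000 → 1920 ≤ k → allR t1690_rf 352792 6 (k * 2 ^ 6) = true := by
  intro k h1 h2
  interval_cases k
  · exact t1690_rchk_1920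
  · exact t1690_rchk_1921
  · exact t1690_rchk_1922
  · exact t1690_rchk_1923
  · exact t1690_rchk_1924
  · exact t1690_rchk_1925
  · exact t1690_rchk_1926
  · exact t1690_rchk_1927
  · exact t1690_rchk_1928
  · exact t1690_rchk_1929
  · exact t1690_rchk_1930
  · exact t1690_rchk_1931
  · exact t1690_rchk_1932
  · exact t1690_rchk_1933
  · exact t1690_rchk_1934
  · exact t1690_rchk_1935
  · exact t1690_rchk_1936
  · exact t1690_rchk_1937
  · exact t1690_rchk_1938
  · exact t1690_rchk_1939
  · exact t1690_rchk_1940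
  · exact t1690_rchk_1941
  · exact t1690_rchk_1942
  · exact t1690_rchk_1943
  · exact t1690_rchk_1944
  · exact t1690_rchk_1945
  · exact t1690_rchk_1946
  · exact t1690_rchk_1947
  · exact t1690_rchk_1948
  · exact t1690_rchk_1949
  · exact t1690_rchk_1950
  · exact t1690_rchk_1951
  · exact t1690_rchk_1952
  · exact t1690_rchk_1953
  · exact t1690_rchk_1954
  · exact t1690_rchk_1955
  · exact t1690_rchk_1956
  · exact t1690_rchk_1957
  · exact t1690_rchk_1958
  · exact t1690_rchk_1959
  · exact t1690_rchk_1960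
  · exact t1690_rchk_1961
  · exact t1690_rchk_1962
  · exact t1690_rchk_1963
  · exact t1690_rchk_1964
  · exact t1690_rchk_1965
  · exact t1690_rchk_1966
  · exact t1690_rchk_1967
  · exact t1690_rchk_1968
  · exact t1690_rchk_1969
  · exact t1690_rchk_1970
  · exact t1690_rchk_1971
  · exact t1690_rchk_1972
  · exact t1690_rchk_1973
  · exact t1690_rchk_1974
  · exact t1690_rchk_1975
  · exact t1690_rchk_1976
  · exact t1690_rchk_1977
  · exact t1690_rchk_1978
  · exact t1690_rchk_1979
  · exact t1690_rchk_1980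
  · exact t1690_rchk_1981
  · exact t1690_rchk_1982
  · exact t1690_rchk_1983
  · exact t1690_rchk_1984
  · exact t1690_rchk_1985
  · exact t1690_rchk_1986
  · exact t1690_rchk_1987
  · exact t1690_rchk_1988
  · exact t1690_rchk_1989
  · exact t1690_rchk_1990
  · exact t1690_rchk_1991
  · exact t1690_rchk_1992
  · exact t1690_rchk_1993
  · exact t1690_rchk_1994
  · exact t1690_rchk_1995
  · exact t1690_rchk_1996
  · exact t1690_rchk_1997
  · exact t1690_rchk_1998
  · exact t1690_rchk_1999

end Cfsg.Agent.H35
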