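import Cfsg.Agent.H35.T1690.RTab

set_option autoImplicit false
set_option linter.all false
set_option Elab.async false

namespace Cfsg.Agent.H35

theorem t1690_rchk_2160 : allR t1690_rf 352792 6 (2160 * 2 ^ 6) = true := by decide +kernel
theorem t1690_rchk_2161 : allR t1690_rf 352792 6 (2161 * 2 ^ 6) = true := by decide +kernel
theorem t1690_rchk_2162 : allR t1690_rf 352792 6 (2162 * 2 ^ 6) = true := by decide +kernel
theorem t1690_rchk_2163 : allR t1690_rf 352792 6 (2163 * 2 ^ 6) = true := by decide +kernel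
theorem t1690_rchk_2164 : allR t1690_rf 352792 6 (2164 * 2 ^ 6) = true := by decide +kernel
theorem t1690_rchk_2165 : allR t1690_rf 352792 6 (2165 * 2 ^ 6) = true := by decide +kernel
theorem t1690_rchk_2166 : allR t1690_rf 352792 6 (2166 * 2 ^ 6) = true := by decide +kernel
theorem t1690_rchk_2167 : allR t1690_rf 352792 6 (2167 * 2 ^ 6) = true := by decide +kernel
theorem t1690_rchk_2168 : allR t1690_rf 352792 6 (2168 * 2 ^ 6) = true := by decide +kernel
theorem t1690_rchk_2169 : allR t1690_rf 352792 6 (2169 * 2 ^ 6) = true := by decide +kernel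
theorem t1690_rchk_2170 : allR t1690_rf 352792 6 (2170 * 2 ^ 6) = true := by decide +kernel
theorem t1690_rchk_2171 : allR t1690_rf 352792 6 (2171 * 2 ^ 6) = true := by decide +kernel
theorem t1690_rchk_2172 : allR t1690_rf 352792 6 (2172 * 2 ^ 6) = true := by decide +kernel
theorem t1690_rchk_2173 : allR t1690_rf 352792 6 (2173 * 2 ^ 6) = true := by decide +kernel
theorem t1690_rchk_2174 : allR t1690_rf 352792 6 (2174 * 2 ^ 6) = true := by decide +kernel
theorem t1690_rchk_2175 : allR t1690_rf 352792 6 (2175 * 2 ^ 6) = true := by decide +kernel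
theorem t1690_rchk_2176 : allR t1690_rf 352792 6 (2176 * 2 ^ 6) = true := by decide +kernel
theorem t1690_rchk_2177 : allR t1690_rf 352792 6 (2177 * 2 ^ 6) = true := by decide +kernel
theorem t1690_rchk_2178 : allR t1690_rf 352792 6 (2178 * 2 ^ 6) = true := by decide +kernel
theorem t1690_rchk_2179 : allR t1690_rf 352792 6 (2179 * 2 ^ 6) = true := by decide +kernel
theorem t1690_rchk_2180 : allR t1690_rf 352792 6 (2180 * 2 ^ 6) = true := by decide +kernel
theorem t1690_rchk_2181 : allR t1690_rf 352792 6 (2181 * 2 ^ 6) = true := by decide +kernel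
theorem t1690_rchk_2182 : allR t1690_rf 352792 6 (2182 * 2 ^ 6) = true := by decide +kernel
theorem t1690_rchk_2183 : allR t1690_rf 352792 6 (2183 * 2 ^ 6) = true := by decide +kernel
theorem t1690_rchk_2184 : allR t1690_rf 352792 6 (2184 * 2 ^ 6) = true := by decide +kernel
theorem t1690_rchk_2185 : allR t1690_rf 352792 6 (2185 * 2 ^ 6) = true := by decide +kernel
theorem t1690_rchk_2186 : allR t1690_rf 352792 6 (2186 * 2 ^ 6) = true := by decide +kernel
theorem t1690_rchk_2187 : allR t1690_rf 352792 6 (2187 * 2 ^ 6) = true := by decide +kernel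
theorem t1690_rchk_2188 : allR t1690_rf 352792 6 (2188 * 2 ^ 6) = true := by decide +kernel
theorem t1690_rchk_2189 : allR t1690_rf 352792 6 (2189 * 2 ^ 6) = true := by decide +kernel
theorem t1690_rchk_2190 : allR t1690_rf 352792 6 (2190 * 2 ^ 6) = true := by decide +kernel
theorem t1690_rchk_2191 : allR t1690_rf 352792 6 (2191 * 2 ^ 6) = true := by decide +kernel
theorem t1690_rchk_2192 : allR t1690_rf 352792 6 (2192 * 2 ^ 6) = true := by decide +kernel
theorem t1690_rchk_2193 : allR t1690_rf 352792 6 (2193 * 2 ^ 6) = true := by decide +kernel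
theorem t1690_rchk_2194 : allR t1690_rf 352792 6 (2194 * 2 ^ 6) = true := by decide +kernel
theorem t1690_rchk_2195 : allR t1690_rf 352792 6 (2195 * 2 ^ 6) = true := by decide +kernel
theorem t1690_rchk_2196 : allR t1690_rf 352792 6 (2196 * 2 ^ 6) = true := by decide +kernel
theorem t1690_rchk_2197 : allR t1690_rf 352792 6 (2197 * 2 ^ 6) = true := by decide +kernel
theorem t1690_rchk_2198 : allR t1690_rf 352792 6 (2198 * 2 ^ 6) = true := by decide +kernel
theorem t1690_rchk_2199 : allR t1690_rf 352792 6 (2199 * 2 ^ 6) = true := by decide +kernel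
theorem t1690_rchk_2200 : allR t1690_rf 352792 6 (2200 * 2 ^ 6) = true := by decide +kernel
theorem t1690_rchk_2201 : allR t1690_rf 352792 6 (2201 * 2 ^ 6) = true := by decide +kernel
theorem t1690_rchk_2202 : allR t1690_rf 352792 6 (2202 * 2 ^ 6) = true := by decide +kernel
theorem t1690_rchk_2203 : allR t1690_rf 352792 6 (2203 * 2 ^ 6) = true := by decide +kernel
theorem t1690_rchk_2204 : allR t1690_rf 352792 6 (2204 * 2 ^ 6) = true := by decide +kernel
theorem t1690_rchk_2205 : allR t1690_rf 352792 6 (2205 * 2 ^ 6) = true := by decide +kernel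
theorem t1690_rchk_2206 : allR t1690_rf 352792 6 (2206 * 2 ^ 6) = true := by decide +kernel
theorem t1690_rchk_2207 : allR t1690_rf 352792 6 (2207 * 2 ^ 6) = true := by decide +kernel
theorem t1690_rchk_2208 : allR t1690_rf 352792 6 (2208 * 2 ^ 6) = true := by decide +kernel
theorem t1690_rchk_2209 : allR t1690_rf 352792 6 (2209 * 2 ^ 6) = true := by decide +kernel
theorem t1690_rchk_2210 : allR t1690_rf 352792 6 (2210 * 2 ^ 6) = true := by decide +kernel
theorem t1690_rchk_2211 : allR t1690_rf 352792 6 (2211 * 2 ^ 6) = true := by decide +kernel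
theorem t1690_rchk_2212 : allR t1690_rf 352792 6 (2212 * 2 ^ 6) = true := by decide +kernel
theorem t1690_rchk_2213 : allR t1690_rf 352792 6 (2213 * 2 ^ 6) = true := by decide +kernel
theorem t1690_rchk_2214 : allR t1690_rf 352792 6 (2214 * 2 ^ 6) = true := by decide +kernel
theorem t1690_rchk_2215 : allR t1690_rf 352792 6 (2215 * 2 ^ 6) = true := by decide +kernel
theorem t1690_rchk_2216 : allR t1690_rf 352792 6 (2216 * 2 ^ 6) = true := by decide +kernel
theorem t1690_rchk_2217 : allR t1690_rf 352792 6 (2217 * 2 ^ 6) = true := by decide +kernel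
theorem t1690_rchk_2218 : allR t1690_rf 352792 6 (2218 * 2 ^ 6) = true := by decide +kernel
theorem t1690_rchk_2219 : allR t1690_rf 352792 6 (2219 * 2 ^ 6) = true := by decide +kernel
theorem t1690_rchk_2220 : allR t1690_rf 352792 6 (2220 * 2 ^ 6) = true := by decide +kernel
theorem t1690_rchk_2221 : allR t1690_rf 352792 6 (2221 * 2 ^ 6) = true := by decide +kernel
theorem t1690_rchk_2222 : allR t1690_rf 352792 6 (2222 * 2 ^ 6) = true := by decide +kernel
theorem t1690_rchk_2223 : allR t1690_rf 352792 6 (2223 * 2 ^ 6) = true := by decide +kernel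
theorem t1690_rchk_2224 : allR t1690_rf 352792 6 (2224 * 2 ^ 6) = true := by decide +kernel
theorem t1690_rchk_2225 : allR t1690_rf 352792 6 (2225 * 2 ^ 6) = true := by decide +kernel
theorem t1690_rchk_2226 : allR t1690_rf 352792 6 (2226 * 2 ^ 6) = true := by decide +kernel
theorem t1690_rchk_2227 : allR t1690_rf 352792 6 (2227 * 2 ^ 6) = true := by decide +kernel
theorem t1690_rchk_2228 : allR t1690_rf 352792 6 (2228 * 2 ^ 6) = true := by decide +kernel
theorem t1690_rchk_2229 : allR t1690_rf 352792 6 (2229 * 2 ^ 6) = true := by decide +kernel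
theorem t1690_rchk_2230 : allR t1690_rf 352792 6 (2230 * 2 ^ 6) = true := by decide +kernel
theorem t1690_rchk_2231 : allR t1690_rf 352792 6 (2231 * 2 ^ 6) = true := by decide +kernel
theorem t1690_rchk_2232 : allR t1690_rf 352792 6 (2232 * 2 ^ 6) = true := by decide +kernel
theorem t1690_rchk_2233 : allR t1690_rf 352792 6 (2233 * 2 ^ 6) = true := by decide +kernel
theorem t1690_rchk_2234 : allR t1690_rf 352792 6 (2234 * 2 ^ 6) = true := by decide +kernel
theorem t1690_rchk_2235 : allR t1690_rf 352792 6 (2235 * 2 ^ 6) = true := by decide +kernel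
theorem t1690_rchk_2236 : allR t1690_rf 352792 6 (2236 * 2 ^ 6) = true := by decide +kernel
theorem t1690_rchk_2237 : allR t1690_rf 352792 6 (2237 * 2 ^ 6) = true := by decide +kernel
theorem t1690_rchk_2238 : allR t1690_rf 352792 6 (2238 * 2 ^ 6) = true := by decide +kernel
theorem t1690_rchk_2239 : allR t1690_rf 352792 6 (2239 * 2 ^ 6) = true := by decide +kernel

theorem t1690_rfile_27 : ∀ k, k < 2240 → 2160 ≤ k → allR t1690_rf 352792 6 (k * 2 ^ 6) = true := by
  intro k h1 h2
  interval_cases k
  · exact t1690_rchk_2160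
  · exact t1690_rchk_2161
  · exact t1690_rchk_2162
  · exact t1690_rchk_2163
  · exact t1690_rchk_2164
  · exact t1690_rchk_2165
  · exact t1690_rchk_2166
  · exact t1690_rchk_2167
  · exact t1690_rchk_2168
  · exact t1690_rchk_2169
  · exact t1690_rchk_2170
  · exact t1690_rchk_2171
  · exact t1690_rchk_2172
  · exact t1690_rchk_2173
  · exact t1690_rchk_2174
  · exact t1690_rchk_2175
  · exact t1690_rchk_2176
  · exact t1690_rchk_2177
  · exact t1690_rchk_2178
  · exact t1690_rchk_2179
  · exact t1690_rchk_2180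
  · exact t1690_rchk_2181
  · exact t1690_rchk_2182
  · exact t1690_rchk_2183
  · exact t1690_rchk_2184
  · exact t1690_rchk_2185
  · exact t1690_rchk_2186
  · exact t1690_rchk_2187
  · exact t1690_rchk_2188
  · exact t1690_rchk_2189
  · exact t1690_rchk_2190
  · exact t1690_rchk_2191
  · exact t1690_rchk_2192
  · exact t1690_rchk_2193
  · exact t1690_rchk_2194
  · exact t1690_rchk_2195
  · exact t1690_rchk_2196
  · exact t1690_rchk_2197
  · exact t1690_rchk_2198
  · exact t1690_rchk_2199
  · exact t1690_rchk_2200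
  · exact t1690_rchk_2201
  · exact t1690_rchk_2202
  · exact t1690_rchk_2203
  · exact t1690_rchk_2204
  · exact t1690_rchk_2205
  · exact t1690_rchk_2206
  · exact t1690_rchk_2207
  · exact t1690_rchk_2208
  · exact t1690_rchk_2209
  · exact t1690_rchk_2210
  · exact t1690_rchk_2211
  · exact t1690_rchk_2212
  · exact t1690_rchk_2213
  · exact t1690_rchk_2214
  · exact t1690_rchk_2215
  · exact t1690_rchk_2216
  · exact t1690_rchk_2217
  · exact t1690_rchk_2218
  · exact t1690_rchk_2219
  · exact t1690_rchk_2220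
  · exact t1690_rchk_2221
  · exact t1690_rchk_2222
  · exact t1690_rchk_2223
  · exact t1690_rchk_2224
  · exact t1690_rchk_2225
  · exact t1690_rchk_2226
  · exact t1690_rchk_2227
  · exact t1690_rchk_2228
  · exact t1690_rchk_2229
  · exact t1690_rchk_2230
  · exact t1690_rchk_2231
  · exact t1690_rchk_2232
  · exact t1690_rchk_2233
  · exact t1690_rchk_2234
  · exact t1690_rchk_2235
  · exact t1690_rchk_2236
  · exact t1690_rchk_2237
  · exact t1690_rchk_2238
  · exact t1690_rchk_2239

end Cfsg.Agent.H35
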