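import Cfsg.Agent.H35.T1690.RTab

set_option autoImplicit false
set_option linter.all false
set_option Elab.async false

namespace Cfsg.Agent.H35

theorem t1690_rchk_240 : allR t1690_rf 352792 6 (240 * 2 ^ 6) = true := by decide +kernel
theorem t1690_rchk_241 : allR t1690_rf 352792 6 (241 * 2 ^ 6) = true := by decide +kernel
theorem t1690_rchk_242 : allR t1690_rf 352792 6 (242 * 2 ^ 6) = true := by decide +kernel
theorem t1690_rchk_243 : allR t1690_rf 352792 6 (243 * 2 ^ 6) = true := by decide +kernel
theorem t1690_rchk_244 : allR t1690_rf 352792 6 (244 * 2 ^ 6) = true := by decide +kernel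
theorem t1690_rchk_245 : allR t1690_rf 352792 6 (245 * 2 ^ 6) = true := by decide +kernel
theorem t1690_rchk_246 : allR t1690_rf 352792 6 (246 * 2 ^ 6) = true := by decide +kernel
theorem t1690_rchk_247 : allR t1690_rf 352792 6 (247 * 2 ^ 6) = true := by decide +kernel
theorem t1690_rchk_248 : allR t1690_rf 352792 6 (248 * 2 ^ 6) = true := by decide +kernel
theorem t1690_rchk_249 : allR t1690_rf 352792 6 (249 * 2 ^ 6) = true := by decide +kernel
theorem t1690_rchk_250 : allR t1690_rf 352792 6 (250 * 2 ^ 6) = true := by decide +kernel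
theorem t1690_rchk_251 : allR t1690_rf 352792 6 (251 * 2 ^ 6) = true := by decide +kernel
theorem t1690_rchk_252 : allR t1690_rf 352792 6 (252 * 2 ^ 6) = true := by decide +kernel
theorem t1690_rchk_253 : allR t1690_rf 352792 6 (253 * 2 ^ 6) = true := by decide +kernel
theorem t1690_rchk_254 : allR t1690_rf 352792 6 (254 * 2 ^ 6) = true := by decide +kernel
theorem t1690_rchk_255 : allR t1690_rf 352792 6 (255 * 2 ^ 6) = true := by decide +kernel
theorem t1690_rchk_256 : allR t1690_rf 352792 6 (256 * 2 ^ 6) = true := by decide +kernel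
theorem t1690_rchk_257 : allR t1690_rf 352792 6 (257 * 2 ^ 6) = true := by decide +kernel
theorem t1690_rchk_258 : allR t1690_rf 352792 6 (258 * 2 ^ 6) = true := by decide +kernel
theorem t1690_rchk_259 : allR t1690_rf 352792 6 (259 * 2 ^ 6) = true := by decide +kernel
theorem t1690_rchk_260 : allR t1690_rf 352792 6 (260 * 2 ^ 6) = true := by decide +kernel
theorem t1690_rchk_261 : allR t1690_rf 352792 6 (261 * 2 ^ 6) = true := by decide +kernel
theorem t1690_rchk_262 : allR t1690_rf 352792 6 (262 * 2 ^ 6) = true := by decide +kernel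
theorem t1690_rchk_263 : allR t1690_rf 352792 6 (263 * 2 ^ 6) = true := by decide +kernel
theorem t1690_rchk_264 : allR t1690_rf 352792 6 (264 * 2 ^ 6) = true := by decide +kernel
theorem t1690_rchk_265 : allR t1690_rf 352792 6 (265 * 2 ^ 6) = true := by decide +kernel
theorem t1690_rchk_266 : allR t1690_rf 352792 6 (266 * 2 ^ 6) = true := by decide +kernel
theorem t1690_rchk_267 : allR t1690_rf 352792 6 (267 * 2 ^ 6) = true := by decide +kernel
theorem t1690_rchk_268 : allR t1690_rf 352792 6 (268 * 2 ^ 6) = true := by decide +kernel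
theorem t1690_rchk_269 : allR t1690_rf 352792 6 (269 * 2 ^ 6) = true := by decide +kernel
theorem t1690_rchk_270 : allR t1690_rf 352792 6 (270 * 2 ^ 6) = true := by decide +kernel
theorem t1690_rchk_271 : allR t1690_rf 352792 6 (271 * 2 ^ 6) = true := by decide +kernel
theorem t1690_rchk_272 : allR t1690_rf 352792 6 (272 * 2 ^ 6) = true := by decide +kernel
theorem t1690_rchk_273 : allR t1690_rf 352792 6 (273 * 2 ^ 6) = true := by decide +kernel
theorem t1690_rchk_274 : allR t1690_rf 352792 6 (274 * 2 ^ 6) = true := by decide +kernel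
theorem t1690_rchk_275 : allR t1690_rf 352792 6 (275 * 2 ^ 6) = true := by decide +kernel
theorem t1690_rchk_276 : allR t1690_rf 352792 6 (276 * 2 ^ 6) = true := by decide +kernel
theorem t1690_rchk_277 : allR t1690_rf 352792 6 (277 * 2 ^ 6) = true := by decide +kernel
theorem t1690_rchk_278 : allR t1690_rf 352792 6 (278 * 2 ^ 6) = true := by decide +kernel
theorem t1690_rchk_279 : allR t1690_rf 352792 6 (279 * 2 ^ 6) = true := by decide +kernel
theorem t1690_rchk_280 : allR t1690_rf 352792 6 (280 * 2 ^ 6) = true := by decide +kernel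
theorem t1690_rchk_281 : allR t1690_rf 352792 6 (281 * 2 ^ 6) = true := by decide +kernel
theorem t1690_rchk_282 : allR t1690_rf 352792 6 (282 * 2 ^ 6) = true := by decide +kernel
theorem t1690_rchk_283 : allR t1690_rf 352792 6 (283 * 2 ^ 6) = true := by decide +kernel
theorem t1690_rchk_284 : allR t1690_rf 352792 6 (284 * 2 ^ 6) = true := by decide +kernel
theorem t1690_rchk_285 : allR t1690_rf 352792 6 (285 * 2 ^ 6) = true := by decide +kernel
theorem t1690_rchk_286 : allR t1690_rf 352792 6 (286 * 2 ^ 6) = true := by decide +kernel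
theorem t1690_rchk_287 : allR t1690_rf 352792 6 (287 * 2 ^ 6) = true := by decide +kernel
theorem t1690_rchk_288 : allR t1690_rf 352792 6 (288 * 2 ^ 6) = true := by decide +kernel
theorem t1690_rchk_289 : allR t1690_rf 352792 6 (289 * 2 ^ 6) = true := by decide +kernel
theorem t1690_rchk_290 : allR t1690_rf 352792 6 (290 * 2 ^ 6) = true := by decide +kernel
theorem t1690_rchk_291 : allR t1690_rf 352792 6 (291 * 2 ^ 6) = true := by decide +kernel
theorem t1690_rchk_292 : allR t1690_rf 352792 6 (292 * 2 ^ 6) = true := by decide +kernel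
theorem t1690_rchk_293 : allR t1690_rf 352792 6 (293 * 2 ^ 6) = true := by decide +kernel
theorem t1690_rchk_294 : allR t1690_rf 352792 6 (294 * 2 ^ 6) = true := by decide +kernel
theorem t1690_rchk_295 : allR t1690_rf 352792 6 (295 * 2 ^ 6) = true := by decide +kernel
theorem t1690_rchk_296 : allR t1690_rf 352792 6 (296 * 2 ^ 6) = true := by decide +kernel
theorem t1690_rchk_297 : allR t1690_rf 352792 6 (297 * 2 ^ 6) = true := by decide +kernel
theorem t1690_rchk_298 : allR t1690_rf 352792 6 (298 * 2 ^ 6) = true := by decide +kernel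
theorem t1690_rchk_299 : allR t1690_rf 352792 6 (299 * 2 ^ 6) = true := by decide +kernel
theorem t1690_rchk_300 : allR t1690_rf 352792 6 (300 * 2 ^ 6) = true := by decide +kernel
theorem t1690_rchk_301 : allR t1690_rf 352792 6 (301 * 2 ^ 6) = true := by decide +kernel
theorem t1690_rchk_302 : allR t1690_rf 352792 6 (302 * 2 ^ 6) = true := by decide +kernel
theorem t1690_rchk_303 : allR t1690_rf 352792 6 (303 * 2 ^ 6) = true := by decide +kernel
theorem t1690_rchk_304 : allR t1690_rf 352792 6 (304 * 2 ^ 6) = true := by decide +kernel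
theorem t1690_rchk_305 : allR t1690_rf 352792 6 (305 * 2 ^ 6) = true := by decide +kernel
theorem t1690_rchk_306 : allR t1690_rf 352792 6 (306 * 2 ^ 6) = true := by decide +kernel
theorem t1690_rchk_307 : allR t1690_rf 352792 6 (307 * 2 ^ 6) = true := by decide +kernel
theorem t1690_rchk_308 : allR t1690_rf 352792 6 (308 * 2 ^ 6) = true := by decide +kernel
theorem t1690_rchk_309 : allR t1690_rf 352792 6 (309 * 2 ^ 6) = true := by decide +kernel
theorem t1690_rchk_310 : allR t1690_rf 352792 6 (310 * 2 ^ 6) = true := by decide +kernel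
theorem t1690_rchk_311 : allR t1690_rf 352792 6 (311 * 2 ^ 6) = true := by decide +kernel
theorem t1690_rchk_312 : allR t1690_rf 352792 6 (312 * 2 ^ 6) = true := by decide +kernel
theorem t1690_rchk_313 : allR t1690_rf 352792 6 (313 * 2 ^ 6) = true := by decide +kernel
theorem t1690_rchk_314 : allR t1690_rf 352792 6 (314 * 2 ^ 6) = true := by decide +kernel
theorem t1690_rchk_315 : allR t1690_rf 352792 6 (315 * 2 ^ 6) = true := by decide +kernel
theorem t1690_rchk_316 : allR t1690_rf 352792 6 (316 * 2 ^ 6) = true := by decide +kernel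
theorem t1690_rchk_317 : allR t1690_rf 352792 6 (317 * 2 ^ 6) = true := by decide +kernel
theorem t1690_rchk_318 : allR t1690_rf 352792 6 (318 * 2 ^ 6) = true := by decide +kernel
theorem t1690_rchk_319 : allR t1690_rf 352792 6 (319 * 2 ^ 6) = true := by decide +kernel

theorem t1690_rfile_3 : ∀ k, k < 320 → 240 ≤ k → allR t1690_rf 352792 6 (k * 2 ^ 6) = true := by
  intro k h1 h2
  interval_cases k
  · exact t1690_rchk_240
  · exact t1690_rchk_241
  · exact t1690_rchk_242
  · exact t1690_rchk_243
  · exact t1690_rchk_244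
  · exact t1690_rchk_245
  · exact t1690_rchk_246
  · exact t1690_rchk_247
  · exact t1690_rchk_248
  · exact t1690_rchk_249
  · exact t1690_rchk_250
  · exact t1690_rchk_251
  · exact t1690_rchk_252
  · exact t1690_rchk_253
  · exact t1690_rchk_254
  · exact t1690_rchk_255
  · exact t1690_rchk_256
  · exact t1690_rchk_257
  · exact t1690_rchk_258
  · exact t1690_rchk_259
  · exact t1690_rchk_260
  · exact t1690_rchk_261
  · exact t1690_rchk_262
  · exact t1690_rchk_263
  · exact t1690_rchk_264
  · exact t1690_rchk_265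
  · exact t1690_rchk_266
  · exact t1690_rchk_267
  · exact t1690_rchk_268
  · exact t1690_rchk_269
  · exact t1690_rchk_270
  · exact t1690_rchk_271
  · exact t1690_rchk_272
  · exact t1690_rchk_273
  · exact t1690_rchk_274
  · exact t1690_rchk_275
  · exact t1690_rchk_276
  · exact t1690_rchk_277
  · exact t1690_rchk_278
  · exact t1690_rchk_279
  · exact t1690_rchk_280
  · exact t1690_rchk_281
  · exact t1690_rchk_282
  · exact t1690_rchk_283
  · exact t1690_rchk_284
  · exact t1690_rchk_285
  · exact t1690_rchk_286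
  · exact t1690_rchk_287
  · exact t1690_rchk_288
  · exact t1690_rchk_289
  · exact t1690_rchk_290
  · exact t1690_rchk_291
  · exact t1690_rchk_292
  · exact t1690_rchk_293
  · exact t1690_rchk_294
  · exact t1690_rchk_295
  · exact t1690_rchk_296
  · exact t1690_rchk_297
  · exact t1690_rchk_298
  · exact t1690_rchk_299
  · exact t1690_rchk_300
  · exact t1690_rchk_301
  · exact t1690_rchk_302
  · exact t1690_rchk_303
  · exact t1690_rchk_304
  · exact t1690_rchk_305
  · exact t1690_rchk_306
  · exact t1690_rchk_307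
  · exact t1690_rchk_308
  · exact t1690_rchk_309
  · exact t1690_rchk_310
  · exact t1690_rchk_311
  · exact t1690_rchk_312
  · exact t1690_rchk_313
  · exact t1690_rchk_314
  · exact t1690_rchk_315
  · exact t1690_rchk_316
  · exact t1690_rchk_317
  · exact t1690_rchk_318
  · exact t1690_rchk_319

end Cfsg.Agent.H35
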