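import Cfsg.Agent.H35.T1690.RTab

set_option autoImplicit false
set_option linter.all false
set_option Elab.async false

namespace Cfsg.Agent.H35

theorem t1690_rchk_2480 : allR t1690_rf 352792 6 (2480 * 2 ^ 6) = true := by decide +kernel
theorem t1690_rchk_2481 : allR t1690_rf 352792 6 (2481 * 2 ^ 6) = true := by decide +kernel
theorem t1690_rchk_2482 : allR t1690_rf 352792 6 (2482 * 2 ^ 6) = true := by decide +kernel
theorem t1690_rchk_2483 : allR t1690_rf 352792 6 (2483 * 2 ^ 6) = true := by decide +kernel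
theorem t1690_rchk_2484 : allR t1690_rf 352792 6 (2484 * 2 ^ 6) = true := by decide +kernel
theorem t1690_rchk_2485 : allR t1690_rf 352792 6 (2485 * 2 ^ 6) = true := by decide +kernel
theorem t1690_rchk_2486 : allR t1690_rf 352792 6 (2486 * 2 ^ 6) = true := by decide +kernel
theorem t1690_rchk_2487 : allR t1690_rf 352792 6 (2487 * 2 ^ 6) = true := by decide +kernel
theorem t1690_rchk_2488 : allR t1690_rf 352792 6 (2488 * 2 ^ 6) = true := by decide +kernel
theorem t1690_rchk_2489 : allR t1690_rf 352792 6 (2489 * 2 ^ 6) = true := by decide +kernel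
theorem t1690_rchk_2490 : allR t1690_rf 352792 6 (2490 * 2 ^ 6) = true := by decide +kernel
theorem t1690_rchk_2491 : allR t1690_rf 352792 6 (2491 * 2 ^ 6) = true := by decide +kernel
theorem t1690_rchk_2492 : allR t1690_rf 352792 6 (2492 * 2 ^ 6) = true := by decide +kernel
theorem t1690_rchk_2493 : allR t1690_rf 352792 6 (2493 * 2 ^ 6) = true := by decide +kernel
theorem t1690_rchk_2494 : allR t1690_rf 352792 6 (2494 * 2 ^ 6) = true := by decide +kernel
theorem t1690_rchk_2495 : allR t1690_rf 352792 6 (2495 * 2 ^ 6) = true := by decide +kernel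
theorem t1690_rchk_2496 : allR t1690_rf 352792 6 (2496 * 2 ^ 6) = true := by decide +kernel
theorem t1690_rchk_2497 : allR t1690_rf 352792 6 (2497 * 2 ^ 6) = true := by decide +kernel
theorem t1690_rchk_2498 : allR t1690_rf 352792 6 (2498 * 2 ^ 6) = true := by decide +kernel
theorem t1690_rchk_2499 : allR t1690_rf 352792 6 (2499 * 2 ^ 6) = true := by decide +kernel
theorem t1690_rchk_2500 : allR t1690_rf 352792 6 (2500 * 2 ^ 6) = true := by decide +kernel
theorem t1690_rchk_2501 : allR t1690_rf 352792 6 (2501 * 2 ^ 6) = true := by decide +kernel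
theorem t1690_rchk_2502 : allR t1690_rf 352792 6 (2502 * 2 ^ 6) = true := by decide +kernel
theorem t1690_rchk_2503 : allR t1690_rf 352792 6 (2503 * 2 ^ 6) = true := by decide +kernel
theorem t1690_rchk_2504 : allR t1690_rf 352792 6 (2504 * 2 ^ 6) = true := by decide +kernel
theorem t1690_rchk_2505 : allR t1690_rf 352792 6 (2505 * 2 ^ 6) = true := by decide +kernel
theorem t1690_rchk_2506 : allR t1690_rf 352792 6 (2506 * 2 ^ 6) = true := by decide +kernel
theorem t1690_rchk_2507 : allR t1690_rf 352792 6 (2507 * 2 ^ 6) = true := by decide +kernel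
theorem t1690_rchk_2508 : allR t1690_rf 352792 6 (2508 * 2 ^ 6) = true := by decide +kernel
theorem t1690_rchk_2509 : allR t1690_rf 352792 6 (2509 * 2 ^ 6) = true := by decide +kernel
theorem t1690_rchk_2510 : allR t1690_rf 352792 6 (2510 * 2 ^ 6) = true := by decide +kernel
theorem t1690_rchk_2511 : allR t1690_rf 352792 6 (2511 * 2 ^ 6) = true := by decide +kernel
theorem t1690_rchk_2512 : allR t1690_rf 352792 6 (2512 * 2 ^ 6) = true := by decide +kernel
theorem t1690_rchk_2513 : allR t1690_rf 352792 6 (2513 * 2 ^ 6) = true := by decide +kernel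
theorem t1690_rchk_2514 : allR t1690_rf 352792 6 (2514 * 2 ^ 6) = true := by decide +kernel
theorem t1690_rchk_2515 : allR t1690_rf 352792 6 (2515 * 2 ^ 6) = true := by decide +kernel
theorem t1690_rchk_2516 : allR t1690_rf 352792 6 (2516 * 2 ^ 6) = true := by decide +kernel
theorem t1690_rchk_2517 : allR t1690_rf 352792 6 (2517 * 2 ^ 6) = true := by decide +kernel
theorem t1690_rchk_2518 : allR t1690_rf 352792 6 (2518 * 2 ^ 6) = true := by decide +kernel
theorem t1690_rchk_2519 : allR t1690_rf 352792 6 (2519 * 2 ^ 6) = true := by decide +kernel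
theorem t1690_rchk_2520 : allR t1690_rf 352792 6 (2520 * 2 ^ 6) = true := by decide +kernel
theorem t1690_rchk_2521 : allR t1690_rf 352792 6 (2521 * 2 ^ 6) = true := by decide +kernel
theorem t1690_rchk_2522 : allR t1690_rf 352792 6 (2522 * 2 ^ 6) = true := by decide +kernel
theorem t1690_rchk_2523 : allR t1690_rf 352792 6 (2523 * 2 ^ 6) = true := by decide +kernel
theorem t1690_rchk_2524 : allR t1690_rf 352792 6 (2524 * 2 ^ 6) = true := by decide +kernel
theorem t1690_rchk_2525 : allR t1690_rf 352792 6 (2525 * 2 ^ 6) = true := by decide +kernel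
theorem t1690_rchk_2526 : allR t1690_rf 352792 6 (2526 * 2 ^ 6) = true := by decide +kernel
theorem t1690_rchk_2527 : allR t1690_rf 352792 6 (2527 * 2 ^ 6) = true := by decide +kernel
theorem t1690_rchk_2528 : allR t1690_rf 352792 6 (2528 * 2 ^ 6) = true := by decide +kernel
theorem t1690_rchk_2529 : allR t1690_rf 352792 6 (2529 * 2 ^ 6) = true := by decide +kernel
theorem t1690_rchk_2530 : allR t1690_rf 352792 6 (2530 * 2 ^ 6) = true := by decide +kernel
theorem t1690_rchk_2531 : allR t1690_rf 352792 6 (2531 * 2 ^ 6) = true := by decide +kernel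
theorem t1690_rchk_2532 : allR t1690_rf 352792 6 (2532 * 2 ^ 6) = true := by decide +kernel
theorem t1690_rchk_2533 : allR t1690_rf 352792 6 (2533 * 2 ^ 6) = true := by decide +kernel
theorem t1690_rchk_2534 : allR t1690_rf 352792 6 (2534 * 2 ^ 6) = true := by decide +kernel
theorem t1690_rchk_2535 : allR t1690_rf 352792 6 (2535 * 2 ^ 6) = true := by decide +kernel
theorem t1690_rchk_2536 : allR t1690_rf 352792 6 (2536 * 2 ^ 6) = true := by decide +kernel
theorem t1690_rchk_2537 : allR t1690_rf 352792 6 (2537 * 2 ^ 6) = true := by decide +kernel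
theorem t1690_rchk_2538 : allR t1690_rf 352792 6 (2538 * 2 ^ 6) = true := by decide +kernel
theorem t1690_rchk_2539 : allR t1690_rf 352792 6 (2539 * 2 ^ 6) = true := by decide +kernel
theorem t1690_rchk_2540 : allR t1690_rf 352792 6 (2540 * 2 ^ 6) = true := by decide +kernel
theorem t1690_rchk_2541 : allR t1690_rf 352792 6 (2541 * 2 ^ 6) = true := by decide +kernel
theorem t1690_rchk_2542 : allR t1690_rf 352792 6 (2542 * 2 ^ 6) = true := by decide +kernel
theorem t1690_rchk_2543 : allR t1690_rf 352792 6 (2543 * 2 ^ 6) = true := by decide +kernel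
theorem t1690_rchk_2544 : allR t1690_rf 352792 6 (2544 * 2 ^ 6) = true := by decide +kernel
theorem t1690_rchk_2545 : allR t1690_rf 352792 6 (2545 * 2 ^ 6) = true := by decide +kernel
theorem t1690_rchk_2546 : allR t1690_rf 352792 6 (2546 * 2 ^ 6) = true := by decide +kernel
theorem t1690_rchk_2547 : allR t1690_rf 352792 6 (2547 * 2 ^ 6) = true := by decide +kernel
theorem t1690_rchk_2548 : allR t1690_rf 352792 6 (2548 * 2 ^ 6) = true := by decide +kernel
theorem t1690_rchk_2549 : allR t1690_rf 352792 6 (2549 * 2 ^ 6) = true := by decide +kernel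
theorem t1690_rchk_2550 : allR t1690_rf 352792 6 (2550 * 2 ^ 6) = true := by decide +kernel
theorem t1690_rchk_2551 : allR t1690_rf 352792 6 (2551 * 2 ^ 6) = true := by decide +kernel
theorem t1690_rchk_2552 : allR t1690_rf 352792 6 (2552 * 2 ^ 6) = true := by decide +kernel
theorem t1690_rchk_2553 : allR t1690_rf 352792 6 (2553 * 2 ^ 6) = true := by decide +kernel
theorem t1690_rchk_2554 : allR t1690_rf 352792 6 (2554 * 2 ^ 6) = true := by decide +kernel
theorem t1690_rchk_2555 : allR t1690_rf 352792 6 (2555 * 2 ^ 6) = true := by decide +kernel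
theorem t1690_rchk_2556 : allR t1690_rf 352792 6 (2556 * 2 ^ 6) = true := by decide +kernel
theorem t1690_rchk_2557 : allR t1690_rf 352792 6 (2557 * 2 ^ 6) = true := by decide +kernel
theorem t1690_rchk_2558 : allR t1690_rf 352792 6 (2558 * 2 ^ 6) = true := by decide +kernel
theorem t1690_rchk_2559 : allR t1690_rf 352792 6 (2559 * 2 ^ 6) = true := by decide +kernel

theorem t1690_rfile_31 : ∀ k, k < 2560 → 2480 ≤ k → allR t1690_rf 352792 6 (k * 2 ^ 6) = true := by
  intro k h1 h2
  interval_cases k
  · exact t1690_rchk_2480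
  · exact t1690_rchk_2481
  · exact t1690_rchk_2482
  · exact t1690_rchk_2483
  · exact t1690_rchk_2484
  · exact t1690_rchk_2485
  · exact t1690_rchk_2486
  · exact t1690_rchk_2487
  · exact t1690_rchk_2488
  · exact t1690_rchk_2489
  · exact t1690_rchk_2490
  · exact t1690_rchk_2491
  · exact t1690_rchk_2492
  · exact t1690_rchk_2493
  · exact t1690_rchk_2494
  · exact t1690_rchk_2495
  · exact t1690_rchk_2496
  · exact t1690_rchk_2497
  · exact t1690_rchk_2498
  · exact t1690_rchk_2499
  · exact t1690_rchk_2500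
  · exact t1690_rchk_2501
  · exact t1690_rchk_2502
  · exact t1690_rchk_2503
  · exact t1690_rchk_2504
  · exact t1690_rchk_2505
  · exact t1690_rchk_2506
  · exact t1690_rchk_2507
  · exact t1690_rchk_2508
  · exact t1690_rchk_2509
  · exact t1690_rchk_2510
  · exact t1690_rchk_2511
  · exact t1690_rchk_2512
  · exact t1690_rchk_2513
  · exact t1690_rchk_2514
  · exact t1690_rchk_2515
  · exact t1690_rchk_2516
  · exact t1690_rchk_2517
  · exact t1690_rchk_2518
  · exact t1690_rchk_2519
  · exact t1690_rchk_2520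
  · exact t1690_rchk_2521
  · exact t1690_rchk_2522
  · exact t1690_rchk_2523
  · exact t1690_rchk_2524
  · exact t1690_rchk_2525
  · exact t1690_rchk_2526
  · exact t1690_rchk_2527
  · exact t1690_rchk_2528
  · exact t1690_rchk_2529
  · exact t1690_rchk_2530
  · exact t1690_rchk_2531
  · exact t1690_rchk_2532
  · exact t1690_rchk_2533
  · exact t1690_rchk_2534
  · exact t1690_rchk_2535
  · exact t1690_rchk_2536
  · exact t1690_rchk_2537
  · exact t1690_rchk_2538
  · exact t1690_rchk_2539
  · exact t1690_rchk_2540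
  · exact t1690_rchk_2541
  · exact t1690_rchk_2542
  · exact t1690_rchk_2543
  · exact t1690_rchk_2544
  · exact t1690_rchk_2545
  · exact t1690_rchk_2546
  · exact t1690_rchk_2547
  · exact t1690_rchk_2548
  · exact t1690_rchk_2549
  · exact t1690_rchk_2550
  · exact t1690_rchk_2551
  · exact t1690_rchk_2552
  · exact t1690_rchk_2553
  · exact t1690_rchk_2554
  · exact t1690_rchk_2555
  · exact t1690_rchk_2556
  · exact t1690_rchk_2557
  · exact t1690_rchk_2558
  · exact t1690_rchk_2559

end Cfsg.Agent.H35
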