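import Cfsg.Agent.H35.T1690.RTab

set_option autoImplicit false
set_option linter.all false
set_option Elab.async false

namespace Cfsg.Agent.H35

theorem t1690_rchk_2640 : allR t1690_rf 352792 6 (2640 * 2 ^ 6) = true := by decide +kernel
theorem t1690_rchk_2641 : allR t1690_rf 352792 6 (2641 * 2 ^ 6) = true := by decide +kernel
theorem t1690_rchk_2642 : allR t1690_rf 352792 6 (2642 * 2 ^ 6) = true := by decide +kernel
theorem t1690_rchk_2643 : allR t1690_rf 352792 6 (2643 * 2 ^ 6) = true := by decide +kernel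
theorem t1690_rchk_2644 : allR t1690_rf 352792 6 (2644 * 2 ^ 6) = true := by decide +kernel
theorem t1690_rchk_2645 : allR t1690_rf 352792 6 (2645 * 2 ^ 6) = true := by decide +kernel
theorem t1690_rchk_2646 : allR t1690_rf 352792 6 (2646 * 2 ^ 6) = true := by decide +kernel
theorem t1690_rchk_2647 : allR t1690_rf 352792 6 (2647 * 2 ^ 6) = true := by decide +kernel
theorem t1690_rchk_2648 : allR t1690_rf 352792 6 (2648 * 2 ^ 6) = true := by decide +kernel
theorem t1690_rchk_2649 : allR t1690_rf 352792 6 (2649 * 2 ^ 6) = true := by decide +kernel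
theorem t1690_rchk_2650 : allR t1690_rf 352792 6 (2650 * 2 ^ 6) = true := by decide +kernel
theorem t1690_rchk_2651 : allR t1690_rf 352792 6 (2651 * 2 ^ 6) = true := by decide +kernel
theorem t1690_rchk_2652 : allR t1690_rf 352792 6 (2652 * 2 ^ 6) = true := by decide +kernel
theorem t1690_rchk_2653 : allR t1690_rf 352792 6 (2653 * 2 ^ 6) = true := by decide +kernel
theorem t1690_rchk_2654 : allR t1690_rf 352792 6 (2654 * 2 ^ 6) = true := by decide +kernel
theorem t1690_rchk_2655 : allR t1690_rf 352792 6 (2655 * 2 ^ 6) = true := by decide +kernel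
theorem t1690_rchk_2656 : allR t1690_rf 352792 6 (2656 * 2 ^ 6) = true := by decide +kernel
theorem t1690_rchk_2657 : allR t1690_rf 352792 6 (2657 * 2 ^ 6) = true := by decide +kernel
theorem t1690_rchk_2658 : allR t1690_rf 352792 6 (2658 * 2 ^ 6) = true := by decide +kernel
theorem t1690_rchk_2659 : allR t1690_rf 352792 6 (2659 * 2 ^ 6) = true := by decide +kernel
theorem t1690_rchk_2660 : allR t1690_rf 352792 6 (2660 * 2 ^ 6) = true := by decide +kernel
theorem t1690_rchk_2661 : allR t1690_rf 352792 6 (2661 * 2 ^ 6) = true := by decide +kernel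
theorem t1690_rchk_2662 : allR t1690_rf 352792 6 (2662 * 2 ^ 6) = true := by decide +kernel
theorem t1690_rchk_2663 : allR t1690_rf 352792 6 (2663 * 2 ^ 6) = true := by decide +kernel
theorem t1690_rchk_2664 : allR t1690_rf 352792 6 (2664 * 2 ^ 6) = true := by decide +kernel
theorem t1690_rchk_2665 : allR t1690_rf 352792 6 (2665 * 2 ^ 6) = true := by decide +kernel
theorem t1690_rchk_2666 : allR t1690_rf 352792 6 (2666 * 2 ^ 6) = true := by decide +kernel
theorem t1690_rchk_2667 : allR t1690_rf 352792 6 (2667 * 2 ^ 6) = true := by decide +kernel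
theorem t1690_rchk_2668 : allR t1690_rf 352792 6 (2668 * 2 ^ 6) = true := by decide +kernel
theorem t1690_rchk_2669 : allR t1690_rf 352792 6 (2669 * 2 ^ 6) = true := by decide +kernel
theorem t1690_rchk_2670 : allR t1690_rf 352792 6 (2670 * 2 ^ 6) = true := by decide +kernel
theorem t1690_rchk_2671 : allR t1690_rf 352792 6 (2671 * 2 ^ 6) = true := by decide +kernel
theorem t1690_rchk_2672 : allR t1690_rf 352792 6 (2672 * 2 ^ 6) = true := by decide +kernel
theorem t1690_rchk_2673 : allR t1690_rf 352792 6 (2673 * 2 ^ 6) = true := by decide +kernel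
theorem t1690_rchk_2674 : allR t1690_rf 352792 6 (2674 * 2 ^ 6) = true := by decide +kernel
theorem t1690_rchk_2675 : allR t1690_rf 352792 6 (2675 * 2 ^ 6) = true := by decide +kernel
theorem t1690_rchk_2676 : allR t1690_rf 352792 6 (2676 * 2 ^ 6) = true := by decide +kernel
theorem t1690_rchk_2677 : allR t1690_rf 352792 6 (2677 * 2 ^ 6) = true := by decide +kernel
theorem t1690_rchk_2678 : allR t1690_rf 352792 6 (2678 * 2 ^ 6) = true := by decide +kernel
theorem t1690_rchk_2679 : allR t1690_rf 352792 6 (2679 * 2 ^ 6) = true := by decide +kernel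
theorem t1690_rchk_2680 : allR t1690_rf 352792 6 (2680 * 2 ^ 6) = true := by decide +kernel
theorem t1690_rchk_2681 : allR t1690_rf 352792 6 (2681 * 2 ^ 6) = true := by decide +kernel
theorem t1690_rchk_2682 : allR t1690_rf 352792 6 (2682 * 2 ^ 6) = true := by decide +kernel
theorem t1690_rchk_2683 : allR t1690_rf 352792 6 (2683 * 2 ^ 6) = true := by decide +kernel
theorem t1690_rchk_2684 : allR t1690_rf 352792 6 (2684 * 2 ^ 6) = true := by decide +kernel
theorem t1690_rchk_2685 : allR t1690_rf 352792 6 (2685 * 2 ^ 6) = true := by decide +kernel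
theorem t1690_rchk_2686 : allR t1690_rf 352792 6 (2686 * 2 ^ 6) = true := by decide +kernel
theorem t1690_rchk_2687 : allR t1690_rf 352792 6 (2687 * 2 ^ 6) = true := by decide +kernel
theorem t1690_rchk_2688 : allR t1690_rf 352792 6 (2688 * 2 ^ 6) = true := by decide +kernel
theorem t1690_rchk_2689 : allR t1690_rf 352792 6 (2689 * 2 ^ 6) = true := by decide +kernel
theorem t1690_rchk_2690 : allR t1690_rf 352792 6 (2690 * 2 ^ 6) = true := by decide +kernel
theorem t1690_rchk_2691 : allR t1690_rf 352792 6 (2691 * 2 ^ 6) = true := by decide +kernel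
theorem t1690_rchk_2692 : allR t1690_rf 352792 6 (2692 * 2 ^ 6) = true := by decide +kernel
theorem t1690_rchk_2693 : allR t1690_rf 352792 6 (2693 * 2 ^ 6) = true := by decide +kernel
theorem t1690_rchk_2694 : allR t1690_rf 352792 6 (2694 * 2 ^ 6) = true := by decide +kernel
theorem t1690_rchk_2695 : allR t1690_rf 352792 6 (2695 * 2 ^ 6) = true := by decide +kernel
theorem t1690_rchk_2696 : allR t1690_rf 352792 6 (2696 * 2 ^ 6) = true := by decide +kernel
theorem t1690_rchk_2697 : allR t1690_rf 352792 6 (2697 * 2 ^ 6) = true := by decide +kernel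
theorem t1690_rchk_2698 : allR t1690_rf 352792 6 (2698 * 2 ^ 6) = true := by decide +kernel
theorem t1690_rchk_2699 : allR t1690_rf 352792 6 (2699 * 2 ^ 6) = true := by decide +kernel
theorem t1690_rchk_2700 : allR t1690_rf 352792 6 (2700 * 2 ^ 6) = true := by decide +kernel
theorem t1690_rchk_2701 : allR t1690_rf 352792 6 (2701 * 2 ^ 6) = true := by decide +kernel
theorem t1690_rchk_2702 : allR t1690_rf 352792 6 (2702 * 2 ^ 6) = true := by decide +kernel
theorem t1690_rchk_2703 : allR t1690_rf 352792 6 (2703 * 2 ^ 6) = true := by decide +kernel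
theorem t1690_rchk_2704 : allR t1690_rf 352792 6 (2704 * 2 ^ 6) = true := by decide +kernel
theorem t1690_rchk_2705 : allR t1690_rf 352792 6 (2705 * 2 ^ 6) = true := by decide +kernel
theorem t1690_rchk_2706 : allR t1690_rf 352792 6 (2706 * 2 ^ 6) = true := by decide +kernel
theorem t1690_rchk_2707 : allR t1690_rf 352792 6 (2707 * 2 ^ 6) = true := by decide +kernel
theorem t1690_rchk_2708 : allR t1690_rf 352792 6 (2708 * 2 ^ 6) = true := by decide +kernel
theorem t1690_rchk_2709 : allR t1690_rf 352792 6 (2709 * 2 ^ 6) = true := by decide +kernel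
theorem t1690_rchk_2710 : allR t1690_rf 352792 6 (2710 * 2 ^ 6) = true := by decide +kernel
theorem t1690_rchk_2711 : allR t1690_rf 352792 6 (2711 * 2 ^ 6) = true := by decide +kernel
theorem t1690_rchk_2712 : allR t1690_rf 352792 6 (2712 * 2 ^ 6) = true := by decide +kernel
theorem t1690_rchk_2713 : allR t1690_rf 352792 6 (2713 * 2 ^ 6) = true := by decide +kernel
theorem t1690_rchk_2714 : allR t1690_rf 352792 6 (2714 * 2 ^ 6) = true := by decide +kernel
theorem t1690_rchk_2715 : allR t1690_rf 352792 6 (2715 * 2 ^ 6) = true := by decide +kernel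
theorem t1690_rchk_2716 : allR t1690_rf 352792 6 (2716 * 2 ^ 6) = true := by decide +kernel
theorem t1690_rchk_2717 : allR t1690_rf 352792 6 (2717 * 2 ^ 6) = true := by decide +kernel
theorem t1690_rchk_2718 : allR t1690_rf 352792 6 (2718 * 2 ^ 6) = true := by decide +kernel
theorem t1690_rchk_2719 : allR t1690_rf 352792 6 (2719 * 2 ^ 6) = true := by decide +kernel

theorem t1690_rfile_33 : ∀ k, k < 2720 → 2640 ≤ k → allR t1690_rf 352792 6 (k * 2 ^ 6) = true := by
  intro k h1 h2
  interval_cases k
  · exact t1690_rchk_2640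
  · exact t1690_rchk_2641
  · exact t1690_rchk_2642
  · exact t1690_rchk_2643
  · exact t1690_rchk_2644
  · exact t1690_rchk_2645
  · exact t1690_rchk_2646
  · exact t1690_rchk_2647
  · exact t1690_rchk_2648
  · exact t1690_rchk_2649
  · exact t1690_rchk_2650
  · exact t1690_rchk_2651
  · exact t1690_rchk_2652
  · exact t1690_rchk_2653
  · exact t1690_rchk_2654
  · exact t1690_rchk_2655
  · exact t1690_rchk_2656
  · exact t1690_rchk_2657
  · exact t1690_rchk_2658
  · exact t1690_rchk_2659
  · exact t1690_rchk_2660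
  · exact t1690_rchk_2661
  · exact t1690_rchk_2662
  · exact t1690_rchk_2663
  · exact t1690_rchk_2664
  · exact t1690_rchk_2665
  · exact t1690_rchk_2666
  · exact t1690_rchk_2667
  · exact t1690_rchk_2668
  · exact t1690_rchk_2669
  · exact t1690_rchk_2670
  · exact t1690_rchk_2671
  · exact t1690_rchk_2672
  · exact t1690_rchk_2673
  · exact t1690_rchk_2674
  · exact t1690_rchk_2675
  · exact t1690_rchk_2676
  · exact t1690_rchk_2677
  · exact t1690_rchk_2678
  · exact t1690_rchk_2679
  · exact t1690_rchk_2680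
  · exact t1690_rchk_2681
  · exact t1690_rchk_2682
  · exact t1690_rchk_2683
  · exact t1690_rchk_2684
  · exact t1690_rchk_2685
  · exact t1690_rchk_2686
  · exact t1690_rchk_2687
  · exact t1690_rchk_2688
  · exact t1690_rchk_2689
  · exact t1690_rchk_2690
  · exact t1690_rchk_2691
  · exact t1690_rchk_2692
  · exact t1690_rchk_2693
  · exact t1690_rchk_2694
  · exact t1690_rchk_2695
  · exact t1690_rchk_2696
  · exact t1690_rchk_2697
  · exact t1690_rchk_2698
  · exact t1690_rchk_2699
  · exact t1690_rchk_2700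
  · exact t1690_rchk_2701
  · exact t1690_rchk_2702
  · exact t1690_rchk_2703
  · exact t1690_rchk_2704
  · exact t1690_rchk_2705
  · exact t1690_rchk_2706
  · exact t1690_rchk_2707
  · exact t1690_rchk_2708
  · exact t1690_rchk_2709
  · exact t1690_rchk_2710
  · exact t1690_rchk_2711
  · exact t1690_rchk_2712
  · exact t1690_rchk_2713
  · exact t1690_rchk_2714
  · exact t1690_rchk_2715
  · exact t1690_rchk_2716
  · exact t1690_rchk_2717
  · exact t1690_rchk_2718
  · exact t1690_rchk_2719

end Cfsg.Agent.H35
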