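import Cfsg.Agent.H35.T1690.RTab

set_option autoImplicit false
set_option linter.all false
set_option Elab.async false

namespace Cfsg.Agent.H35

theorem t1690_rchk_2960 : allR t1690_rf 352792 6 (2960 * 2 ^ 6) = true := by decide +kernel
theorem t1690_rchk_2961 : allR t1690_rf 352792 6 (2961 * 2 ^ 6) = true := by decide +kernel
theorem t1690_rchk_2962 : allR t1690_rf 352792 6 (2962 * 2 ^ 6) = true := by decide +kernel
theorem t1690_rchk_2963 : allR t1690_rf 352792 6 (2963 * 2 ^ 6) = true := by decide +kernel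
theorem t1690_rchk_2964 : allR t1690_rf 352792 6 (2964 * 2 ^ 6) = true := by decide +kernel
theorem t1690_rchk_2965 : allR t1690_rf 352792 6 (2965 * 2 ^ 6) = true := by decide +kernel
theorem t1690_rchk_2966 : allR t1690_rf 352792 6 (2966 * 2 ^ 6) = true := by decide +kernel
theorem t1690_rchk_2967 : allR t1690_rf 352792 6 (2967 * 2 ^ 6) = true := by decide +kernel
theorem t1690_rchk_2968 : allR t1690_rf 352792 6 (2968 * 2 ^ 6) = true := by decide +kernel
theorem t1690_rchk_2969 : allR t1690_rf 352792 6 (2969 * 2 ^ 6) = true := by decide +kernel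
theorem t1690_rchk_2970 : allR t1690_rf 352792 6 (2970 * 2 ^ 6) = true := by decide +kernel
theorem t1690_rchk_2971 : allR t1690_rf 352792 6 (2971 * 2 ^ 6) = true := by decide +kernel
theorem t1690_rchk_2972 : allR t1690_rf 352792 6 (2972 * 2 ^ 6) = true := by decide +kernel
theorem t1690_rchk_2973 : allR t1690_rf 352792 6 (2973 * 2 ^ 6) = true := by decide +kernel
theorem t1690_rchk_2974 : allR t1690_rf 352792 6 (2974 * 2 ^ 6) = true := by decide +kernel
theorem t1690_rchk_2975 : allR t1690_rf 352792 6 (2975 * 2 ^ 6) = true := by decide +kernel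
theorem t1690_rchk_2976 : allR t1690_rf 352792 6 (2976 * 2 ^ 6) = true := by decide +kernel
theorem t1690_rchk_2977 : allR t1690_rf 352792 6 (2977 * 2 ^ 6) = true := by decide +kernel
theorem t1690_rchk_2978 : allR t1690_rf 352792 6 (2978 * 2 ^ 6) = true := by decide +kernel
theorem t1690_rchk_2979 : allR t1690_rf 352792 6 (2979 * 2 ^ 6) = true := by decide +kernel
theorem t1690_rchk_2980 : allR t1690_rf 352792 6 (2980 * 2 ^ 6) = true := by decide +kernel
theorem t1690_rchk_2981 : allR t1690_rf 352792 6 (2981 * 2 ^ 6) = true := by decide +kernel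
theorem t1690_rchk_2982 : allR t1690_rf 352792 6 (2982 * 2 ^ 6) = true := by decide +kernel
theorem t1690_rchk_2983 : allR t1690_rf 352792 6 (2983 * 2 ^ 6) = true := by decide +kernel
theorem t1690_rchk_2984 : allR t1690_rf 352792 6 (2984 * 2 ^ 6) = true := by decide +kernel
theorem t1690_rchk_2985 : allR t1690_rf 352792 6 (2985 * 2 ^ 6) = true := by decide +kernel
theorem t1690_rchk_2986 : allR t1690_rf 352792 6 (2986 * 2 ^ 6) = true := by decide +kernel
theorem t1690_rchk_2987 : allR t1690_rf 352792 6 (2987 * 2 ^ 6) = true := by decide +kernel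
theorem t1690_rchk_2988 : allR t1690_rf 352792 6 (2988 * 2 ^ 6) = true := by decide +kernel
theorem t1690_rchk_2989 : allR t1690_rf 352792 6 (2989 * 2 ^ 6) = true := by decide +kernel
theorem t1690_rchk_2990 : allR t1690_rf 352792 6 (2990 * 2 ^ 6) = true := by decide +kernel
theorem t1690_rchk_2991 : allR t1690_rf 352792 6 (2991 * 2 ^ 6) = true := by decide +kernel
theorem t1690_rchk_2992 : allR t1690_rf 352792 6 (2992 * 2 ^ 6) = true := by decide +kernel
theorem t1690_rchk_2993 : allR t1690_rf 352792 6 (2993 * 2 ^ 6) = true := by decide +kernel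
theorem t1690_rchk_2994 : allR t1690_rf 352792 6 (2994 * 2 ^ 6) = true := by decide +kernel
theorem t1690_rchk_2995 : allR t1690_rf 352792 6 (2995 * 2 ^ 6) = true := by decide +kernel
theorem t1690_rchk_2996 : allR t1690_rf 352792 6 (2996 * 2 ^ 6) = true := by decide +kernel
theorem t1690_rchk_2997 : allR t1690_rf 352792 6 (2997 * 2 ^ 6) = true := by decide +kernel
theorem t1690_rchk_2998 : allR t1690_rf 352792 6 (2998 * 2 ^ 6) = true := by decide +kernel
theorem t1690_rchk_2999 : allR t1690_rf 352792 6 (2999 * 2 ^ 6) = true := by decide +kernel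
theorem t1690_rchk_3000 : allR t1690_rf 352792 6 (3000 * 2 ^ 6) = true := by decide +kernel
theorem t1690_rchk_3001 : allR t1690_rf 352792 6 (3001 * 2 ^ 6) = true := by decide +kernel
theorem t1690_rchk_3002 : allR t1690_rf 352792 6 (3002 * 2 ^ 6) = true := by decide +kernel
theorem t1690_rchk_3003 : allR t1690_rf 352792 6 (3003 * 2 ^ 6) = true := by decide +kernel
theorem t1690_rchk_3004 : allR t1690_rf 352792 6 (3004 * 2 ^ 6) = true := by decide +kernel
theorem t1690_rchk_3005 : allR t1690_rf 352792 6 (3005 * 2 ^ 6) = true := by decide +kernel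
theorem t1690_rchk_3006 : allR t1690_rf 352792 6 (3006 * 2 ^ 6) = true := by decide +kernel
theorem t1690_rchk_3007 : allR t1690_rf 352792 6 (3007 * 2 ^ 6) = true := by decide +kernel
theorem t1690_rchk_3008 : allR t1690_rf 352792 6 (3008 * 2 ^ 6) = true := by decide +kernel
theorem t1690_rchk_3009 : allR t1690_rf 352792 6 (3009 * 2 ^ 6) = true := by decide +kernel
theorem t1690_rchk_3010 : allR t1690_rf 352792 6 (3010 * 2 ^ 6) = true := by decide +kernel
theorem t1690_rchk_3011 : allR t1690_rf 352792 6 (3011 * 2 ^ 6) = true := by decide +kernel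
theorem t1690_rchk_3012 : allR t1690_rf 352792 6 (3012 * 2 ^ 6) = true := by decide +kernel
theorem t1690_rchk_3013 : allR t1690_rf 352792 6 (3013 * 2 ^ 6) = true := by decide +kernel
theorem t1690_rchk_3014 : allR t1690_rf 352792 6 (3014 * 2 ^ 6) = true := by decide +kernel
theorem t1690_rchk_3015 : allR t1690_rf 352792 6 (3015 * 2 ^ 6) = true := by decide +kernel
theorem t1690_rchk_3016 : allR t1690_rf 352792 6 (3016 * 2 ^ 6) = true := by decide +kernel
theorem t1690_rchk_3017 : allR t1690_rf 352792 6 (3017 * 2 ^ 6) = true := by decide +kernel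
theorem t1690_rchk_3018 : allR t1690_rf 352792 6 (3018 * 2 ^ 6) = true := by decide +kernel
theorem t1690_rchk_3019 : allR t1690_rf 352792 6 (3019 * 2 ^ 6) = true := by decide +kernel
theorem t1690_rchk_3020 : allR t1690_rf 352792 6 (3020 * 2 ^ 6) = true := by decide +kernel
theorem t1690_rchk_3021 : allR t1690_rf 352792 6 (3021 * 2 ^ 6) = true := by decide +kernel
theorem t1690_rchk_3022 : allR t1690_rf 352792 6 (3022 * 2 ^ 6) = true := by decide +kernel
theorem t1690_rchk_3023 : allR t1690_rf 352792 6 (3023 * 2 ^ 6) = true := by decide +kernel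
theorem t1690_rchk_3024 : allR t1690_rf 352792 6 (3024 * 2 ^ 6) = true := by decide +kernel
theorem t1690_rchk_3025 : allR t1690_rf 352792 6 (3025 * 2 ^ 6) = true := by decide +kernel
theorem t1690_rchk_3026 : allR t1690_rf 352792 6 (3026 * 2 ^ 6) = true := by decide +kernel
theorem t1690_rchk_3027 : allR t1690_rf 352792 6 (3027 * 2 ^ 6) = true := by decide +kernel
theorem t1690_rchk_3028 : allR t1690_rf 352792 6 (3028 * 2 ^ 6) = true := by decide +kernel
theorem t1690_rchk_3029 : allR t1690_rf 352792 6 (3029 * 2 ^ 6) = true := by decide +kernel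
theorem t1690_rchk_3030 : allR t1690_rf 352792 6 (3030 * 2 ^ 6) = true := by decide +kernel
theorem t1690_rchk_3031 : allR t1690_rf 352792 6 (3031 * 2 ^ 6) = true := by decide +kernel
theorem t1690_rchk_3032 : allR t1690_rf 352792 6 (3032 * 2 ^ 6) = true := by decide +kernel
theorem t1690_rchk_3033 : allR t1690_rf 352792 6 (3033 * 2 ^ 6) = true := by decide +kernel
theorem t1690_rchk_3034 : allR t1690_rf 352792 6 (3034 * 2 ^ 6) = true := by decide +kernel
theorem t1690_rchk_3035 : allR t1690_rf 352792 6 (3035 * 2 ^ 6) = true := by decide +kernel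
theorem t1690_rchk_3036 : allR t1690_rf 352792 6 (3036 * 2 ^ 6) = true := by decide +kernel
theorem t1690_rchk_3037 : allR t1690_rf 352792 6 (3037 * 2 ^ 6) = true := by decide +kernel
theorem t1690_rchk_3038 : allR t1690_rf 352792 6 (3038 * 2 ^ 6) = true := by decide +kernel
theorem t1690_rchk_3039 : allR t1690_rf 352792 6 (3039 * 2 ^ 6) = true := by decide +kernel

theorem t1690_rfile_37 : ∀ k, k < 3040 → 2960 ≤ k → allR t1690_rf 352792 6 (k * 2 ^ 6) = true := by
  intro k h1 h2
  interval_cases k
  · exact t1690_rchk_2960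
  · exact t1690_rchk_2961
  · exact t1690_rchk_2962
  · exact t1690_rchk_2963
  · exact t1690_rchk_2964
  · exact t1690_rchk_2965
  · exact t1690_rchk_2966
  · exact t1690_rchk_2967
  · exact t1690_rchk_2968
  · exact t1690_rchk_2969
  · exact t1690_rchk_2970
  · exact t1690_rchk_2971
  · exact t1690_rchk_2972
  · exact t1690_rchk_2973
  · exact t1690_rchk_2974
  · exact t1690_rchk_2975
  · exact t1690_rchk_2976
  · exact t1690_rchk_2977
  · exact t1690_rchk_2978
  · exact t1690_rchk_2979
  · exact t1690_rchk_2980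
  · exact t1690_rchk_2981
  · exact t1690_rchk_2982
  · exact t1690_rchk_2983
  · exact t1690_rchk_2984
  · exact t1690_rchk_2985
  · exact t1690_rchk_2986
  · exact t1690_rchk_2987
  · exact t1690_rchk_2988
  · exact t1690_rchk_2989
  · exact t1690_rchk_2990
  · exact t1690_rchk_2991
  · exact t1690_rchk_2992
  · exact t1690_rchk_2993
  · exact t1690_rchk_2994
  · exact t1690_rchk_2995
  · exact t1690_rchk_2996
  · exact t1690_rchk_2997
  · exact t1690_rchk_2998
  · exact t1690_rchk_2999
  · exact t1690_rchk_3000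
  · exact t1690_rchk_3001
  · exact t1690_rchk_3002
  · exact t1690_rchk_3003
  · exact t1690_rchk_3004
  · exact t1690_rchk_3005
  · exact t1690_rchk_3006
  · exact t1690_rchk_3007
  · exact t1690_rchk_3008
  · exact t1690_rchk_3009
  · exact t1690_rchk_3010
  · exact t1690_rchk_3011
  · exact t1690_rchk_3012
  · exact t1690_rchk_3013
  · exact t1690_rchk_3014
  · exact t1690_rchk_3015
  · exact t1690_rchk_3016
  · exact t1690_rchk_3017
  · exact t1690_rchk_3018
  · exact t1690_rchk_3019
  · exact t1690_rchk_3020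
  · exact t1690_rchk_3021
  · exact t1690_rchk_3022
  · exact t1690_rchk_3023
  · exact t1690_rchk_3024
  · exact t1690_rchk_3025
  · exact t1690_rchk_3026
  · exact t1690_rchk_3027
  · exact t1690_rchk_3028
  · exact t1690_rchk_3029
  · exact t1690_rchk_3030
  · exact t1690_rchk_3031
  · exact t1690_rchk_3032
  · exact t1690_rchk_3033
  · exact t1690_rchk_3034
  · exact t1690_rchk_3035
  · exact t1690_rchk_3036
  · exact t1690_rchk_3037
  · exact t1690_rchk_3038
  · exact t1690_rchk_3039

end Cfsg.Agent.H35
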