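import Cfsg.Agent.H35.T1690.RTab

set_option autoImplicit false
set_option linter.all false
set_option Elab.async false

namespace Cfsg.Agent.H35

theorem t1690_rchk_3040 : allR t1690_rf 352792 6 (3040 * 2 ^ 6) = true := by decide +kernel
theorem t1690_rchk_3041 : allR t1690_rf 352792 6 (3041 * 2 ^ 6) = true := by decide +kernel
theorem t1690_rchk_3042 : allR t1690_rf 352792 6 (3042 * 2 ^ 6) = true := by decide +kernel
theorem t1690_rchk_3043 : allR t1690_rf 352792 6 (3043 * 2 ^ 6) = true := by decide +kernel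
theorem t1690_rchk_3044 : allR t1690_rf 352792 6 (3044 * 2 ^ 6) = true := by decide +kernel
theorem t1690_rchk_3045 : allR t1690_rf 352792 6 (3045 * 2 ^ 6) = true := by decide +kernel
theorem t1690_rchk_3046 : allR t1690_rf 352792 6 (3046 * 2 ^ 6) = true := by decide +kernel
theorem t1690_rchk_3047 : allR t1690_rf 352792 6 (3047 * 2 ^ 6) = true := by decide +kernel
theorem t1690_rchk_3048 : allR t1690_rf 352792 6 (3048 * 2 ^ 6) = true := by decide +kernel
theorem t1690_rchk_3049 : allR t1690_rf 352792 6 (3049 * 2 ^ 6) = true := by decide +kernel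
theorem t1690_rchk_3050 : allR t1690_rf 352792 6 (3050 * 2 ^ 6) = true := by decide +kernel
theorem t1690_rchk_3051 : allR t1690_rf 352792 6 (3051 * 2 ^ 6) = true := by decide +kernel
theorem t1690_rchk_3052 : allR t1690_rf 352792 6 (3052 * 2 ^ 6) = true := by decide +kernel
theorem t1690_rchk_3053 : allR t1690_rf 352792 6 (3053 * 2 ^ 6) = true := by decide +kernel
theorem t1690_rchk_3054 : allR t1690_rf 352792 6 (3054 * 2 ^ 6) = true := by decide +kernel
theorem t1690_rchk_3055 : allR t1690_rf 352792 6 (3055 * 2 ^ 6) = true := by decide +kernel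
theorem t1690_rchk_3056 : allR t1690_rf 352792 6 (3056 * 2 ^ 6) = true := by decide +kernel
theorem t1690_rchk_3057 : allR t1690_rf 352792 6 (3057 * 2 ^ 6) = true := by decide +kernel
theorem t1690_rchk_3058 : allR t1690_rf 352792 6 (3058 * 2 ^ 6) = true := by decide +kernel
theorem t1690_rchk_3059 : allR t1690_rf 352792 6 (3059 * 2 ^ 6) = true := by decide +kernel
theorem t1690_rchk_3060 : allR t1690_rf 352792 6 (3060 * 2 ^ 6) = true := by decide +kernel
theorem t1690_rchk_3061 : allR t1690_rf 352792 6 (3061 * 2 ^ 6) = true := by decide +kernel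
theorem t1690_rchk_3062 : allR t1690_rf 352792 6 (3062 * 2 ^ 6) = true := by decide +kernel
theorem t1690_rchk_3063 : allR t1690_rf 352792 6 (3063 * 2 ^ 6) = true := by decide +kernel
theorem t1690_rchk_3064 : allR t1690_rf 352792 6 (3064 * 2 ^ 6) = true := by decide +kernel
theorem t1690_rchk_3065 : allR t1690_rf 352792 6 (3065 * 2 ^ 6) = true := by decide +kernel
theorem t1690_rchk_3066 : allR t1690_rf 352792 6 (3066 * 2 ^ 6) = true := by decide +kernel
theorem t1690_rchk_3067 : allR t1690_rf 352792 6 (3067 * 2 ^ 6) = true := by decide +kernel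
theorem t1690_rchk_3068 : allR t1690_rf 352792 6 (3068 * 2 ^ 6) = true := by decide +kernel
theorem t1690_rchk_3069 : allR t1690_rf 352792 6 (3069 * 2 ^ 6) = true := by decide +kernel
theorem t1690_rchk_3070 : allR t1690_rf 352792 6 (3070 * 2 ^ 6) = true := by decide +kernel
theorem t1690_rchk_3071 : allR t1690_rf 352792 6 (3071 * 2 ^ 6) = true := by decide +kernel
theorem t1690_rchk_3072 : allR t1690_rf 352792 6 (3072 * 2 ^ 6) = true := by decide +kernel
theorem t1690_rchk_3073 : allR t1690_rf 352792 6 (3073 * 2 ^ 6) = true := by decide +kernel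
theorem t1690_rchk_3074 : allR t1690_rf 352792 6 (3074 * 2 ^ 6) = true := by decide +kernel
theorem t1690_rchk_3075 : allR t1690_rf 352792 6 (3075 * 2 ^ 6) = true := by decide +kernel
theorem t1690_rchk_3076 : allR t1690_rf 352792 6 (3076 * 2 ^ 6) = true := by decide +kernel
theorem t1690_rchk_3077 : allR t1690_rf 352792 6 (3077 * 2 ^ 6) = true := by decide +kernel
theorem t1690_rchk_3078 : allR t1690_rf 352792 6 (3078 * 2 ^ 6) = true := by decide +kernel
theorem t1690_rchk_3079 : allR t1690_rf 352792 6 (3079 * 2 ^ 6) = true := by decide +kernel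
theorem t1690_rchk_3080 : allR t1690_rf 352792 6 (3080 * 2 ^ 6) = true := by decide +kernel
theorem t1690_rchk_3081 : allR t1690_rf 352792 6 (3081 * 2 ^ 6) = true := by decide +kernel
theorem t1690_rchk_3082 : allR t1690_rf 352792 6 (3082 * 2 ^ 6) = true := by decide +kernel
theorem t1690_rchk_3083 : allR t1690_rf 352792 6 (3083 * 2 ^ 6) = true := by decide +kernel
theorem t1690_rchk_3084 : allR t1690_rf 352792 6 (3084 * 2 ^ 6) = true := by decide +kernel
theorem t1690_rchk_3085 : allR t1690_rf 352792 6 (3085 * 2 ^ 6) = true := by decide +kernel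
theorem t1690_rchk_3086 : allR t1690_rf 352792 6 (3086 * 2 ^ 6) = true := by decide +kernel
theorem t1690_rchk_3087 : allR t1690_rf 352792 6 (3087 * 2 ^ 6) = true := by decide +kernel
theorem t1690_rchk_3088 : allR t1690_rf 352792 6 (3088 * 2 ^ 6) = true := by decide +kernel
theorem t1690_rchk_3089 : allR t1690_rf 352792 6 (3089 * 2 ^ 6) = true := by decide +kernel
theorem t1690_rchk_3090 : allR t1690_rf 352792 6 (3090 * 2 ^ 6) = true := by decide +kernel
theorem t1690_rchk_3091 : allR t1690_rf 352792 6 (3091 * 2 ^ 6) = true := by decide +kernel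
theorem t1690_rchk_3092 : allR t1690_rf 352792 6 (3092 * 2 ^ 6) = true := by decide +kernel
theorem t1690_rchk_3093 : allR t1690_rf 352792 6 (3093 * 2 ^ 6) = true := by decide +kernel
theorem t1690_rchk_3094 : allR t1690_rf 352792 6 (3094 * 2 ^ 6) = true := by decide +kernel
theorem t1690_rchk_3095 : allR t1690_rf 352792 6 (3095 * 2 ^ 6) = true := by decide +kernel
theorem t1690_rchk_3096 : allR t1690_rf 352792 6 (3096 * 2 ^ 6) = true := by decide +kernel
theorem t1690_rchk_3097 : allR t1690_rf 352792 6 (3097 * 2 ^ 6) = true := by decide +kernel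
theorem t1690_rchk_3098 : allR t1690_rf 352792 6 (3098 * 2 ^ 6) = true := by decide +kernel
theorem t1690_rchk_3099 : allR t1690_rf 352792 6 (3099 * 2 ^ 6) = true := by decide +kernel
theorem t1690_rchk_3100 : allR t1690_rf 352792 6 (3100 * 2 ^ 6) = true := by decide +kernel
theorem t1690_rchk_3101 : allR t1690_rf 352792 6 (3101 * 2 ^ 6) = true := by decide +kernel
theorem t1690_rchk_3102 : allR t1690_rf 352792 6 (3102 * 2 ^ 6) = true := by decide +kernel
theorem t1690_rchk_3103 : allR t1690_rf 352792 6 (3103 * 2 ^ 6) = true := by decide +kernel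
theorem t1690_rchk_3104 : allR t1690_rf 352792 6 (3104 * 2 ^ 6) = true := by decide +kernel
theorem t1690_rchk_3105 : allR t1690_rf 352792 6 (3105 * 2 ^ 6) = true := by decide +kernel
theorem t1690_rchk_3106 : allR t1690_rf 352792 6 (3106 * 2 ^ 6) = true := by decide +kernel
theorem t1690_rchk_3107 : allR t1690_rf 352792 6 (3107 * 2 ^ 6) = true := by decide +kernel
theorem t1690_rchk_3108 : allR t1690_rf 352792 6 (3108 * 2 ^ 6) = true := by decide +kernel
theorem t1690_rchk_3109 : allR t1690_rf 352792 6 (3109 * 2 ^ 6) = true := by decide +kernel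
theorem t1690_rchk_3110 : allR t1690_rf 352792 6 (3110 * 2 ^ 6) = true := by decide +kernel
theorem t1690_rchk_3111 : allR t1690_rf 352792 6 (3111 * 2 ^ 6) = true := by decide +kernel
theorem t1690_rchk_3112 : allR t1690_rf 352792 6 (3112 * 2 ^ 6) = true := by decide +kernel
theorem t1690_rchk_3113 : allR t1690_rf 352792 6 (3113 * 2 ^ 6) = true := by decide +kernel
theorem t1690_rchk_3114 : allR t1690_rf 352792 6 (3114 * 2 ^ 6) = true := by decide +kernel
theorem t1690_rchk_3115 : allR t1690_rf 352792 6 (3115 * 2 ^ 6) = true := by decide +kernel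
theorem t1690_rchk_3116 : allR t1690_rf 352792 6 (3116 * 2 ^ 6) = true := by decide +kernel
theorem t1690_rchk_3117 : allR t1690_rf 352792 6 (3117 * 2 ^ 6) = true := by decide +kernel
theorem t1690_rchk_3118 : allR t1690_rf 352792 6 (3118 * 2 ^ 6) = true := by decide +kernel
theorem t1690_rchk_3119 : allR t1690_rf 352792 6 (3119 * 2 ^ 6) = true := by decide +kernel

theorem t1690_rfile_38 : ∀ k, k < 3120 → 3040 ≤ k → allR t1690_rf 352792 6 (k * 2 ^ 6) = true := by
  intro k h1 h2
  interval_cases k
  · exact t1690_rchk_3040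
  · exact t1690_rchk_3041
  · exact t1690_rchk_3042
  · exact t1690_rchk_3043
  · exact t1690_rchk_3044
  · exact t1690_rchk_3045
  · exact t1690_rchk_3046
  · exact t1690_rchk_3047
  · exact t1690_rchk_3048
  · exact t1690_rchk_3049
  · exact t1690_rchk_3050
  · exact t1690_rchk_3051
  · exact t1690_rchk_3052
  · exact t1690_rchk_3053
  · exact t1690_rchk_3054
  · exact t1690_rchk_3055
  · exact t1690_rchk_3056
  · exact t1690_rchk_3057
  · exact t1690_rchk_3058
  · exact t1690_rchk_3059
  · exact t1690_rchk_3060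
  · exact t1690_rchk_3061
  · exact t1690_rchk_3062
  · exact t1690_rchk_3063
  · exact t1690_rchk_3064
  · exact t1690_rchk_3065
  · exact t1690_rchk_3066
  · exact t1690_rchk_3067
  · exact t1690_rchk_3068
  · exact t1690_rchk_3069
  · exact t1690_rchk_3070
  · exact t1690_rchk_3071
  · exact t1690_rchk_3072
  · exact t1690_rchk_3073
  · exact t1690_rchk_3074
  · exact t1690_rchk_3075
  · exact t1690_rchk_3076
  · exact t1690_rchk_3077
  · exact t1690_rchk_3078
  · exact t1690_rchk_3079
  · exact t1690_rchk_3080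
  · exact t1690_rchk_3081
  · exact t1690_rchk_3082
  · exact t1690_rchk_3083
  · exact t1690_rchk_3084
  · exact t1690_rchk_3085
  · exact t1690_rchk_3086
  · exact t1690_rchk_3087
  · exact t1690_rchk_3088
  · exact t1690_rchk_3089
  · exact t1690_rchk_3090
  · exact t1690_rchk_3091
  · exact t1690_rchk_3092
  · exact t1690_rchk_3093
  · exact t1690_rchk_3094
  · exact t1690_rchk_3095
  · exact t1690_rchk_3096
  · exact t1690_rchk_3097
  · exact t1690_rchk_3098
  · exact t1690_rchk_3099
  · exact t1690_rchk_3100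
  · exact t1690_rchk_3101
  · exact t1690_rchk_3102
  · exact t1690_rchk_3103
  · exact t1690_rchk_3104
  · exact t1690_rchk_3105
  · exact t1690_rchk_3106
  · exact t1690_rchk_3107
  · exact t1690_rchk_3108
  · exact t1690_rchk_3109
  · exact t1690_rchk_3110
  · exact t1690_rchk_3111
  · exact t1690_rchk_3112
  · exact t1690_rchk_3113
  · exact t1690_rchk_3114
  · exact t1690_rchk_3115
  · exact t1690_rchk_3116
  · exact t1690_rchk_3117
  · exact t1690_rchk_3118
  · exact t1690_rchk_3119

end Cfsg.Agent.H35
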