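import Cfsg.Agent.H35.T1690.RTab

set_option autoImplicit false
set_option linter.all false
set_option Elab.async false

namespace Cfsg.Agent.H35

theorem t1690_rchk_3120 : allR t1690_rf 352792 6 (3120 * 2 ^ 6) = true := by decide +kernel
theorem t1690_rchk_3121 : allR t1690_rf 352792 6 (3121 * 2 ^ 6) = true := by decide +kernel
theorem t1690_rchk_3122 : allR t1690_rf 352792 6 (3122 * 2 ^ 6) = true := by decide +kernel
theorem t1690_rchk_3123 : allR t1690_rf 352792 6 (3123 * 2 ^ 6) = true := by decide +kernel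
theorem t1690_rchk_3124 : allR t1690_rf 352792 6 (3124 * 2 ^ 6) = true := by decide +kernel
theorem t1690_rchk_3125 : allR t1690_rf 352792 6 (3125 * 2 ^ 6) = true := by decide +kernel
theorem t1690_rchk_3126 : allR t1690_rf 352792 6 (3126 * 2 ^ 6) = true := by decide +kernel
theorem t1690_rchk_3127 : allR t1690_rf 352792 6 (3127 * 2 ^ 6) = true := by decide +kernel
theorem t1690_rchk_3128 : allR t1690_rf 352792 6 (3128 * 2 ^ 6) = true := by decide +kernel
theorem t1690_rchk_3129 : allR t1690_rf 352792 6 (3129 * 2 ^ 6) = true := by decide +kernel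
theorem t1690_rchk_3130 : allR t1690_rf 352792 6 (3130 * 2 ^ 6) = true := by decide +kernel
theorem t1690_rchk_3131 : allR t1690_rf 352792 6 (3131 * 2 ^ 6) = true := by decide +kernel
theorem t1690_rchk_3132 : allR t1690_rf 352792 6 (3132 * 2 ^ 6) = true := by decide +kernel
theorem t1690_rchk_3133 : allR t1690_rf 352792 6 (3133 * 2 ^ 6) = true := by decide +kernel
theorem t1690_rchk_3134 : allR t1690_rf 352792 6 (3134 * 2 ^ 6) = true := by decide +kernel
theorem t1690_rchk_3135 : allR t1690_rf 352792 6 (3135 * 2 ^ 6) = true := by decide +kernel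
theorem t1690_rchk_3136 : allR t1690_rf 352792 6 (3136 * 2 ^ 6) = true := by decide +kernel
theorem t1690_rchk_3137 : allR t1690_rf 352792 6 (3137 * 2 ^ 6) = true := by decide +kernel
theorem t1690_rchk_3138 : allR t1690_rf 352792 6 (3138 * 2 ^ 6) = true := by decide +kernel
theorem t1690_rchk_3139 : allR t1690_rf 352792 6 (3139 * 2 ^ 6) = true := by decide +kernel
theorem t1690_rchk_3140 : allR t1690_rf 352792 6 (3140 * 2 ^ 6) = true := by decide +kernel
theorem t1690_rchk_3141 : allR t1690_rf 352792 6 (3141 * 2 ^ 6) = true := by decide +kernel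
theorem t1690_rchk_3142 : allR t1690_rf 352792 6 (3142 * 2 ^ 6) = true := by decide +kernel
theorem t1690_rchk_3143 : allR t1690_rf 352792 6 (3143 * 2 ^ 6) = true := by decide +kernel
theorem t1690_rchk_3144 : allR t1690_rf 352792 6 (3144 * 2 ^ 6) = true := by decide +kernel
theorem t1690_rchk_3145 : allR t1690_rf 352792 6 (3145 * 2 ^ 6) = true := by decide +kernel
theorem t1690_rchk_3146 : allR t1690_rf 352792 6 (3146 * 2 ^ 6) = true := by decide +kernel
theorem t1690_rchk_3147 : allR t1690_rf 352792 6 (3147 * 2 ^ 6) = true := by decide +kernel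
theorem t1690_rchk_3148 : allR t1690_rf 352792 6 (3148 * 2 ^ 6) = true := by decide +kernel
theorem t1690_rchk_3149 : allR t1690_rf 352792 6 (3149 * 2 ^ 6) = true := by decide +kernel
theorem t1690_rchk_3150 : allR t1690_rf 352792 6 (3150 * 2 ^ 6) = true := by decide +kernel
theorem t1690_rchk_3151 : allR t1690_rf 352792 6 (3151 * 2 ^ 6) = true := by decide +kernel
theorem t1690_rchk_3152 : allR t1690_rf 352792 6 (3152 * 2 ^ 6) = true := by decide +kernel
theorem t1690_rchk_3153 : allR t1690_rf 352792 6 (3153 * 2 ^ 6) = true := by decide +kernel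
theorem t1690_rchk_3154 : allR t1690_rf 352792 6 (3154 * 2 ^ 6) = true := by decide +kernel
theorem t1690_rchk_3155 : allR t1690_rf 352792 6 (3155 * 2 ^ 6) = true := by decide +kernel
theorem t1690_rchk_3156 : allR t1690_rf 352792 6 (3156 * 2 ^ 6) = true := by decide +kernel
theorem t1690_rchk_3157 : allR t1690_rf 352792 6 (3157 * 2 ^ 6) = true := by decide +kernel
theorem t1690_rchk_3158 : allR t1690_rf 352792 6 (3158 * 2 ^ 6) = true := by decide +kernel
theorem t1690_rchk_3159 : allR t1690_rf 352792 6 (3159 * 2 ^ 6) = true := by decide +kernel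
theorem t1690_rchk_3160 : allR t1690_rf 352792 6 (3160 * 2 ^ 6) = true := by decide +kernel
theorem t1690_rchk_3161 : allR t1690_rf 352792 6 (3161 * 2 ^ 6) = true := by decide +kernel
theorem t1690_rchk_3162 : allR t1690_rf 352792 6 (3162 * 2 ^ 6) = true := by decide +kernel
theorem t1690_rchk_3163 : allR t1690_rf 352792 6 (3163 * 2 ^ 6) = true := by decide +kernel
theorem t1690_rchk_3164 : allR t1690_rf 352792 6 (3164 * 2 ^ 6) = true := by decide +kernel
theorem t1690_rchk_3165 : allR t1690_rf 352792 6 (3165 * 2 ^ 6) = true := by decide +kernel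
theorem t1690_rchk_3166 : allR t1690_rf 352792 6 (3166 * 2 ^ 6) = true := by decide +kernel
theorem t1690_rchk_3167 : allR t1690_rf 352792 6 (3167 * 2 ^ 6) = true := by decide +kernel
theorem t1690_rchk_3168 : allR t1690_rf 352792 6 (3168 * 2 ^ 6) = true := by decide +kernel
theorem t1690_rchk_3169 : allR t1690_rf 352792 6 (3169 * 2 ^ 6) = true := by decide +kernel
theorem t1690_rchk_3170 : allR t1690_rf 352792 6 (3170 * 2 ^ 6) = true := by decide +kernel
theorem t1690_rchk_3171 : allR t1690_rf 352792 6 (3171 * 2 ^ 6) = true := by decide +kernel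
theorem t1690_rchk_3172 : allR t1690_rf 352792 6 (3172 * 2 ^ 6) = true := by decide +kernel
theorem t1690_rchk_3173 : allR t1690_rf 352792 6 (3173 * 2 ^ 6) = true := by decide +kernel
theorem t1690_rchk_3174 : allR t1690_rf 352792 6 (3174 * 2 ^ 6) = true := by decide +kernel
theorem t1690_rchk_3175 : allR t1690_rf 352792 6 (3175 * 2 ^ 6) = true := by decide +kernel
theorem t1690_rchk_3176 : allR t1690_rf 352792 6 (3176 * 2 ^ 6) = true := by decide +kernel
theorem t1690_rchk_3177 : allR t1690_rf 352792 6 (3177 * 2 ^ 6) = true := by decide +kernel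
theorem t1690_rchk_3178 : allR t1690_rf 352792 6 (3178 * 2 ^ 6) = true := by decide +kernel
theorem t1690_rchk_3179 : allR t1690_rf 352792 6 (3179 * 2 ^ 6) = true := by decide +kernel
theorem t1690_rchk_3180 : allR t1690_rf 352792 6 (3180 * 2 ^ 6) = true := by decide +kernel
theorem t1690_rchk_3181 : allR t1690_rf 352792 6 (3181 * 2 ^ 6) = true := by decide +kernel
theorem t1690_rchk_3182 : allR t1690_rf 352792 6 (3182 * 2 ^ 6) = true := by decide +kernel
theorem t1690_rchk_3183 : allR t1690_rf 352792 6 (3183 * 2 ^ 6) = true := by decide +kernel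
theorem t1690_rchk_3184 : allR t1690_rf 352792 6 (3184 * 2 ^ 6) = true := by decide +kernel
theorem t1690_rchk_3185 : allR t1690_rf 352792 6 (3185 * 2 ^ 6) = true := by decide +kernel
theorem t1690_rchk_3186 : allR t1690_rf 352792 6 (3186 * 2 ^ 6) = true := by decide +kernel
theorem t1690_rchk_3187 : allR t1690_rf 352792 6 (3187 * 2 ^ 6) = true := by decide +kernel
theorem t1690_rchk_3188 : allR t1690_rf 352792 6 (3188 * 2 ^ 6) = true := by decide +kernel
theorem t1690_rchk_3189 : allR t1690_rf 352792 6 (3189 * 2 ^ 6) = true := by decide +kernel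
theorem t1690_rchk_3190 : allR t1690_rf 352792 6 (3190 * 2 ^ 6) = true := by decide +kernel
theorem t1690_rchk_3191 : allR t1690_rf 352792 6 (3191 * 2 ^ 6) = true := by decide +kernel
theorem t1690_rchk_3192 : allR t1690_rf 352792 6 (3192 * 2 ^ 6) = true := by decide +kernel
theorem t1690_rchk_3193 : allR t1690_rf 352792 6 (3193 * 2 ^ 6) = true := by decide +kernel
theorem t1690_rchk_3194 : allR t1690_rf 352792 6 (3194 * 2 ^ 6) = true := by decide +kernel
theorem t1690_rchk_3195 : allR t1690_rf 352792 6 (3195 * 2 ^ 6) = true := by decide +kernel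
theorem t1690_rchk_3196 : allR t1690_rf 352792 6 (3196 * 2 ^ 6) = true := by decide +kernel
theorem t1690_rchk_3197 : allR t1690_rf 352792 6 (3197 * 2 ^ 6) = true := by decide +kernel
theorem t1690_rchk_3198 : allR t1690_rf 352792 6 (3198 * 2 ^ 6) = true := by decide +kernel
theorem t1690_rchk_3199 : allR t1690_rf 352792 6 (3199 * 2 ^ 6) = true := by decide +kernel

theorem t1690_rfile_39 : ∀ k, k < 3200 → 3120 ≤ k → allR t1690_rf 352792 6 (k * 2 ^ 6) = true := by
  intro k h1 h2
  interval_cases k
  · exact t1690_rchk_3120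
  · exact t1690_rchk_3121
  · exact t1690_rchk_3122
  · exact t1690_rchk_3123
  · exact t1690_rchk_3124
  · exact t1690_rchk_3125
  · exact t1690_rchk_3126
  · exact t1690_rchk_3127
  · exact t1690_rchk_3128
  · exact t1690_rchk_3129
  · exact t1690_rchk_3130
  · exact t1690_rchk_3131
  · exact t1690_rchk_3132
  · exact t1690_rchk_3133
  · exact t1690_rchk_3134
  · exact t1690_rchk_3135
  · exact t1690_rchk_3136
  · exact t1690_rchk_3137
  · exact t1690_rchk_3138
  · exact t1690_rchk_3139
  · exact t1690_rchk_3140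
  · exact t1690_rchk_3141
  · exact t1690_rchk_3142
  · exact t1690_rchk_3143
  · exact t1690_rchk_3144
  · exact t1690_rchk_3145
  · exact t1690_rchk_3146
  · exact t1690_rchk_3147
  · exact t1690_rchk_3148
  · exact t1690_rchk_3149
  · exact t1690_rchk_3150
  · exact t1690_rchk_3151
  · exact t1690_rchk_3152
  · exact t1690_rchk_3153
  · exact t1690_rchk_3154
  · exact t1690_rchk_3155
  · exact t1690_rchk_3156
  · exact t1690_rchk_3157
  · exact t1690_rchk_3158
  · exact t1690_rchk_3159
  · exact t1690_rchk_3160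
  · exact t1690_rchk_3161
  · exact t1690_rchk_3162
  · exact t1690_rchk_3163
  · exact t1690_rchk_3164
  · exact t1690_rchk_3165
  · exact t1690_rchk_3166
  · exact t1690_rchk_3167
  · exact t1690_rchk_3168
  · exact t1690_rchk_3169
  · exact t1690_rchk_3170
  · exact t1690_rchk_3171
  · exact t1690_rchk_3172
  · exact t1690_rchk_3173
  · exact t1690_rchk_3174
  · exact t1690_rchk_3175
  · exact t1690_rchk_3176
  · exact t1690_rchk_3177
  · exact t1690_rchk_3178
  · exact t1690_rchk_3179
  · exact t1690_rchk_3180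
  · exact t1690_rchk_3181
  · exact t1690_rchk_3182
  · exact t1690_rchk_3183
  · exact t1690_rchk_3184
  · exact t1690_rchk_3185
  · exact t1690_rchk_3186
  · exact t1690_rchk_3187
  · exact t1690_rchk_3188
  · exact t1690_rchk_3189
  · exact t1690_rchk_3190
  · exact t1690_rchk_3191
  · exact t1690_rchk_3192
  · exact t1690_rchk_3193
  · exact t1690_rchk_3194
  · exact t1690_rchk_3195
  · exact t1690_rchk_3196
  · exact t1690_rchk_3197
  · exact t1690_rchk_3198
  · exact t1690_rchk_3199

end Cfsg.Agent.H35
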