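import Cfsg.Agent.H35.T1690.RTab

set_option autoImplicit false
set_option linter.all false
set_option Elab.async false

namespace Cfsg.Agent.H35

theorem t1690_rchk_3200 : allR t1690_rf 352792 6 (3200 * 2 ^ 6) = true := by decide +kernel
theorem t1690_rchk_3201 : allR t1690_rf 352792 6 (3201 * 2 ^ 6) = true := by decide +kernel
theorem t1690_rchk_3202 : allR t1690_rf 352792 6 (3202 * 2 ^ 6) = true := by decide +kernel
theorem t1690_rchk_3203 : allR t1690_rf 352792 6 (3203 * 2 ^ 6) = true := by decide +kernel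
theorem t1690_rchk_3204 : allR t1690_rf 352792 6 (3204 * 2 ^ 6) = true := by decide +kernel
theorem t1690_rchk_3205 : allR t1690_rf 352792 6 (3205 * 2 ^ 6) = true := by decide +kernel
theorem t1690_rchk_3206 : allR t1690_rf 352792 6 (3206 * 2 ^ 6) = true := by decide +kernel
theorem t1690_rchk_3207 : allR t1690_rf 352792 6 (3207 * 2 ^ 6) = true := by decide +kernel
theorem t1690_rchk_3208 : allR t1690_rf 352792 6 (3208 * 2 ^ 6) = true := by decide +kernel
theorem t1690_rchk_3209 : allR t1690_rf 352792 6 (3209 * 2 ^ 6) = true := by decide +kernel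
theorem t1690_rchk_3210 : allR t1690_rf 352792 6 (3210 * 2 ^ 6) = true := by decide +kernel
theorem t1690_rchk_3211 : allR t1690_rf 352792 6 (3211 * 2 ^ 6) = true := by decide +kernel
theorem t1690_rchk_3212 : allR t1690_rf 352792 6 (3212 * 2 ^ 6) = true := by decide +kernel
theorem t1690_rchk_3213 : allR t1690_rf 352792 6 (3213 * 2 ^ 6) = true := by decide +kernel
theorem t1690_rchk_3214 : allR t1690_rf 352792 6 (3214 * 2 ^ 6) = true := by decide +kernel
theorem t1690_rchk_3215 : allR t1690_rf 352792 6 (3215 * 2 ^ 6) = true := by decide +kernel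
theorem t1690_rchk_3216 : allR t1690_rf 352792 6 (3216 * 2 ^ 6) = true := by decide +kernel
theorem t1690_rchk_3217 : allR t1690_rf 352792 6 (3217 * 2 ^ 6) = true := by decide +kernel
theorem t1690_rchk_3218 : allR t1690_rf 352792 6 (3218 * 2 ^ 6) = true := by decide +kernel
theorem t1690_rchk_3219 : allR t1690_rf 352792 6 (3219 * 2 ^ 6) = true := by decide +kernel
theorem t1690_rchk_3220 : allR t1690_rf 352792 6 (3220 * 2 ^ 6) = true := by decide +kernel
theorem t1690_rchk_3221 : allR t1690_rf 352792 6 (3221 * 2 ^ 6) = true := by decide +kernel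
theorem t1690_rchk_3222 : allR t1690_rf 352792 6 (3222 * 2 ^ 6) = true := by decide +kernel
theorem t1690_rchk_3223 : allR t1690_rf 352792 6 (3223 * 2 ^ 6) = true := by decide +kernel
theorem t1690_rchk_3224 : allR t1690_rf 352792 6 (3224 * 2 ^ 6) = true := by decide +kernel
theorem t1690_rchk_3225 : allR t1690_rf 352792 6 (3225 * 2 ^ 6) = true := by decide +kernel
theorem t1690_rchk_3226 : allR t1690_rf 352792 6 (3226 * 2 ^ 6) = true := by decide +kernel
theorem t1690_rchk_3227 : allR t1690_rf 352792 6 (3227 * 2 ^ 6) = true := by decide +kernel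
theorem t1690_rchk_3228 : allR t1690_rf 352792 6 (3228 * 2 ^ 6) = true := by decide +kernel
theorem t1690_rchk_3229 : allR t1690_rf 352792 6 (3229 * 2 ^ 6) = true := by decide +kernel
theorem t1690_rchk_3230 : allR t1690_rf 352792 6 (3230 * 2 ^ 6) = true := by decide +kernel
theorem t1690_rchk_3231 : allR t1690_rf 352792 6 (3231 * 2 ^ 6) = true := by decide +kernel
theorem t1690_rchk_3232 : allR t1690_rf 352792 6 (3232 * 2 ^ 6) = true := by decide +kernel
theorem t1690_rchk_3233 : allR t1690_rf 352792 6 (3233 * 2 ^ 6) = true := by decide +kernel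
theorem t1690_rchk_3234 : allR t1690_rf 352792 6 (3234 * 2 ^ 6) = true := by decide +kernel
theorem t1690_rchk_3235 : allR t1690_rf 352792 6 (3235 * 2 ^ 6) = true := by decide +kernel
theorem t1690_rchk_3236 : allR t1690_rf 352792 6 (3236 * 2 ^ 6) = true := by decide +kernel
theorem t1690_rchk_3237 : allR t1690_rf 352792 6 (3237 * 2 ^ 6) = true := by decide +kernel
theorem t1690_rchk_3238 : allR t1690_rf 352792 6 (3238 * 2 ^ 6) = true := by decide +kernel
theorem t1690_rchk_3239 : allR t1690_rf 352792 6 (3239 * 2 ^ 6) = true := by decide +kernel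
theorem t1690_rchk_3240 : allR t1690_rf 352792 6 (3240 * 2 ^ 6) = true := by decide +kernel
theorem t1690_rchk_3241 : allR t1690_rf 352792 6 (3241 * 2 ^ 6) = true := by decide +kernel
theorem t1690_rchk_3242 : allR t1690_rf 352792 6 (3242 * 2 ^ 6) = true := by decide +kernel
theorem t1690_rchk_3243 : allR t1690_rf 352792 6 (3243 * 2 ^ 6) = true := by decide +kernel
theorem t1690_rchk_3244 : allR t1690_rf 352792 6 (3244 * 2 ^ 6) = true := by decide +kernel
theorem t1690_rchk_3245 : allR t1690_rf 352792 6 (3245 * 2 ^ 6) = true := by decide +kernel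
theorem t1690_rchk_3246 : allR t1690_rf 352792 6 (3246 * 2 ^ 6) = true := by decide +kernel
theorem t1690_rchk_3247 : allR t1690_rf 352792 6 (3247 * 2 ^ 6) = true := by decide +kernel
theorem t1690_rchk_3248 : allR t1690_rf 352792 6 (3248 * 2 ^ 6) = true := by decide +kernel
theorem t1690_rchk_3249 : allR t1690_rf 352792 6 (3249 * 2 ^ 6) = true := by decide +kernel
theorem t1690_rchk_3250 : allR t1690_rf 352792 6 (3250 * 2 ^ 6) = true := by decide +kernel
theorem t1690_rchk_3251 : allR t1690_rf 352792 6 (3251 * 2 ^ 6) = true := by decide +kernel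
theorem t1690_rchk_3252 : allR t1690_rf 352792 6 (3252 * 2 ^ 6) = true := by decide +kernel
theorem t1690_rchk_3253 : allR t1690_rf 352792 6 (3253 * 2 ^ 6) = true := by decide +kernel
theorem t1690_rchk_3254 : allR t1690_rf 352792 6 (3254 * 2 ^ 6) = true := by decide +kernel
theorem t1690_rchk_3255 : allR t1690_rf 352792 6 (3255 * 2 ^ 6) = true := by decide +kernel
theorem t1690_rchk_3256 : allR t1690_rf 352792 6 (3256 * 2 ^ 6) = true := by decide +kernel
theorem t1690_rchk_3257 : allR t1690_rf 352792 6 (3257 * 2 ^ 6) = true := by decide +kernel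
theorem t1690_rchk_3258 : allR t1690_rf 352792 6 (3258 * 2 ^ 6) = true := by decide +kernel
theorem t1690_rchk_3259 : allR t1690_rf 352792 6 (3259 * 2 ^ 6) = true := by decide +kernel
theorem t1690_rchk_3260 : allR t1690_rf 352792 6 (3260 * 2 ^ 6) = true := by decide +kernel
theorem t1690_rchk_3261 : allR t1690_rf 352792 6 (3261 * 2 ^ 6) = true := by decide +kernel
theorem t1690_rchk_3262 : allR t1690_rf 352792 6 (3262 * 2 ^ 6) = true := by decide +kernel
theorem t1690_rchk_3263 : allR t1690_rf 352792 6 (3263 * 2 ^ 6) = true := by decide +kernel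
theorem t1690_rchk_3264 : allR t1690_rf 352792 6 (3264 * 2 ^ 6) = true := by decide +kernel
theorem t1690_rchk_3265 : allR t1690_rf 352792 6 (3265 * 2 ^ 6) = true := by decide +kernel
theorem t1690_rchk_3266 : allR t1690_rf 352792 6 (3266 * 2 ^ 6) = true := by decide +kernel
theorem t1690_rchk_3267 : allR t1690_rf 352792 6 (3267 * 2 ^ 6) = true := by decide +kernel
theorem t1690_rchk_3268 : allR t1690_rf 352792 6 (3268 * 2 ^ 6) = true := by decide +kernel
theorem t1690_rchk_3269 : allR t1690_rf 352792 6 (3269 * 2 ^ 6) = true := by decide +kernel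
theorem t1690_rchk_3270 : allR t1690_rf 352792 6 (3270 * 2 ^ 6) = true := by decide +kernel
theorem t1690_rchk_3271 : allR t1690_rf 352792 6 (3271 * 2 ^ 6) = true := by decide +kernel
theorem t1690_rchk_3272 : allR t1690_rf 352792 6 (3272 * 2 ^ 6) = true := by decide +kernel
theorem t1690_rchk_3273 : allR t1690_rf 352792 6 (3273 * 2 ^ 6) = true := by decide +kernel
theorem t1690_rchk_3274 : allR t1690_rf 352792 6 (3274 * 2 ^ 6) = true := by decide +kernel
theorem t1690_rchk_3275 : allR t1690_rf 352792 6 (3275 * 2 ^ 6) = true := by decide +kernel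
theorem t1690_rchk_3276 : allR t1690_rf 352792 6 (3276 * 2 ^ 6) = true := by decide +kernel
theorem t1690_rchk_3277 : allR t1690_rf 352792 6 (3277 * 2 ^ 6) = true := by decide +kernel
theorem t1690_rchk_3278 : allR t1690_rf 352792 6 (3278 * 2 ^ 6) = true := by decide +kernel
theorem t1690_rchk_3279 : allR t1690_rf 352792 6 (3279 * 2 ^ 6) = true := by decide +kernel

theorem t1690_rfile_40 : ∀ k, k < 3280 → 3200 ≤ k → allR t1690_rf 352792 6 (k * 2 ^ 6) = true := by
  intro k h1 h2
  interval_cases k
  · exact t1690_rchk_3200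
  · exact t1690_rchk_3201
  · exact t1690_rchk_3202
  · exact t1690_rchk_3203
  · exact t1690_rchk_3204
  · exact t1690_rchk_3205
  · exact t1690_rchk_3206
  · exact t1690_rchk_3207
  · exact t1690_rchk_3208
  · exact t1690_rchk_3209
  · exact t1690_rchk_3210
  · exact t1690_rchk_3211
  · exact t1690_rchk_3212
  · exact t1690_rchk_3213
  · exact t1690_rchk_3214
  · exact t1690_rchk_3215
  · exact t1690_rchk_3216
  · exact t1690_rchk_3217
  · exact t1690_rchk_3218
  · exact t1690_rchk_3219
  · exact t1690_rchk_3220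
  · exact t1690_rchk_3221
  · exact t1690_rchk_3222
  · exact t1690_rchk_3223
  · exact t1690_rchk_3224
  · exact t1690_rchk_3225
  · exact t1690_rchk_3226
  · exact t1690_rchk_3227
  · exact t1690_rchk_3228
  · exact t1690_rchk_3229
  · exact t1690_rchk_3230
  · exact t1690_rchk_3231
  · exact t1690_rchk_3232
  · exact t1690_rchk_3233
  · exact t1690_rchk_3234
  · exact t1690_rchk_3235
  · exact t1690_rchk_3236
  · exact t1690_rchk_3237
  · exact t1690_rchk_3238
  · exact t1690_rchk_3239
  · exact t1690_rchk_3240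
  · exact t1690_rchk_3241
  · exact t1690_rchk_3242
  · exact t1690_rchk_3243
  · exact t1690_rchk_3244
  · exact t1690_rchk_3245
  · exact t1690_rchk_3246
  · exact t1690_rchk_3247
  · exact t1690_rchk_3248
  · exact t1690_rchk_3249
  · exact t1690_rchk_3250
  · exact t1690_rchk_3251
  · exact t1690_rchk_3252
  · exact t1690_rchk_3253
  · exact t1690_rchk_3254
  · exact t1690_rchk_3255
  · exact t1690_rchk_3256
  · exact t1690_rchk_3257
  · exact t1690_rchk_3258
  · exact t1690_rchk_3259
  · exact t1690_rchk_3260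
  · exact t1690_rchk_3261
  · exact t1690_rchk_3262
  · exact t1690_rchk_3263
  · exact t1690_rchk_3264
  · exact t1690_rchk_3265
  · exact t1690_rchk_3266
  · exact t1690_rchk_3267
  · exact t1690_rchk_3268
  · exact t1690_rchk_3269
  · exact t1690_rchk_3270
  · exact t1690_rchk_3271
  · exact t1690_rchk_3272
  · exact t1690_rchk_3273
  · exact t1690_rchk_3274
  · exact t1690_rchk_3275
  · exact t1690_rchk_3276
  · exact t1690_rchk_3277
  · exact t1690_rchk_3278
  · exact t1690_rchk_3279

end Cfsg.Agent.H35
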