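import Cfsg.Agent.H35.T1690.RTab

set_option autoImplicit false
set_option linter.all false
set_option Elab.async false

namespace Cfsg.Agent.H35

theorem t1690_rchk_3280 : allR t1690_rf 352792 6 (3280 * 2 ^ 6) = true := by decide +kernel
theorem t1690_rchk_3281 : allR t1690_rf 352792 6 (3281 * 2 ^ 6) = true := by decide +kernel
theorem t1690_rchk_3282 : allR t1690_rf 352792 6 (3282 * 2 ^ 6) = true := by decide +kernel
theorem t1690_rchk_3283 : allR t1690_rf 352792 6 (3283 * 2 ^ 6) = true := by decide +kernel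
theorem t1690_rchk_3284 : allR t1690_rf 352792 6 (3284 * 2 ^ 6) = true := by decide +kernel
theorem t1690_rchk_3285 : allR t1690_rf 352792 6 (3285 * 2 ^ 6) = true := by decide +kernel
theorem t1690_rchk_3286 : allR t1690_rf 352792 6 (3286 * 2 ^ 6) = true := by decide +kernel
theorem t1690_rchk_3287 : allR t1690_rf 352792 6 (3287 * 2 ^ 6) = true := by decide +kernel
theorem t1690_rchk_3288 : allR t1690_rf 352792 6 (3288 * 2 ^ 6) = true := by decide +kernel
theorem t1690_rchk_3289 : allR t1690_rf 352792 6 (3289 * 2 ^ 6) = true := by decide +kernel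
theorem t1690_rchk_3290 : allR t1690_rf 352792 6 (3290 * 2 ^ 6) = true := by decide +kernel
theorem t1690_rchk_3291 : allR t1690_rf 352792 6 (3291 * 2 ^ 6) = true := by decide +kernel
theorem t1690_rchk_3292 : allR t1690_rf 352792 6 (3292 * 2 ^ 6) = true := by decide +kernel
theorem t1690_rchk_3293 : allR t1690_rf 352792 6 (3293 * 2 ^ 6) = true := by decide +kernel
theorem t1690_rchk_3294 : allR t1690_rf 352792 6 (3294 * 2 ^ 6) = true := by decide +kernel
theorem t1690_rchk_3295 : allR t1690_rf 352792 6 (3295 * 2 ^ 6) = true := by decide +kernel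
theorem t1690_rchk_3296 : allR t1690_rf 352792 6 (3296 * 2 ^ 6) = true := by decide +kernel
theorem t1690_rchk_3297 : allR t1690_rf 352792 6 (3297 * 2 ^ 6) = true := by decide +kernel
theorem t1690_rchk_3298 : allR t1690_rf 352792 6 (3298 * 2 ^ 6) = true := by decide +kernel
theorem t1690_rchk_3299 : allR t1690_rf 352792 6 (3299 * 2 ^ 6) = true := by decide +kernel
theorem t1690_rchk_3300 : allR t1690_rf 352792 6 (3300 * 2 ^ 6) = true := by decide +kernel
theorem t1690_rchk_3301 : allR t1690_rf 352792 6 (3301 * 2 ^ 6) = true := by decide +kernel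
theorem t1690_rchk_3302 : allR t1690_rf 352792 6 (3302 * 2 ^ 6) = true := by decide +kernel
theorem t1690_rchk_3303 : allR t1690_rf 352792 6 (3303 * 2 ^ 6) = true := by decide +kernel
theorem t1690_rchk_3304 : allR t1690_rf 352792 6 (3304 * 2 ^ 6) = true := by decide +kernel
theorem t1690_rchk_3305 : allR t1690_rf 352792 6 (3305 * 2 ^ 6) = true := by decide +kernel
theorem t1690_rchk_3306 : allR t1690_rf 352792 6 (3306 * 2 ^ 6) = true := by decide +kernel
theorem t1690_rchk_3307 : allR t1690_rf 352792 6 (3307 * 2 ^ 6) = true := by decide +kernel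
theorem t1690_rchk_3308 : allR t1690_rf 352792 6 (3308 * 2 ^ 6) = true := by decide +kernel
theorem t1690_rchk_3309 : allR t1690_rf 352792 6 (3309 * 2 ^ 6) = true := by decide +kernel
theorem t1690_rchk_3310 : allR t1690_rf 352792 6 (3310 * 2 ^ 6) = true := by decide +kernel
theorem t1690_rchk_3311 : allR t1690_rf 352792 6 (3311 * 2 ^ 6) = true := by decide +kernel
theorem t1690_rchk_3312 : allR t1690_rf 352792 6 (3312 * 2 ^ 6) = true := by decide +kernel
theorem t1690_rchk_3313 : allR t1690_rf 352792 6 (3313 * 2 ^ 6) = true := by decide +kernel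
theorem t1690_rchk_3314 : allR t1690_rf 352792 6 (3314 * 2 ^ 6) = true := by decide +kernel
theorem t1690_rchk_3315 : allR t1690_rf 352792 6 (3315 * 2 ^ 6) = true := by decide +kernel
theorem t1690_rchk_3316 : allR t1690_rf 352792 6 (3316 * 2 ^ 6) = true := by decide +kernel
theorem t1690_rchk_3317 : allR t1690_rf 352792 6 (3317 * 2 ^ 6) = true := by decide +kernel
theorem t1690_rchk_3318 : allR t1690_rf 352792 6 (3318 * 2 ^ 6) = true := by decide +kernel
theorem t1690_rchk_3319 : allR t1690_rf 352792 6 (3319 * 2 ^ 6) = true := by decide +kernel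
theorem t1690_rchk_3320 : allR t1690_rf 352792 6 (3320 * 2 ^ 6) = true := by decide +kernel
theorem t1690_rchk_3321 : allR t1690_rf 352792 6 (3321 * 2 ^ 6) = true := by decide +kernel
theorem t1690_rchk_3322 : allR t1690_rf 352792 6 (3322 * 2 ^ 6) = true := by decide +kernel
theorem t1690_rchk_3323 : allR t1690_rf 352792 6 (3323 * 2 ^ 6) = true := by decide +kernel
theorem t1690_rchk_3324 : allR t1690_rf 352792 6 (3324 * 2 ^ 6) = true := by decide +kernel
theorem t1690_rchk_3325 : allR t1690_rf 352792 6 (3325 * 2 ^ 6) = true := by decide +kernel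
theorem t1690_rchk_3326 : allR t1690_rf 352792 6 (3326 * 2 ^ 6) = true := by decide +kernel
theorem t1690_rchk_3327 : allR t1690_rf 352792 6 (3327 * 2 ^ 6) = true := by decide +kernel
theorem t1690_rchk_3328 : allR t1690_rf 352792 6 (3328 * 2 ^ 6) = true := by decide +kernel
theorem t1690_rchk_3329 : allR t1690_rf 352792 6 (3329 * 2 ^ 6) = true := by decide +kernel
theorem t1690_rchk_3330 : allR t1690_rf 352792 6 (3330 * 2 ^ 6) = true := by decide +kernel
theorem t1690_rchk_3331 : allR t1690_rf 352792 6 (3331 * 2 ^ 6) = true := by decide +kernel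
theorem t1690_rchk_3332 : allR t1690_rf 352792 6 (3332 * 2 ^ 6) = true := by decide +kernel
theorem t1690_rchk_3333 : allR t1690_rf 352792 6 (3333 * 2 ^ 6) = true := by decide +kernel
theorem t1690_rchk_3334 : allR t1690_rf 352792 6 (3334 * 2 ^ 6) = true := by decide +kernel
theorem t1690_rchk_3335 : allR t1690_rf 352792 6 (3335 * 2 ^ 6) = true := by decide +kernel
theorem t1690_rchk_3336 : allR t1690_rf 352792 6 (3336 * 2 ^ 6) = true := by decide +kernel
theorem t1690_rchk_3337 : allR t1690_rf 352792 6 (3337 * 2 ^ 6) = true := by decide +kernel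
theorem t1690_rchk_3338 : allR t1690_rf 352792 6 (3338 * 2 ^ 6) = true := by decide +kernel
theorem t1690_rchk_3339 : allR t1690_rf 352792 6 (3339 * 2 ^ 6) = true := by decide +kernel
theorem t1690_rchk_3340 : allR t1690_rf 352792 6 (3340 * 2 ^ 6) = true := by decide +kernel
theorem t1690_rchk_3341 : allR t1690_rf 352792 6 (3341 * 2 ^ 6) = true := by decide +kernel
theorem t1690_rchk_3342 : allR t1690_rf 352792 6 (3342 * 2 ^ 6) = true := by decide +kernel
theorem t1690_rchk_3343 : allR t1690_rf 352792 6 (3343 * 2 ^ 6) = true := by decide +kernel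
theorem t1690_rchk_3344 : allR t1690_rf 352792 6 (3344 * 2 ^ 6) = true := by decide +kernel
theorem t1690_rchk_3345 : allR t1690_rf 352792 6 (3345 * 2 ^ 6) = true := by decide +kernel
theorem t1690_rchk_3346 : allR t1690_rf 352792 6 (3346 * 2 ^ 6) = true := by decide +kernel
theorem t1690_rchk_3347 : allR t1690_rf 352792 6 (3347 * 2 ^ 6) = true := by decide +kernel
theorem t1690_rchk_3348 : allR t1690_rf 352792 6 (3348 * 2 ^ 6) = true := by decide +kernel
theorem t1690_rchk_3349 : allR t1690_rf 352792 6 (3349 * 2 ^ 6) = true := by decide +kernel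
theorem t1690_rchk_3350 : allR t1690_rf 352792 6 (3350 * 2 ^ 6) = true := by decide +kernel
theorem t1690_rchk_3351 : allR t1690_rf 352792 6 (3351 * 2 ^ 6) = true := by decide +kernel
theorem t1690_rchk_3352 : allR t1690_rf 352792 6 (3352 * 2 ^ 6) = true := by decide +kernel
theorem t1690_rchk_3353 : allR t1690_rf 352792 6 (3353 * 2 ^ 6) = true := by decide +kernel
theorem t1690_rchk_3354 : allR t1690_rf 352792 6 (3354 * 2 ^ 6) = true := by decide +kernel
theorem t1690_rchk_3355 : allR t1690_rf 352792 6 (3355 * 2 ^ 6) = true := by decide +kernel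
theorem t1690_rchk_3356 : allR t1690_rf 352792 6 (3356 * 2 ^ 6) = true := by decide +kernel
theorem t1690_rchk_3357 : allR t1690_rf 352792 6 (3357 * 2 ^ 6) = true := by decide +kernel
theorem t1690_rchk_3358 : allR t1690_rf 352792 6 (3358 * 2 ^ 6) = true := by decide +kernel
theorem t1690_rchk_3359 : allR t1690_rf 352792 6 (3359 * 2 ^ 6) = true := by decide +kernel

theorem t1690_rfile_41 : ∀ k, k < 3360 → 3280 ≤ k → allR t1690_rf 352792 6 (k * 2 ^ 6) = true := by
  intro k h1 h2
  interval_cases k
  · exact t1690_rchk_3280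
  · exact t1690_rchk_3281
  · exact t1690_rchk_3282
  · exact t1690_rchk_3283
  · exact t1690_rchk_3284
  · exact t1690_rchk_3285
  · exact t1690_rchk_3286
  · exact t1690_rchk_3287
  · exact t1690_rchk_3288
  · exact t1690_rchk_3289
  · exact t1690_rchk_3290
  · exact t1690_rchk_3291
  · exact t1690_rchk_3292
  · exact t1690_rchk_3293
  · exact t1690_rchk_3294
  · exact t1690_rchk_3295
  · exact t1690_rchk_3296
  · exact t1690_rchk_3297
  · exact t1690_rchk_3298
  · exact t1690_rchk_3299
  · exact t1690_rchk_3300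
  · exact t1690_rchk_3301
  · exact t1690_rchk_3302
  · exact t1690_rchk_3303
  · exact t1690_rchk_3304
  · exact t1690_rchk_3305
  · exact t1690_rchk_3306
  · exact t1690_rchk_3307
  · exact t1690_rchk_3308
  · exact t1690_rchk_3309
  · exact t1690_rchk_3310
  · exact t1690_rchk_3311
  · exact t1690_rchk_3312
  · exact t1690_rchk_3313
  · exact t1690_rchk_3314
  · exact t1690_rchk_3315
  · exact t1690_rchk_3316
  · exact t1690_rchk_3317
  · exact t1690_rchk_3318
  · exact t1690_rchk_3319
  · exact t1690_rchk_3320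
  · exact t1690_rchk_3321
  · exact t1690_rchk_3322
  · exact t1690_rchk_3323
  · exact t1690_rchk_3324
  · exact t1690_rchk_3325
  · exact t1690_rchk_3326
  · exact t1690_rchk_3327
  · exact t1690_rchk_3328
  · exact t1690_rchk_3329
  · exact t1690_rchk_3330
  · exact t1690_rchk_3331
  · exact t1690_rchk_3332
  · exact t1690_rchk_3333
  · exact t1690_rchk_3334
  · exact t1690_rchk_3335
  · exact t1690_rchk_3336
  · exact t1690_rchk_3337
  · exact t1690_rchk_3338
  · exact t1690_rchk_3339
  · exact t1690_rchk_3340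
  · exact t1690_rchk_3341
  · exact t1690_rchk_3342
  · exact t1690_rchk_3343
  · exact t1690_rchk_3344
  · exact t1690_rchk_3345
  · exact t1690_rchk_3346
  · exact t1690_rchk_3347
  · exact t1690_rchk_3348
  · exact t1690_rchk_3349
  · exact t1690_rchk_3350
  · exact t1690_rchk_3351
  · exact t1690_rchk_3352
  · exact t1690_rchk_3353
  · exact t1690_rchk_3354
  · exact t1690_rchk_3355
  · exact t1690_rchk_3356
  · exact t1690_rchk_3357
  · exact t1690_rchk_3358
  · exact t1690_rchk_3359

end Cfsg.Agent.H35
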