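import Cfsg.Agent.H35.T1690.RTab

set_option autoImplicit false
set_option linter.all false
set_option Elab.async false

namespace Cfsg.Agent.H35

theorem t1690_rchk_3360 : allR t1690_rf 352792 6 (3360 * 2 ^ 6) = true := by decide +kernel
theorem t1690_rchk_3361 : allR t1690_rf 352792 6 (3361 * 2 ^ 6) = true := by decide +kernel
theorem t1690_rchk_3362 : allR t1690_rf 352792 6 (3362 * 2 ^ 6) = true := by decide +kernel
theorem t1690_rchk_3363 : allR t1690_rf 352792 6 (3363 * 2 ^ 6) = true := by decide +kernel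
theorem t1690_rchk_3364 : allR t1690_rf 352792 6 (3364 * 2 ^ 6) = true := by decide +kernel
theorem t1690_rchk_3365 : allR t1690_rf 352792 6 (3365 * 2 ^ 6) = true := by decide +kernel
theorem t1690_rchk_3366 : allR t1690_rf 352792 6 (3366 * 2 ^ 6) = true := by decide +kernel
theorem t1690_rchk_3367 : allR t1690_rf 352792 6 (3367 * 2 ^ 6) = true := by decide +kernel
theorem t1690_rchk_3368 : allR t1690_rf 352792 6 (3368 * 2 ^ 6) = true := by decide +kernel
theorem t1690_rchk_3369 : allR t1690_rf 352792 6 (3369 * 2 ^ 6) = true := by decide +kernel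
theorem t1690_rchk_3370 : allR t1690_rf 352792 6 (3370 * 2 ^ 6) = true := by decide +kernel
theorem t1690_rchk_3371 : allR t1690_rf 352792 6 (3371 * 2 ^ 6) = true := by decide +kernel
theorem t1690_rchk_3372 : allR t1690_rf 352792 6 (3372 * 2 ^ 6) = true := by decide +kernel
theorem t1690_rchk_3373 : allR t1690_rf 352792 6 (3373 * 2 ^ 6) = true := by decide +kernel
theorem t1690_rchk_3374 : allR t1690_rf 352792 6 (3374 * 2 ^ 6) = true := by decide +kernel
theorem t1690_rchk_3375 : allR t1690_rf 352792 6 (3375 * 2 ^ 6) = true := by decide +kernel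
theorem t1690_rchk_3376 : allR t1690_rf 352792 6 (3376 * 2 ^ 6) = true := by decide +kernel
theorem t1690_rchk_3377 : allR t1690_rf 352792 6 (3377 * 2 ^ 6) = true := by decide +kernel
theorem t1690_rchk_3378 : allR t1690_rf 352792 6 (3378 * 2 ^ 6) = true := by decide +kernel
theorem t1690_rchk_3379 : allR t1690_rf 352792 6 (3379 * 2 ^ 6) = true := by decide +kernel
theorem t1690_rchk_3380 : allR t1690_rf 352792 6 (3380 * 2 ^ 6) = true := by decide +kernel
theorem t1690_rchk_3381 : allR t1690_rf 352792 6 (3381 * 2 ^ 6) = true := by decide +kernel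
theorem t1690_rchk_3382 : allR t1690_rf 352792 6 (3382 * 2 ^ 6) = true := by decide +kernel
theorem t1690_rchk_3383 : allR t1690_rf 352792 6 (3383 * 2 ^ 6) = true := by decide +kernel
theorem t1690_rchk_3384 : allR t1690_rf 352792 6 (3384 * 2 ^ 6) = true := by decide +kernel
theorem t1690_rchk_3385 : allR t1690_rf 352792 6 (3385 * 2 ^ 6) = true := by decide +kernel
theorem t1690_rchk_3386 : allR t1690_rf 352792 6 (3386 * 2 ^ 6) = true := by decide +kernel
theorem t1690_rchk_3387 : allR t1690_rf 352792 6 (3387 * 2 ^ 6) = true := by decide +kernel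
theorem t1690_rchk_3388 : allR t1690_rf 352792 6 (3388 * 2 ^ 6) = true := by decide +kernel
theorem t1690_rchk_3389 : allR t1690_rf 352792 6 (3389 * 2 ^ 6) = true := by decide +kernel
theorem t1690_rchk_3390 : allR t1690_rf 352792 6 (3390 * 2 ^ 6) = true := by decide +kernel
theorem t1690_rchk_3391 : allR t1690_rf 352792 6 (3391 * 2 ^ 6) = true := by decide +kernel
theorem t1690_rchk_3392 : allR t1690_rf 352792 6 (3392 * 2 ^ 6) = true := by decide +kernel
theorem t1690_rchk_3393 : allR t1690_rf 352792 6 (3393 * 2 ^ 6) = true := by decide +kernel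
theorem t1690_rchk_3394 : allR t1690_rf 352792 6 (3394 * 2 ^ 6) = true := by decide +kernel
theorem t1690_rchk_3395 : allR t1690_rf 352792 6 (3395 * 2 ^ 6) = true := by decide +kernel
theorem t1690_rchk_3396 : allR t1690_rf 352792 6 (3396 * 2 ^ 6) = true := by decide +kernel
theorem t1690_rchk_3397 : allR t1690_rf 352792 6 (3397 * 2 ^ 6) = true := by decide +kernel
theorem t1690_rchk_3398 : allR t1690_rf 352792 6 (3398 * 2 ^ 6) = true := by decide +kernel
theorem t1690_rchk_3399 : allR t1690_rf 352792 6 (3399 * 2 ^ 6) = true := by decide +kernel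
theorem t1690_rchk_3400 : allR t1690_rf 352792 6 (3400 * 2 ^ 6) = true := by decide +kernel
theorem t1690_rchk_3401 : allR t1690_rf 352792 6 (3401 * 2 ^ 6) = true := by decide +kernel
theorem t1690_rchk_3402 : allR t1690_rf 352792 6 (3402 * 2 ^ 6) = true := by decide +kernel
theorem t1690_rchk_3403 : allR t1690_rf 352792 6 (3403 * 2 ^ 6) = true := by decide +kernel
theorem t1690_rchk_3404 : allR t1690_rf 352792 6 (3404 * 2 ^ 6) = true := by decide +kernel
theorem t1690_rchk_3405 : allR t1690_rf 352792 6 (3405 * 2 ^ 6) = true := by decide +kernel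
theorem t1690_rchk_3406 : allR t1690_rf 352792 6 (3406 * 2 ^ 6) = true := by decide +kernel
theorem t1690_rchk_3407 : allR t1690_rf 352792 6 (3407 * 2 ^ 6) = true := by decide +kernel
theorem t1690_rchk_3408 : allR t1690_rf 352792 6 (3408 * 2 ^ 6) = true := by decide +kernel
theorem t1690_rchk_3409 : allR t1690_rf 352792 6 (3409 * 2 ^ 6) = true := by decide +kernel
theorem t1690_rchk_3410 : allR t1690_rf 352792 6 (3410 * 2 ^ 6) = true := by decide +kernel
theorem t1690_rchk_3411 : allR t1690_rf 352792 6 (3411 * 2 ^ 6) = true := by decide +kernel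
theorem t1690_rchk_3412 : allR t1690_rf 352792 6 (3412 * 2 ^ 6) = true := by decide +kernel
theorem t1690_rchk_3413 : allR t1690_rf 352792 6 (3413 * 2 ^ 6) = true := by decide +kernel
theorem t1690_rchk_3414 : allR t1690_rf 352792 6 (3414 * 2 ^ 6) = true := by decide +kernel
theorem t1690_rchk_3415 : allR t1690_rf 352792 6 (3415 * 2 ^ 6) = true := by decide +kernel
theorem t1690_rchk_3416 : allR t1690_rf 352792 6 (3416 * 2 ^ 6) = true := by decide +kernel
theorem t1690_rchk_3417 : allR t1690_rf 352792 6 (3417 * 2 ^ 6) = true := by decide +kernel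
theorem t1690_rchk_3418 : allR t1690_rf 352792 6 (3418 * 2 ^ 6) = true := by decide +kernel
theorem t1690_rchk_3419 : allR t1690_rf 352792 6 (3419 * 2 ^ 6) = true := by decide +kernel
theorem t1690_rchk_3420 : allR t1690_rf 352792 6 (3420 * 2 ^ 6) = true := by decide +kernel
theorem t1690_rchk_3421 : allR t1690_rf 352792 6 (3421 * 2 ^ 6) = true := by decide +kernel
theorem t1690_rchk_3422 : allR t1690_rf 352792 6 (3422 * 2 ^ 6) = true := by decide +kernel
theorem t1690_rchk_3423 : allR t1690_rf 352792 6 (3423 * 2 ^ 6) = true := by decide +kernel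
theorem t1690_rchk_3424 : allR t1690_rf 352792 6 (3424 * 2 ^ 6) = true := by decide +kernel
theorem t1690_rchk_3425 : allR t1690_rf 352792 6 (3425 * 2 ^ 6) = true := by decide +kernel
theorem t1690_rchk_3426 : allR t1690_rf 352792 6 (3426 * 2 ^ 6) = true := by decide +kernel
theorem t1690_rchk_3427 : allR t1690_rf 352792 6 (3427 * 2 ^ 6) = true := by decide +kernel
theorem t1690_rchk_3428 : allR t1690_rf 352792 6 (3428 * 2 ^ 6) = true := by decide +kernel
theorem t1690_rchk_3429 : allR t1690_rf 352792 6 (3429 * 2 ^ 6) = true := by decide +kernel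
theorem t1690_rchk_3430 : allR t1690_rf 352792 6 (3430 * 2 ^ 6) = true := by decide +kernel
theorem t1690_rchk_3431 : allR t1690_rf 352792 6 (3431 * 2 ^ 6) = true := by decide +kernel
theorem t1690_rchk_3432 : allR t1690_rf 352792 6 (3432 * 2 ^ 6) = true := by decide +kernel
theorem t1690_rchk_3433 : allR t1690_rf 352792 6 (3433 * 2 ^ 6) = true := by decide +kernel
theorem t1690_rchk_3434 : allR t1690_rf 352792 6 (3434 * 2 ^ 6) = true := by decide +kernel
theorem t1690_rchk_3435 : allR t1690_rf 352792 6 (3435 * 2 ^ 6) = true := by decide +kernel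
theorem t1690_rchk_3436 : allR t1690_rf 352792 6 (3436 * 2 ^ 6) = true := by decide +kernel
theorem t1690_rchk_3437 : allR t1690_rf 352792 6 (3437 * 2 ^ 6) = true := by decide +kernel
theorem t1690_rchk_3438 : allR t1690_rf 352792 6 (3438 * 2 ^ 6) = true := by decide +kernel
theorem t1690_rchk_3439 : allR t1690_rf 352792 6 (3439 * 2 ^ 6) = true := by decide +kernel

theorem t1690_rfile_42 : ∀ k, k < 3440 → 3360 ≤ k → allR t1690_rf 352792 6 (k * 2 ^ 6) = true := by
  intro k h1 h2
  interval_cases k
  · exact t1690_rchk_3360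
  · exact t1690_rchk_3361
  · exact t1690_rchk_3362
  · exact t1690_rchk_3363
  · exact t1690_rchk_3364
  · exact t1690_rchk_3365
  · exact t1690_rchk_3366
  · exact t1690_rchk_3367
  · exact t1690_rchk_3368
  · exact t1690_rchk_3369
  · exact t1690_rchk_3370
  · exact t1690_rchk_3371
  · exact t1690_rchk_3372
  · exact t1690_rchk_3373
  · exact t1690_rchk_3374
  · exact t1690_rchk_3375
  · exact t1690_rchk_3376
  · exact t1690_rchk_3377
  · exact t1690_rchk_3378
  · exact t1690_rchk_3379
  · exact t1690_rchk_3380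
  · exact t1690_rchk_3381
  · exact t1690_rchk_3382
  · exact t1690_rchk_3383
  · exact t1690_rchk_3384
  · exact t1690_rchk_3385
  · exact t1690_rchk_3386
  · exact t1690_rchk_3387
  · exact t1690_rchk_3388
  · exact t1690_rchk_3389
  · exact t1690_rchk_3390
  · exact t1690_rchk_3391
  · exact t1690_rchk_3392
  · exact t1690_rchk_3393
  · exact t1690_rchk_3394
  · exact t1690_rchk_3395
  · exact t1690_rchk_3396
  · exact t1690_rchk_3397
  · exact t1690_rchk_3398
  · exact t1690_rchk_3399
  · exact t1690_rchk_3400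
  · exact t1690_rchk_3401
  · exact t1690_rchk_3402
  · exact t1690_rchk_3403
  · exact t1690_rchk_3404
  · exact t1690_rchk_3405
  · exact t1690_rchk_3406
  · exact t1690_rchk_3407
  · exact t1690_rchk_3408
  · exact t1690_rchk_3409
  · exact t1690_rchk_3410
  · exact t1690_rchk_3411
  · exact t1690_rchk_3412
  · exact t1690_rchk_3413
  · exact t1690_rchk_3414
  · exact t1690_rchk_3415
  · exact t1690_rchk_3416
  · exact t1690_rchk_3417
  · exact t1690_rchk_3418
  · exact t1690_rchk_3419
  · exact t1690_rchk_3420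
  · exact t1690_rchk_3421
  · exact t1690_rchk_3422
  · exact t1690_rchk_3423
  · exact t1690_rchk_3424
  · exact t1690_rchk_3425
  · exact t1690_rchk_3426
  · exact t1690_rchk_3427
  · exact t1690_rchk_3428
  · exact t1690_rchk_3429
  · exact t1690_rchk_3430
  · exact t1690_rchk_3431
  · exact t1690_rchk_3432
  · exact t1690_rchk_3433
  · exact t1690_rchk_3434
  · exact t1690_rchk_3435
  · exact t1690_rchk_3436
  · exact t1690_rchk_3437
  · exact t1690_rchk_3438
  · exact t1690_rchk_3439

end Cfsg.Agent.H35
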