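import Cfsg.Agent.H35.T1690.RTab

set_option autoImplicit false
set_option linter.all false
set_option Elab.async false

namespace Cfsg.Agent.H35

theorem t1690_rchk_3440 : allR t1690_rf 352792 6 (3440 * 2 ^ 6) = true := by decide +kernel
theorem t1690_rchk_3441 : allR t1690_rf 352792 6 (3441 * 2 ^ 6) = true := by decide +kernel
theorem t1690_rchk_3442 : allR t1690_rf 352792 6 (3442 * 2 ^ 6) = true := by decide +kernel
theorem t1690_rchk_3443 : allR t1690_rf 352792 6 (3443 * 2 ^ 6) = true := by decide +kernel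
theorem t1690_rchk_3444 : allR t1690_rf 352792 6 (3444 * 2 ^ 6) = true := by decide +kernel
theorem t1690_rchk_3445 : allR t1690_rf 352792 6 (3445 * 2 ^ 6) = true := by decide +kernel
theorem t1690_rchk_3446 : allR t1690_rf 352792 6 (3446 * 2 ^ 6) = true := by decide +kernel
theorem t1690_rchk_3447 : allR t1690_rf 352792 6 (3447 * 2 ^ 6) = true := by decide +kernel
theorem t1690_rchk_3448 : allR t1690_rf 352792 6 (3448 * 2 ^ 6) = true := by decide +kernel
theorem t1690_rchk_3449 : allR t1690_rf 352792 6 (3449 * 2 ^ 6) = true := by decide +kernel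
theorem t1690_rchk_3450 : allR t1690_rf 352792 6 (3450 * 2 ^ 6) = true := by decide +kernel
theorem t1690_rchk_3451 : allR t1690_rf 352792 6 (3451 * 2 ^ 6) = true := by decide +kernel
theorem t1690_rchk_3452 : allR t1690_rf 352792 6 (3452 * 2 ^ 6) = true := by decide +kernel
theorem t1690_rchk_3453 : allR t1690_rf 352792 6 (3453 * 2 ^ 6) = true := by decide +kernel
theorem t1690_rchk_3454 : allR t1690_rf 352792 6 (3454 * 2 ^ 6) = true := by decide +kernel
theorem t1690_rchk_3455 : allR t1690_rf 352792 6 (3455 * 2 ^ 6) = true := by decide +kernel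
theorem t1690_rchk_3456 : allR t1690_rf 352792 6 (3456 * 2 ^ 6) = true := by decide +kernel
theorem t1690_rchk_3457 : allR t1690_rf 352792 6 (3457 * 2 ^ 6) = true := by decide +kernel
theorem t1690_rchk_3458 : allR t1690_rf 352792 6 (3458 * 2 ^ 6) = true := by decide +kernel
theorem t1690_rchk_3459 : allR t1690_rf 352792 6 (3459 * 2 ^ 6) = true := by decide +kernel
theorem t1690_rchk_3460 : allR t1690_rf 352792 6 (3460 * 2 ^ 6) = true := by decide +kernel
theorem t1690_rchk_3461 : allR t1690_rf 352792 6 (3461 * 2 ^ 6) = true := by decide +kernel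
theorem t1690_rchk_3462 : allR t1690_rf 352792 6 (3462 * 2 ^ 6) = true := by decide +kernel
theorem t1690_rchk_3463 : allR t1690_rf 352792 6 (3463 * 2 ^ 6) = true := by decide +kernel
theorem t1690_rchk_3464 : allR t1690_rf 352792 6 (3464 * 2 ^ 6) = true := by decide +kernel
theorem t1690_rchk_3465 : allR t1690_rf 352792 6 (3465 * 2 ^ 6) = true := by decide +kernel
theorem t1690_rchk_3466 : allR t1690_rf 352792 6 (3466 * 2 ^ 6) = true := by decide +kernel
theorem t1690_rchk_3467 : allR t1690_rf 352792 6 (3467 * 2 ^ 6) = true := by decide +kernel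
theorem t1690_rchk_3468 : allR t1690_rf 352792 6 (3468 * 2 ^ 6) = true := by decide +kernel
theorem t1690_rchk_3469 : allR t1690_rf 352792 6 (3469 * 2 ^ 6) = true := by decide +kernel
theorem t1690_rchk_3470 : allR t1690_rf 352792 6 (3470 * 2 ^ 6) = true := by decide +kernel
theorem t1690_rchk_3471 : allR t1690_rf 352792 6 (3471 * 2 ^ 6) = true := by decide +kernel
theorem t1690_rchk_3472 : allR t1690_rf 352792 6 (3472 * 2 ^ 6) = true := by decide +kernel
theorem t1690_rchk_3473 : allR t1690_rf 352792 6 (3473 * 2 ^ 6) = true := by decide +kernel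
theorem t1690_rchk_3474 : allR t1690_rf 352792 6 (3474 * 2 ^ 6) = true := by decide +kernel
theorem t1690_rchk_3475 : allR t1690_rf 352792 6 (3475 * 2 ^ 6) = true := by decide +kernel
theorem t1690_rchk_3476 : allR t1690_rf 352792 6 (3476 * 2 ^ 6) = true := by decide +kernel
theorem t1690_rchk_3477 : allR t1690_rf 352792 6 (3477 * 2 ^ 6) = true := by decide +kernel
theorem t1690_rchk_3478 : allR t1690_rf 352792 6 (3478 * 2 ^ 6) = true := by decide +kernel
theorem t1690_rchk_3479 : allR t1690_rf 352792 6 (3479 * 2 ^ 6) = true := by decide +kernel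
theorem t1690_rchk_3480 : allR t1690_rf 352792 6 (3480 * 2 ^ 6) = true := by decide +kernel
theorem t1690_rchk_3481 : allR t1690_rf 352792 6 (3481 * 2 ^ 6) = true := by decide +kernel
theorem t1690_rchk_3482 : allR t1690_rf 352792 6 (3482 * 2 ^ 6) = true := by decide +kernel
theorem t1690_rchk_3483 : allR t1690_rf 352792 6 (3483 * 2 ^ 6) = true := by decide +kernel
theorem t1690_rchk_3484 : allR t1690_rf 352792 6 (3484 * 2 ^ 6) = true := by decide +kernel
theorem t1690_rchk_3485 : allR t1690_rf 352792 6 (3485 * 2 ^ 6) = true := by decide +kernel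
theorem t1690_rchk_3486 : allR t1690_rf 352792 6 (3486 * 2 ^ 6) = true := by decide +kernel
theorem t1690_rchk_3487 : allR t1690_rf 352792 6 (3487 * 2 ^ 6) = true := by decide +kernel
theorem t1690_rchk_3488 : allR t1690_rf 352792 6 (3488 * 2 ^ 6) = true := by decide +kernel
theorem t1690_rchk_3489 : allR t1690_rf 352792 6 (3489 * 2 ^ 6) = true := by decide +kernel
theorem t1690_rchk_3490 : allR t1690_rf 352792 6 (3490 * 2 ^ 6) = true := by decide +kernel
theorem t1690_rchk_3491 : allR t1690_rf 352792 6 (3491 * 2 ^ 6) = true := by decide +kernel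
theorem t1690_rchk_3492 : allR t1690_rf 352792 6 (3492 * 2 ^ 6) = true := by decide +kernel
theorem t1690_rchk_3493 : allR t1690_rf 352792 6 (3493 * 2 ^ 6) = true := by decide +kernel
theorem t1690_rchk_3494 : allR t1690_rf 352792 6 (3494 * 2 ^ 6) = true := by decide +kernel
theorem t1690_rchk_3495 : allR t1690_rf 352792 6 (3495 * 2 ^ 6) = true := by decide +kernel
theorem t1690_rchk_3496 : allR t1690_rf 352792 6 (3496 * 2 ^ 6) = true := by decide +kernel
theorem t1690_rchk_3497 : allR t1690_rf 352792 6 (3497 * 2 ^ 6) = true := by decide +kernel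
theorem t1690_rchk_3498 : allR t1690_rf 352792 6 (3498 * 2 ^ 6) = true := by decide +kernel
theorem t1690_rchk_3499 : allR t1690_rf 352792 6 (3499 * 2 ^ 6) = true := by decide +kernel
theorem t1690_rchk_3500 : allR t1690_rf 352792 6 (3500 * 2 ^ 6) = true := by decide +kernel
theorem t1690_rchk_3501 : allR t1690_rf 352792 6 (3501 * 2 ^ 6) = true := by decide +kernel
theorem t1690_rchk_3502 : allR t1690_rf 352792 6 (3502 * 2 ^ 6) = true := by decide +kernel
theorem t1690_rchk_3503 : allR t1690_rf 352792 6 (3503 * 2 ^ 6) = true := by decide +kernel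
theorem t1690_rchk_3504 : allR t1690_rf 352792 6 (3504 * 2 ^ 6) = true := by decide +kernel
theorem t1690_rchk_3505 : allR t1690_rf 352792 6 (3505 * 2 ^ 6) = true := by decide +kernel
theorem t1690_rchk_3506 : allR t1690_rf 352792 6 (3506 * 2 ^ 6) = true := by decide +kernel
theorem t1690_rchk_3507 : allR t1690_rf 352792 6 (3507 * 2 ^ 6) = true := by decide +kernel
theorem t1690_rchk_3508 : allR t1690_rf 352792 6 (3508 * 2 ^ 6) = true := by decide +kernel
theorem t1690_rchk_3509 : allR t1690_rf 352792 6 (3509 * 2 ^ 6) = true := by decide +kernel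
theorem t1690_rchk_3510 : allR t1690_rf 352792 6 (3510 * 2 ^ 6) = true := by decide +kernel
theorem t1690_rchk_3511 : allR t1690_rf 352792 6 (3511 * 2 ^ 6) = true := by decide +kernel
theorem t1690_rchk_3512 : allR t1690_rf 352792 6 (3512 * 2 ^ 6) = true := by decide +kernel
theorem t1690_rchk_3513 : allR t1690_rf 352792 6 (3513 * 2 ^ 6) = true := by decide +kernel
theorem t1690_rchk_3514 : allR t1690_rf 352792 6 (3514 * 2 ^ 6) = true := by decide +kernel
theorem t1690_rchk_3515 : allR t1690_rf 352792 6 (3515 * 2 ^ 6) = true := by decide +kernel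
theorem t1690_rchk_3516 : allR t1690_rf 352792 6 (3516 * 2 ^ 6) = true := by decide +kernel
theorem t1690_rchk_3517 : allR t1690_rf 352792 6 (3517 * 2 ^ 6) = true := by decide +kernel
theorem t1690_rchk_3518 : allR t1690_rf 352792 6 (3518 * 2 ^ 6) = true := by decide +kernel
theorem t1690_rchk_3519 : allR t1690_rf 352792 6 (3519 * 2 ^ 6) = true := by decide +kernel

theorem t1690_rfile_43 : ∀ k, k < 3520 → 3440 ≤ k → allR t1690_rf 352792 6 (k * 2 ^ 6) = true := by
  intro k h1 h2
  interval_cases k
  · exact t1690_rchk_3440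
  · exact t1690_rchk_3441
  · exact t1690_rchk_3442
  · exact t1690_rchk_3443
  · exact t1690_rchk_3444
  · exact t1690_rchk_3445
  · exact t1690_rchk_3446
  · exact t1690_rchk_3447
  · exact t1690_rchk_3448
  · exact t1690_rchk_3449
  · exact t1690_rchk_3450
  · exact t1690_rchk_3451
  · exact t1690_rchk_3452
  · exact t1690_rchk_3453
  · exact t1690_rchk_3454
  · exact t1690_rchk_3455
  · exact t1690_rchk_3456
  · exact t1690_rchk_3457
  · exact t1690_rchk_3458
  · exact t1690_rchk_3459
  · exact t1690_rchk_3460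
  · exact t1690_rchk_3461
  · exact t1690_rchk_3462
  · exact t1690_rchk_3463
  · exact t1690_rchk_3464
  · exact t1690_rchk_3465
  · exact t1690_rchk_3466
  · exact t1690_rchk_3467
  · exact t1690_rchk_3468
  · exact t1690_rchk_3469
  · exact t1690_rchk_3470
  · exact t1690_rchk_3471
  · exact t1690_rchk_3472
  · exact t1690_rchk_3473
  · exact t1690_rchk_3474
  · exact t1690_rchk_3475
  · exact t1690_rchk_3476
  · exact t1690_rchk_3477
  · exact t1690_rchk_3478
  · exact t1690_rchk_3479
  · exact t1690_rchk_3480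
  · exact t1690_rchk_3481
  · exact t1690_rchk_3482
  · exact t1690_rchk_3483
  · exact t1690_rchk_3484
  · exact t1690_rchk_3485
  · exact t1690_rchk_3486
  · exact t1690_rchk_3487
  · exact t1690_rchk_3488
  · exact t1690_rchk_3489
  · exact t1690_rchk_3490
  · exact t1690_rchk_3491
  · exact t1690_rchk_3492
  · exact t1690_rchk_3493
  · exact t1690_rchk_3494
  · exact t1690_rchk_3495
  · exact t1690_rchk_3496
  · exact t1690_rchk_3497
  · exact t1690_rchk_3498
  · exact t1690_rchk_3499
  · exact t1690_rchk_3500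
  · exact t1690_rchk_3501
  · exact t1690_rchk_3502
  · exact t1690_rchk_3503
  · exact t1690_rchk_3504
  · exact t1690_rchk_3505
  · exact t1690_rchk_3506
  · exact t1690_rchk_3507
  · exact t1690_rchk_3508
  · exact t1690_rchk_3509
  · exact t1690_rchk_3510
  · exact t1690_rchk_3511
  · exact t1690_rchk_3512
  · exact t1690_rchk_3513
  · exact t1690_rchk_3514
  · exact t1690_rchk_3515
  · exact t1690_rchk_3516
  · exact t1690_rchk_3517
  · exact t1690_rchk_3518
  · exact t1690_rchk_3519

end Cfsg.Agent.H35
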