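import Cfsg.Agent.H35.T1690.RTab

set_option autoImplicit false
set_option linter.all false
set_option Elab.async false

namespace Cfsg.Agent.H35

theorem t1690_rchk_3600 : allR t1690_rf 352792 6 (3600 * 2 ^ 6) = true := by decide +kernel
theorem t1690_rchk_3601 : allR t1690_rf 352792 6 (3601 * 2 ^ 6) = true := by decide +kernel
theorem t1690_rchk_3602 : allR t1690_rf 352792 6 (3602 * 2 ^ 6) = true := by decide +kernel
theorem t1690_rchk_3603 : allR t1690_rf 352792 6 (3603 * 2 ^ 6) = true := by decide +kernel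
theorem t1690_rchk_3604 : allR t1690_rf 352792 6 (3604 * 2 ^ 6) = true := by decide +kernel
theorem t1690_rchk_3605 : allR t1690_rf 352792 6 (3605 * 2 ^ 6) = true := by decide +kernel
theorem t1690_rchk_3606 : allR t1690_rf 352792 6 (3606 * 2 ^ 6) = true := by decide +kernel
theorem t1690_rchk_3607 : allR t1690_rf 352792 6 (3607 * 2 ^ 6) = true := by decide +kernel
theorem t1690_rchk_3608 : allR t1690_rf 352792 6 (3608 * 2 ^ 6) = true := by decide +kernel
theorem t1690_rchk_3609 : allR t1690_rf 352792 6 (3609 * 2 ^ 6) = true := by decide +kernel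
theorem t1690_rchk_3610 : allR t1690_rf 352792 6 (3610 * 2 ^ 6) = true := by decide +kernel
theorem t1690_rchk_3611 : allR t1690_rf 352792 6 (3611 * 2 ^ 6) = true := by decide +kernel
theorem t1690_rchk_3612 : allR t1690_rf 352792 6 (3612 * 2 ^ 6) = true := by decide +kernel
theorem t1690_rchk_3613 : allR t1690_rf 352792 6 (3613 * 2 ^ 6) = true := by decide +kernel
theorem t1690_rchk_3614 : allR t1690_rf 352792 6 (3614 * 2 ^ 6) = true := by decide +kernel
theorem t1690_rchk_3615 : allR t1690_rf 352792 6 (3615 * 2 ^ 6) = true := by decide +kernel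
theorem t1690_rchk_3616 : allR t1690_rf 352792 6 (3616 * 2 ^ 6) = true := by decide +kernel
theorem t1690_rchk_3617 : allR t1690_rf 352792 6 (3617 * 2 ^ 6) = true := by decide +kernel
theorem t1690_rchk_3618 : allR t1690_rf 352792 6 (3618 * 2 ^ 6) = true := by decide +kernel
theorem t1690_rchk_3619 : allR t1690_rf 352792 6 (3619 * 2 ^ 6) = true := by decide +kernel
theorem t1690_rchk_3620 : allR t1690_rf 352792 6 (3620 * 2 ^ 6) = true := by decide +kernel
theorem t1690_rchk_3621 : allR t1690_rf 352792 6 (3621 * 2 ^ 6) = true := by decide +kernel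
theorem t1690_rchk_3622 : allR t1690_rf 352792 6 (3622 * 2 ^ 6) = true := by decide +kernel
theorem t1690_rchk_3623 : allR t1690_rf 352792 6 (3623 * 2 ^ 6) = true := by decide +kernel
theorem t1690_rchk_3624 : allR t1690_rf 352792 6 (3624 * 2 ^ 6) = true := by decide +kernel
theorem t1690_rchk_3625 : allR t1690_rf 352792 6 (3625 * 2 ^ 6) = true := by decide +kernel
theorem t1690_rchk_3626 : allR t1690_rf 352792 6 (3626 * 2 ^ 6) = true := by decide +kernel
theorem t1690_rchk_3627 : allR t1690_rf 352792 6 (3627 * 2 ^ 6) = true := by decide +kernel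
theorem t1690_rchk_3628 : allR t1690_rf 352792 6 (3628 * 2 ^ 6) = true := by decide +kernel
theorem t1690_rchk_3629 : allR t1690_rf 352792 6 (3629 * 2 ^ 6) = true := by decide +kernel
theorem t1690_rchk_3630 : allR t1690_rf 352792 6 (3630 * 2 ^ 6) = true := by decide +kernel
theorem t1690_rchk_3631 : allR t1690_rf 352792 6 (3631 * 2 ^ 6) = true := by decide +kernel
theorem t1690_rchk_3632 : allR t1690_rf 352792 6 (3632 * 2 ^ 6) = true := by decide +kernel
theorem t1690_rchk_3633 : allR t1690_rf 352792 6 (3633 * 2 ^ 6) = true := by decide +kernel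
theorem t1690_rchk_3634 : allR t1690_rf 352792 6 (3634 * 2 ^ 6) = true := by decide +kernel
theorem t1690_rchk_3635 : allR t1690_rf 352792 6 (3635 * 2 ^ 6) = true := by decide +kernel
theorem t1690_rchk_3636 : allR t1690_rf 352792 6 (3636 * 2 ^ 6) = true := by decide +kernel
theorem t1690_rchk_3637 : allR t1690_rf 352792 6 (3637 * 2 ^ 6) = true := by decide +kernel
theorem t1690_rchk_3638 : allR t1690_rf 352792 6 (3638 * 2 ^ 6) = true := by decide +kernel
theorem t1690_rchk_3639 : allR t1690_rf 352792 6 (3639 * 2 ^ 6) = true := by decide +kernel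
theorem t1690_rchk_3640 : allR t1690_rf 352792 6 (3640 * 2 ^ 6) = true := by decide +kernel
theorem t1690_rchk_3641 : allR t1690_rf 352792 6 (3641 * 2 ^ 6) = true := by decide +kernel
theorem t1690_rchk_3642 : allR t1690_rf 352792 6 (3642 * 2 ^ 6) = true := by decide +kernel
theorem t1690_rchk_3643 : allR t1690_rf 352792 6 (3643 * 2 ^ 6) = true := by decide +kernel
theorem t1690_rchk_3644 : allR t1690_rf 352792 6 (3644 * 2 ^ 6) = true := by decide +kernel
theorem t1690_rchk_3645 : allR t1690_rf 352792 6 (3645 * 2 ^ 6) = true := by decide +kernel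
theorem t1690_rchk_3646 : allR t1690_rf 352792 6 (3646 * 2 ^ 6) = true := by decide +kernel
theorem t1690_rchk_3647 : allR t1690_rf 352792 6 (3647 * 2 ^ 6) = true := by decide +kernel
theorem t1690_rchk_3648 : allR t1690_rf 352792 6 (3648 * 2 ^ 6) = true := by decide +kernel
theorem t1690_rchk_3649 : allR t1690_rf 352792 6 (3649 * 2 ^ 6) = true := by decide +kernel
theorem t1690_rchk_3650 : allR t1690_rf 352792 6 (3650 * 2 ^ 6) = true := by decide +kernel
theorem t1690_rchk_3651 : allR t1690_rf 352792 6 (3651 * 2 ^ 6) = true := by decide +kernel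
theorem t1690_rchk_3652 : allR t1690_rf 352792 6 (3652 * 2 ^ 6) = true := by decide +kernel
theorem t1690_rchk_3653 : allR t1690_rf 352792 6 (3653 * 2 ^ 6) = true := by decide +kernel
theorem t1690_rchk_3654 : allR t1690_rf 352792 6 (3654 * 2 ^ 6) = true := by decide +kernel
theorem t1690_rchk_3655 : allR t1690_rf 352792 6 (3655 * 2 ^ 6) = true := by decide +kernel
theorem t1690_rchk_3656 : allR t1690_rf 352792 6 (3656 * 2 ^ 6) = true := by decide +kernel
theorem t1690_rchk_3657 : allR t1690_rf 352792 6 (3657 * 2 ^ 6) = true := by decide +kernel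
theorem t1690_rchk_3658 : allR t1690_rf 352792 6 (3658 * 2 ^ 6) = true := by decide +kernel
theorem t1690_rchk_3659 : allR t1690_rf 352792 6 (3659 * 2 ^ 6) = true := by decide +kernel
theorem t1690_rchk_3660 : allR t1690_rf 352792 6 (3660 * 2 ^ 6) = true := by decide +kernel
theorem t1690_rchk_3661 : allR t1690_rf 352792 6 (3661 * 2 ^ 6) = true := by decide +kernel
theorem t1690_rchk_3662 : allR t1690_rf 352792 6 (3662 * 2 ^ 6) = true := by decide +kernel
theorem t1690_rchk_3663 : allR t1690_rf 352792 6 (3663 * 2 ^ 6) = true := by decide +kernel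
theorem t1690_rchk_3664 : allR t1690_rf 352792 6 (3664 * 2 ^ 6) = true := by decide +kernel
theorem t1690_rchk_3665 : allR t1690_rf 352792 6 (3665 * 2 ^ 6) = true := by decide +kernel
theorem t1690_rchk_3666 : allR t1690_rf 352792 6 (3666 * 2 ^ 6) = true := by decide +kernel
theorem t1690_rchk_3667 : allR t1690_rf 352792 6 (3667 * 2 ^ 6) = true := by decide +kernel
theorem t1690_rchk_3668 : allR t1690_rf 352792 6 (3668 * 2 ^ 6) = true := by decide +kernel
theorem t1690_rchk_3669 : allR t1690_rf 352792 6 (3669 * 2 ^ 6) = true := by decide +kernel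
theorem t1690_rchk_3670 : allR t1690_rf 352792 6 (3670 * 2 ^ 6) = true := by decide +kernel
theorem t1690_rchk_3671 : allR t1690_rf 352792 6 (3671 * 2 ^ 6) = true := by decide +kernel
theorem t1690_rchk_3672 : allR t1690_rf 352792 6 (3672 * 2 ^ 6) = true := by decide +kernel
theorem t1690_rchk_3673 : allR t1690_rf 352792 6 (3673 * 2 ^ 6) = true := by decide +kernel
theorem t1690_rchk_3674 : allR t1690_rf 352792 6 (3674 * 2 ^ 6) = true := by decide +kernel
theorem t1690_rchk_3675 : allR t1690_rf 352792 6 (3675 * 2 ^ 6) = true := by decide +kernel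
theorem t1690_rchk_3676 : allR t1690_rf 352792 6 (3676 * 2 ^ 6) = true := by decide +kernel
theorem t1690_rchk_3677 : allR t1690_rf 352792 6 (3677 * 2 ^ 6) = true := by decide +kernel
theorem t1690_rchk_3678 : allR t1690_rf 352792 6 (3678 * 2 ^ 6) = true := by decide +kernel
theorem t1690_rchk_3679 : allR t1690_rf 352792 6 (3679 * 2 ^ 6) = true := by decide +kernel

theorem t1690_rfile_45 : ∀ k, k < 3680 → 3600 ≤ k → allR t1690_rf 352792 6 (k * 2 ^ 6) = true := by
  intro k h1 h2
  interval_cases k
  · exact t1690_rchk_3600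
  · exact t1690_rchk_3601
  · exact t1690_rchk_3602
  · exact t1690_rchk_3603
  · exact t1690_rchk_3604
  · exact t1690_rchk_3605
  · exact t1690_rchk_3606
  · exact t1690_rchk_3607
  · exact t1690_rchk_3608
  · exact t1690_rchk_3609
  · exact t1690_rchk_3610
  · exact t1690_rchk_3611
  · exact t1690_rchk_3612
  · exact t1690_rchk_3613
  · exact t1690_rchk_3614
  · exact t1690_rchk_3615
  · exact t1690_rchk_3616
  · exact t1690_rchk_3617
  · exact t1690_rchk_3618
  · exact t1690_rchk_3619
  · exact t1690_rchk_3620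
  · exact t1690_rchk_3621
  · exact t1690_rchk_3622
  · exact t1690_rchk_3623
  · exact t1690_rchk_3624
  · exact t1690_rchk_3625
  · exact t1690_rchk_3626
  · exact t1690_rchk_3627
  · exact t1690_rchk_3628
  · exact t1690_rchk_3629
  · exact t1690_rchk_3630
  · exact t1690_rchk_3631
  · exact t1690_rchk_3632
  · exact t1690_rchk_3633
  · exact t1690_rchk_3634
  · exact t1690_rchk_3635
  · exact t1690_rchk_3636
  · exact t1690_rchk_3637
  · exact t1690_rchk_3638
  · exact t1690_rchk_3639
  · exact t1690_rchk_3640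
  · exact t1690_rchk_3641
  · exact t1690_rchk_3642
  · exact t1690_rchk_3643
  · exact t1690_rchk_3644
  · exact t1690_rchk_3645
  · exact t1690_rchk_3646
  · exact t1690_rchk_3647
  · exact t1690_rchk_3648
  · exact t1690_rchk_3649
  · exact t1690_rchk_3650
  · exact t1690_rchk_3651
  · exact t1690_rchk_3652
  · exact t1690_rchk_3653
  · exact t1690_rchk_3654
  · exact t1690_rchk_3655
  · exact t1690_rchk_3656
  · exact t1690_rchk_3657
  · exact t1690_rchk_3658
  · exact t1690_rchk_3659
  · exact t1690_rchk_3660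
  · exact t1690_rchk_3661
  · exact t1690_rchk_3662
  · exact t1690_rchk_3663
  · exact t1690_rchk_3664
  · exact t1690_rchk_3665
  · exact t1690_rchk_3666
  · exact t1690_rchk_3667
  · exact t1690_rchk_3668
  · exact t1690_rchk_3669
  · exact t1690_rchk_3670
  · exact t1690_rchk_3671
  · exact t1690_rchk_3672
  · exact t1690_rchk_3673
  · exact t1690_rchk_3674
  · exact t1690_rchk_3675
  · exact t1690_rchk_3676
  · exact t1690_rchk_3677
  · exact t1690_rchk_3678
  · exact t1690_rchk_3679

end Cfsg.Agent.H35
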