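import Cfsg.Agent.H35.T1690.RTab

set_option autoImplicit false
set_option linter.all false
set_option Elab.async false

namespace Cfsg.Agent.H35

theorem t1690_rchk_3680 : allR t1690_rf 352792 6 (3680 * 2 ^ 6) = true := by decide +kernel
theorem t1690_rchk_3681 : allR t1690_rf 352792 6 (3681 * 2 ^ 6) = true := by decide +kernel
theorem t1690_rchk_3682 : allR t1690_rf 352792 6 (3682 * 2 ^ 6) = true := by decide +kernel
theorem t1690_rchk_3683 : allR t1690_rf 352792 6 (3683 * 2 ^ 6) = true := by decide +kernel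
theorem t1690_rchk_3684 : allR t1690_rf 352792 6 (3684 * 2 ^ 6) = true := by decide +kernel
theorem t1690_rchk_3685 : allR t1690_rf 352792 6 (3685 * 2 ^ 6) = true := by decide +kernel
theorem t1690_rchk_3686 : allR t1690_rf 352792 6 (3686 * 2 ^ 6) = true := by decide +kernel
theorem t1690_rchk_3687 : allR t1690_rf 352792 6 (3687 * 2 ^ 6) = true := by decide +kernel
theorem t1690_rchk_3688 : allR t1690_rf 352792 6 (3688 * 2 ^ 6) = true := by decide +kernel
theorem t1690_rchk_3689 : allR t1690_rf 352792 6 (3689 * 2 ^ 6) = true := by decide +kernel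
theorem t1690_rchk_3690 : allR t1690_rf 352792 6 (3690 * 2 ^ 6) = true := by decide +kernel
theorem t1690_rchk_3691 : allR t1690_rf 352792 6 (3691 * 2 ^ 6) = true := by decide +kernel
theorem t1690_rchk_3692 : allR t1690_rf 352792 6 (3692 * 2 ^ 6) = true := by decide +kernel
theorem t1690_rchk_3693 : allR t1690_rf 352792 6 (3693 * 2 ^ 6) = true := by decide +kernel
theorem t1690_rchk_3694 : allR t1690_rf 352792 6 (3694 * 2 ^ 6) = true := by decide +kernel
theorem t1690_rchk_3695 : allR t1690_rf 352792 6 (3695 * 2 ^ 6) = true := by decide +kernel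
theorem t1690_rchk_3696 : allR t1690_rf 352792 6 (3696 * 2 ^ 6) = true := by decide +kernel
theorem t1690_rchk_3697 : allR t1690_rf 352792 6 (3697 * 2 ^ 6) = true := by decide +kernel
theorem t1690_rchk_3698 : allR t1690_rf 352792 6 (3698 * 2 ^ 6) = true := by decide +kernel
theorem t1690_rchk_3699 : allR t1690_rf 352792 6 (3699 * 2 ^ 6) = true := by decide +kernel
theorem t1690_rchk_3700 : allR t1690_rf 352792 6 (3700 * 2 ^ 6) = true := by decide +kernel
theorem t1690_rchk_3701 : allR t1690_rf 352792 6 (3701 * 2 ^ 6) = true := by decide +kernel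
theorem t1690_rchk_3702 : allR t1690_rf 352792 6 (3702 * 2 ^ 6) = true := by decide +kernel
theorem t1690_rchk_3703 : allR t1690_rf 352792 6 (3703 * 2 ^ 6) = true := by decide +kernel
theorem t1690_rchk_3704 : allR t1690_rf 352792 6 (3704 * 2 ^ 6) = true := by decide +kernel
theorem t1690_rchk_3705 : allR t1690_rf 352792 6 (3705 * 2 ^ 6) = true := by decide +kernel
theorem t1690_rchk_3706 : allR t1690_rf 352792 6 (3706 * 2 ^ 6) = true := by decide +kernel
theorem t1690_rchk_3707 : allR t1690_rf 352792 6 (3707 * 2 ^ 6) = true := by decide +kernel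
theorem t1690_rchk_3708 : allR t1690_rf 352792 6 (3708 * 2 ^ 6) = true := by decide +kernel
theorem t1690_rchk_3709 : allR t1690_rf 352792 6 (3709 * 2 ^ 6) = true := by decide +kernel
theorem t1690_rchk_3710 : allR t1690_rf 352792 6 (3710 * 2 ^ 6) = true := by decide +kernel
theorem t1690_rchk_3711 : allR t1690_rf 352792 6 (3711 * 2 ^ 6) = true := by decide +kernel
theorem t1690_rchk_3712 : allR t1690_rf 352792 6 (3712 * 2 ^ 6) = true := by decide +kernel
theorem t1690_rchk_3713 : allR t1690_rf 352792 6 (3713 * 2 ^ 6) = true := by decide +kernel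
theorem t1690_rchk_3714 : allR t1690_rf 352792 6 (3714 * 2 ^ 6) = true := by decide +kernel
theorem t1690_rchk_3715 : allR t1690_rf 352792 6 (3715 * 2 ^ 6) = true := by decide +kernel
theorem t1690_rchk_3716 : allR t1690_rf 352792 6 (3716 * 2 ^ 6) = true := by decide +kernel
theorem t1690_rchk_3717 : allR t1690_rf 352792 6 (3717 * 2 ^ 6) = true := by decide +kernel
theorem t1690_rchk_3718 : allR t1690_rf 352792 6 (3718 * 2 ^ 6) = true := by decide +kernel
theorem t1690_rchk_3719 : allR t1690_rf 352792 6 (3719 * 2 ^ 6) = true := by decide +kernel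
theorem t1690_rchk_3720 : allR t1690_rf 352792 6 (3720 * 2 ^ 6) = true := by decide +kernel
theorem t1690_rchk_3721 : allR t1690_rf 352792 6 (3721 * 2 ^ 6) = true := by decide +kernel
theorem t1690_rchk_3722 : allR t1690_rf 352792 6 (3722 * 2 ^ 6) = true := by decide +kernel
theorem t1690_rchk_3723 : allR t1690_rf 352792 6 (3723 * 2 ^ 6) = true := by decide +kernel
theorem t1690_rchk_3724 : allR t1690_rf 352792 6 (3724 * 2 ^ 6) = true := by decide +kernel
theorem t1690_rchk_3725 : allR t1690_rf 352792 6 (3725 * 2 ^ 6) = true := by decide +kernel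
theorem t1690_rchk_3726 : allR t1690_rf 352792 6 (3726 * 2 ^ 6) = true := by decide +kernel
theorem t1690_rchk_3727 : allR t1690_rf 352792 6 (3727 * 2 ^ 6) = true := by decide +kernel
theorem t1690_rchk_3728 : allR t1690_rf 352792 6 (3728 * 2 ^ 6) = true := by decide +kernel
theorem t1690_rchk_3729 : allR t1690_rf 352792 6 (3729 * 2 ^ 6) = true := by decide +kernel
theorem t1690_rchk_3730 : allR t1690_rf 352792 6 (3730 * 2 ^ 6) = true := by decide +kernel
theorem t1690_rchk_3731 : allR t1690_rf 352792 6 (3731 * 2 ^ 6) = true := by decide +kernel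
theorem t1690_rchk_3732 : allR t1690_rf 352792 6 (3732 * 2 ^ 6) = true := by decide +kernel
theorem t1690_rchk_3733 : allR t1690_rf 352792 6 (3733 * 2 ^ 6) = true := by decide +kernel
theorem t1690_rchk_3734 : allR t1690_rf 352792 6 (3734 * 2 ^ 6) = true := by decide +kernel
theorem t1690_rchk_3735 : allR t1690_rf 352792 6 (3735 * 2 ^ 6) = true := by decide +kernel
theorem t1690_rchk_3736 : allR t1690_rf 352792 6 (3736 * 2 ^ 6) = true := by decide +kernel
theorem t1690_rchk_3737 : allR t1690_rf 352792 6 (3737 * 2 ^ 6) = true := by decide +kernel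
theorem t1690_rchk_3738 : allR t1690_rf 352792 6 (3738 * 2 ^ 6) = true := by decide +kernel
theorem t1690_rchk_3739 : allR t1690_rf 352792 6 (3739 * 2 ^ 6) = true := by decide +kernel
theorem t1690_rchk_3740 : allR t1690_rf 352792 6 (3740 * 2 ^ 6) = true := by decide +kernel
theorem t1690_rchk_3741 : allR t1690_rf 352792 6 (3741 * 2 ^ 6) = true := by decide +kernel
theorem t1690_rchk_3742 : allR t1690_rf 352792 6 (3742 * 2 ^ 6) = true := by decide +kernel
theorem t1690_rchk_3743 : allR t1690_rf 352792 6 (3743 * 2 ^ 6) = true := by decide +kernel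
theorem t1690_rchk_3744 : allR t1690_rf 352792 6 (3744 * 2 ^ 6) = true := by decide +kernel
theorem t1690_rchk_3745 : allR t1690_rf 352792 6 (3745 * 2 ^ 6) = true := by decide +kernel
theorem t1690_rchk_3746 : allR t1690_rf 352792 6 (3746 * 2 ^ 6) = true := by decide +kernel
theorem t1690_rchk_3747 : allR t1690_rf 352792 6 (3747 * 2 ^ 6) = true := by decide +kernel
theorem t1690_rchk_3748 : allR t1690_rf 352792 6 (3748 * 2 ^ 6) = true := by decide +kernel
theorem t1690_rchk_3749 : allR t1690_rf 352792 6 (3749 * 2 ^ 6) = true := by decide +kernel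
theorem t1690_rchk_3750 : allR t1690_rf 352792 6 (3750 * 2 ^ 6) = true := by decide +kernel
theorem t1690_rchk_3751 : allR t1690_rf 352792 6 (3751 * 2 ^ 6) = true := by decide +kernel
theorem t1690_rchk_3752 : allR t1690_rf 352792 6 (3752 * 2 ^ 6) = true := by decide +kernel
theorem t1690_rchk_3753 : allR t1690_rf 352792 6 (3753 * 2 ^ 6) = true := by decide +kernel
theorem t1690_rchk_3754 : allR t1690_rf 352792 6 (3754 * 2 ^ 6) = true := by decide +kernel
theorem t1690_rchk_3755 : allR t1690_rf 352792 6 (3755 * 2 ^ 6) = true := by decide +kernel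
theorem t1690_rchk_3756 : allR t1690_rf 352792 6 (3756 * 2 ^ 6) = true := by decide +kernel
theorem t1690_rchk_3757 : allR t1690_rf 352792 6 (3757 * 2 ^ 6) = true := by decide +kernel
theorem t1690_rchk_3758 : allR t1690_rf 352792 6 (3758 * 2 ^ 6) = true := by decide +kernel
theorem t1690_rchk_3759 : allR t1690_rf 352792 6 (3759 * 2 ^ 6) = true := by decide +kernel

theorem t1690_rfile_46 : ∀ k, k < 3760 → 3680 ≤ k → allR t1690_rf 352792 6 (k * 2 ^ 6) = true := by
  intro k h1 h2
  interval_cases k
  · exact t1690_rchk_3680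
  · exact t1690_rchk_3681
  · exact t1690_rchk_3682
  · exact t1690_rchk_3683
  · exact t1690_rchk_3684
  · exact t1690_rchk_3685
  · exact t1690_rchk_3686
  · exact t1690_rchk_3687
  · exact t1690_rchk_3688
  · exact t1690_rchk_3689
  · exact t1690_rchk_3690
  · exact t1690_rchk_3691
  · exact t1690_rchk_3692
  · exact t1690_rchk_3693
  · exact t1690_rchk_3694
  · exact t1690_rchk_3695
  · exact t1690_rchk_3696
  · exact t1690_rchk_3697
  · exact t1690_rchk_3698
  · exact t1690_rchk_3699
  · exact t1690_rchk_3700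
  · exact t1690_rchk_3701
  · exact t1690_rchk_3702
  · exact t1690_rchk_3703
  · exact t1690_rchk_3704
  · exact t1690_rchk_3705
  · exact t1690_rchk_3706
  · exact t1690_rchk_3707
  · exact t1690_rchk_3708
  · exact t1690_rchk_3709
  · exact t1690_rchk_3710
  · exact t1690_rchk_3711
  · exact t1690_rchk_3712
  · exact t1690_rchk_3713
  · exact t1690_rchk_3714
  · exact t1690_rchk_3715
  · exact t1690_rchk_3716
  · exact t1690_rchk_3717
  · exact t1690_rchk_3718
  · exact t1690_rchk_3719
  · exact t1690_rchk_3720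
  · exact t1690_rchk_3721
  · exact t1690_rchk_3722
  · exact t1690_rchk_3723
  · exact t1690_rchk_3724
  · exact t1690_rchk_3725
  · exact t1690_rchk_3726
  · exact t1690_rchk_3727
  · exact t1690_rchk_3728
  · exact t1690_rchk_3729
  · exact t1690_rchk_3730
  · exact t1690_rchk_3731
  · exact t1690_rchk_3732
  · exact t1690_rchk_3733
  · exact t1690_rchk_3734
  · exact t1690_rchk_3735
  · exact t1690_rchk_3736
  · exact t1690_rchk_3737
  · exact t1690_rchk_3738
  · exact t1690_rchk_3739
  · exact t1690_rchk_3740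
  · exact t1690_rchk_3741
  · exact t1690_rchk_3742
  · exact t1690_rchk_3743
  · exact t1690_rchk_3744
  · exact t1690_rchk_3745
  · exact t1690_rchk_3746
  · exact t1690_rchk_3747
  · exact t1690_rchk_3748
  · exact t1690_rchk_3749
  · exact t1690_rchk_3750
  · exact t1690_rchk_3751
  · exact t1690_rchk_3752
  · exact t1690_rchk_3753
  · exact t1690_rchk_3754
  · exact t1690_rchk_3755
  · exact t1690_rchk_3756
  · exact t1690_rchk_3757
  · exact t1690_rchk_3758
  · exact t1690_rchk_3759

end Cfsg.Agent.H35
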