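import Cfsg.Agent.H35.T1690.RTab

set_option autoImplicit false
set_option linter.all false
set_option Elab.async false

namespace Cfsg.Agent.H35

theorem t1690_rchk_3760 : allR t1690_rf 352792 6 (3760 * 2 ^ 6) = true := by decide +kernel
theorem t1690_rchk_3761 : allR t1690_rf 352792 6 (3761 * 2 ^ 6) = true := by decide +kernel
theorem t1690_rchk_3762 : allR t1690_rf 352792 6 (3762 * 2 ^ 6) = true := by decide +kernel
theorem t1690_rchk_3763 : allR t1690_rf 352792 6 (3763 * 2 ^ 6) = true := by decide +kernel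
theorem t1690_rchk_3764 : allR t1690_rf 352792 6 (3764 * 2 ^ 6) = true := by decide +kernel
theorem t1690_rchk_3765 : allR t1690_rf 352792 6 (3765 * 2 ^ 6) = true := by decide +kernel
theorem t1690_rchk_3766 : allR t1690_rf 352792 6 (3766 * 2 ^ 6) = true := by decide +kernel
theorem t1690_rchk_3767 : allR t1690_rf 352792 6 (3767 * 2 ^ 6) = true := by decide +kernel
theorem t1690_rchk_3768 : allR t1690_rf 352792 6 (3768 * 2 ^ 6) = true := by decide +kernel
theorem t1690_rchk_3769 : allR t1690_rf 352792 6 (3769 * 2 ^ 6) = true := by decide +kernel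
theorem t1690_rchk_3770 : allR t1690_rf 352792 6 (3770 * 2 ^ 6) = true := by decide +kernel
theorem t1690_rchk_3771 : allR t1690_rf 352792 6 (3771 * 2 ^ 6) = true := by decide +kernel
theorem t1690_rchk_3772 : allR t1690_rf 352792 6 (3772 * 2 ^ 6) = true := by decide +kernel
theorem t1690_rchk_3773 : allR t1690_rf 352792 6 (3773 * 2 ^ 6) = true := by decide +kernel
theorem t1690_rchk_3774 : allR t1690_rf 352792 6 (3774 * 2 ^ 6) = true := by decide +kernel
theorem t1690_rchk_3775 : allR t1690_rf 352792 6 (3775 * 2 ^ 6) = true := by decide +kernel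
theorem t1690_rchk_3776 : allR t1690_rf 352792 6 (3776 * 2 ^ 6) = true := by decide +kernel
theorem t1690_rchk_3777 : allR t1690_rf 352792 6 (3777 * 2 ^ 6) = true := by decide +kernel
theorem t1690_rchk_3778 : allR t1690_rf 352792 6 (3778 * 2 ^ 6) = true := by decide +kernel
theorem t1690_rchk_3779 : allR t1690_rf 352792 6 (3779 * 2 ^ 6) = true := by decide +kernel
theorem t1690_rchk_3780 : allR t1690_rf 352792 6 (3780 * 2 ^ 6) = true := by decide +kernel
theorem t1690_rchk_3781 : allR t1690_rf 352792 6 (3781 * 2 ^ 6) = true := by decide +kernel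
theorem t1690_rchk_3782 : allR t1690_rf 352792 6 (3782 * 2 ^ 6) = true := by decide +kernel
theorem t1690_rchk_3783 : allR t1690_rf 352792 6 (3783 * 2 ^ 6) = true := by decide +kernel
theorem t1690_rchk_3784 : allR t1690_rf 352792 6 (3784 * 2 ^ 6) = true := by decide +kernel
theorem t1690_rchk_3785 : allR t1690_rf 352792 6 (3785 * 2 ^ 6) = true := by decide +kernel
theorem t1690_rchk_3786 : allR t1690_rf 352792 6 (3786 * 2 ^ 6) = true := by decide +kernel
theorem t1690_rchk_3787 : allR t1690_rf 352792 6 (3787 * 2 ^ 6) = true := by decide +kernel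
theorem t1690_rchk_3788 : allR t1690_rf 352792 6 (3788 * 2 ^ 6) = true := by decide +kernel
theorem t1690_rchk_3789 : allR t1690_rf 352792 6 (3789 * 2 ^ 6) = true := by decide +kernel
theorem t1690_rchk_3790 : allR t1690_rf 352792 6 (3790 * 2 ^ 6) = true := by decide +kernel
theorem t1690_rchk_3791 : allR t1690_rf 352792 6 (3791 * 2 ^ 6) = true := by decide +kernel
theorem t1690_rchk_3792 : allR t1690_rf 352792 6 (3792 * 2 ^ 6) = true := by decide +kernel
theorem t1690_rchk_3793 : allR t1690_rf 352792 6 (3793 * 2 ^ 6) = true := by decide +kernel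
theorem t1690_rchk_3794 : allR t1690_rf 352792 6 (3794 * 2 ^ 6) = true := by decide +kernel
theorem t1690_rchk_3795 : allR t1690_rf 352792 6 (3795 * 2 ^ 6) = true := by decide +kernel
theorem t1690_rchk_3796 : allR t1690_rf 352792 6 (3796 * 2 ^ 6) = true := by decide +kernel
theorem t1690_rchk_3797 : allR t1690_rf 352792 6 (3797 * 2 ^ 6) = true := by decide +kernel
theorem t1690_rchk_3798 : allR t1690_rf 352792 6 (3798 * 2 ^ 6) = true := by decide +kernel
theorem t1690_rchk_3799 : allR t1690_rf 352792 6 (3799 * 2 ^ 6) = true := by decide +kernel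
theorem t1690_rchk_3800 : allR t1690_rf 352792 6 (3800 * 2 ^ 6) = true := by decide +kernel
theorem t1690_rchk_3801 : allR t1690_rf 352792 6 (3801 * 2 ^ 6) = true := by decide +kernel
theorem t1690_rchk_3802 : allR t1690_rf 352792 6 (3802 * 2 ^ 6) = true := by decide +kernel
theorem t1690_rchk_3803 : allR t1690_rf 352792 6 (3803 * 2 ^ 6) = true := by decide +kernel
theorem t1690_rchk_3804 : allR t1690_rf 352792 6 (3804 * 2 ^ 6) = true := by decide +kernel
theorem t1690_rchk_3805 : allR t1690_rf 352792 6 (3805 * 2 ^ 6) = true := by decide +kernel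
theorem t1690_rchk_3806 : allR t1690_rf 352792 6 (3806 * 2 ^ 6) = true := by decide +kernel
theorem t1690_rchk_3807 : allR t1690_rf 352792 6 (3807 * 2 ^ 6) = true := by decide +kernel
theorem t1690_rchk_3808 : allR t1690_rf 352792 6 (3808 * 2 ^ 6) = true := by decide +kernel
theorem t1690_rchk_3809 : allR t1690_rf 352792 6 (3809 * 2 ^ 6) = true := by decide +kernel
theorem t1690_rchk_3810 : allR t1690_rf 352792 6 (3810 * 2 ^ 6) = true := by decide +kernel
theorem t1690_rchk_3811 : allR t1690_rf 352792 6 (3811 * 2 ^ 6) = true := by decide +kernel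
theorem t1690_rchk_3812 : allR t1690_rf 352792 6 (3812 * 2 ^ 6) = true := by decide +kernel
theorem t1690_rchk_3813 : allR t1690_rf 352792 6 (3813 * 2 ^ 6) = true := by decide +kernel
theorem t1690_rchk_3814 : allR t1690_rf 352792 6 (3814 * 2 ^ 6) = true := by decide +kernel
theorem t1690_rchk_3815 : allR t1690_rf 352792 6 (3815 * 2 ^ 6) = true := by decide +kernel
theorem t1690_rchk_3816 : allR t1690_rf 352792 6 (3816 * 2 ^ 6) = true := by decide +kernel
theorem t1690_rchk_3817 : allR t1690_rf 352792 6 (3817 * 2 ^ 6) = true := by decide +kernel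
theorem t1690_rchk_3818 : allR t1690_rf 352792 6 (3818 * 2 ^ 6) = true := by decide +kernel
theorem t1690_rchk_3819 : allR t1690_rf 352792 6 (3819 * 2 ^ 6) = true := by decide +kernel
theorem t1690_rchk_3820 : allR t1690_rf 352792 6 (3820 * 2 ^ 6) = true := by decide +kernel
theorem t1690_rchk_3821 : allR t1690_rf 352792 6 (3821 * 2 ^ 6) = true := by decide +kernel
theorem t1690_rchk_3822 : allR t1690_rf 352792 6 (3822 * 2 ^ 6) = true := by decide +kernel
theorem t1690_rchk_3823 : allR t1690_rf 352792 6 (3823 * 2 ^ 6) = true := by decide +kernel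
theorem t1690_rchk_3824 : allR t1690_rf 352792 6 (3824 * 2 ^ 6) = true := by decide +kernel
theorem t1690_rchk_3825 : allR t1690_rf 352792 6 (3825 * 2 ^ 6) = true := by decide +kernel
theorem t1690_rchk_3826 : allR t1690_rf 352792 6 (3826 * 2 ^ 6) = true := by decide +kernel
theorem t1690_rchk_3827 : allR t1690_rf 352792 6 (3827 * 2 ^ 6) = true := by decide +kernel
theorem t1690_rchk_3828 : allR t1690_rf 352792 6 (3828 * 2 ^ 6) = true := by decide +kernel
theorem t1690_rchk_3829 : allR t1690_rf 352792 6 (3829 * 2 ^ 6) = true := by decide +kernel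
theorem t1690_rchk_3830 : allR t1690_rf 352792 6 (3830 * 2 ^ 6) = true := by decide +kernel
theorem t1690_rchk_3831 : allR t1690_rf 352792 6 (3831 * 2 ^ 6) = true := by decide +kernel
theorem t1690_rchk_3832 : allR t1690_rf 352792 6 (3832 * 2 ^ 6) = true := by decide +kernel
theorem t1690_rchk_3833 : allR t1690_rf 352792 6 (3833 * 2 ^ 6) = true := by decide +kernel
theorem t1690_rchk_3834 : allR t1690_rf 352792 6 (3834 * 2 ^ 6) = true := by decide +kernel
theorem t1690_rchk_3835 : allR t1690_rf 352792 6 (3835 * 2 ^ 6) = true := by decide +kernel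
theorem t1690_rchk_3836 : allR t1690_rf 352792 6 (3836 * 2 ^ 6) = true := by decide +kernel
theorem t1690_rchk_3837 : allR t1690_rf 352792 6 (3837 * 2 ^ 6) = true := by decide +kernel
theorem t1690_rchk_3838 : allR t1690_rf 352792 6 (3838 * 2 ^ 6) = true := by decide +kernel
theorem t1690_rchk_3839 : allR t1690_rf 352792 6 (3839 * 2 ^ 6) = true := by decide +kernel

theorem t1690_rfile_47 : ∀ k, k < 3840 → 3760 ≤ k → allR t1690_rf 352792 6 (k * 2 ^ 6) = true := by
  intro k h1 h2
  interval_cases k
  · exact t1690_rchk_3760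
  · exact t1690_rchk_3761
  · exact t1690_rchk_3762
  · exact t1690_rchk_3763
  · exact t1690_rchk_3764
  · exact t1690_rchk_3765
  · exact t1690_rchk_3766
  · exact t1690_rchk_3767
  · exact t1690_rchk_3768
  · exact t1690_rchk_3769
  · exact t1690_rchk_3770
  · exact t1690_rchk_3771
  · exact t1690_rchk_3772
  · exact t1690_rchk_3773
  · exact t1690_rchk_3774
  · exact t1690_rchk_3775
  · exact t1690_rchk_3776
  · exact t1690_rchk_3777
  · exact t1690_rchk_3778
  · exact t1690_rchk_3779
  · exact t1690_rchk_3780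
  · exact t1690_rchk_3781
  · exact t1690_rchk_3782
  · exact t1690_rchk_3783
  · exact t1690_rchk_3784
  · exact t1690_rchk_3785
  · exact t1690_rchk_3786
  · exact t1690_rchk_3787
  · exact t1690_rchk_3788
  · exact t1690_rchk_3789
  · exact t1690_rchk_3790
  · exact t1690_rchk_3791
  · exact t1690_rchk_3792
  · exact t1690_rchk_3793
  · exact t1690_rchk_3794
  · exact t1690_rchk_3795
  · exact t1690_rchk_3796
  · exact t1690_rchk_3797
  · exact t1690_rchk_3798
  · exact t1690_rchk_3799
  · exact t1690_rchk_3800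
  · exact t1690_rchk_3801
  · exact t1690_rchk_3802
  · exact t1690_rchk_3803
  · exact t1690_rchk_3804
  · exact t1690_rchk_3805
  · exact t1690_rchk_3806
  · exact t1690_rchk_3807
  · exact t1690_rchk_3808
  · exact t1690_rchk_3809
  · exact t1690_rchk_3810
  · exact t1690_rchk_3811
  · exact t1690_rchk_3812
  · exact t1690_rchk_3813
  · exact t1690_rchk_3814
  · exact t1690_rchk_3815
  · exact t1690_rchk_3816
  · exact t1690_rchk_3817
  · exact t1690_rchk_3818
  · exact t1690_rchk_3819
  · exact t1690_rchk_3820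
  · exact t1690_rchk_3821
  · exact t1690_rchk_3822
  · exact t1690_rchk_3823
  · exact t1690_rchk_3824
  · exact t1690_rchk_3825
  · exact t1690_rchk_3826
  · exact t1690_rchk_3827
  · exact t1690_rchk_3828
  · exact t1690_rchk_3829
  · exact t1690_rchk_3830
  · exact t1690_rchk_3831
  · exact t1690_rchk_3832
  · exact t1690_rchk_3833
  · exact t1690_rchk_3834
  · exact t1690_rchk_3835
  · exact t1690_rchk_3836
  · exact t1690_rchk_3837
  · exact t1690_rchk_3838
  · exact t1690_rchk_3839

end Cfsg.Agent.H35
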