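import Cfsg.Agent.H35.T1690.RTab

set_option autoImplicit false
set_option linter.all false
set_option Elab.async false

namespace Cfsg.Agent.H35

theorem t1690_rchk_3840 : allR t1690_rf 352792 6 (3840 * 2 ^ 6) = true := by decide +kernel
theorem t1690_rchk_3841 : allR t1690_rf 352792 6 (3841 * 2 ^ 6) = true := by decide +kernel
theorem t1690_rchk_3842 : allR t1690_rf 352792 6 (3842 * 2 ^ 6) = true := by decide +kernel
theorem t1690_rchk_3843 : allR t1690_rf 352792 6 (3843 * 2 ^ 6) = true := by decide +kernel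
theorem t1690_rchk_3844 : allR t1690_rf 352792 6 (3844 * 2 ^ 6) = true := by decide +kernel
theorem t1690_rchk_3845 : allR t1690_rf 352792 6 (3845 * 2 ^ 6) = true := by decide +kernel
theorem t1690_rchk_3846 : allR t1690_rf 352792 6 (3846 * 2 ^ 6) = true := by decide +kernel
theorem t1690_rchk_3847 : allR t1690_rf 352792 6 (3847 * 2 ^ 6) = true := by decide +kernel
theorem t1690_rchk_3848 : allR t1690_rf 352792 6 (3848 * 2 ^ 6) = true := by decide +kernel
theorem t1690_rchk_3849 : allR t1690_rf 352792 6 (3849 * 2 ^ 6) = true := by decide +kernel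
theorem t1690_rchk_3850 : allR t1690_rf 352792 6 (3850 * 2 ^ 6) = true := by decide +kernel
theorem t1690_rchk_3851 : allR t1690_rf 352792 6 (3851 * 2 ^ 6) = true := by decide +kernel
theorem t1690_rchk_3852 : allR t1690_rf 352792 6 (3852 * 2 ^ 6) = true := by decide +kernel
theorem t1690_rchk_3853 : allR t1690_rf 352792 6 (3853 * 2 ^ 6) = true := by decide +kernel
theorem t1690_rchk_3854 : allR t1690_rf 352792 6 (3854 * 2 ^ 6) = true := by decide +kernel
theorem t1690_rchk_3855 : allR t1690_rf 352792 6 (3855 * 2 ^ 6) = true := by decide +kernel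
theorem t1690_rchk_3856 : allR t1690_rf 352792 6 (3856 * 2 ^ 6) = true := by decide +kernel
theorem t1690_rchk_3857 : allR t1690_rf 352792 6 (3857 * 2 ^ 6) = true := by decide +kernel
theorem t1690_rchk_3858 : allR t1690_rf 352792 6 (3858 * 2 ^ 6) = true := by decide +kernel
theorem t1690_rchk_3859 : allR t1690_rf 352792 6 (3859 * 2 ^ 6) = true := by decide +kernel
theorem t1690_rchk_3860 : allR t1690_rf 352792 6 (3860 * 2 ^ 6) = true := by decide +kernel
theorem t1690_rchk_3861 : allR t1690_rf 352792 6 (3861 * 2 ^ 6) = true := by decide +kernel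
theorem t1690_rchk_3862 : allR t1690_rf 352792 6 (3862 * 2 ^ 6) = true := by decide +kernel
theorem t1690_rchk_3863 : allR t1690_rf 352792 6 (3863 * 2 ^ 6) = true := by decide +kernel
theorem t1690_rchk_3864 : allR t1690_rf 352792 6 (3864 * 2 ^ 6) = true := by decide +kernel
theorem t1690_rchk_3865 : allR t1690_rf 352792 6 (3865 * 2 ^ 6) = true := by decide +kernel
theorem t1690_rchk_3866 : allR t1690_rf 352792 6 (3866 * 2 ^ 6) = true := by decide +kernel
theorem t1690_rchk_3867 : allR t1690_rf 352792 6 (3867 * 2 ^ 6) = true := by decide +kernel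
theorem t1690_rchk_3868 : allR t1690_rf 352792 6 (3868 * 2 ^ 6) = true := by decide +kernel
theorem t1690_rchk_3869 : allR t1690_rf 352792 6 (3869 * 2 ^ 6) = true := by decide +kernel
theorem t1690_rchk_3870 : allR t1690_rf 352792 6 (3870 * 2 ^ 6) = true := by decide +kernel
theorem t1690_rchk_3871 : allR t1690_rf 352792 6 (3871 * 2 ^ 6) = true := by decide +kernel
theorem t1690_rchk_3872 : allR t1690_rf 352792 6 (3872 * 2 ^ 6) = true := by decide +kernel
theorem t1690_rchk_3873 : allR t1690_rf 352792 6 (3873 * 2 ^ 6) = true := by decide +kernel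
theorem t1690_rchk_3874 : allR t1690_rf 352792 6 (3874 * 2 ^ 6) = true := by decide +kernel
theorem t1690_rchk_3875 : allR t1690_rf 352792 6 (3875 * 2 ^ 6) = true := by decide +kernel
theorem t1690_rchk_3876 : allR t1690_rf 352792 6 (3876 * 2 ^ 6) = true := by decide +kernel
theorem t1690_rchk_3877 : allR t1690_rf 352792 6 (3877 * 2 ^ 6) = true := by decide +kernel
theorem t1690_rchk_3878 : allR t1690_rf 352792 6 (3878 * 2 ^ 6) = true := by decide +kernel
theorem t1690_rchk_3879 : allR t1690_rf 352792 6 (3879 * 2 ^ 6) = true := by decide +kernel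
theorem t1690_rchk_3880 : allR t1690_rf 352792 6 (3880 * 2 ^ 6) = true := by decide +kernel
theorem t1690_rchk_3881 : allR t1690_rf 352792 6 (3881 * 2 ^ 6) = true := by decide +kernel
theorem t1690_rchk_3882 : allR t1690_rf 352792 6 (3882 * 2 ^ 6) = true := by decide +kernel
theorem t1690_rchk_3883 : allR t1690_rf 352792 6 (3883 * 2 ^ 6) = true := by decide +kernel
theorem t1690_rchk_3884 : allR t1690_rf 352792 6 (3884 * 2 ^ 6) = true := by decide +kernel
theorem t1690_rchk_3885 : allR t1690_rf 352792 6 (3885 * 2 ^ 6) = true := by decide +kernel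
theorem t1690_rchk_3886 : allR t1690_rf 352792 6 (3886 * 2 ^ 6) = true := by decide +kernel
theorem t1690_rchk_3887 : allR t1690_rf 352792 6 (3887 * 2 ^ 6) = true := by decide +kernel
theorem t1690_rchk_3888 : allR t1690_rf 352792 6 (3888 * 2 ^ 6) = true := by decide +kernel
theorem t1690_rchk_3889 : allR t1690_rf 352792 6 (3889 * 2 ^ 6) = true := by decide +kernel
theorem t1690_rchk_3890 : allR t1690_rf 352792 6 (3890 * 2 ^ 6) = true := by decide +kernel
theorem t1690_rchk_3891 : allR t1690_rf 352792 6 (3891 * 2 ^ 6) = true := by decide +kernel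
theorem t1690_rchk_3892 : allR t1690_rf 352792 6 (3892 * 2 ^ 6) = true := by decide +kernel
theorem t1690_rchk_3893 : allR t1690_rf 352792 6 (3893 * 2 ^ 6) = true := by decide +kernel
theorem t1690_rchk_3894 : allR t1690_rf 352792 6 (3894 * 2 ^ 6) = true := by decide +kernel
theorem t1690_rchk_3895 : allR t1690_rf 352792 6 (3895 * 2 ^ 6) = true := by decide +kernel
theorem t1690_rchk_3896 : allR t1690_rf 352792 6 (3896 * 2 ^ 6) = true := by decide +kernel
theorem t1690_rchk_3897 : allR t1690_rf 352792 6 (3897 * 2 ^ 6) = true := by decide +kernel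
theorem t1690_rchk_3898 : allR t1690_rf 352792 6 (3898 * 2 ^ 6) = true := by decide +kernel
theorem t1690_rchk_3899 : allR t1690_rf 352792 6 (3899 * 2 ^ 6) = true := by decide +kernel
theorem t1690_rchk_3900 : allR t1690_rf 352792 6 (3900 * 2 ^ 6) = true := by decide +kernel
theorem t1690_rchk_3901 : allR t1690_rf 352792 6 (3901 * 2 ^ 6) = true := by decide +kernel
theorem t1690_rchk_3902 : allR t1690_rf 352792 6 (3902 * 2 ^ 6) = true := by decide +kernel
theorem t1690_rchk_3903 : allR t1690_rf 352792 6 (3903 * 2 ^ 6) = true := by decide +kernel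
theorem t1690_rchk_3904 : allR t1690_rf 352792 6 (3904 * 2 ^ 6) = true := by decide +kernel
theorem t1690_rchk_3905 : allR t1690_rf 352792 6 (3905 * 2 ^ 6) = true := by decide +kernel
theorem t1690_rchk_3906 : allR t1690_rf 352792 6 (3906 * 2 ^ 6) = true := by decide +kernel
theorem t1690_rchk_3907 : allR t1690_rf 352792 6 (3907 * 2 ^ 6) = true := by decide +kernel
theorem t1690_rchk_3908 : allR t1690_rf 352792 6 (3908 * 2 ^ 6) = true := by decide +kernel
theorem t1690_rchk_3909 : allR t1690_rf 352792 6 (3909 * 2 ^ 6) = true := by decide +kernel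
theorem t1690_rchk_3910 : allR t1690_rf 352792 6 (3910 * 2 ^ 6) = true := by decide +kernel
theorem t1690_rchk_3911 : allR t1690_rf 352792 6 (3911 * 2 ^ 6) = true := by decide +kernel
theorem t1690_rchk_3912 : allR t1690_rf 352792 6 (3912 * 2 ^ 6) = true := by decide +kernel
theorem t1690_rchk_3913 : allR t1690_rf 352792 6 (3913 * 2 ^ 6) = true := by decide +kernel
theorem t1690_rchk_3914 : allR t1690_rf 352792 6 (3914 * 2 ^ 6) = true := by decide +kernel
theorem t1690_rchk_3915 : allR t1690_rf 352792 6 (3915 * 2 ^ 6) = true := by decide +kernel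
theorem t1690_rchk_3916 : allR t1690_rf 352792 6 (3916 * 2 ^ 6) = true := by decide +kernel
theorem t1690_rchk_3917 : allR t1690_rf 352792 6 (3917 * 2 ^ 6) = true := by decide +kernel
theorem t1690_rchk_3918 : allR t1690_rf 352792 6 (3918 * 2 ^ 6) = true := by decide +kernel
theorem t1690_rchk_3919 : allR t1690_rf 352792 6 (3919 * 2 ^ 6) = true := by decide +kernel

theorem t1690_rfile_48 : ∀ k, k < 3920 → 3840 ≤ k → allR t1690_rf 352792 6 (k * 2 ^ 6) = true := by
  intro k h1 h2
  interval_cases k
  · exact t1690_rchk_3840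
  · exact t1690_rchk_3841
  · exact t1690_rchk_3842
  · exact t1690_rchk_3843
  · exact t1690_rchk_3844
  · exact t1690_rchk_3845
  · exact t1690_rchk_3846
  · exact t1690_rchk_3847
  · exact t1690_rchk_3848
  · exact t1690_rchk_3849
  · exact t1690_rchk_3850
  · exact t1690_rchk_3851
  · exact t1690_rchk_3852
  · exact t1690_rchk_3853
  · exact t1690_rchk_3854
  · exact t1690_rchk_3855
  · exact t1690_rchk_3856
  · exact t1690_rchk_3857
  · exact t1690_rchk_3858
  · exact t1690_rchk_3859
  · exact t1690_rchk_3860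
  · exact t1690_rchk_3861
  · exact t1690_rchk_3862
  · exact t1690_rchk_3863
  · exact t1690_rchk_3864
  · exact t1690_rchk_3865
  · exact t1690_rchk_3866
  · exact t1690_rchk_3867
  · exact t1690_rchk_3868
  · exact t1690_rchk_3869
  · exact t1690_rchk_3870
  · exact t1690_rchk_3871
  · exact t1690_rchk_3872
  · exact t1690_rchk_3873
  · exact t1690_rchk_3874
  · exact t1690_rchk_3875
  · exact t1690_rchk_3876
  · exact t1690_rchk_3877
  · exact t1690_rchk_3878
  · exact t1690_rchk_3879
  · exact t1690_rchk_3880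
  · exact t1690_rchk_3881
  · exact t1690_rchk_3882
  · exact t1690_rchk_3883
  · exact t1690_rchk_3884
  · exact t1690_rchk_3885
  · exact t1690_rchk_3886
  · exact t1690_rchk_3887
  · exact t1690_rchk_3888
  · exact t1690_rchk_3889
  · exact t1690_rchk_3890
  · exact t1690_rchk_3891
  · exact t1690_rchk_3892
  · exact t1690_rchk_3893
  · exact t1690_rchk_3894
  · exact t1690_rchk_3895
  · exact t1690_rchk_3896
  · exact t1690_rchk_3897
  · exact t1690_rchk_3898
  · exact t1690_rchk_3899
  · exact t1690_rchk_3900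
  · exact t1690_rchk_3901
  · exact t1690_rchk_3902
  · exact t1690_rchk_3903
  · exact t1690_rchk_3904
  · exact t1690_rchk_3905
  · exact t1690_rchk_3906
  · exact t1690_rchk_3907
  · exact t1690_rchk_3908
  · exact t1690_rchk_3909
  · exact t1690_rchk_3910
  · exact t1690_rchk_3911
  · exact t1690_rchk_3912
  · exact t1690_rchk_3913
  · exact t1690_rchk_3914
  · exact t1690_rchk_3915
  · exact t1690_rchk_3916
  · exact t1690_rchk_3917
  · exact t1690_rchk_3918
  · exact t1690_rchk_3919

end Cfsg.Agent.H35
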