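import Cfsg.Agent.H35.T1690.RTab

set_option autoImplicit false
set_option linter.all false
set_option Elab.async false

namespace Cfsg.Agent.H35

theorem t1690_rchk_3920 : allR t1690_rf 352792 6 (3920 * 2 ^ 6) = true := by decide +kernel
theorem t1690_rchk_3921 : allR t1690_rf 352792 6 (3921 * 2 ^ 6) = true := by decide +kernel
theorem t1690_rchk_3922 : allR t1690_rf 352792 6 (3922 * 2 ^ 6) = true := by decide +kernel
theorem t1690_rchk_3923 : allR t1690_rf 352792 6 (3923 * 2 ^ 6) = true := by decide +kernel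
theorem t1690_rchk_3924 : allR t1690_rf 352792 6 (3924 * 2 ^ 6) = true := by decide +kernel
theorem t1690_rchk_3925 : allR t1690_rf 352792 6 (3925 * 2 ^ 6) = true := by decide +kernel
theorem t1690_rchk_3926 : allR t1690_rf 352792 6 (3926 * 2 ^ 6) = true := by decide +kernel
theorem t1690_rchk_3927 : allR t1690_rf 352792 6 (3927 * 2 ^ 6) = true := by decide +kernel
theorem t1690_rchk_3928 : allR t1690_rf 352792 6 (3928 * 2 ^ 6) = true := by decide +kernel
theorem t1690_rchk_3929 : allR t1690_rf 352792 6 (3929 * 2 ^ 6) = true := by decide +kernel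
theorem t1690_rchk_3930 : allR t1690_rf 352792 6 (3930 * 2 ^ 6) = true := by decide +kernel
theorem t1690_rchk_3931 : allR t1690_rf 352792 6 (3931 * 2 ^ 6) = true := by decide +kernel
theorem t1690_rchk_3932 : allR t1690_rf 352792 6 (3932 * 2 ^ 6) = true := by decide +kernel
theorem t1690_rchk_3933 : allR t1690_rf 352792 6 (3933 * 2 ^ 6) = true := by decide +kernel
theorem t1690_rchk_3934 : allR t1690_rf 352792 6 (3934 * 2 ^ 6) = true := by decide +kernel
theorem t1690_rchk_3935 : allR t1690_rf 352792 6 (3935 * 2 ^ 6) = true := by decide +kernel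
theorem t1690_rchk_3936 : allR t1690_rf 352792 6 (3936 * 2 ^ 6) = true := by decide +kernel
theorem t1690_rchk_3937 : allR t1690_rf 352792 6 (3937 * 2 ^ 6) = true := by decide +kernel
theorem t1690_rchk_3938 : allR t1690_rf 352792 6 (3938 * 2 ^ 6) = true := by decide +kernel
theorem t1690_rchk_3939 : allR t1690_rf 352792 6 (3939 * 2 ^ 6) = true := by decide +kernel
theorem t1690_rchk_3940 : allR t1690_rf 352792 6 (3940 * 2 ^ 6) = true := by decide +kernel
theorem t1690_rchk_3941 : allR t1690_rf 352792 6 (3941 * 2 ^ 6) = true := by decide +kernel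
theorem t1690_rchk_3942 : allR t1690_rf 352792 6 (3942 * 2 ^ 6) = true := by decide +kernel
theorem t1690_rchk_3943 : allR t1690_rf 352792 6 (3943 * 2 ^ 6) = true := by decide +kernel
theorem t1690_rchk_3944 : allR t1690_rf 352792 6 (3944 * 2 ^ 6) = true := by decide +kernel
theorem t1690_rchk_3945 : allR t1690_rf 352792 6 (3945 * 2 ^ 6) = true := by decide +kernel
theorem t1690_rchk_3946 : allR t1690_rf 352792 6 (3946 * 2 ^ 6) = true := by decide +kernel
theorem t1690_rchk_3947 : allR t1690_rf 352792 6 (3947 * 2 ^ 6) = true := by decide +kernel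
theorem t1690_rchk_3948 : allR t1690_rf 352792 6 (3948 * 2 ^ 6) = true := by decide +kernel
theorem t1690_rchk_3949 : allR t1690_rf 352792 6 (3949 * 2 ^ 6) = true := by decide +kernel
theorem t1690_rchk_3950 : allR t1690_rf 352792 6 (3950 * 2 ^ 6) = true := by decide +kernel
theorem t1690_rchk_3951 : allR t1690_rf 352792 6 (3951 * 2 ^ 6) = true := by decide +kernel
theorem t1690_rchk_3952 : allR t1690_rf 352792 6 (3952 * 2 ^ 6) = true := by decide +kernel
theorem t1690_rchk_3953 : allR t1690_rf 352792 6 (3953 * 2 ^ 6) = true := by decide +kernel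
theorem t1690_rchk_3954 : allR t1690_rf 352792 6 (3954 * 2 ^ 6) = true := by decide +kernel
theorem t1690_rchk_3955 : allR t1690_rf 352792 6 (3955 * 2 ^ 6) = true := by decide +kernel
theorem t1690_rchk_3956 : allR t1690_rf 352792 6 (3956 * 2 ^ 6) = true := by decide +kernel
theorem t1690_rchk_3957 : allR t1690_rf 352792 6 (3957 * 2 ^ 6) = true := by decide +kernel
theorem t1690_rchk_3958 : allR t1690_rf 352792 6 (3958 * 2 ^ 6) = true := by decide +kernel
theorem t1690_rchk_3959 : allR t1690_rf 352792 6 (3959 * 2 ^ 6) = true := by decide +kernel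
theorem t1690_rchk_3960 : allR t1690_rf 352792 6 (3960 * 2 ^ 6) = true := by decide +kernel
theorem t1690_rchk_3961 : allR t1690_rf 352792 6 (3961 * 2 ^ 6) = true := by decide +kernel
theorem t1690_rchk_3962 : allR t1690_rf 352792 6 (3962 * 2 ^ 6) = true := by decide +kernel
theorem t1690_rchk_3963 : allR t1690_rf 352792 6 (3963 * 2 ^ 6) = true := by decide +kernel
theorem t1690_rchk_3964 : allR t1690_rf 352792 6 (3964 * 2 ^ 6) = true := by decide +kernel
theorem t1690_rchk_3965 : allR t1690_rf 352792 6 (3965 * 2 ^ 6) = true := by decide +kernel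
theorem t1690_rchk_3966 : allR t1690_rf 352792 6 (3966 * 2 ^ 6) = true := by decide +kernel
theorem t1690_rchk_3967 : allR t1690_rf 352792 6 (3967 * 2 ^ 6) = true := by decide +kernel
theorem t1690_rchk_3968 : allR t1690_rf 352792 6 (3968 * 2 ^ 6) = true := by decide +kernel
theorem t1690_rchk_3969 : allR t1690_rf 352792 6 (3969 * 2 ^ 6) = true := by decide +kernel
theorem t1690_rchk_3970 : allR t1690_rf 352792 6 (3970 * 2 ^ 6) = true := by decide +kernel
theorem t1690_rchk_3971 : allR t1690_rf 352792 6 (3971 * 2 ^ 6) = true := by decide +kernel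
theorem t1690_rchk_3972 : allR t1690_rf 352792 6 (3972 * 2 ^ 6) = true := by decide +kernel
theorem t1690_rchk_3973 : allR t1690_rf 352792 6 (3973 * 2 ^ 6) = true := by decide +kernel
theorem t1690_rchk_3974 : allR t1690_rf 352792 6 (3974 * 2 ^ 6) = true := by decide +kernel
theorem t1690_rchk_3975 : allR t1690_rf 352792 6 (3975 * 2 ^ 6) = true := by decide +kernel
theorem t1690_rchk_3976 : allR t1690_rf 352792 6 (3976 * 2 ^ 6) = true := by decide +kernel
theorem t1690_rchk_3977 : allR t1690_rf 352792 6 (3977 * 2 ^ 6) = true := by decide +kernel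
theorem t1690_rchk_3978 : allR t1690_rf 352792 6 (3978 * 2 ^ 6) = true := by decide +kernel
theorem t1690_rchk_3979 : allR t1690_rf 352792 6 (3979 * 2 ^ 6) = true := by decide +kernel
theorem t1690_rchk_3980 : allR t1690_rf 352792 6 (3980 * 2 ^ 6) = true := by decide +kernel
theorem t1690_rchk_3981 : allR t1690_rf 352792 6 (3981 * 2 ^ 6) = true := by decide +kernel
theorem t1690_rchk_3982 : allR t1690_rf 352792 6 (3982 * 2 ^ 6) = true := by decide +kernel
theorem t1690_rchk_3983 : allR t1690_rf 352792 6 (3983 * 2 ^ 6) = true := by decide +kernel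
theorem t1690_rchk_3984 : allR t1690_rf 352792 6 (3984 * 2 ^ 6) = true := by decide +kernel
theorem t1690_rchk_3985 : allR t1690_rf 352792 6 (3985 * 2 ^ 6) = true := by decide +kernel
theorem t1690_rchk_3986 : allR t1690_rf 352792 6 (3986 * 2 ^ 6) = true := by decide +kernel
theorem t1690_rchk_3987 : allR t1690_rf 352792 6 (3987 * 2 ^ 6) = true := by decide +kernel
theorem t1690_rchk_3988 : allR t1690_rf 352792 6 (3988 * 2 ^ 6) = true := by decide +kernel
theorem t1690_rchk_3989 : allR t1690_rf 352792 6 (3989 * 2 ^ 6) = true := by decide +kernel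
theorem t1690_rchk_3990 : allR t1690_rf 352792 6 (3990 * 2 ^ 6) = true := by decide +kernel
theorem t1690_rchk_3991 : allR t1690_rf 352792 6 (3991 * 2 ^ 6) = true := by decide +kernel
theorem t1690_rchk_3992 : allR t1690_rf 352792 6 (3992 * 2 ^ 6) = true := by decide +kernel
theorem t1690_rchk_3993 : allR t1690_rf 352792 6 (3993 * 2 ^ 6) = true := by decide +kernel
theorem t1690_rchk_3994 : allR t1690_rf 352792 6 (3994 * 2 ^ 6) = true := by decide +kernel
theorem t1690_rchk_3995 : allR t1690_rf 352792 6 (3995 * 2 ^ 6) = true := by decide +kernel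
theorem t1690_rchk_3996 : allR t1690_rf 352792 6 (3996 * 2 ^ 6) = true := by decide +kernel
theorem t1690_rchk_3997 : allR t1690_rf 352792 6 (3997 * 2 ^ 6) = true := by decide +kernel
theorem t1690_rchk_3998 : allR t1690_rf 352792 6 (3998 * 2 ^ 6) = true := by decide +kernel
theorem t1690_rchk_3999 : allR t1690_rf 352792 6 (3999 * 2 ^ 6) = true := by decide +kernel

theorem t1690_rfile_49 : ∀ k, k < 4000 → 3920 ≤ k → allR t1690_rf 352792 6 (k * 2 ^ 6) = true := by
  intro k h1 h2
  interval_cases k
  · exact t1690_rchk_3920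
  · exact t1690_rchk_3921
  · exact t1690_rchk_3922
  · exact t1690_rchk_3923
  · exact t1690_rchk_3924
  · exact t1690_rchk_3925
  · exact t1690_rchk_3926
  · exact t1690_rchk_3927
  · exact t1690_rchk_3928
  · exact t1690_rchk_3929
  · exact t1690_rchk_3930
  · exact t1690_rchk_3931
  · exact t1690_rchk_3932
  · exact t1690_rchk_3933
  · exact t1690_rchk_3934
  · exact t1690_rchk_3935
  · exact t1690_rchk_3936
  · exact t1690_rchk_3937
  · exact t1690_rchk_3938
  · exact t1690_rchk_3939
  · exact t1690_rchk_3940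
  · exact t1690_rchk_3941
  · exact t1690_rchk_3942
  · exact t1690_rchk_3943
  · exact t1690_rchk_3944
  · exact t1690_rchk_3945
  · exact t1690_rchk_3946
  · exact t1690_rchk_3947
  · exact t1690_rchk_3948
  · exact t1690_rchk_3949
  · exact t1690_rchk_3950
  · exact t1690_rchk_3951
  · exact t1690_rchk_3952
  · exact t1690_rchk_3953
  · exact t1690_rchk_3954
  · exact t1690_rchk_3955
  · exact t1690_rchk_3956
  · exact t1690_rchk_3957
  · exact t1690_rchk_3958
  · exact t1690_rchk_3959
  · exact t1690_rchk_3960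
  · exact t1690_rchk_3961
  · exact t1690_rchk_3962
  · exact t1690_rchk_3963
  · exact t1690_rchk_3964
  · exact t1690_rchk_3965
  · exact t1690_rchk_3966
  · exact t1690_rchk_3967
  · exact t1690_rchk_3968
  · exact t1690_rchk_3969
  · exact t1690_rchk_3970
  · exact t1690_rchk_3971
  · exact t1690_rchk_3972
  · exact t1690_rchk_3973
  · exact t1690_rchk_3974
  · exact t1690_rchk_3975
  · exact t1690_rchk_3976
  · exact t1690_rchk_3977
  · exact t1690_rchk_3978
  · exact t1690_rchk_3979
  · exact t1690_rchk_3980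
  · exact t1690_rchk_3981
  · exact t1690_rchk_3982
  · exact t1690_rchk_3983
  · exact t1690_rchk_3984
  · exact t1690_rchk_3985
  · exact t1690_rchk_3986
  · exact t1690_rchk_3987
  · exact t1690_rchk_3988
  · exact t1690_rchk_3989
  · exact t1690_rchk_3990
  · exact t1690_rchk_3991
  · exact t1690_rchk_3992
  · exact t1690_rchk_3993
  · exact t1690_rchk_3994
  · exact t1690_rchk_3995
  · exact t1690_rchk_3996
  · exact t1690_rchk_3997
  · exact t1690_rchk_3998
  · exact t1690_rchk_3999

end Cfsg.Agent.H35
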