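import Cfsg.Agent.H35.T1690.RTab

set_option autoImplicit false
set_option linter.all false
set_option Elab.async false

namespace Cfsg.Agent.H35

theorem t1690_rchk_4000 : allR t1690_rf 352792 6 (4000 * 2 ^ 6) = true := by decide +kernel
theorem t1690_rchk_4001 : allR t1690_rf 352792 6 (4001 * 2 ^ 6) = true := by decide +kernel
theorem t1690_rchk_4002 : allR t1690_rf 352792 6 (4002 * 2 ^ 6) = true := by decide +kernel
theorem t1690_rchk_4003 : allR t1690_rf 352792 6 (4003 * 2 ^ 6) = true := by decide +kernel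
theorem t1690_rchk_4004 : allR t1690_rf 352792 6 (4004 * 2 ^ 6) = true := by decide +kernel
theorem t1690_rchk_4005 : allR t1690_rf 352792 6 (4005 * 2 ^ 6) = true := by decide +kernel
theorem t1690_rchk_4006 : allR t1690_rf 352792 6 (4006 * 2 ^ 6) = true := by decide +kernel
theorem t1690_rchk_4007 : allR t1690_rf 352792 6 (4007 * 2 ^ 6) = true := by decide +kernel
theorem t1690_rchk_4008 : allR t1690_rf 352792 6 (4008 * 2 ^ 6) = true := by decide +kernel
theorem t1690_rchk_4009 : allR t1690_rf 352792 6 (4009 * 2 ^ 6) = true := by decide +kernel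
theorem t1690_rchk_4010 : allR t1690_rf 352792 6 (4010 * 2 ^ 6) = true := by decide +kernel
theorem t1690_rchk_4011 : allR t1690_rf 352792 6 (4011 * 2 ^ 6) = true := by decide +kernel
theorem t1690_rchk_4012 : allR t1690_rf 352792 6 (4012 * 2 ^ 6) = true := by decide +kernel
theorem t1690_rchk_4013 : allR t1690_rf 352792 6 (4013 * 2 ^ 6) = true := by decide +kernel
theorem t1690_rchk_4014 : allR t1690_rf 352792 6 (4014 * 2 ^ 6) = true := by decide +kernel
theorem t1690_rchk_4015 : allR t1690_rf 352792 6 (4015 * 2 ^ 6) = true := by decide +kernel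
theorem t1690_rchk_4016 : allR t1690_rf 352792 6 (4016 * 2 ^ 6) = true := by decide +kernel
theorem t1690_rchk_4017 : allR t1690_rf 352792 6 (4017 * 2 ^ 6) = true := by decide +kernel
theorem t1690_rchk_4018 : allR t1690_rf 352792 6 (4018 * 2 ^ 6) = true := by decide +kernel
theorem t1690_rchk_4019 : allR t1690_rf 352792 6 (4019 * 2 ^ 6) = true := by decide +kernel
theorem t1690_rchk_4020 : allR t1690_rf 352792 6 (4020 * 2 ^ 6) = true := by decide +kernel
theorem t1690_rchk_4021 : allR t1690_rf 352792 6 (4021 * 2 ^ 6) = true := by decide +kernel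
theorem t1690_rchk_4022 : allR t1690_rf 352792 6 (4022 * 2 ^ 6) = true := by decide +kernel
theorem t1690_rchk_4023 : allR t1690_rf 352792 6 (4023 * 2 ^ 6) = true := by decide +kernel
theorem t1690_rchk_4024 : allR t1690_rf 352792 6 (4024 * 2 ^ 6) = true := by decide +kernel
theorem t1690_rchk_4025 : allR t1690_rf 352792 6 (4025 * 2 ^ 6) = true := by decide +kernel
theorem t1690_rchk_4026 : allR t1690_rf 352792 6 (4026 * 2 ^ 6) = true := by decide +kernel
theorem t1690_rchk_4027 : allR t1690_rf 352792 6 (4027 * 2 ^ 6) = true := by decide +kernel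
theorem t1690_rchk_4028 : allR t1690_rf 352792 6 (4028 * 2 ^ 6) = true := by decide +kernel
theorem t1690_rchk_4029 : allR t1690_rf 352792 6 (4029 * 2 ^ 6) = true := by decide +kernel
theorem t1690_rchk_4030 : allR t1690_rf 352792 6 (4030 * 2 ^ 6) = true := by decide +kernel
theorem t1690_rchk_4031 : allR t1690_rf 352792 6 (4031 * 2 ^ 6) = true := by decide +kernel
theorem t1690_rchk_4032 : allR t1690_rf 352792 6 (4032 * 2 ^ 6) = true := by decide +kernel
theorem t1690_rchk_4033 : allR t1690_rf 352792 6 (4033 * 2 ^ 6) = true := by decide +kernel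
theorem t1690_rchk_4034 : allR t1690_rf 352792 6 (4034 * 2 ^ 6) = true := by decide +kernel
theorem t1690_rchk_4035 : allR t1690_rf 352792 6 (4035 * 2 ^ 6) = true := by decide +kernel
theorem t1690_rchk_4036 : allR t1690_rf 352792 6 (4036 * 2 ^ 6) = true := by decide +kernel
theorem t1690_rchk_4037 : allR t1690_rf 352792 6 (4037 * 2 ^ 6) = true := by decide +kernel
theorem t1690_rchk_4038 : allR t1690_rf 352792 6 (4038 * 2 ^ 6) = true := by decide +kernel
theorem t1690_rchk_4039 : allR t1690_rf 352792 6 (4039 * 2 ^ 6) = true := by decide +kernel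
theorem t1690_rchk_4040 : allR t1690_rf 352792 6 (4040 * 2 ^ 6) = true := by decide +kernel
theorem t1690_rchk_4041 : allR t1690_rf 352792 6 (4041 * 2 ^ 6) = true := by decide +kernel
theorem t1690_rchk_4042 : allR t1690_rf 352792 6 (4042 * 2 ^ 6) = true := by decide +kernel
theorem t1690_rchk_4043 : allR t1690_rf 352792 6 (4043 * 2 ^ 6) = true := by decide +kernel
theorem t1690_rchk_4044 : allR t1690_rf 352792 6 (4044 * 2 ^ 6) = true := by decide +kernel
theorem t1690_rchk_4045 : allR t1690_rf 352792 6 (4045 * 2 ^ 6) = true := by decide +kernel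
theorem t1690_rchk_4046 : allR t1690_rf 352792 6 (4046 * 2 ^ 6) = true := by decide +kernel
theorem t1690_rchk_4047 : allR t1690_rf 352792 6 (4047 * 2 ^ 6) = true := by decide +kernel
theorem t1690_rchk_4048 : allR t1690_rf 352792 6 (4048 * 2 ^ 6) = true := by decide +kernel
theorem t1690_rchk_4049 : allR t1690_rf 352792 6 (4049 * 2 ^ 6) = true := by decide +kernel
theorem t1690_rchk_4050 : allR t1690_rf 352792 6 (4050 * 2 ^ 6) = true := by decide +kernel
theorem t1690_rchk_4051 : allR t1690_rf 352792 6 (4051 * 2 ^ 6) = true := by decide +kernel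
theorem t1690_rchk_4052 : allR t1690_rf 352792 6 (4052 * 2 ^ 6) = true := by decide +kernel
theorem t1690_rchk_4053 : allR t1690_rf 352792 6 (4053 * 2 ^ 6) = true := by decide +kernel
theorem t1690_rchk_4054 : allR t1690_rf 352792 6 (4054 * 2 ^ 6) = true := by decide +kernel
theorem t1690_rchk_4055 : allR t1690_rf 352792 6 (4055 * 2 ^ 6) = true := by decide +kernel
theorem t1690_rchk_4056 : allR t1690_rf 352792 6 (4056 * 2 ^ 6) = true := by decide +kernel
theorem t1690_rchk_4057 : allR t1690_rf 352792 6 (4057 * 2 ^ 6) = true := by decide +kernel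
theorem t1690_rchk_4058 : allR t1690_rf 352792 6 (4058 * 2 ^ 6) = true := by decide +kernel
theorem t1690_rchk_4059 : allR t1690_rf 352792 6 (4059 * 2 ^ 6) = true := by decide +kernel
theorem t1690_rchk_4060 : allR t1690_rf 352792 6 (4060 * 2 ^ 6) = true := by decide +kernel
theorem t1690_rchk_4061 : allR t1690_rf 352792 6 (4061 * 2 ^ 6) = true := by decide +kernel
theorem t1690_rchk_4062 : allR t1690_rf 352792 6 (4062 * 2 ^ 6) = true := by decide +kernel
theorem t1690_rchk_4063 : allR t1690_rf 352792 6 (4063 * 2 ^ 6) = true := by decide +kernel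
theorem t1690_rchk_4064 : allR t1690_rf 352792 6 (4064 * 2 ^ 6) = true := by decide +kernel
theorem t1690_rchk_4065 : allR t1690_rf 352792 6 (4065 * 2 ^ 6) = true := by decide +kernel
theorem t1690_rchk_4066 : allR t1690_rf 352792 6 (4066 * 2 ^ 6) = true := by decide +kernel
theorem t1690_rchk_4067 : allR t1690_rf 352792 6 (4067 * 2 ^ 6) = true := by decide +kernel
theorem t1690_rchk_4068 : allR t1690_rf 352792 6 (4068 * 2 ^ 6) = true := by decide +kernel
theorem t1690_rchk_4069 : allR t1690_rf 352792 6 (4069 * 2 ^ 6) = true := by decide +kernel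
theorem t1690_rchk_4070 : allR t1690_rf 352792 6 (4070 * 2 ^ 6) = true := by decide +kernel
theorem t1690_rchk_4071 : allR t1690_rf 352792 6 (4071 * 2 ^ 6) = true := by decide +kernel
theorem t1690_rchk_4072 : allR t1690_rf 352792 6 (4072 * 2 ^ 6) = true := by decide +kernel
theorem t1690_rchk_4073 : allR t1690_rf 352792 6 (4073 * 2 ^ 6) = true := by decide +kernel
theorem t1690_rchk_4074 : allR t1690_rf 352792 6 (4074 * 2 ^ 6) = true := by decide +kernel
theorem t1690_rchk_4075 : allR t1690_rf 352792 6 (4075 * 2 ^ 6) = true := by decide +kernel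
theorem t1690_rchk_4076 : allR t1690_rf 352792 6 (4076 * 2 ^ 6) = true := by decide +kernel
theorem t1690_rchk_4077 : allR t1690_rf 352792 6 (4077 * 2 ^ 6) = true := by decide +kernel
theorem t1690_rchk_4078 : allR t1690_rf 352792 6 (4078 * 2 ^ 6) = true := by decide +kernel
theorem t1690_rchk_4079 : allR t1690_rf 352792 6 (4079 * 2 ^ 6) = true := by decide +kernel

theorem t1690_rfile_50 : ∀ k, k < 4080 → 4000 ≤ k → allR t1690_rf 352792 6 (k * 2 ^ 6) = true := by
  intro k h1 h2
  interval_cases k
  · exact t1690_rchk_4000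
  · exact t1690_rchk_4001
  · exact t1690_rchk_4002
  · exact t1690_rchk_4003
  · exact t1690_rchk_4004
  · exact t1690_rchk_4005
  · exact t1690_rchk_4006
  · exact t1690_rchk_4007
  · exact t1690_rchk_4008
  · exact t1690_rchk_4009
  · exact t1690_rchk_4010
  · exact t1690_rchk_4011
  · exact t1690_rchk_4012
  · exact t1690_rchk_4013
  · exact t1690_rchk_4014
  · exact t1690_rchk_4015
  · exact t1690_rchk_4016
  · exact t1690_rchk_4017
  · exact t1690_rchk_4018
  · exact t1690_rchk_4019
  · exact t1690_rchk_4020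
  · exact t1690_rchk_4021
  · exact t1690_rchk_4022
  · exact t1690_rchk_4023
  · exact t1690_rchk_4024
  · exact t1690_rchk_4025
  · exact t1690_rchk_4026
  · exact t1690_rchk_4027
  · exact t1690_rchk_4028
  · exact t1690_rchk_4029
  · exact t1690_rchk_4030
  · exact t1690_rchk_4031
  · exact t1690_rchk_4032
  · exact t1690_rchk_4033
  · exact t1690_rchk_4034
  · exact t1690_rchk_4035
  · exact t1690_rchk_4036
  · exact t1690_rchk_4037
  · exact t1690_rchk_4038
  · exact t1690_rchk_4039
  · exact t1690_rchk_4040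
  · exact t1690_rchk_4041
  · exact t1690_rchk_4042
  · exact t1690_rchk_4043
  · exact t1690_rchk_4044
  · exact t1690_rchk_4045
  · exact t1690_rchk_4046
  · exact t1690_rchk_4047
  · exact t1690_rchk_4048
  · exact t1690_rchk_4049
  · exact t1690_rchk_4050
  · exact t1690_rchk_4051
  · exact t1690_rchk_4052
  · exact t1690_rchk_4053
  · exact t1690_rchk_4054
  · exact t1690_rchk_4055
  · exact t1690_rchk_4056
  · exact t1690_rchk_4057
  · exact t1690_rchk_4058
  · exact t1690_rchk_4059
  · exact t1690_rchk_4060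
  · exact t1690_rchk_4061
  · exact t1690_rchk_4062
  · exact t1690_rchk_4063
  · exact t1690_rchk_4064
  · exact t1690_rchk_4065
  · exact t1690_rchk_4066
  · exact t1690_rchk_4067
  · exact t1690_rchk_4068
  · exact t1690_rchk_4069
  · exact t1690_rchk_4070
  · exact t1690_rchk_4071
  · exact t1690_rchk_4072
  · exact t1690_rchk_4073
  · exact t1690_rchk_4074
  · exact t1690_rchk_4075
  · exact t1690_rchk_4076
  · exact t1690_rchk_4077
  · exact t1690_rchk_4078
  · exact t1690_rchk_4079

end Cfsg.Agent.H35
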