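import Cfsg.Agent.H35.T1690.RTab

set_option autoImplicit false
set_option linter.all false
set_option Elab.async false

namespace Cfsg.Agent.H35

theorem t1690_rchk_4080 : allR t1690_rf 352792 6 (4080 * 2 ^ 6) = true := by decide +kernel
theorem t1690_rchk_4081 : allR t1690_rf 352792 6 (4081 * 2 ^ 6) = true := by decide +kernel
theorem t1690_rchk_4082 : allR t1690_rf 352792 6 (4082 * 2 ^ 6) = true := by decide +kernel
theorem t1690_rchk_4083 : allR t1690_rf 352792 6 (4083 * 2 ^ 6) = true := by decide +kernel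
theorem t1690_rchk_4084 : allR t1690_rf 352792 6 (4084 * 2 ^ 6) = true := by decide +kernel
theorem t1690_rchk_4085 : allR t1690_rf 352792 6 (4085 * 2 ^ 6) = true := by decide +kernel
theorem t1690_rchk_4086 : allR t1690_rf 352792 6 (4086 * 2 ^ 6) = true := by decide +kernel
theorem t1690_rchk_4087 : allR t1690_rf 352792 6 (4087 * 2 ^ 6) = true := by decide +kernel
theorem t1690_rchk_4088 : allR t1690_rf 352792 6 (4088 * 2 ^ 6) = true := by decide +kernel
theorem t1690_rchk_4089 : allR t1690_rf 352792 6 (4089 * 2 ^ 6) = true := by decide +kernel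
theorem t1690_rchk_4090 : allR t1690_rf 352792 6 (4090 * 2 ^ 6) = true := by decide +kernel
theorem t1690_rchk_4091 : allR t1690_rf 352792 6 (4091 * 2 ^ 6) = true := by decide +kernel
theorem t1690_rchk_4092 : allR t1690_rf 352792 6 (4092 * 2 ^ 6) = true := by decide +kernel
theorem t1690_rchk_4093 : allR t1690_rf 352792 6 (4093 * 2 ^ 6) = true := by decide +kernel
theorem t1690_rchk_4094 : allR t1690_rf 352792 6 (4094 * 2 ^ 6) = true := by decide +kernel
theorem t1690_rchk_4095 : allR t1690_rf 352792 6 (4095 * 2 ^ 6) = true := by decide +kernel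
theorem t1690_rchk_4096 : allR t1690_rf 352792 6 (4096 * 2 ^ 6) = true := by decide +kernel
theorem t1690_rchk_4097 : allR t1690_rf 352792 6 (4097 * 2 ^ 6) = true := by decide +kernel
theorem t1690_rchk_4098 : allR t1690_rf 352792 6 (4098 * 2 ^ 6) = true := by decide +kernel
theorem t1690_rchk_4099 : allR t1690_rf 352792 6 (4099 * 2 ^ 6) = true := by decide +kernel
theorem t1690_rchk_4100 : allR t1690_rf 352792 6 (4100 * 2 ^ 6) = true := by decide +kernel
theorem t1690_rchk_4101 : allR t1690_rf 352792 6 (4101 * 2 ^ 6) = true := by decide +kernel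
theorem t1690_rchk_4102 : allR t1690_rf 352792 6 (4102 * 2 ^ 6) = true := by decide +kernel
theorem t1690_rchk_4103 : allR t1690_rf 352792 6 (4103 * 2 ^ 6) = true := by decide +kernel
theorem t1690_rchk_4104 : allR t1690_rf 352792 6 (4104 * 2 ^ 6) = true := by decide +kernel
theorem t1690_rchk_4105 : allR t1690_rf 352792 6 (4105 * 2 ^ 6) = true := by decide +kernel
theorem t1690_rchk_4106 : allR t1690_rf 352792 6 (4106 * 2 ^ 6) = true := by decide +kernel
theorem t1690_rchk_4107 : allR t1690_rf 352792 6 (4107 * 2 ^ 6) = true := by decide +kernel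
theorem t1690_rchk_4108 : allR t1690_rf 352792 6 (4108 * 2 ^ 6) = true := by decide +kernel
theorem t1690_rchk_4109 : allR t1690_rf 352792 6 (4109 * 2 ^ 6) = true := by decide +kernel
theorem t1690_rchk_4110 : allR t1690_rf 352792 6 (4110 * 2 ^ 6) = true := by decide +kernel
theorem t1690_rchk_4111 : allR t1690_rf 352792 6 (4111 * 2 ^ 6) = true := by decide +kernel
theorem t1690_rchk_4112 : allR t1690_rf 352792 6 (4112 * 2 ^ 6) = true := by decide +kernel
theorem t1690_rchk_4113 : allR t1690_rf 352792 6 (4113 * 2 ^ 6) = true := by decide +kernel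
theorem t1690_rchk_4114 : allR t1690_rf 352792 6 (4114 * 2 ^ 6) = true := by decide +kernel
theorem t1690_rchk_4115 : allR t1690_rf 352792 6 (4115 * 2 ^ 6) = true := by decide +kernel
theorem t1690_rchk_4116 : allR t1690_rf 352792 6 (4116 * 2 ^ 6) = true := by decide +kernel
theorem t1690_rchk_4117 : allR t1690_rf 352792 6 (4117 * 2 ^ 6) = true := by decide +kernel
theorem t1690_rchk_4118 : allR t1690_rf 352792 6 (4118 * 2 ^ 6) = true := by decide +kernel
theorem t1690_rchk_4119 : allR t1690_rf 352792 6 (4119 * 2 ^ 6) = true := by decide +kernel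
theorem t1690_rchk_4120 : allR t1690_rf 352792 6 (4120 * 2 ^ 6) = true := by decide +kernel
theorem t1690_rchk_4121 : allR t1690_rf 352792 6 (4121 * 2 ^ 6) = true := by decide +kernel
theorem t1690_rchk_4122 : allR t1690_rf 352792 6 (4122 * 2 ^ 6) = true := by decide +kernel
theorem t1690_rchk_4123 : allR t1690_rf 352792 6 (4123 * 2 ^ 6) = true := by decide +kernel
theorem t1690_rchk_4124 : allR t1690_rf 352792 6 (4124 * 2 ^ 6) = true := by decide +kernel
theorem t1690_rchk_4125 : allR t1690_rf 352792 6 (4125 * 2 ^ 6) = true := by decide +kernel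
theorem t1690_rchk_4126 : allR t1690_rf 352792 6 (4126 * 2 ^ 6) = true := by decide +kernel
theorem t1690_rchk_4127 : allR t1690_rf 352792 6 (4127 * 2 ^ 6) = true := by decide +kernel
theorem t1690_rchk_4128 : allR t1690_rf 352792 6 (4128 * 2 ^ 6) = true := by decide +kernel
theorem t1690_rchk_4129 : allR t1690_rf 352792 6 (4129 * 2 ^ 6) = true := by decide +kernel
theorem t1690_rchk_4130 : allR t1690_rf 352792 6 (4130 * 2 ^ 6) = true := by decide +kernel
theorem t1690_rchk_4131 : allR t1690_rf 352792 6 (4131 * 2 ^ 6) = true := by decide +kernel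
theorem t1690_rchk_4132 : allR t1690_rf 352792 6 (4132 * 2 ^ 6) = true := by decide +kernel
theorem t1690_rchk_4133 : allR t1690_rf 352792 6 (4133 * 2 ^ 6) = true := by decide +kernel
theorem t1690_rchk_4134 : allR t1690_rf 352792 6 (4134 * 2 ^ 6) = true := by decide +kernel
theorem t1690_rchk_4135 : allR t1690_rf 352792 6 (4135 * 2 ^ 6) = true := by decide +kernel
theorem t1690_rchk_4136 : allR t1690_rf 352792 6 (4136 * 2 ^ 6) = true := by decide +kernel
theorem t1690_rchk_4137 : allR t1690_rf 352792 6 (4137 * 2 ^ 6) = true := by decide +kernel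
theorem t1690_rchk_4138 : allR t1690_rf 352792 6 (4138 * 2 ^ 6) = true := by decide +kernel
theorem t1690_rchk_4139 : allR t1690_rf 352792 6 (4139 * 2 ^ 6) = true := by decide +kernel
theorem t1690_rchk_4140 : allR t1690_rf 352792 6 (4140 * 2 ^ 6) = true := by decide +kernel
theorem t1690_rchk_4141 : allR t1690_rf 352792 6 (4141 * 2 ^ 6) = true := by decide +kernel
theorem t1690_rchk_4142 : allR t1690_rf 352792 6 (4142 * 2 ^ 6) = true := by decide +kernel
theorem t1690_rchk_4143 : allR t1690_rf 352792 6 (4143 * 2 ^ 6) = true := by decide +kernel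
theorem t1690_rchk_4144 : allR t1690_rf 352792 6 (4144 * 2 ^ 6) = true := by decide +kernel
theorem t1690_rchk_4145 : allR t1690_rf 352792 6 (4145 * 2 ^ 6) = true := by decide +kernel
theorem t1690_rchk_4146 : allR t1690_rf 352792 6 (4146 * 2 ^ 6) = true := by decide +kernel
theorem t1690_rchk_4147 : allR t1690_rf 352792 6 (4147 * 2 ^ 6) = true := by decide +kernel
theorem t1690_rchk_4148 : allR t1690_rf 352792 6 (4148 * 2 ^ 6) = true := by decide +kernel
theorem t1690_rchk_4149 : allR t1690_rf 352792 6 (4149 * 2 ^ 6) = true := by decide +kernel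
theorem t1690_rchk_4150 : allR t1690_rf 352792 6 (4150 * 2 ^ 6) = true := by decide +kernel
theorem t1690_rchk_4151 : allR t1690_rf 352792 6 (4151 * 2 ^ 6) = true := by decide +kernel
theorem t1690_rchk_4152 : allR t1690_rf 352792 6 (4152 * 2 ^ 6) = true := by decide +kernel
theorem t1690_rchk_4153 : allR t1690_rf 352792 6 (4153 * 2 ^ 6) = true := by decide +kernel
theorem t1690_rchk_4154 : allR t1690_rf 352792 6 (4154 * 2 ^ 6) = true := by decide +kernel
theorem t1690_rchk_4155 : allR t1690_rf 352792 6 (4155 * 2 ^ 6) = true := by decide +kernel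
theorem t1690_rchk_4156 : allR t1690_rf 352792 6 (4156 * 2 ^ 6) = true := by decide +kernel
theorem t1690_rchk_4157 : allR t1690_rf 352792 6 (4157 * 2 ^ 6) = true := by decide +kernel
theorem t1690_rchk_4158 : allR t1690_rf 352792 6 (4158 * 2 ^ 6) = true := by decide +kernel
theorem t1690_rchk_4159 : allR t1690_rf 352792 6 (4159 * 2 ^ 6) = true := by decide +kernel

theorem t1690_rfile_51 : ∀ k, k < 4160 → 4080 ≤ k → allR t1690_rf 352792 6 (k * 2 ^ 6) = true := by
  intro k h1 h2
  interval_cases k
  · exact t1690_rchk_4080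
  · exact t1690_rchk_4081
  · exact t1690_rchk_4082
  · exact t1690_rchk_4083
  · exact t1690_rchk_4084
  · exact t1690_rchk_4085
  · exact t1690_rchk_4086
  · exact t1690_rchk_4087
  · exact t1690_rchk_4088
  · exact t1690_rchk_4089
  · exact t1690_rchk_4090
  · exact t1690_rchk_4091
  · exact t1690_rchk_4092
  · exact t1690_rchk_4093
  · exact t1690_rchk_4094
  · exact t1690_rchk_4095
  · exact t1690_rchk_4096
  · exact t1690_rchk_4097
  · exact t1690_rchk_4098
  · exact t1690_rchk_4099
  · exact t1690_rchk_4100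
  · exact t1690_rchk_4101
  · exact t1690_rchk_4102
  · exact t1690_rchk_4103
  · exact t1690_rchk_4104
  · exact t1690_rchk_4105
  · exact t1690_rchk_4106
  · exact t1690_rchk_4107
  · exact t1690_rchk_4108
  · exact t1690_rchk_4109
  · exact t1690_rchk_4110
  · exact t1690_rchk_4111
  · exact t1690_rchk_4112
  · exact t1690_rchk_4113
  · exact t1690_rchk_4114
  · exact t1690_rchk_4115
  · exact t1690_rchk_4116
  · exact t1690_rchk_4117
  · exact t1690_rchk_4118
  · exact t1690_rchk_4119
  · exact t1690_rchk_4120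
  · exact t1690_rchk_4121
  · exact t1690_rchk_4122
  · exact t1690_rchk_4123
  · exact t1690_rchk_4124
  · exact t1690_rchk_4125
  · exact t1690_rchk_4126
  · exact t1690_rchk_4127
  · exact t1690_rchk_4128
  · exact t1690_rchk_4129
  · exact t1690_rchk_4130
  · exact t1690_rchk_4131
  · exact t1690_rchk_4132
  · exact t1690_rchk_4133
  · exact t1690_rchk_4134
  · exact t1690_rchk_4135
  · exact t1690_rchk_4136
  · exact t1690_rchk_4137
  · exact t1690_rchk_4138
  · exact t1690_rchk_4139
  · exact t1690_rchk_4140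
  · exact t1690_rchk_4141
  · exact t1690_rchk_4142
  · exact t1690_rchk_4143
  · exact t1690_rchk_4144
  · exact t1690_rchk_4145
  · exact t1690_rchk_4146
  · exact t1690_rchk_4147
  · exact t1690_rchk_4148
  · exact t1690_rchk_4149
  · exact t1690_rchk_4150
  · exact t1690_rchk_4151
  · exact t1690_rchk_4152
  · exact t1690_rchk_4153
  · exact t1690_rchk_4154
  · exact t1690_rchk_4155
  · exact t1690_rchk_4156
  · exact t1690_rchk_4157
  · exact t1690_rchk_4158
  · exact t1690_rchk_4159

end Cfsg.Agent.H35
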