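import Cfsg.Agent.H35.T1690.RTab

set_option autoImplicit false
set_option linter.all false
set_option Elab.async false

namespace Cfsg.Agent.H35

theorem t1690_rchk_4160 : allR t1690_rf 352792 6 (4160 * 2 ^ 6) = true := by decide +kernel
theorem t1690_rchk_4161 : allR t1690_rf 352792 6 (4161 * 2 ^ 6) = true := by decide +kernel
theorem t1690_rchk_4162 : allR t1690_rf 352792 6 (4162 * 2 ^ 6) = true := by decide +kernel
theorem t1690_rchk_4163 : allR t1690_rf 352792 6 (4163 * 2 ^ 6) = true := by decide +kernel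
theorem t1690_rchk_4164 : allR t1690_rf 352792 6 (4164 * 2 ^ 6) = true := by decide +kernel
theorem t1690_rchk_4165 : allR t1690_rf 352792 6 (4165 * 2 ^ 6) = true := by decide +kernel
theorem t1690_rchk_4166 : allR t1690_rf 352792 6 (4166 * 2 ^ 6) = true := by decide +kernel
theorem t1690_rchk_4167 : allR t1690_rf 352792 6 (4167 * 2 ^ 6) = true := by decide +kernel
theorem t1690_rchk_4168 : allR t1690_rf 352792 6 (4168 * 2 ^ 6) = true := by decide +kernel
theorem t1690_rchk_4169 : allR t1690_rf 352792 6 (4169 * 2 ^ 6) = true := by decide +kernel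
theorem t1690_rchk_4170 : allR t1690_rf 352792 6 (4170 * 2 ^ 6) = true := by decide +kernel
theorem t1690_rchk_4171 : allR t1690_rf 352792 6 (4171 * 2 ^ 6) = true := by decide +kernel
theorem t1690_rchk_4172 : allR t1690_rf 352792 6 (4172 * 2 ^ 6) = true := by decide +kernel
theorem t1690_rchk_4173 : allR t1690_rf 352792 6 (4173 * 2 ^ 6) = true := by decide +kernel
theorem t1690_rchk_4174 : allR t1690_rf 352792 6 (4174 * 2 ^ 6) = true := by decide +kernel
theorem t1690_rchk_4175 : allR t1690_rf 352792 6 (4175 * 2 ^ 6) = true := by decide +kernel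
theorem t1690_rchk_4176 : allR t1690_rf 352792 6 (4176 * 2 ^ 6) = true := by decide +kernel
theorem t1690_rchk_4177 : allR t1690_rf 352792 6 (4177 * 2 ^ 6) = true := by decide +kernel
theorem t1690_rchk_4178 : allR t1690_rf 352792 6 (4178 * 2 ^ 6) = true := by decide +kernel
theorem t1690_rchk_4179 : allR t1690_rf 352792 6 (4179 * 2 ^ 6) = true := by decide +kernel
theorem t1690_rchk_4180 : allR t1690_rf 352792 6 (4180 * 2 ^ 6) = true := by decide +kernel
theorem t1690_rchk_4181 : allR t1690_rf 352792 6 (4181 * 2 ^ 6) = true := by decide +kernel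
theorem t1690_rchk_4182 : allR t1690_rf 352792 6 (4182 * 2 ^ 6) = true := by decide +kernel
theorem t1690_rchk_4183 : allR t1690_rf 352792 6 (4183 * 2 ^ 6) = true := by decide +kernel
theorem t1690_rchk_4184 : allR t1690_rf 352792 6 (4184 * 2 ^ 6) = true := by decide +kernel
theorem t1690_rchk_4185 : allR t1690_rf 352792 6 (4185 * 2 ^ 6) = true := by decide +kernel
theorem t1690_rchk_4186 : allR t1690_rf 352792 6 (4186 * 2 ^ 6) = true := by decide +kernel
theorem t1690_rchk_4187 : allR t1690_rf 352792 6 (4187 * 2 ^ 6) = true := by decide +kernel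
theorem t1690_rchk_4188 : allR t1690_rf 352792 6 (4188 * 2 ^ 6) = true := by decide +kernel
theorem t1690_rchk_4189 : allR t1690_rf 352792 6 (4189 * 2 ^ 6) = true := by decide +kernel
theorem t1690_rchk_4190 : allR t1690_rf 352792 6 (4190 * 2 ^ 6) = true := by decide +kernel
theorem t1690_rchk_4191 : allR t1690_rf 352792 6 (4191 * 2 ^ 6) = true := by decide +kernel
theorem t1690_rchk_4192 : allR t1690_rf 352792 6 (4192 * 2 ^ 6) = true := by decide +kernel
theorem t1690_rchk_4193 : allR t1690_rf 352792 6 (4193 * 2 ^ 6) = true := by decide +kernel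
theorem t1690_rchk_4194 : allR t1690_rf 352792 6 (4194 * 2 ^ 6) = true := by decide +kernel
theorem t1690_rchk_4195 : allR t1690_rf 352792 6 (4195 * 2 ^ 6) = true := by decide +kernel
theorem t1690_rchk_4196 : allR t1690_rf 352792 6 (4196 * 2 ^ 6) = true := by decide +kernel
theorem t1690_rchk_4197 : allR t1690_rf 352792 6 (4197 * 2 ^ 6) = true := by decide +kernel
theorem t1690_rchk_4198 : allR t1690_rf 352792 6 (4198 * 2 ^ 6) = true := by decide +kernel
theorem t1690_rchk_4199 : allR t1690_rf 352792 6 (4199 * 2 ^ 6) = true := by decide +kernel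
theorem t1690_rchk_4200 : allR t1690_rf 352792 6 (4200 * 2 ^ 6) = true := by decide +kernel
theorem t1690_rchk_4201 : allR t1690_rf 352792 6 (4201 * 2 ^ 6) = true := by decide +kernel
theorem t1690_rchk_4202 : allR t1690_rf 352792 6 (4202 * 2 ^ 6) = true := by decide +kernel
theorem t1690_rchk_4203 : allR t1690_rf 352792 6 (4203 * 2 ^ 6) = true := by decide +kernel
theorem t1690_rchk_4204 : allR t1690_rf 352792 6 (4204 * 2 ^ 6) = true := by decide +kernel
theorem t1690_rchk_4205 : allR t1690_rf 352792 6 (4205 * 2 ^ 6) = true := by decide +kernel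
theorem t1690_rchk_4206 : allR t1690_rf 352792 6 (4206 * 2 ^ 6) = true := by decide +kernel
theorem t1690_rchk_4207 : allR t1690_rf 352792 6 (4207 * 2 ^ 6) = true := by decide +kernel
theorem t1690_rchk_4208 : allR t1690_rf 352792 6 (4208 * 2 ^ 6) = true := by decide +kernel
theorem t1690_rchk_4209 : allR t1690_rf 352792 6 (4209 * 2 ^ 6) = true := by decide +kernel
theorem t1690_rchk_4210 : allR t1690_rf 352792 6 (4210 * 2 ^ 6) = true := by decide +kernel
theorem t1690_rchk_4211 : allR t1690_rf 352792 6 (4211 * 2 ^ 6) = true := by decide +kernel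
theorem t1690_rchk_4212 : allR t1690_rf 352792 6 (4212 * 2 ^ 6) = true := by decide +kernel
theorem t1690_rchk_4213 : allR t1690_rf 352792 6 (4213 * 2 ^ 6) = true := by decide +kernel
theorem t1690_rchk_4214 : allR t1690_rf 352792 6 (4214 * 2 ^ 6) = true := by decide +kernel
theorem t1690_rchk_4215 : allR t1690_rf 352792 6 (4215 * 2 ^ 6) = true := by decide +kernel
theorem t1690_rchk_4216 : allR t1690_rf 352792 6 (4216 * 2 ^ 6) = true := by decide +kernel
theorem t1690_rchk_4217 : allR t1690_rf 352792 6 (4217 * 2 ^ 6) = true := by decide +kernel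
theorem t1690_rchk_4218 : allR t1690_rf 352792 6 (4218 * 2 ^ 6) = true := by decide +kernel
theorem t1690_rchk_4219 : allR t1690_rf 352792 6 (4219 * 2 ^ 6) = true := by decide +kernel
theorem t1690_rchk_4220 : allR t1690_rf 352792 6 (4220 * 2 ^ 6) = true := by decide +kernel
theorem t1690_rchk_4221 : allR t1690_rf 352792 6 (4221 * 2 ^ 6) = true := by decide +kernel
theorem t1690_rchk_4222 : allR t1690_rf 352792 6 (4222 * 2 ^ 6) = true := by decide +kernel
theorem t1690_rchk_4223 : allR t1690_rf 352792 6 (4223 * 2 ^ 6) = true := by decide +kernel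
theorem t1690_rchk_4224 : allR t1690_rf 352792 6 (4224 * 2 ^ 6) = true := by decide +kernel
theorem t1690_rchk_4225 : allR t1690_rf 352792 6 (4225 * 2 ^ 6) = true := by decide +kernel
theorem t1690_rchk_4226 : allR t1690_rf 352792 6 (4226 * 2 ^ 6) = true := by decide +kernel
theorem t1690_rchk_4227 : allR t1690_rf 352792 6 (4227 * 2 ^ 6) = true := by decide +kernel
theorem t1690_rchk_4228 : allR t1690_rf 352792 6 (4228 * 2 ^ 6) = true := by decide +kernel
theorem t1690_rchk_4229 : allR t1690_rf 352792 6 (4229 * 2 ^ 6) = true := by decide +kernel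
theorem t1690_rchk_4230 : allR t1690_rf 352792 6 (4230 * 2 ^ 6) = true := by decide +kernel
theorem t1690_rchk_4231 : allR t1690_rf 352792 6 (4231 * 2 ^ 6) = true := by decide +kernel
theorem t1690_rchk_4232 : allR t1690_rf 352792 6 (4232 * 2 ^ 6) = true := by decide +kernel
theorem t1690_rchk_4233 : allR t1690_rf 352792 6 (4233 * 2 ^ 6) = true := by decide +kernel
theorem t1690_rchk_4234 : allR t1690_rf 352792 6 (4234 * 2 ^ 6) = true := by decide +kernel
theorem t1690_rchk_4235 : allR t1690_rf 352792 6 (4235 * 2 ^ 6) = true := by decide +kernel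
theorem t1690_rchk_4236 : allR t1690_rf 352792 6 (4236 * 2 ^ 6) = true := by decide +kernel
theorem t1690_rchk_4237 : allR t1690_rf 352792 6 (4237 * 2 ^ 6) = true := by decide +kernel
theorem t1690_rchk_4238 : allR t1690_rf 352792 6 (4238 * 2 ^ 6) = true := by decide +kernel
theorem t1690_rchk_4239 : allR t1690_rf 352792 6 (4239 * 2 ^ 6) = true := by decide +kernel

theorem t1690_rfile_52 : ∀ k, k < 4240 → 4160 ≤ k → allR t1690_rf 352792 6 (k * 2 ^ 6) = true := by
  intro k h1 h2
  interval_cases k
  · exact t1690_rchk_4160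
  · exact t1690_rchk_4161
  · exact t1690_rchk_4162
  · exact t1690_rchk_4163
  · exact t1690_rchk_4164
  · exact t1690_rchk_4165
  · exact t1690_rchk_4166
  · exact t1690_rchk_4167
  · exact t1690_rchk_4168
  · exact t1690_rchk_4169
  · exact t1690_rchk_4170
  · exact t1690_rchk_4171
  · exact t1690_rchk_4172
  · exact t1690_rchk_4173
  · exact t1690_rchk_4174
  · exact t1690_rchk_4175
  · exact t1690_rchk_4176
  · exact t1690_rchk_4177
  · exact t1690_rchk_4178
  · exact t1690_rchk_4179
  · exact t1690_rchk_4180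
  · exact t1690_rchk_4181
  · exact t1690_rchk_4182
  · exact t1690_rchk_4183
  · exact t1690_rchk_4184
  · exact t1690_rchk_4185
  · exact t1690_rchk_4186
  · exact t1690_rchk_4187
  · exact t1690_rchk_4188
  · exact t1690_rchk_4189
  · exact t1690_rchk_4190
  · exact t1690_rchk_4191
  · exact t1690_rchk_4192
  · exact t1690_rchk_4193
  · exact t1690_rchk_4194
  · exact t1690_rchk_4195
  · exact t1690_rchk_4196
  · exact t1690_rchk_4197
  · exact t1690_rchk_4198
  · exact t1690_rchk_4199
  · exact t1690_rchk_4200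
  · exact t1690_rchk_4201
  · exact t1690_rchk_4202
  · exact t1690_rchk_4203
  · exact t1690_rchk_4204
  · exact t1690_rchk_4205
  · exact t1690_rchk_4206
  · exact t1690_rchk_4207
  · exact t1690_rchk_4208
  · exact t1690_rchk_4209
  · exact t1690_rchk_4210
  · exact t1690_rchk_4211
  · exact t1690_rchk_4212
  · exact t1690_rchk_4213
  · exact t1690_rchk_4214
  · exact t1690_rchk_4215
  · exact t1690_rchk_4216
  · exact t1690_rchk_4217
  · exact t1690_rchk_4218
  · exact t1690_rchk_4219
  · exact t1690_rchk_4220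
  · exact t1690_rchk_4221
  · exact t1690_rchk_4222
  · exact t1690_rchk_4223
  · exact t1690_rchk_4224
  · exact t1690_rchk_4225
  · exact t1690_rchk_4226
  · exact t1690_rchk_4227
  · exact t1690_rchk_4228
  · exact t1690_rchk_4229
  · exact t1690_rchk_4230
  · exact t1690_rchk_4231
  · exact t1690_rchk_4232
  · exact t1690_rchk_4233
  · exact t1690_rchk_4234
  · exact t1690_rchk_4235
  · exact t1690_rchk_4236
  · exact t1690_rchk_4237
  · exact t1690_rchk_4238
  · exact t1690_rchk_4239

end Cfsg.Agent.H35
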