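import Cfsg.Agent.H35.T1690.RTab

set_option autoImplicit false
set_option linter.all false
set_option Elab.async false

namespace Cfsg.Agent.H35

theorem t1690_rchk_4240 : allR t1690_rf 352792 6 (4240 * 2 ^ 6) = true := by decide +kernel
theorem t1690_rchk_4241 : allR t1690_rf 352792 6 (4241 * 2 ^ 6) = true := by decide +kernel
theorem t1690_rchk_4242 : allR t1690_rf 352792 6 (4242 * 2 ^ 6) = true := by decide +kernel
theorem t1690_rchk_4243 : allR t1690_rf 352792 6 (4243 * 2 ^ 6) = true := by decide +kernel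
theorem t1690_rchk_4244 : allR t1690_rf 352792 6 (4244 * 2 ^ 6) = true := by decide +kernel
theorem t1690_rchk_4245 : allR t1690_rf 352792 6 (4245 * 2 ^ 6) = true := by decide +kernel
theorem t1690_rchk_4246 : allR t1690_rf 352792 6 (4246 * 2 ^ 6) = true := by decide +kernel
theorem t1690_rchk_4247 : allR t1690_rf 352792 6 (4247 * 2 ^ 6) = true := by decide +kernel
theorem t1690_rchk_4248 : allR t1690_rf 352792 6 (4248 * 2 ^ 6) = true := by decide +kernel
theorem t1690_rchk_4249 : allR t1690_rf 352792 6 (4249 * 2 ^ 6) = true := by decide +kernel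
theorem t1690_rchk_4250 : allR t1690_rf 352792 6 (4250 * 2 ^ 6) = true := by decide +kernel
theorem t1690_rchk_4251 : allR t1690_rf 352792 6 (4251 * 2 ^ 6) = true := by decide +kernel
theorem t1690_rchk_4252 : allR t1690_rf 352792 6 (4252 * 2 ^ 6) = true := by decide +kernel
theorem t1690_rchk_4253 : allR t1690_rf 352792 6 (4253 * 2 ^ 6) = true := by decide +kernel
theorem t1690_rchk_4254 : allR t1690_rf 352792 6 (4254 * 2 ^ 6) = true := by decide +kernel
theorem t1690_rchk_4255 : allR t1690_rf 352792 6 (4255 * 2 ^ 6) = true := by decide +kernel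
theorem t1690_rchk_4256 : allR t1690_rf 352792 6 (4256 * 2 ^ 6) = true := by decide +kernel
theorem t1690_rchk_4257 : allR t1690_rf 352792 6 (4257 * 2 ^ 6) = true := by decide +kernel
theorem t1690_rchk_4258 : allR t1690_rf 352792 6 (4258 * 2 ^ 6) = true := by decide +kernel
theorem t1690_rchk_4259 : allR t1690_rf 352792 6 (4259 * 2 ^ 6) = true := by decide +kernel
theorem t1690_rchk_4260 : allR t1690_rf 352792 6 (4260 * 2 ^ 6) = true := by decide +kernel
theorem t1690_rchk_4261 : allR t1690_rf 352792 6 (4261 * 2 ^ 6) = true := by decide +kernel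
theorem t1690_rchk_4262 : allR t1690_rf 352792 6 (4262 * 2 ^ 6) = true := by decide +kernel
theorem t1690_rchk_4263 : allR t1690_rf 352792 6 (4263 * 2 ^ 6) = true := by decide +kernel
theorem t1690_rchk_4264 : allR t1690_rf 352792 6 (4264 * 2 ^ 6) = true := by decide +kernel
theorem t1690_rchk_4265 : allR t1690_rf 352792 6 (4265 * 2 ^ 6) = true := by decide +kernel
theorem t1690_rchk_4266 : allR t1690_rf 352792 6 (4266 * 2 ^ 6) = true := by decide +kernel
theorem t1690_rchk_4267 : allR t1690_rf 352792 6 (4267 * 2 ^ 6) = true := by decide +kernel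
theorem t1690_rchk_4268 : allR t1690_rf 352792 6 (4268 * 2 ^ 6) = true := by decide +kernel
theorem t1690_rchk_4269 : allR t1690_rf 352792 6 (4269 * 2 ^ 6) = true := by decide +kernel
theorem t1690_rchk_4270 : allR t1690_rf 352792 6 (4270 * 2 ^ 6) = true := by decide +kernel
theorem t1690_rchk_4271 : allR t1690_rf 352792 6 (4271 * 2 ^ 6) = true := by decide +kernel
theorem t1690_rchk_4272 : allR t1690_rf 352792 6 (4272 * 2 ^ 6) = true := by decide +kernel
theorem t1690_rchk_4273 : allR t1690_rf 352792 6 (4273 * 2 ^ 6) = true := by decide +kernel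
theorem t1690_rchk_4274 : allR t1690_rf 352792 6 (4274 * 2 ^ 6) = true := by decide +kernel
theorem t1690_rchk_4275 : allR t1690_rf 352792 6 (4275 * 2 ^ 6) = true := by decide +kernel
theorem t1690_rchk_4276 : allR t1690_rf 352792 6 (4276 * 2 ^ 6) = true := by decide +kernel
theorem t1690_rchk_4277 : allR t1690_rf 352792 6 (4277 * 2 ^ 6) = true := by decide +kernel
theorem t1690_rchk_4278 : allR t1690_rf 352792 6 (4278 * 2 ^ 6) = true := by decide +kernel
theorem t1690_rchk_4279 : allR t1690_rf 352792 6 (4279 * 2 ^ 6) = true := by decide +kernel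
theorem t1690_rchk_4280 : allR t1690_rf 352792 6 (4280 * 2 ^ 6) = true := by decide +kernel
theorem t1690_rchk_4281 : allR t1690_rf 352792 6 (4281 * 2 ^ 6) = true := by decide +kernel
theorem t1690_rchk_4282 : allR t1690_rf 352792 6 (4282 * 2 ^ 6) = true := by decide +kernel
theorem t1690_rchk_4283 : allR t1690_rf 352792 6 (4283 * 2 ^ 6) = true := by decide +kernel
theorem t1690_rchk_4284 : allR t1690_rf 352792 6 (4284 * 2 ^ 6) = true := by decide +kernel
theorem t1690_rchk_4285 : allR t1690_rf 352792 6 (4285 * 2 ^ 6) = true := by decide +kernel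
theorem t1690_rchk_4286 : allR t1690_rf 352792 6 (4286 * 2 ^ 6) = true := by decide +kernel
theorem t1690_rchk_4287 : allR t1690_rf 352792 6 (4287 * 2 ^ 6) = true := by decide +kernel
theorem t1690_rchk_4288 : allR t1690_rf 352792 6 (4288 * 2 ^ 6) = true := by decide +kernel
theorem t1690_rchk_4289 : allR t1690_rf 352792 6 (4289 * 2 ^ 6) = true := by decide +kernel
theorem t1690_rchk_4290 : allR t1690_rf 352792 6 (4290 * 2 ^ 6) = true := by decide +kernel
theorem t1690_rchk_4291 : allR t1690_rf 352792 6 (4291 * 2 ^ 6) = true := by decide +kernel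
theorem t1690_rchk_4292 : allR t1690_rf 352792 6 (4292 * 2 ^ 6) = true := by decide +kernel
theorem t1690_rchk_4293 : allR t1690_rf 352792 6 (4293 * 2 ^ 6) = true := by decide +kernel
theorem t1690_rchk_4294 : allR t1690_rf 352792 6 (4294 * 2 ^ 6) = true := by decide +kernel
theorem t1690_rchk_4295 : allR t1690_rf 352792 6 (4295 * 2 ^ 6) = true := by decide +kernel
theorem t1690_rchk_4296 : allR t1690_rf 352792 6 (4296 * 2 ^ 6) = true := by decide +kernel
theorem t1690_rchk_4297 : allR t1690_rf 352792 6 (4297 * 2 ^ 6) = true := by decide +kernel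
theorem t1690_rchk_4298 : allR t1690_rf 352792 6 (4298 * 2 ^ 6) = true := by decide +kernel
theorem t1690_rchk_4299 : allR t1690_rf 352792 6 (4299 * 2 ^ 6) = true := by decide +kernel
theorem t1690_rchk_4300 : allR t1690_rf 352792 6 (4300 * 2 ^ 6) = true := by decide +kernel
theorem t1690_rchk_4301 : allR t1690_rf 352792 6 (4301 * 2 ^ 6) = true := by decide +kernel
theorem t1690_rchk_4302 : allR t1690_rf 352792 6 (4302 * 2 ^ 6) = true := by decide +kernel
theorem t1690_rchk_4303 : allR t1690_rf 352792 6 (4303 * 2 ^ 6) = true := by decide +kernel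
theorem t1690_rchk_4304 : allR t1690_rf 352792 6 (4304 * 2 ^ 6) = true := by decide +kernel
theorem t1690_rchk_4305 : allR t1690_rf 352792 6 (4305 * 2 ^ 6) = true := by decide +kernel
theorem t1690_rchk_4306 : allR t1690_rf 352792 6 (4306 * 2 ^ 6) = true := by decide +kernel
theorem t1690_rchk_4307 : allR t1690_rf 352792 6 (4307 * 2 ^ 6) = true := by decide +kernel
theorem t1690_rchk_4308 : allR t1690_rf 352792 6 (4308 * 2 ^ 6) = true := by decide +kernel
theorem t1690_rchk_4309 : allR t1690_rf 352792 6 (4309 * 2 ^ 6) = true := by decide +kernel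
theorem t1690_rchk_4310 : allR t1690_rf 352792 6 (4310 * 2 ^ 6) = true := by decide +kernel
theorem t1690_rchk_4311 : allR t1690_rf 352792 6 (4311 * 2 ^ 6) = true := by decide +kernel
theorem t1690_rchk_4312 : allR t1690_rf 352792 6 (4312 * 2 ^ 6) = true := by decide +kernel
theorem t1690_rchk_4313 : allR t1690_rf 352792 6 (4313 * 2 ^ 6) = true := by decide +kernel
theorem t1690_rchk_4314 : allR t1690_rf 352792 6 (4314 * 2 ^ 6) = true := by decide +kernel
theorem t1690_rchk_4315 : allR t1690_rf 352792 6 (4315 * 2 ^ 6) = true := by decide +kernel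
theorem t1690_rchk_4316 : allR t1690_rf 352792 6 (4316 * 2 ^ 6) = true := by decide +kernel
theorem t1690_rchk_4317 : allR t1690_rf 352792 6 (4317 * 2 ^ 6) = true := by decide +kernel
theorem t1690_rchk_4318 : allR t1690_rf 352792 6 (4318 * 2 ^ 6) = true := by decide +kernel
theorem t1690_rchk_4319 : allR t1690_rf 352792 6 (4319 * 2 ^ 6) = true := by decide +kernel

theorem t1690_rfile_53 : ∀ k, k < 4320 → 4240 ≤ k → allR t1690_rf 352792 6 (k * 2 ^ 6) = true := by
  intro k h1 h2
  interval_cases k
  · exact t1690_rchk_4240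
  · exact t1690_rchk_4241
  · exact t1690_rchk_4242
  · exact t1690_rchk_4243
  · exact t1690_rchk_4244
  · exact t1690_rchk_4245
  · exact t1690_rchk_4246
  · exact t1690_rchk_4247
  · exact t1690_rchk_4248
  · exact t1690_rchk_4249
  · exact t1690_rchk_4250
  · exact t1690_rchk_4251
  · exact t1690_rchk_4252
  · exact t1690_rchk_4253
  · exact t1690_rchk_4254
  · exact t1690_rchk_4255
  · exact t1690_rchk_4256
  · exact t1690_rchk_4257
  · exact t1690_rchk_4258
  · exact t1690_rchk_4259
  · exact t1690_rchk_4260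
  · exact t1690_rchk_4261
  · exact t1690_rchk_4262
  · exact t1690_rchk_4263
  · exact t1690_rchk_4264
  · exact t1690_rchk_4265
  · exact t1690_rchk_4266
  · exact t1690_rchk_4267
  · exact t1690_rchk_4268
  · exact t1690_rchk_4269
  · exact t1690_rchk_4270
  · exact t1690_rchk_4271
  · exact t1690_rchk_4272
  · exact t1690_rchk_4273
  · exact t1690_rchk_4274
  · exact t1690_rchk_4275
  · exact t1690_rchk_4276
  · exact t1690_rchk_4277
  · exact t1690_rchk_4278
  · exact t1690_rchk_4279
  · exact t1690_rchk_4280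
  · exact t1690_rchk_4281
  · exact t1690_rchk_4282
  · exact t1690_rchk_4283
  · exact t1690_rchk_4284
  · exact t1690_rchk_4285
  · exact t1690_rchk_4286
  · exact t1690_rchk_4287
  · exact t1690_rchk_4288
  · exact t1690_rchk_4289
  · exact t1690_rchk_4290
  · exact t1690_rchk_4291
  · exact t1690_rchk_4292
  · exact t1690_rchk_4293
  · exact t1690_rchk_4294
  · exact t1690_rchk_4295
  · exact t1690_rchk_4296
  · exact t1690_rchk_4297
  · exact t1690_rchk_4298
  · exact t1690_rchk_4299
  · exact t1690_rchk_4300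
  · exact t1690_rchk_4301
  · exact t1690_rchk_4302
  · exact t1690_rchk_4303
  · exact t1690_rchk_4304
  · exact t1690_rchk_4305
  · exact t1690_rchk_4306
  · exact t1690_rchk_4307
  · exact t1690_rchk_4308
  · exact t1690_rchk_4309
  · exact t1690_rchk_4310
  · exact t1690_rchk_4311
  · exact t1690_rchk_4312
  · exact t1690_rchk_4313
  · exact t1690_rchk_4314
  · exact t1690_rchk_4315
  · exact t1690_rchk_4316
  · exact t1690_rchk_4317
  · exact t1690_rchk_4318
  · exact t1690_rchk_4319

end Cfsg.Agent.H35
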