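import Cfsg.Agent.H35.T1690.RTab

set_option autoImplicit false
set_option linter.all false
set_option Elab.async false

namespace Cfsg.Agent.H35

theorem t1690_rchk_4320 : allR t1690_rf 352792 6 (4320 * 2 ^ 6) = true := by decide +kernel
theorem t1690_rchk_4321 : allR t1690_rf 352792 6 (4321 * 2 ^ 6) = true := by decide +kernel
theorem t1690_rchk_4322 : allR t1690_rf 352792 6 (4322 * 2 ^ 6) = true := by decide +kernel
theorem t1690_rchk_4323 : allR t1690_rf 352792 6 (4323 * 2 ^ 6) = true := by decide +kernel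
theorem t1690_rchk_4324 : allR t1690_rf 352792 6 (4324 * 2 ^ 6) = true := by decide +kernel
theorem t1690_rchk_4325 : allR t1690_rf 352792 6 (4325 * 2 ^ 6) = true := by decide +kernel
theorem t1690_rchk_4326 : allR t1690_rf 352792 6 (4326 * 2 ^ 6) = true := by decide +kernel
theorem t1690_rchk_4327 : allR t1690_rf 352792 6 (4327 * 2 ^ 6) = true := by decide +kernel
theorem t1690_rchk_4328 : allR t1690_rf 352792 6 (4328 * 2 ^ 6) = true := by decide +kernel
theorem t1690_rchk_4329 : allR t1690_rf 352792 6 (4329 * 2 ^ 6) = true := by decide +kernel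
theorem t1690_rchk_4330 : allR t1690_rf 352792 6 (4330 * 2 ^ 6) = true := by decide +kernel
theorem t1690_rchk_4331 : allR t1690_rf 352792 6 (4331 * 2 ^ 6) = true := by decide +kernel
theorem t1690_rchk_4332 : allR t1690_rf 352792 6 (4332 * 2 ^ 6) = true := by decide +kernel
theorem t1690_rchk_4333 : allR t1690_rf 352792 6 (4333 * 2 ^ 6) = true := by decide +kernel
theorem t1690_rchk_4334 : allR t1690_rf 352792 6 (4334 * 2 ^ 6) = true := by decide +kernel
theorem t1690_rchk_4335 : allR t1690_rf 352792 6 (4335 * 2 ^ 6) = true := by decide +kernel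
theorem t1690_rchk_4336 : allR t1690_rf 352792 6 (4336 * 2 ^ 6) = true := by decide +kernel
theorem t1690_rchk_4337 : allR t1690_rf 352792 6 (4337 * 2 ^ 6) = true := by decide +kernel
theorem t1690_rchk_4338 : allR t1690_rf 352792 6 (4338 * 2 ^ 6) = true := by decide +kernel
theorem t1690_rchk_4339 : allR t1690_rf 352792 6 (4339 * 2 ^ 6) = true := by decide +kernel
theorem t1690_rchk_4340 : allR t1690_rf 352792 6 (4340 * 2 ^ 6) = true := by decide +kernel
theorem t1690_rchk_4341 : allR t1690_rf 352792 6 (4341 * 2 ^ 6) = true := by decide +kernel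
theorem t1690_rchk_4342 : allR t1690_rf 352792 6 (4342 * 2 ^ 6) = true := by decide +kernel
theorem t1690_rchk_4343 : allR t1690_rf 352792 6 (4343 * 2 ^ 6) = true := by decide +kernel
theorem t1690_rchk_4344 : allR t1690_rf 352792 6 (4344 * 2 ^ 6) = true := by decide +kernel
theorem t1690_rchk_4345 : allR t1690_rf 352792 6 (4345 * 2 ^ 6) = true := by decide +kernel
theorem t1690_rchk_4346 : allR t1690_rf 352792 6 (4346 * 2 ^ 6) = true := by decide +kernel
theorem t1690_rchk_4347 : allR t1690_rf 352792 6 (4347 * 2 ^ 6) = true := by decide +kernel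
theorem t1690_rchk_4348 : allR t1690_rf 352792 6 (4348 * 2 ^ 6) = true := by decide +kernel
theorem t1690_rchk_4349 : allR t1690_rf 352792 6 (4349 * 2 ^ 6) = true := by decide +kernel
theorem t1690_rchk_4350 : allR t1690_rf 352792 6 (4350 * 2 ^ 6) = true := by decide +kernel
theorem t1690_rchk_4351 : allR t1690_rf 352792 6 (4351 * 2 ^ 6) = true := by decide +kernel
theorem t1690_rchk_4352 : allR t1690_rf 352792 6 (4352 * 2 ^ 6) = true := by decide +kernel
theorem t1690_rchk_4353 : allR t1690_rf 352792 6 (4353 * 2 ^ 6) = true := by decide +kernel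
theorem t1690_rchk_4354 : allR t1690_rf 352792 6 (4354 * 2 ^ 6) = true := by decide +kernel
theorem t1690_rchk_4355 : allR t1690_rf 352792 6 (4355 * 2 ^ 6) = true := by decide +kernel
theorem t1690_rchk_4356 : allR t1690_rf 352792 6 (4356 * 2 ^ 6) = true := by decide +kernel
theorem t1690_rchk_4357 : allR t1690_rf 352792 6 (4357 * 2 ^ 6) = true := by decide +kernel
theorem t1690_rchk_4358 : allR t1690_rf 352792 6 (4358 * 2 ^ 6) = true := by decide +kernel
theorem t1690_rchk_4359 : allR t1690_rf 352792 6 (4359 * 2 ^ 6) = true := by decide +kernel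
theorem t1690_rchk_4360 : allR t1690_rf 352792 6 (4360 * 2 ^ 6) = true := by decide +kernel
theorem t1690_rchk_4361 : allR t1690_rf 352792 6 (4361 * 2 ^ 6) = true := by decide +kernel
theorem t1690_rchk_4362 : allR t1690_rf 352792 6 (4362 * 2 ^ 6) = true := by decide +kernel
theorem t1690_rchk_4363 : allR t1690_rf 352792 6 (4363 * 2 ^ 6) = true := by decide +kernel
theorem t1690_rchk_4364 : allR t1690_rf 352792 6 (4364 * 2 ^ 6) = true := by decide +kernel
theorem t1690_rchk_4365 : allR t1690_rf 352792 6 (4365 * 2 ^ 6) = true := by decide +kernel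
theorem t1690_rchk_4366 : allR t1690_rf 352792 6 (4366 * 2 ^ 6) = true := by decide +kernel
theorem t1690_rchk_4367 : allR t1690_rf 352792 6 (4367 * 2 ^ 6) = true := by decide +kernel
theorem t1690_rchk_4368 : allR t1690_rf 352792 6 (4368 * 2 ^ 6) = true := by decide +kernel
theorem t1690_rchk_4369 : allR t1690_rf 352792 6 (4369 * 2 ^ 6) = true := by decide +kernel
theorem t1690_rchk_4370 : allR t1690_rf 352792 6 (4370 * 2 ^ 6) = true := by decide +kernel
theorem t1690_rchk_4371 : allR t1690_rf 352792 6 (4371 * 2 ^ 6) = true := by decide +kernel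
theorem t1690_rchk_4372 : allR t1690_rf 352792 6 (4372 * 2 ^ 6) = true := by decide +kernel
theorem t1690_rchk_4373 : allR t1690_rf 352792 6 (4373 * 2 ^ 6) = true := by decide +kernel
theorem t1690_rchk_4374 : allR t1690_rf 352792 6 (4374 * 2 ^ 6) = true := by decide +kernel
theorem t1690_rchk_4375 : allR t1690_rf 352792 6 (4375 * 2 ^ 6) = true := by decide +kernel
theorem t1690_rchk_4376 : allR t1690_rf 352792 6 (4376 * 2 ^ 6) = true := by decide +kernel
theorem t1690_rchk_4377 : allR t1690_rf 352792 6 (4377 * 2 ^ 6) = true := by decide +kernel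
theorem t1690_rchk_4378 : allR t1690_rf 352792 6 (4378 * 2 ^ 6) = true := by decide +kernel
theorem t1690_rchk_4379 : allR t1690_rf 352792 6 (4379 * 2 ^ 6) = true := by decide +kernel
theorem t1690_rchk_4380 : allR t1690_rf 352792 6 (4380 * 2 ^ 6) = true := by decide +kernel
theorem t1690_rchk_4381 : allR t1690_rf 352792 6 (4381 * 2 ^ 6) = true := by decide +kernel
theorem t1690_rchk_4382 : allR t1690_rf 352792 6 (4382 * 2 ^ 6) = true := by decide +kernel
theorem t1690_rchk_4383 : allR t1690_rf 352792 6 (4383 * 2 ^ 6) = true := by decide +kernel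
theorem t1690_rchk_4384 : allR t1690_rf 352792 6 (4384 * 2 ^ 6) = true := by decide +kernel
theorem t1690_rchk_4385 : allR t1690_rf 352792 6 (4385 * 2 ^ 6) = true := by decide +kernel
theorem t1690_rchk_4386 : allR t1690_rf 352792 6 (4386 * 2 ^ 6) = true := by decide +kernel
theorem t1690_rchk_4387 : allR t1690_rf 352792 6 (4387 * 2 ^ 6) = true := by decide +kernel
theorem t1690_rchk_4388 : allR t1690_rf 352792 6 (4388 * 2 ^ 6) = true := by decide +kernel
theorem t1690_rchk_4389 : allR t1690_rf 352792 6 (4389 * 2 ^ 6) = true := by decide +kernel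
theorem t1690_rchk_4390 : allR t1690_rf 352792 6 (4390 * 2 ^ 6) = true := by decide +kernel
theorem t1690_rchk_4391 : allR t1690_rf 352792 6 (4391 * 2 ^ 6) = true := by decide +kernel
theorem t1690_rchk_4392 : allR t1690_rf 352792 6 (4392 * 2 ^ 6) = true := by decide +kernel
theorem t1690_rchk_4393 : allR t1690_rf 352792 6 (4393 * 2 ^ 6) = true := by decide +kernel
theorem t1690_rchk_4394 : allR t1690_rf 352792 6 (4394 * 2 ^ 6) = true := by decide +kernel
theorem t1690_rchk_4395 : allR t1690_rf 352792 6 (4395 * 2 ^ 6) = true := by decide +kernel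
theorem t1690_rchk_4396 : allR t1690_rf 352792 6 (4396 * 2 ^ 6) = true := by decide +kernel
theorem t1690_rchk_4397 : allR t1690_rf 352792 6 (4397 * 2 ^ 6) = true := by decide +kernel
theorem t1690_rchk_4398 : allR t1690_rf 352792 6 (4398 * 2 ^ 6) = true := by decide +kernel
theorem t1690_rchk_4399 : allR t1690_rf 352792 6 (4399 * 2 ^ 6) = true := by decide +kernel

theorem t1690_rfile_54 : ∀ k, k < 4400 → 4320 ≤ k → allR t1690_rf 352792 6 (k * 2 ^ 6) = true := by
  intro k h1 h2
  interval_cases k
  · exact t1690_rchk_4320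
  · exact t1690_rchk_4321
  · exact t1690_rchk_4322
  · exact t1690_rchk_4323
  · exact t1690_rchk_4324
  · exact t1690_rchk_4325
  · exact t1690_rchk_4326
  · exact t1690_rchk_4327
  · exact t1690_rchk_4328
  · exact t1690_rchk_4329
  · exact t1690_rchk_4330
  · exact t1690_rchk_4331
  · exact t1690_rchk_4332
  · exact t1690_rchk_4333
  · exact t1690_rchk_4334
  · exact t1690_rchk_4335
  · exact t1690_rchk_4336
  · exact t1690_rchk_4337
  · exact t1690_rchk_4338
  · exact t1690_rchk_4339
  · exact t1690_rchk_4340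
  · exact t1690_rchk_4341
  · exact t1690_rchk_4342
  · exact t1690_rchk_4343
  · exact t1690_rchk_4344
  · exact t1690_rchk_4345
  · exact t1690_rchk_4346
  · exact t1690_rchk_4347
  · exact t1690_rchk_4348
  · exact t1690_rchk_4349
  · exact t1690_rchk_4350
  · exact t1690_rchk_4351
  · exact t1690_rchk_4352
  · exact t1690_rchk_4353
  · exact t1690_rchk_4354
  · exact t1690_rchk_4355
  · exact t1690_rchk_4356
  · exact t1690_rchk_4357
  · exact t1690_rchk_4358
  · exact t1690_rchk_4359
  · exact t1690_rchk_4360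
  · exact t1690_rchk_4361
  · exact t1690_rchk_4362
  · exact t1690_rchk_4363
  · exact t1690_rchk_4364
  · exact t1690_rchk_4365
  · exact t1690_rchk_4366
  · exact t1690_rchk_4367
  · exact t1690_rchk_4368
  · exact t1690_rchk_4369
  · exact t1690_rchk_4370
  · exact t1690_rchk_4371
  · exact t1690_rchk_4372
  · exact t1690_rchk_4373
  · exact t1690_rchk_4374
  · exact t1690_rchk_4375
  · exact t1690_rchk_4376
  · exact t1690_rchk_4377
  · exact t1690_rchk_4378
  · exact t1690_rchk_4379
  · exact t1690_rchk_4380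
  · exact t1690_rchk_4381
  · exact t1690_rchk_4382
  · exact t1690_rchk_4383
  · exact t1690_rchk_4384
  · exact t1690_rchk_4385
  · exact t1690_rchk_4386
  · exact t1690_rchk_4387
  · exact t1690_rchk_4388
  · exact t1690_rchk_4389
  · exact t1690_rchk_4390
  · exact t1690_rchk_4391
  · exact t1690_rchk_4392
  · exact t1690_rchk_4393
  · exact t1690_rchk_4394
  · exact t1690_rchk_4395
  · exact t1690_rchk_4396
  · exact t1690_rchk_4397
  · exact t1690_rchk_4398
  · exact t1690_rchk_4399

end Cfsg.Agent.H35
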