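import Cfsg.Agent.H35.T1690.RTab

set_option autoImplicit false
set_option linter.all false
set_option Elab.async false

namespace Cfsg.Agent.H35

theorem t1690_rchk_4400 : allR t1690_rf 352792 6 (4400 * 2 ^ 6) = true := by decide +kernel
theorem t1690_rchk_4401 : allR t1690_rf 352792 6 (4401 * 2 ^ 6) = true := by decide +kernel
theorem t1690_rchk_4402 : allR t1690_rf 352792 6 (4402 * 2 ^ 6) = true := by decide +kernel
theorem t1690_rchk_4403 : allR t1690_rf 352792 6 (4403 * 2 ^ 6) = true := by decide +kernel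
theorem t1690_rchk_4404 : allR t1690_rf 352792 6 (4404 * 2 ^ 6) = true := by decide +kernel
theorem t1690_rchk_4405 : allR t1690_rf 352792 6 (4405 * 2 ^ 6) = true := by decide +kernel
theorem t1690_rchk_4406 : allR t1690_rf 352792 6 (4406 * 2 ^ 6) = true := by decide +kernel
theorem t1690_rchk_4407 : allR t1690_rf 352792 6 (4407 * 2 ^ 6) = true := by decide +kernel
theorem t1690_rchk_4408 : allR t1690_rf 352792 6 (4408 * 2 ^ 6) = true := by decide +kernel
theorem t1690_rchk_4409 : allR t1690_rf 352792 6 (4409 * 2 ^ 6) = true := by decide +kernel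
theorem t1690_rchk_4410 : allR t1690_rf 352792 6 (4410 * 2 ^ 6) = true := by decide +kernel
theorem t1690_rchk_4411 : allR t1690_rf 352792 6 (4411 * 2 ^ 6) = true := by decide +kernel
theorem t1690_rchk_4412 : allR t1690_rf 352792 6 (4412 * 2 ^ 6) = true := by decide +kernel
theorem t1690_rchk_4413 : allR t1690_rf 352792 6 (4413 * 2 ^ 6) = true := by decide +kernel
theorem t1690_rchk_4414 : allR t1690_rf 352792 6 (4414 * 2 ^ 6) = true := by decide +kernel
theorem t1690_rchk_4415 : allR t1690_rf 352792 6 (4415 * 2 ^ 6) = true := by decide +kernel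
theorem t1690_rchk_4416 : allR t1690_rf 352792 6 (4416 * 2 ^ 6) = true := by decide +kernel
theorem t1690_rchk_4417 : allR t1690_rf 352792 6 (4417 * 2 ^ 6) = true := by decide +kernel
theorem t1690_rchk_4418 : allR t1690_rf 352792 6 (4418 * 2 ^ 6) = true := by decide +kernel
theorem t1690_rchk_4419 : allR t1690_rf 352792 6 (4419 * 2 ^ 6) = true := by decide +kernel
theorem t1690_rchk_4420 : allR t1690_rf 352792 6 (4420 * 2 ^ 6) = true := by decide +kernel
theorem t1690_rchk_4421 : allR t1690_rf 352792 6 (4421 * 2 ^ 6) = true := by decide +kernel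
theorem t1690_rchk_4422 : allR t1690_rf 352792 6 (4422 * 2 ^ 6) = true := by decide +kernel
theorem t1690_rchk_4423 : allR t1690_rf 352792 6 (4423 * 2 ^ 6) = true := by decide +kernel
theorem t1690_rchk_4424 : allR t1690_rf 352792 6 (4424 * 2 ^ 6) = true := by decide +kernel
theorem t1690_rchk_4425 : allR t1690_rf 352792 6 (4425 * 2 ^ 6) = true := by decide +kernel
theorem t1690_rchk_4426 : allR t1690_rf 352792 6 (4426 * 2 ^ 6) = true := by decide +kernel
theorem t1690_rchk_4427 : allR t1690_rf 352792 6 (4427 * 2 ^ 6) = true := by decide +kernel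
theorem t1690_rchk_4428 : allR t1690_rf 352792 6 (4428 * 2 ^ 6) = true := by decide +kernel
theorem t1690_rchk_4429 : allR t1690_rf 352792 6 (4429 * 2 ^ 6) = true := by decide +kernel
theorem t1690_rchk_4430 : allR t1690_rf 352792 6 (4430 * 2 ^ 6) = true := by decide +kernel
theorem t1690_rchk_4431 : allR t1690_rf 352792 6 (4431 * 2 ^ 6) = true := by decide +kernel
theorem t1690_rchk_4432 : allR t1690_rf 352792 6 (4432 * 2 ^ 6) = true := by decide +kernel
theorem t1690_rchk_4433 : allR t1690_rf 352792 6 (4433 * 2 ^ 6) = true := by decide +kernel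
theorem t1690_rchk_4434 : allR t1690_rf 352792 6 (4434 * 2 ^ 6) = true := by decide +kernel
theorem t1690_rchk_4435 : allR t1690_rf 352792 6 (4435 * 2 ^ 6) = true := by decide +kernel
theorem t1690_rchk_4436 : allR t1690_rf 352792 6 (4436 * 2 ^ 6) = true := by decide +kernel
theorem t1690_rchk_4437 : allR t1690_rf 352792 6 (4437 * 2 ^ 6) = true := by decide +kernel
theorem t1690_rchk_4438 : allR t1690_rf 352792 6 (4438 * 2 ^ 6) = true := by decide +kernel
theorem t1690_rchk_4439 : allR t1690_rf 352792 6 (4439 * 2 ^ 6) = true := by decide +kernel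
theorem t1690_rchk_4440 : allR t1690_rf 352792 6 (4440 * 2 ^ 6) = true := by decide +kernel
theorem t1690_rchk_4441 : allR t1690_rf 352792 6 (4441 * 2 ^ 6) = true := by decide +kernel
theorem t1690_rchk_4442 : allR t1690_rf 352792 6 (4442 * 2 ^ 6) = true := by decide +kernel
theorem t1690_rchk_4443 : allR t1690_rf 352792 6 (4443 * 2 ^ 6) = true := by decide +kernel
theorem t1690_rchk_4444 : allR t1690_rf 352792 6 (4444 * 2 ^ 6) = true := by decide +kernel
theorem t1690_rchk_4445 : allR t1690_rf 352792 6 (4445 * 2 ^ 6) = true := by decide +kernel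
theorem t1690_rchk_4446 : allR t1690_rf 352792 6 (4446 * 2 ^ 6) = true := by decide +kernel
theorem t1690_rchk_4447 : allR t1690_rf 352792 6 (4447 * 2 ^ 6) = true := by decide +kernel
theorem t1690_rchk_4448 : allR t1690_rf 352792 6 (4448 * 2 ^ 6) = true := by decide +kernel
theorem t1690_rchk_4449 : allR t1690_rf 352792 6 (4449 * 2 ^ 6) = true := by decide +kernel
theorem t1690_rchk_4450 : allR t1690_rf 352792 6 (4450 * 2 ^ 6) = true := by decide +kernel
theorem t1690_rchk_4451 : allR t1690_rf 352792 6 (4451 * 2 ^ 6) = true := by decide +kernel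
theorem t1690_rchk_4452 : allR t1690_rf 352792 6 (4452 * 2 ^ 6) = true := by decide +kernel
theorem t1690_rchk_4453 : allR t1690_rf 352792 6 (4453 * 2 ^ 6) = true := by decide +kernel
theorem t1690_rchk_4454 : allR t1690_rf 352792 6 (4454 * 2 ^ 6) = true := by decide +kernel
theorem t1690_rchk_4455 : allR t1690_rf 352792 6 (4455 * 2 ^ 6) = true := by decide +kernel
theorem t1690_rchk_4456 : allR t1690_rf 352792 6 (4456 * 2 ^ 6) = true := by decide +kernel
theorem t1690_rchk_4457 : allR t1690_rf 352792 6 (4457 * 2 ^ 6) = true := by decide +kernel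
theorem t1690_rchk_4458 : allR t1690_rf 352792 6 (4458 * 2 ^ 6) = true := by decide +kernel
theorem t1690_rchk_4459 : allR t1690_rf 352792 6 (4459 * 2 ^ 6) = true := by decide +kernel
theorem t1690_rchk_4460 : allR t1690_rf 352792 6 (4460 * 2 ^ 6) = true := by decide +kernel
theorem t1690_rchk_4461 : allR t1690_rf 352792 6 (4461 * 2 ^ 6) = true := by decide +kernel
theorem t1690_rchk_4462 : allR t1690_rf 352792 6 (4462 * 2 ^ 6) = true := by decide +kernel
theorem t1690_rchk_4463 : allR t1690_rf 352792 6 (4463 * 2 ^ 6) = true := by decide +kernel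
theorem t1690_rchk_4464 : allR t1690_rf 352792 6 (4464 * 2 ^ 6) = true := by decide +kernel
theorem t1690_rchk_4465 : allR t1690_rf 352792 6 (4465 * 2 ^ 6) = true := by decide +kernel
theorem t1690_rchk_4466 : allR t1690_rf 352792 6 (4466 * 2 ^ 6) = true := by decide +kernel
theorem t1690_rchk_4467 : allR t1690_rf 352792 6 (4467 * 2 ^ 6) = true := by decide +kernel
theorem t1690_rchk_4468 : allR t1690_rf 352792 6 (4468 * 2 ^ 6) = true := by decide +kernel
theorem t1690_rchk_4469 : allR t1690_rf 352792 6 (4469 * 2 ^ 6) = true := by decide +kernel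
theorem t1690_rchk_4470 : allR t1690_rf 352792 6 (4470 * 2 ^ 6) = true := by decide +kernel
theorem t1690_rchk_4471 : allR t1690_rf 352792 6 (4471 * 2 ^ 6) = true := by decide +kernel
theorem t1690_rchk_4472 : allR t1690_rf 352792 6 (4472 * 2 ^ 6) = true := by decide +kernel
theorem t1690_rchk_4473 : allR t1690_rf 352792 6 (4473 * 2 ^ 6) = true := by decide +kernel
theorem t1690_rchk_4474 : allR t1690_rf 352792 6 (4474 * 2 ^ 6) = true := by decide +kernel
theorem t1690_rchk_4475 : allR t1690_rf 352792 6 (4475 * 2 ^ 6) = true := by decide +kernel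
theorem t1690_rchk_4476 : allR t1690_rf 352792 6 (4476 * 2 ^ 6) = true := by decide +kernel
theorem t1690_rchk_4477 : allR t1690_rf 352792 6 (4477 * 2 ^ 6) = true := by decide +kernel
theorem t1690_rchk_4478 : allR t1690_rf 352792 6 (4478 * 2 ^ 6) = true := by decide +kernel
theorem t1690_rchk_4479 : allR t1690_rf 352792 6 (4479 * 2 ^ 6) = true := by decide +kernel

theorem t1690_rfile_55 : ∀ k, k < 4480 → 4400 ≤ k → allR t1690_rf 352792 6 (k * 2 ^ 6) = true := by
  intro k h1 h2
  interval_cases k
  · exact t1690_rchk_4400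
  · exact t1690_rchk_4401
  · exact t1690_rchk_4402
  · exact t1690_rchk_4403
  · exact t1690_rchk_4404
  · exact t1690_rchk_4405
  · exact t1690_rchk_4406
  · exact t1690_rchk_4407
  · exact t1690_rchk_4408
  · exact t1690_rchk_4409
  · exact t1690_rchk_4410
  · exact t1690_rchk_4411
  · exact t1690_rchk_4412
  · exact t1690_rchk_4413
  · exact t1690_rchk_4414
  · exact t1690_rchk_4415
  · exact t1690_rchk_4416
  · exact t1690_rchk_4417
  · exact t1690_rchk_4418
  · exact t1690_rchk_4419
  · exact t1690_rchk_4420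
  · exact t1690_rchk_4421
  · exact t1690_rchk_4422
  · exact t1690_rchk_4423
  · exact t1690_rchk_4424
  · exact t1690_rchk_4425
  · exact t1690_rchk_4426
  · exact t1690_rchk_4427
  · exact t1690_rchk_4428
  · exact t1690_rchk_4429
  · exact t1690_rchk_4430
  · exact t1690_rchk_4431
  · exact t1690_rchk_4432
  · exact t1690_rchk_4433
  · exact t1690_rchk_4434
  · exact t1690_rchk_4435
  · exact t1690_rchk_4436
  · exact t1690_rchk_4437
  · exact t1690_rchk_4438
  · exact t1690_rchk_4439
  · exact t1690_rchk_4440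
  · exact t1690_rchk_4441
  · exact t1690_rchk_4442
  · exact t1690_rchk_4443
  · exact t1690_rchk_4444
  · exact t1690_rchk_4445
  · exact t1690_rchk_4446
  · exact t1690_rchk_4447
  · exact t1690_rchk_4448
  · exact t1690_rchk_4449
  · exact t1690_rchk_4450
  · exact t1690_rchk_4451
  · exact t1690_rchk_4452
  · exact t1690_rchk_4453
  · exact t1690_rchk_4454
  · exact t1690_rchk_4455
  · exact t1690_rchk_4456
  · exact t1690_rchk_4457
  · exact t1690_rchk_4458
  · exact t1690_rchk_4459
  · exact t1690_rchk_4460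
  · exact t1690_rchk_4461
  · exact t1690_rchk_4462
  · exact t1690_rchk_4463
  · exact t1690_rchk_4464
  · exact t1690_rchk_4465
  · exact t1690_rchk_4466
  · exact t1690_rchk_4467
  · exact t1690_rchk_4468
  · exact t1690_rchk_4469
  · exact t1690_rchk_4470
  · exact t1690_rchk_4471
  · exact t1690_rchk_4472
  · exact t1690_rchk_4473
  · exact t1690_rchk_4474
  · exact t1690_rchk_4475
  · exact t1690_rchk_4476
  · exact t1690_rchk_4477
  · exact t1690_rchk_4478
  · exact t1690_rchk_4479

end Cfsg.Agent.H35
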