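import Cfsg.Agent.H35.T1690.RTab

set_option autoImplicit false
set_option linter.all false
set_option Elab.async false

namespace Cfsg.Agent.H35

theorem t1690_rchk_4480 : allR t1690_rf 352792 6 (4480 * 2 ^ 6) = true := by decide +kernel
theorem t1690_rchk_4481 : allR t1690_rf 352792 6 (4481 * 2 ^ 6) = true := by decide +kernel
theorem t1690_rchk_4482 : allR t1690_rf 352792 6 (4482 * 2 ^ 6) = true := by decide +kernel
theorem t1690_rchk_4483 : allR t1690_rf 352792 6 (4483 * 2 ^ 6) = true := by decide +kernel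
theorem t1690_rchk_4484 : allR t1690_rf 352792 6 (4484 * 2 ^ 6) = true := by decide +kernel
theorem t1690_rchk_4485 : allR t1690_rf 352792 6 (4485 * 2 ^ 6) = true := by decide +kernel
theorem t1690_rchk_4486 : allR t1690_rf 352792 6 (4486 * 2 ^ 6) = true := by decide +kernel
theorem t1690_rchk_4487 : allR t1690_rf 352792 6 (4487 * 2 ^ 6) = true := by decide +kernel
theorem t1690_rchk_4488 : allR t1690_rf 352792 6 (4488 * 2 ^ 6) = true := by decide +kernel
theorem t1690_rchk_4489 : allR t1690_rf 352792 6 (4489 * 2 ^ 6) = true := by decide +kernel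
theorem t1690_rchk_4490 : allR t1690_rf 352792 6 (4490 * 2 ^ 6) = true := by decide +kernel
theorem t1690_rchk_4491 : allR t1690_rf 352792 6 (4491 * 2 ^ 6) = true := by decide +kernel
theorem t1690_rchk_4492 : allR t1690_rf 352792 6 (4492 * 2 ^ 6) = true := by decide +kernel
theorem t1690_rchk_4493 : allR t1690_rf 352792 6 (4493 * 2 ^ 6) = true := by decide +kernel
theorem t1690_rchk_4494 : allR t1690_rf 352792 6 (4494 * 2 ^ 6) = true := by decide +kernel
theorem t1690_rchk_4495 : allR t1690_rf 352792 6 (4495 * 2 ^ 6) = true := by decide +kernel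
theorem t1690_rchk_4496 : allR t1690_rf 352792 6 (4496 * 2 ^ 6) = true := by decide +kernel
theorem t1690_rchk_4497 : allR t1690_rf 352792 6 (4497 * 2 ^ 6) = true := by decide +kernel
theorem t1690_rchk_4498 : allR t1690_rf 352792 6 (4498 * 2 ^ 6) = true := by decide +kernel
theorem t1690_rchk_4499 : allR t1690_rf 352792 6 (4499 * 2 ^ 6) = true := by decide +kernel
theorem t1690_rchk_4500 : allR t1690_rf 352792 6 (4500 * 2 ^ 6) = true := by decide +kernel
theorem t1690_rchk_4501 : allR t1690_rf 352792 6 (4501 * 2 ^ 6) = true := by decide +kernel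
theorem t1690_rchk_4502 : allR t1690_rf 352792 6 (4502 * 2 ^ 6) = true := by decide +kernel
theorem t1690_rchk_4503 : allR t1690_rf 352792 6 (4503 * 2 ^ 6) = true := by decide +kernel
theorem t1690_rchk_4504 : allR t1690_rf 352792 6 (4504 * 2 ^ 6) = true := by decide +kernel
theorem t1690_rchk_4505 : allR t1690_rf 352792 6 (4505 * 2 ^ 6) = true := by decide +kernel
theorem t1690_rchk_4506 : allR t1690_rf 352792 6 (4506 * 2 ^ 6) = true := by decide +kernel
theorem t1690_rchk_4507 : allR t1690_rf 352792 6 (4507 * 2 ^ 6) = true := by decide +kernel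
theorem t1690_rchk_4508 : allR t1690_rf 352792 6 (4508 * 2 ^ 6) = true := by decide +kernel
theorem t1690_rchk_4509 : allR t1690_rf 352792 6 (4509 * 2 ^ 6) = true := by decide +kernel
theorem t1690_rchk_4510 : allR t1690_rf 352792 6 (4510 * 2 ^ 6) = true := by decide +kernel
theorem t1690_rchk_4511 : allR t1690_rf 352792 6 (4511 * 2 ^ 6) = true := by decide +kernel
theorem t1690_rchk_4512 : allR t1690_rf 352792 6 (4512 * 2 ^ 6) = true := by decide +kernel
theorem t1690_rchk_4513 : allR t1690_rf 352792 6 (4513 * 2 ^ 6) = true := by decide +kernel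
theorem t1690_rchk_4514 : allR t1690_rf 352792 6 (4514 * 2 ^ 6) = true := by decide +kernel
theorem t1690_rchk_4515 : allR t1690_rf 352792 6 (4515 * 2 ^ 6) = true := by decide +kernel
theorem t1690_rchk_4516 : allR t1690_rf 352792 6 (4516 * 2 ^ 6) = true := by decide +kernel
theorem t1690_rchk_4517 : allR t1690_rf 352792 6 (4517 * 2 ^ 6) = true := by decide +kernel
theorem t1690_rchk_4518 : allR t1690_rf 352792 6 (4518 * 2 ^ 6) = true := by decide +kernel
theorem t1690_rchk_4519 : allR t1690_rf 352792 6 (4519 * 2 ^ 6) = true := by decide +kernel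
theorem t1690_rchk_4520 : allR t1690_rf 352792 6 (4520 * 2 ^ 6) = true := by decide +kernel
theorem t1690_rchk_4521 : allR t1690_rf 352792 6 (4521 * 2 ^ 6) = true := by decide +kernel
theorem t1690_rchk_4522 : allR t1690_rf 352792 6 (4522 * 2 ^ 6) = true := by decide +kernel
theorem t1690_rchk_4523 : allR t1690_rf 352792 6 (4523 * 2 ^ 6) = true := by decide +kernel
theorem t1690_rchk_4524 : allR t1690_rf 352792 6 (4524 * 2 ^ 6) = true := by decide +kernel
theorem t1690_rchk_4525 : allR t1690_rf 352792 6 (4525 * 2 ^ 6) = true := by decide +kernel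
theorem t1690_rchk_4526 : allR t1690_rf 352792 6 (4526 * 2 ^ 6) = true := by decide +kernel
theorem t1690_rchk_4527 : allR t1690_rf 352792 6 (4527 * 2 ^ 6) = true := by decide +kernel
theorem t1690_rchk_4528 : allR t1690_rf 352792 6 (4528 * 2 ^ 6) = true := by decide +kernel
theorem t1690_rchk_4529 : allR t1690_rf 352792 6 (4529 * 2 ^ 6) = true := by decide +kernel
theorem t1690_rchk_4530 : allR t1690_rf 352792 6 (4530 * 2 ^ 6) = true := by decide +kernel
theorem t1690_rchk_4531 : allR t1690_rf 352792 6 (4531 * 2 ^ 6) = true := by decide +kernel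
theorem t1690_rchk_4532 : allR t1690_rf 352792 6 (4532 * 2 ^ 6) = true := by decide +kernel
theorem t1690_rchk_4533 : allR t1690_rf 352792 6 (4533 * 2 ^ 6) = true := by decide +kernel
theorem t1690_rchk_4534 : allR t1690_rf 352792 6 (4534 * 2 ^ 6) = true := by decide +kernel
theorem t1690_rchk_4535 : allR t1690_rf 352792 6 (4535 * 2 ^ 6) = true := by decide +kernel
theorem t1690_rchk_4536 : allR t1690_rf 352792 6 (4536 * 2 ^ 6) = true := by decide +kernel
theorem t1690_rchk_4537 : allR t1690_rf 352792 6 (4537 * 2 ^ 6) = true := by decide +kernel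
theorem t1690_rchk_4538 : allR t1690_rf 352792 6 (4538 * 2 ^ 6) = true := by decide +kernel
theorem t1690_rchk_4539 : allR t1690_rf 352792 6 (4539 * 2 ^ 6) = true := by decide +kernel
theorem t1690_rchk_4540 : allR t1690_rf 352792 6 (4540 * 2 ^ 6) = true := by decide +kernel
theorem t1690_rchk_4541 : allR t1690_rf 352792 6 (4541 * 2 ^ 6) = true := by decide +kernel
theorem t1690_rchk_4542 : allR t1690_rf 352792 6 (4542 * 2 ^ 6) = true := by decide +kernel
theorem t1690_rchk_4543 : allR t1690_rf 352792 6 (4543 * 2 ^ 6) = true := by decide +kernel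
theorem t1690_rchk_4544 : allR t1690_rf 352792 6 (4544 * 2 ^ 6) = true := by decide +kernel
theorem t1690_rchk_4545 : allR t1690_rf 352792 6 (4545 * 2 ^ 6) = true := by decide +kernel
theorem t1690_rchk_4546 : allR t1690_rf 352792 6 (4546 * 2 ^ 6) = true := by decide +kernel
theorem t1690_rchk_4547 : allR t1690_rf 352792 6 (4547 * 2 ^ 6) = true := by decide +kernel
theorem t1690_rchk_4548 : allR t1690_rf 352792 6 (4548 * 2 ^ 6) = true := by decide +kernel
theorem t1690_rchk_4549 : allR t1690_rf 352792 6 (4549 * 2 ^ 6) = true := by decide +kernel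
theorem t1690_rchk_4550 : allR t1690_rf 352792 6 (4550 * 2 ^ 6) = true := by decide +kernel
theorem t1690_rchk_4551 : allR t1690_rf 352792 6 (4551 * 2 ^ 6) = true := by decide +kernel
theorem t1690_rchk_4552 : allR t1690_rf 352792 6 (4552 * 2 ^ 6) = true := by decide +kernel
theorem t1690_rchk_4553 : allR t1690_rf 352792 6 (4553 * 2 ^ 6) = true := by decide +kernel
theorem t1690_rchk_4554 : allR t1690_rf 352792 6 (4554 * 2 ^ 6) = true := by decide +kernel
theorem t1690_rchk_4555 : allR t1690_rf 352792 6 (4555 * 2 ^ 6) = true := by decide +kernel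
theorem t1690_rchk_4556 : allR t1690_rf 352792 6 (4556 * 2 ^ 6) = true := by decide +kernel
theorem t1690_rchk_4557 : allR t1690_rf 352792 6 (4557 * 2 ^ 6) = true := by decide +kernel
theorem t1690_rchk_4558 : allR t1690_rf 352792 6 (4558 * 2 ^ 6) = true := by decide +kernel
theorem t1690_rchk_4559 : allR t1690_rf 352792 6 (4559 * 2 ^ 6) = true := by decide +kernel

theorem t1690_rfile_56 : ∀ k, k < 4560 → 4480 ≤ k → allR t1690_rf 352792 6 (k * 2 ^ 6) = true := by
  intro k h1 h2
  interval_cases k
  · exact t1690_rchk_4480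
  · exact t1690_rchk_4481
  · exact t1690_rchk_4482
  · exact t1690_rchk_4483
  · exact t1690_rchk_4484
  · exact t1690_rchk_4485
  · exact t1690_rchk_4486
  · exact t1690_rchk_4487
  · exact t1690_rchk_4488
  · exact t1690_rchk_4489
  · exact t1690_rchk_4490
  · exact t1690_rchk_4491
  · exact t1690_rchk_4492
  · exact t1690_rchk_4493
  · exact t1690_rchk_4494
  · exact t1690_rchk_4495
  · exact t1690_rchk_4496
  · exact t1690_rchk_4497
  · exact t1690_rchk_4498
  · exact t1690_rchk_4499
  · exact t1690_rchk_4500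
  · exact t1690_rchk_4501
  · exact t1690_rchk_4502
  · exact t1690_rchk_4503
  · exact t1690_rchk_4504
  · exact t1690_rchk_4505
  · exact t1690_rchk_4506
  · exact t1690_rchk_4507
  · exact t1690_rchk_4508
  · exact t1690_rchk_4509
  · exact t1690_rchk_4510
  · exact t1690_rchk_4511
  · exact t1690_rchk_4512
  · exact t1690_rchk_4513
  · exact t1690_rchk_4514
  · exact t1690_rchk_4515
  · exact t1690_rchk_4516
  · exact t1690_rchk_4517
  · exact t1690_rchk_4518
  · exact t1690_rchk_4519
  · exact t1690_rchk_4520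
  · exact t1690_rchk_4521
  · exact t1690_rchk_4522
  · exact t1690_rchk_4523
  · exact t1690_rchk_4524
  · exact t1690_rchk_4525
  · exact t1690_rchk_4526
  · exact t1690_rchk_4527
  · exact t1690_rchk_4528
  · exact t1690_rchk_4529
  · exact t1690_rchk_4530
  · exact t1690_rchk_4531
  · exact t1690_rchk_4532
  · exact t1690_rchk_4533
  · exact t1690_rchk_4534
  · exact t1690_rchk_4535
  · exact t1690_rchk_4536
  · exact t1690_rchk_4537
  · exact t1690_rchk_4538
  · exact t1690_rchk_4539
  · exact t1690_rchk_4540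
  · exact t1690_rchk_4541
  · exact t1690_rchk_4542
  · exact t1690_rchk_4543
  · exact t1690_rchk_4544
  · exact t1690_rchk_4545
  · exact t1690_rchk_4546
  · exact t1690_rchk_4547
  · exact t1690_rchk_4548
  · exact t1690_rchk_4549
  · exact t1690_rchk_4550
  · exact t1690_rchk_4551
  · exact t1690_rchk_4552
  · exact t1690_rchk_4553
  · exact t1690_rchk_4554
  · exact t1690_rchk_4555
  · exact t1690_rchk_4556
  · exact t1690_rchk_4557
  · exact t1690_rchk_4558
  · exact t1690_rchk_4559

end Cfsg.Agent.H35
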