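import Cfsg.Agent.H35.T1690.RTab

set_option autoImplicit false
set_option linter.all false
set_option Elab.async false

namespace Cfsg.Agent.H35

theorem t1690_rchk_4560 : allR t1690_rf 352792 6 (4560 * 2 ^ 6) = true := by decide +kernel
theorem t1690_rchk_4561 : allR t1690_rf 352792 6 (4561 * 2 ^ 6) = true := by decide +kernel
theorem t1690_rchk_4562 : allR t1690_rf 352792 6 (4562 * 2 ^ 6) = true := by decide +kernel
theorem t1690_rchk_4563 : allR t1690_rf 352792 6 (4563 * 2 ^ 6) = true := by decide +kernel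
theorem t1690_rchk_4564 : allR t1690_rf 352792 6 (4564 * 2 ^ 6) = true := by decide +kernel
theorem t1690_rchk_4565 : allR t1690_rf 352792 6 (4565 * 2 ^ 6) = true := by decide +kernel
theorem t1690_rchk_4566 : allR t1690_rf 352792 6 (4566 * 2 ^ 6) = true := by decide +kernel
theorem t1690_rchk_4567 : allR t1690_rf 352792 6 (4567 * 2 ^ 6) = true := by decide +kernel
theorem t1690_rchk_4568 : allR t1690_rf 352792 6 (4568 * 2 ^ 6) = true := by decide +kernel
theorem t1690_rchk_4569 : allR t1690_rf 352792 6 (4569 * 2 ^ 6) = true := by decide +kernel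
theorem t1690_rchk_4570 : allR t1690_rf 352792 6 (4570 * 2 ^ 6) = true := by decide +kernel
theorem t1690_rchk_4571 : allR t1690_rf 352792 6 (4571 * 2 ^ 6) = true := by decide +kernel
theorem t1690_rchk_4572 : allR t1690_rf 352792 6 (4572 * 2 ^ 6) = true := by decide +kernel
theorem t1690_rchk_4573 : allR t1690_rf 352792 6 (4573 * 2 ^ 6) = true := by decide +kernel
theorem t1690_rchk_4574 : allR t1690_rf 352792 6 (4574 * 2 ^ 6) = true := by decide +kernel
theorem t1690_rchk_4575 : allR t1690_rf 352792 6 (4575 * 2 ^ 6) = true := by decide +kernel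
theorem t1690_rchk_4576 : allR t1690_rf 352792 6 (4576 * 2 ^ 6) = true := by decide +kernel
theorem t1690_rchk_4577 : allR t1690_rf 352792 6 (4577 * 2 ^ 6) = true := by decide +kernel
theorem t1690_rchk_4578 : allR t1690_rf 352792 6 (4578 * 2 ^ 6) = true := by decide +kernel
theorem t1690_rchk_4579 : allR t1690_rf 352792 6 (4579 * 2 ^ 6) = true := by decide +kernel
theorem t1690_rchk_4580 : allR t1690_rf 352792 6 (4580 * 2 ^ 6) = true := by decide +kernel
theorem t1690_rchk_4581 : allR t1690_rf 352792 6 (4581 * 2 ^ 6) = true := by decide +kernel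
theorem t1690_rchk_4582 : allR t1690_rf 352792 6 (4582 * 2 ^ 6) = true := by decide +kernel
theorem t1690_rchk_4583 : allR t1690_rf 352792 6 (4583 * 2 ^ 6) = true := by decide +kernel
theorem t1690_rchk_4584 : allR t1690_rf 352792 6 (4584 * 2 ^ 6) = true := by decide +kernel
theorem t1690_rchk_4585 : allR t1690_rf 352792 6 (4585 * 2 ^ 6) = true := by decide +kernel
theorem t1690_rchk_4586 : allR t1690_rf 352792 6 (4586 * 2 ^ 6) = true := by decide +kernel
theorem t1690_rchk_4587 : allR t1690_rf 352792 6 (4587 * 2 ^ 6) = true := by decide +kernel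
theorem t1690_rchk_4588 : allR t1690_rf 352792 6 (4588 * 2 ^ 6) = true := by decide +kernel
theorem t1690_rchk_4589 : allR t1690_rf 352792 6 (4589 * 2 ^ 6) = true := by decide +kernel
theorem t1690_rchk_4590 : allR t1690_rf 352792 6 (4590 * 2 ^ 6) = true := by decide +kernel
theorem t1690_rchk_4591 : allR t1690_rf 352792 6 (4591 * 2 ^ 6) = true := by decide +kernel
theorem t1690_rchk_4592 : allR t1690_rf 352792 6 (4592 * 2 ^ 6) = true := by decide +kernel
theorem t1690_rchk_4593 : allR t1690_rf 352792 6 (4593 * 2 ^ 6) = true := by decide +kernel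
theorem t1690_rchk_4594 : allR t1690_rf 352792 6 (4594 * 2 ^ 6) = true := by decide +kernel
theorem t1690_rchk_4595 : allR t1690_rf 352792 6 (4595 * 2 ^ 6) = true := by decide +kernel
theorem t1690_rchk_4596 : allR t1690_rf 352792 6 (4596 * 2 ^ 6) = true := by decide +kernel
theorem t1690_rchk_4597 : allR t1690_rf 352792 6 (4597 * 2 ^ 6) = true := by decide +kernel
theorem t1690_rchk_4598 : allR t1690_rf 352792 6 (4598 * 2 ^ 6) = true := by decide +kernel
theorem t1690_rchk_4599 : allR t1690_rf 352792 6 (4599 * 2 ^ 6) = true := by decide +kernel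
theorem t1690_rchk_4600 : allR t1690_rf 352792 6 (4600 * 2 ^ 6) = true := by decide +kernel
theorem t1690_rchk_4601 : allR t1690_rf 352792 6 (4601 * 2 ^ 6) = true := by decide +kernel
theorem t1690_rchk_4602 : allR t1690_rf 352792 6 (4602 * 2 ^ 6) = true := by decide +kernel
theorem t1690_rchk_4603 : allR t1690_rf 352792 6 (4603 * 2 ^ 6) = true := by decide +kernel
theorem t1690_rchk_4604 : allR t1690_rf 352792 6 (4604 * 2 ^ 6) = true := by decide +kernel
theorem t1690_rchk_4605 : allR t1690_rf 352792 6 (4605 * 2 ^ 6) = true := by decide +kernel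
theorem t1690_rchk_4606 : allR t1690_rf 352792 6 (4606 * 2 ^ 6) = true := by decide +kernel
theorem t1690_rchk_4607 : allR t1690_rf 352792 6 (4607 * 2 ^ 6) = true := by decide +kernel
theorem t1690_rchk_4608 : allR t1690_rf 352792 6 (4608 * 2 ^ 6) = true := by decide +kernel
theorem t1690_rchk_4609 : allR t1690_rf 352792 6 (4609 * 2 ^ 6) = true := by decide +kernel
theorem t1690_rchk_4610 : allR t1690_rf 352792 6 (4610 * 2 ^ 6) = true := by decide +kernel
theorem t1690_rchk_4611 : allR t1690_rf 352792 6 (4611 * 2 ^ 6) = true := by decide +kernel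
theorem t1690_rchk_4612 : allR t1690_rf 352792 6 (4612 * 2 ^ 6) = true := by decide +kernel
theorem t1690_rchk_4613 : allR t1690_rf 352792 6 (4613 * 2 ^ 6) = true := by decide +kernel
theorem t1690_rchk_4614 : allR t1690_rf 352792 6 (4614 * 2 ^ 6) = true := by decide +kernel
theorem t1690_rchk_4615 : allR t1690_rf 352792 6 (4615 * 2 ^ 6) = true := by decide +kernel
theorem t1690_rchk_4616 : allR t1690_rf 352792 6 (4616 * 2 ^ 6) = true := by decide +kernel
theorem t1690_rchk_4617 : allR t1690_rf 352792 6 (4617 * 2 ^ 6) = true := by decide +kernel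
theorem t1690_rchk_4618 : allR t1690_rf 352792 6 (4618 * 2 ^ 6) = true := by decide +kernel
theorem t1690_rchk_4619 : allR t1690_rf 352792 6 (4619 * 2 ^ 6) = true := by decide +kernel
theorem t1690_rchk_4620 : allR t1690_rf 352792 6 (4620 * 2 ^ 6) = true := by decide +kernel
theorem t1690_rchk_4621 : allR t1690_rf 352792 6 (4621 * 2 ^ 6) = true := by decide +kernel
theorem t1690_rchk_4622 : allR t1690_rf 352792 6 (4622 * 2 ^ 6) = true := by decide +kernel
theorem t1690_rchk_4623 : allR t1690_rf 352792 6 (4623 * 2 ^ 6) = true := by decide +kernel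
theorem t1690_rchk_4624 : allR t1690_rf 352792 6 (4624 * 2 ^ 6) = true := by decide +kernel
theorem t1690_rchk_4625 : allR t1690_rf 352792 6 (4625 * 2 ^ 6) = true := by decide +kernel
theorem t1690_rchk_4626 : allR t1690_rf 352792 6 (4626 * 2 ^ 6) = true := by decide +kernel
theorem t1690_rchk_4627 : allR t1690_rf 352792 6 (4627 * 2 ^ 6) = true := by decide +kernel
theorem t1690_rchk_4628 : allR t1690_rf 352792 6 (4628 * 2 ^ 6) = true := by decide +kernel
theorem t1690_rchk_4629 : allR t1690_rf 352792 6 (4629 * 2 ^ 6) = true := by decide +kernel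
theorem t1690_rchk_4630 : allR t1690_rf 352792 6 (4630 * 2 ^ 6) = true := by decide +kernel
theorem t1690_rchk_4631 : allR t1690_rf 352792 6 (4631 * 2 ^ 6) = true := by decide +kernel
theorem t1690_rchk_4632 : allR t1690_rf 352792 6 (4632 * 2 ^ 6) = true := by decide +kernel
theorem t1690_rchk_4633 : allR t1690_rf 352792 6 (4633 * 2 ^ 6) = true := by decide +kernel
theorem t1690_rchk_4634 : allR t1690_rf 352792 6 (4634 * 2 ^ 6) = true := by decide +kernel
theorem t1690_rchk_4635 : allR t1690_rf 352792 6 (4635 * 2 ^ 6) = true := by decide +kernel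
theorem t1690_rchk_4636 : allR t1690_rf 352792 6 (4636 * 2 ^ 6) = true := by decide +kernel
theorem t1690_rchk_4637 : allR t1690_rf 352792 6 (4637 * 2 ^ 6) = true := by decide +kernel
theorem t1690_rchk_4638 : allR t1690_rf 352792 6 (4638 * 2 ^ 6) = true := by decide +kernel
theorem t1690_rchk_4639 : allR t1690_rf 352792 6 (4639 * 2 ^ 6) = true := by decide +kernel

theorem t1690_rfile_57 : ∀ k, k < 4640 → 4560 ≤ k → allR t1690_rf 352792 6 (k * 2 ^ 6) = true := by
  intro k h1 h2
  interval_cases k
  · exact t1690_rchk_4560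
  · exact t1690_rchk_4561
  · exact t1690_rchk_4562
  · exact t1690_rchk_4563
  · exact t1690_rchk_4564
  · exact t1690_rchk_4565
  · exact t1690_rchk_4566
  · exact t1690_rchk_4567
  · exact t1690_rchk_4568
  · exact t1690_rchk_4569
  · exact t1690_rchk_4570
  · exact t1690_rchk_4571
  · exact t1690_rchk_4572
  · exact t1690_rchk_4573
  · exact t1690_rchk_4574
  · exact t1690_rchk_4575
  · exact t1690_rchk_4576
  · exact t1690_rchk_4577
  · exact t1690_rchk_4578
  · exact t1690_rchk_4579
  · exact t1690_rchk_4580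
  · exact t1690_rchk_4581
  · exact t1690_rchk_4582
  · exact t1690_rchk_4583
  · exact t1690_rchk_4584
  · exact t1690_rchk_4585
  · exact t1690_rchk_4586
  · exact t1690_rchk_4587
  · exact t1690_rchk_4588
  · exact t1690_rchk_4589
  · exact t1690_rchk_4590
  · exact t1690_rchk_4591
  · exact t1690_rchk_4592
  · exact t1690_rchk_4593
  · exact t1690_rchk_4594
  · exact t1690_rchk_4595
  · exact t1690_rchk_4596
  · exact t1690_rchk_4597
  · exact t1690_rchk_4598
  · exact t1690_rchk_4599
  · exact t1690_rchk_4600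
  · exact t1690_rchk_4601
  · exact t1690_rchk_4602
  · exact t1690_rchk_4603
  · exact t1690_rchk_4604
  · exact t1690_rchk_4605
  · exact t1690_rchk_4606
  · exact t1690_rchk_4607
  · exact t1690_rchk_4608
  · exact t1690_rchk_4609
  · exact t1690_rchk_4610
  · exact t1690_rchk_4611
  · exact t1690_rchk_4612
  · exact t1690_rchk_4613
  · exact t1690_rchk_4614
  · exact t1690_rchk_4615
  · exact t1690_rchk_4616
  · exact t1690_rchk_4617
  · exact t1690_rchk_4618
  · exact t1690_rchk_4619
  · exact t1690_rchk_4620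
  · exact t1690_rchk_4621
  · exact t1690_rchk_4622
  · exact t1690_rchk_4623
  · exact t1690_rchk_4624
  · exact t1690_rchk_4625
  · exact t1690_rchk_4626
  · exact t1690_rchk_4627
  · exact t1690_rchk_4628
  · exact t1690_rchk_4629
  · exact t1690_rchk_4630
  · exact t1690_rchk_4631
  · exact t1690_rchk_4632
  · exact t1690_rchk_4633
  · exact t1690_rchk_4634
  · exact t1690_rchk_4635
  · exact t1690_rchk_4636
  · exact t1690_rchk_4637
  · exact t1690_rchk_4638
  · exact t1690_rchk_4639

end Cfsg.Agent.H35
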