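import Cfsg.Agent.H35.T1690.RTab

set_option autoImplicit false
set_option linter.all false
set_option Elab.async false

namespace Cfsg.Agent.H35

theorem t1690_rchk_4640 : allR t1690_rf 352792 6 (4640 * 2 ^ 6) = true := by decide +kernel
theorem t1690_rchk_4641 : allR t1690_rf 352792 6 (4641 * 2 ^ 6) = true := by decide +kernel
theorem t1690_rchk_4642 : allR t1690_rf 352792 6 (4642 * 2 ^ 6) = true := by decide +kernel
theorem t1690_rchk_4643 : allR t1690_rf 352792 6 (4643 * 2 ^ 6) = true := by decide +kernel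
theorem t1690_rchk_4644 : allR t1690_rf 352792 6 (4644 * 2 ^ 6) = true := by decide +kernel
theorem t1690_rchk_4645 : allR t1690_rf 352792 6 (4645 * 2 ^ 6) = true := by decide +kernel
theorem t1690_rchk_4646 : allR t1690_rf 352792 6 (4646 * 2 ^ 6) = true := by decide +kernel
theorem t1690_rchk_4647 : allR t1690_rf 352792 6 (4647 * 2 ^ 6) = true := by decide +kernel
theorem t1690_rchk_4648 : allR t1690_rf 352792 6 (4648 * 2 ^ 6) = true := by decide +kernel
theorem t1690_rchk_4649 : allR t1690_rf 352792 6 (4649 * 2 ^ 6) = true := by decide +kernel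
theorem t1690_rchk_4650 : allR t1690_rf 352792 6 (4650 * 2 ^ 6) = true := by decide +kernel
theorem t1690_rchk_4651 : allR t1690_rf 352792 6 (4651 * 2 ^ 6) = true := by decide +kernel
theorem t1690_rchk_4652 : allR t1690_rf 352792 6 (4652 * 2 ^ 6) = true := by decide +kernel
theorem t1690_rchk_4653 : allR t1690_rf 352792 6 (4653 * 2 ^ 6) = true := by decide +kernel
theorem t1690_rchk_4654 : allR t1690_rf 352792 6 (4654 * 2 ^ 6) = true := by decide +kernel
theorem t1690_rchk_4655 : allR t1690_rf 352792 6 (4655 * 2 ^ 6) = true := by decide +kernel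
theorem t1690_rchk_4656 : allR t1690_rf 352792 6 (4656 * 2 ^ 6) = true := by decide +kernel
theorem t1690_rchk_4657 : allR t1690_rf 352792 6 (4657 * 2 ^ 6) = true := by decide +kernel
theorem t1690_rchk_4658 : allR t1690_rf 352792 6 (4658 * 2 ^ 6) = true := by decide +kernel
theorem t1690_rchk_4659 : allR t1690_rf 352792 6 (4659 * 2 ^ 6) = true := by decide +kernel
theorem t1690_rchk_4660 : allR t1690_rf 352792 6 (4660 * 2 ^ 6) = true := by decide +kernel
theorem t1690_rchk_4661 : allR t1690_rf 352792 6 (4661 * 2 ^ 6) = true := by decide +kernel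
theorem t1690_rchk_4662 : allR t1690_rf 352792 6 (4662 * 2 ^ 6) = true := by decide +kernel
theorem t1690_rchk_4663 : allR t1690_rf 352792 6 (4663 * 2 ^ 6) = true := by decide +kernel
theorem t1690_rchk_4664 : allR t1690_rf 352792 6 (4664 * 2 ^ 6) = true := by decide +kernel
theorem t1690_rchk_4665 : allR t1690_rf 352792 6 (4665 * 2 ^ 6) = true := by decide +kernel
theorem t1690_rchk_4666 : allR t1690_rf 352792 6 (4666 * 2 ^ 6) = true := by decide +kernel
theorem t1690_rchk_4667 : allR t1690_rf 352792 6 (4667 * 2 ^ 6) = true := by decide +kernel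
theorem t1690_rchk_4668 : allR t1690_rf 352792 6 (4668 * 2 ^ 6) = true := by decide +kernel
theorem t1690_rchk_4669 : allR t1690_rf 352792 6 (4669 * 2 ^ 6) = true := by decide +kernel
theorem t1690_rchk_4670 : allR t1690_rf 352792 6 (4670 * 2 ^ 6) = true := by decide +kernel
theorem t1690_rchk_4671 : allR t1690_rf 352792 6 (4671 * 2 ^ 6) = true := by decide +kernel
theorem t1690_rchk_4672 : allR t1690_rf 352792 6 (4672 * 2 ^ 6) = true := by decide +kernel
theorem t1690_rchk_4673 : allR t1690_rf 352792 6 (4673 * 2 ^ 6) = true := by decide +kernel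
theorem t1690_rchk_4674 : allR t1690_rf 352792 6 (4674 * 2 ^ 6) = true := by decide +kernel
theorem t1690_rchk_4675 : allR t1690_rf 352792 6 (4675 * 2 ^ 6) = true := by decide +kernel
theorem t1690_rchk_4676 : allR t1690_rf 352792 6 (4676 * 2 ^ 6) = true := by decide +kernel
theorem t1690_rchk_4677 : allR t1690_rf 352792 6 (4677 * 2 ^ 6) = true := by decide +kernel
theorem t1690_rchk_4678 : allR t1690_rf 352792 6 (4678 * 2 ^ 6) = true := by decide +kernel
theorem t1690_rchk_4679 : allR t1690_rf 352792 6 (4679 * 2 ^ 6) = true := by decide +kernel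
theorem t1690_rchk_4680 : allR t1690_rf 352792 6 (4680 * 2 ^ 6) = true := by decide +kernel
theorem t1690_rchk_4681 : allR t1690_rf 352792 6 (4681 * 2 ^ 6) = true := by decide +kernel
theorem t1690_rchk_4682 : allR t1690_rf 352792 6 (4682 * 2 ^ 6) = true := by decide +kernel
theorem t1690_rchk_4683 : allR t1690_rf 352792 6 (4683 * 2 ^ 6) = true := by decide +kernel
theorem t1690_rchk_4684 : allR t1690_rf 352792 6 (4684 * 2 ^ 6) = true := by decide +kernel
theorem t1690_rchk_4685 : allR t1690_rf 352792 6 (4685 * 2 ^ 6) = true := by decide +kernel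
theorem t1690_rchk_4686 : allR t1690_rf 352792 6 (4686 * 2 ^ 6) = true := by decide +kernel
theorem t1690_rchk_4687 : allR t1690_rf 352792 6 (4687 * 2 ^ 6) = true := by decide +kernel
theorem t1690_rchk_4688 : allR t1690_rf 352792 6 (4688 * 2 ^ 6) = true := by decide +kernel
theorem t1690_rchk_4689 : allR t1690_rf 352792 6 (4689 * 2 ^ 6) = true := by decide +kernel
theorem t1690_rchk_4690 : allR t1690_rf 352792 6 (4690 * 2 ^ 6) = true := by decide +kernel
theorem t1690_rchk_4691 : allR t1690_rf 352792 6 (4691 * 2 ^ 6) = true := by decide +kernel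
theorem t1690_rchk_4692 : allR t1690_rf 352792 6 (4692 * 2 ^ 6) = true := by decide +kernel
theorem t1690_rchk_4693 : allR t1690_rf 352792 6 (4693 * 2 ^ 6) = true := by decide +kernel
theorem t1690_rchk_4694 : allR t1690_rf 352792 6 (4694 * 2 ^ 6) = true := by decide +kernel
theorem t1690_rchk_4695 : allR t1690_rf 352792 6 (4695 * 2 ^ 6) = true := by decide +kernel
theorem t1690_rchk_4696 : allR t1690_rf 352792 6 (4696 * 2 ^ 6) = true := by decide +kernel
theorem t1690_rchk_4697 : allR t1690_rf 352792 6 (4697 * 2 ^ 6) = true := by decide +kernel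
theorem t1690_rchk_4698 : allR t1690_rf 352792 6 (4698 * 2 ^ 6) = true := by decide +kernel
theorem t1690_rchk_4699 : allR t1690_rf 352792 6 (4699 * 2 ^ 6) = true := by decide +kernel
theorem t1690_rchk_4700 : allR t1690_rf 352792 6 (4700 * 2 ^ 6) = true := by decide +kernel
theorem t1690_rchk_4701 : allR t1690_rf 352792 6 (4701 * 2 ^ 6) = true := by decide +kernel
theorem t1690_rchk_4702 : allR t1690_rf 352792 6 (4702 * 2 ^ 6) = true := by decide +kernel
theorem t1690_rchk_4703 : allR t1690_rf 352792 6 (4703 * 2 ^ 6) = true := by decide +kernel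
theorem t1690_rchk_4704 : allR t1690_rf 352792 6 (4704 * 2 ^ 6) = true := by decide +kernel
theorem t1690_rchk_4705 : allR t1690_rf 352792 6 (4705 * 2 ^ 6) = true := by decide +kernel
theorem t1690_rchk_4706 : allR t1690_rf 352792 6 (4706 * 2 ^ 6) = true := by decide +kernel
theorem t1690_rchk_4707 : allR t1690_rf 352792 6 (4707 * 2 ^ 6) = true := by decide +kernel
theorem t1690_rchk_4708 : allR t1690_rf 352792 6 (4708 * 2 ^ 6) = true := by decide +kernel
theorem t1690_rchk_4709 : allR t1690_rf 352792 6 (4709 * 2 ^ 6) = true := by decide +kernel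
theorem t1690_rchk_4710 : allR t1690_rf 352792 6 (4710 * 2 ^ 6) = true := by decide +kernel
theorem t1690_rchk_4711 : allR t1690_rf 352792 6 (4711 * 2 ^ 6) = true := by decide +kernel
theorem t1690_rchk_4712 : allR t1690_rf 352792 6 (4712 * 2 ^ 6) = true := by decide +kernel
theorem t1690_rchk_4713 : allR t1690_rf 352792 6 (4713 * 2 ^ 6) = true := by decide +kernel
theorem t1690_rchk_4714 : allR t1690_rf 352792 6 (4714 * 2 ^ 6) = true := by decide +kernel
theorem t1690_rchk_4715 : allR t1690_rf 352792 6 (4715 * 2 ^ 6) = true := by decide +kernel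
theorem t1690_rchk_4716 : allR t1690_rf 352792 6 (4716 * 2 ^ 6) = true := by decide +kernel
theorem t1690_rchk_4717 : allR t1690_rf 352792 6 (4717 * 2 ^ 6) = true := by decide +kernel
theorem t1690_rchk_4718 : allR t1690_rf 352792 6 (4718 * 2 ^ 6) = true := by decide +kernel
theorem t1690_rchk_4719 : allR t1690_rf 352792 6 (4719 * 2 ^ 6) = true := by decide +kernel

theorem t1690_rfile_58 : ∀ k, k < 4720 → 4640 ≤ k → allR t1690_rf 352792 6 (k * 2 ^ 6) = true := by
  intro k h1 h2
  interval_cases k
  · exact t1690_rchk_4640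
  · exact t1690_rchk_4641
  · exact t1690_rchk_4642
  · exact t1690_rchk_4643
  · exact t1690_rchk_4644
  · exact t1690_rchk_4645
  · exact t1690_rchk_4646
  · exact t1690_rchk_4647
  · exact t1690_rchk_4648
  · exact t1690_rchk_4649
  · exact t1690_rchk_4650
  · exact t1690_rchk_4651
  · exact t1690_rchk_4652
  · exact t1690_rchk_4653
  · exact t1690_rchk_4654
  · exact t1690_rchk_4655
  · exact t1690_rchk_4656
  · exact t1690_rchk_4657
  · exact t1690_rchk_4658
  · exact t1690_rchk_4659
  · exact t1690_rchk_4660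
  · exact t1690_rchk_4661
  · exact t1690_rchk_4662
  · exact t1690_rchk_4663
  · exact t1690_rchk_4664
  · exact t1690_rchk_4665
  · exact t1690_rchk_4666
  · exact t1690_rchk_4667
  · exact t1690_rchk_4668
  · exact t1690_rchk_4669
  · exact t1690_rchk_4670
  · exact t1690_rchk_4671
  · exact t1690_rchk_4672
  · exact t1690_rchk_4673
  · exact t1690_rchk_4674
  · exact t1690_rchk_4675
  · exact t1690_rchk_4676
  · exact t1690_rchk_4677
  · exact t1690_rchk_4678
  · exact t1690_rchk_4679
  · exact t1690_rchk_4680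
  · exact t1690_rchk_4681
  · exact t1690_rchk_4682
  · exact t1690_rchk_4683
  · exact t1690_rchk_4684
  · exact t1690_rchk_4685
  · exact t1690_rchk_4686
  · exact t1690_rchk_4687
  · exact t1690_rchk_4688
  · exact t1690_rchk_4689
  · exact t1690_rchk_4690
  · exact t1690_rchk_4691
  · exact t1690_rchk_4692
  · exact t1690_rchk_4693
  · exact t1690_rchk_4694
  · exact t1690_rchk_4695
  · exact t1690_rchk_4696
  · exact t1690_rchk_4697
  · exact t1690_rchk_4698
  · exact t1690_rchk_4699
  · exact t1690_rchk_4700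
  · exact t1690_rchk_4701
  · exact t1690_rchk_4702
  · exact t1690_rchk_4703
  · exact t1690_rchk_4704
  · exact t1690_rchk_4705
  · exact t1690_rchk_4706
  · exact t1690_rchk_4707
  · exact t1690_rchk_4708
  · exact t1690_rchk_4709
  · exact t1690_rchk_4710
  · exact t1690_rchk_4711
  · exact t1690_rchk_4712
  · exact t1690_rchk_4713
  · exact t1690_rchk_4714
  · exact t1690_rchk_4715
  · exact t1690_rchk_4716
  · exact t1690_rchk_4717
  · exact t1690_rchk_4718
  · exact t1690_rchk_4719

end Cfsg.Agent.H35
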