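import Cfsg.Agent.H35.T1690.RTab

set_option autoImplicit false
set_option linter.all false
set_option Elab.async false

namespace Cfsg.Agent.H35

theorem t1690_rchk_480 : allR t1690_rf 352792 6 (480 * 2 ^ 6) = true := by decide +kernel
theorem t1690_rchk_481 : allR t1690_rf 352792 6 (481 * 2 ^ 6) = true := by decide +kernel
theorem t1690_rchk_482 : allR t1690_rf 352792 6 (482 * 2 ^ 6) = true := by decide +kernel
theorem t1690_rchk_483 : allR t1690_rf 352792 6 (483 * 2 ^ 6) = true := by decide +kernel
theorem t1690_rchk_484 : allR t1690_rf 352792 6 (484 * 2 ^ 6) = true := by decide +kernel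
theorem t1690_rchk_485 : allR t1690_rf 352792 6 (485 * 2 ^ 6) = true := by decide +kernel
theorem t1690_rchk_486 : allR t1690_rf 352792 6 (486 * 2 ^ 6) = true := by decide +kernel
theorem t1690_rchk_487 : allR t1690_rf 352792 6 (487 * 2 ^ 6) = true := by decide +kernel
theorem t1690_rchk_488 : allR t1690_rf 352792 6 (488 * 2 ^ 6) = true := by decide +kernel
theorem t1690_rchk_489 : allR t1690_rf 352792 6 (489 * 2 ^ 6) = true := by decide +kernel
theorem t1690_rchk_490 : allR t1690_rf 352792 6 (490 * 2 ^ 6) = true := by decide +kernel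
theorem t1690_rchk_491 : allR t1690_rf 352792 6 (491 * 2 ^ 6) = true := by decide +kernel
theorem t1690_rchk_492 : allR t1690_rf 352792 6 (492 * 2 ^ 6) = true := by decide +kernel
theorem t1690_rchk_493 : allR t1690_rf 352792 6 (493 * 2 ^ 6) = true := by decide +kernel
theorem t1690_rchk_494 : allR t1690_rf 352792 6 (494 * 2 ^ 6) = true := by decide +kernel
theorem t1690_rchk_495 : allR t1690_rf 352792 6 (495 * 2 ^ 6) = true := by decide +kernel
theorem t1690_rchk_496 : allR t1690_rf 352792 6 (496 * 2 ^ 6) = true := by decide +kernel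
theorem t1690_rchk_497 : allR t1690_rf 352792 6 (497 * 2 ^ 6) = true := by decide +kernel
theorem t1690_rchk_498 : allR t1690_rf 352792 6 (498 * 2 ^ 6) = true := by decide +kernel
theorem t1690_rchk_499 : allR t1690_rf 352792 6 (499 * 2 ^ 6) = true := by decide +kernel
theorem t1690_rchk_500 : allR t1690_rf 352792 6 (500 * 2 ^ 6) = true := by decide +kernel
theorem t1690_rchk_501 : allR t1690_rf 352792 6 (501 * 2 ^ 6) = true := by decide +kernel
theorem t1690_rchk_502 : allR t1690_rf 352792 6 (502 * 2 ^ 6) = true := by decide +kernel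
theorem t1690_rchk_503 : allR t1690_rf 352792 6 (503 * 2 ^ 6) = true := by decide +kernel
theorem t1690_rchk_504 : allR t1690_rf 352792 6 (504 * 2 ^ 6) = true := by decide +kernel
theorem t1690_rchk_505 : allR t1690_rf 352792 6 (505 * 2 ^ 6) = true := by decide +kernel
theorem t1690_rchk_506 : allR t1690_rf 352792 6 (506 * 2 ^ 6) = true := by decide +kernel
theorem t1690_rchk_507 : allR t1690_rf 352792 6 (507 * 2 ^ 6) = true := by decide +kernel
theorem t1690_rchk_508 : allR t1690_rf 352792 6 (508 * 2 ^ 6) = true := by decide +kernel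
theorem t1690_rchk_509 : allR t1690_rf 352792 6 (509 * 2 ^ 6) = true := by decide +kernel
theorem t1690_rchk_510 : allR t1690_rf 352792 6 (510 * 2 ^ 6) = true := by decide +kernel
theorem t1690_rchk_511 : allR t1690_rf 352792 6 (511 * 2 ^ 6) = true := by decide +kernel
theorem t1690_rchk_512 : allR t1690_rf 352792 6 (512 * 2 ^ 6) = true := by decide +kernel
theorem t1690_rchk_513 : allR t1690_rf 352792 6 (513 * 2 ^ 6) = true := by decide +kernel
theorem t1690_rchk_514 : allR t1690_rf 352792 6 (514 * 2 ^ 6) = true := by decide +kernel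
theorem t1690_rchk_515 : allR t1690_rf 352792 6 (515 * 2 ^ 6) = true := by decide +kernel
theorem t1690_rchk_516 : allR t1690_rf 352792 6 (516 * 2 ^ 6) = true := by decide +kernel
theorem t1690_rchk_517 : allR t1690_rf 352792 6 (517 * 2 ^ 6) = true := by decide +kernel
theorem t1690_rchk_518 : allR t1690_rf 352792 6 (518 * 2 ^ 6) = true := by decide +kernel
theorem t1690_rchk_519 : allR t1690_rf 352792 6 (519 * 2 ^ 6) = true := by decide +kernel
theorem t1690_rchk_520 : allR t1690_rf 352792 6 (520 * 2 ^ 6) = true := by decide +kernel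
theorem t1690_rchk_521 : allR t1690_rf 352792 6 (521 * 2 ^ 6) = true := by decide +kernel
theorem t1690_rchk_522 : allR t1690_rf 352792 6 (522 * 2 ^ 6) = true := by decide +kernel
theorem t1690_rchk_523 : allR t1690_rf 352792 6 (523 * 2 ^ 6) = true := by decide +kernel
theorem t1690_rchk_524 : allR t1690_rf 352792 6 (524 * 2 ^ 6) = true := by decide +kernel
theorem t1690_rchk_525 : allR t1690_rf 352792 6 (525 * 2 ^ 6) = true := by decide +kernel
theorem t1690_rchk_526 : allR t1690_rf 352792 6 (526 * 2 ^ 6) = true := by decide +kernel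
theorem t1690_rchk_527 : allR t1690_rf 352792 6 (527 * 2 ^ 6) = true := by decide +kernel
theorem t1690_rchk_528 : allR t1690_rf 352792 6 (528 * 2 ^ 6) = true := by decide +kernel
theorem t1690_rchk_529 : allR t1690_rf 352792 6 (529 * 2 ^ 6) = true := by decide +kernel
theorem t1690_rchk_530 : allR t1690_rf 352792 6 (530 * 2 ^ 6) = true := by decide +kernel
theorem t1690_rchk_531 : allR t1690_rf 352792 6 (531 * 2 ^ 6) = true := by decide +kernel
theorem t1690_rchk_532 : allR t1690_rf 352792 6 (532 * 2 ^ 6) = true := by decide +kernel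
theorem t1690_rchk_533 : allR t1690_rf 352792 6 (533 * 2 ^ 6) = true := by decide +kernel
theorem t1690_rchk_534 : allR t1690_rf 352792 6 (534 * 2 ^ 6) = true := by decide +kernel
theorem t1690_rchk_535 : allR t1690_rf 352792 6 (535 * 2 ^ 6) = true := by decide +kernel
theorem t1690_rchk_536 : allR t1690_rf 352792 6 (536 * 2 ^ 6) = true := by decide +kernel
theorem t1690_rchk_537 : allR t1690_rf 352792 6 (537 * 2 ^ 6) = true := by decide +kernel
theorem t1690_rchk_538 : allR t1690_rf 352792 6 (538 * 2 ^ 6) = true := by decide +kernel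
theorem t1690_rchk_539 : allR t1690_rf 352792 6 (539 * 2 ^ 6) = true := by decide +kernel
theorem t1690_rchk_540 : allR t1690_rf 352792 6 (540 * 2 ^ 6) = true := by decide +kernel
theorem t1690_rchk_541 : allR t1690_rf 352792 6 (541 * 2 ^ 6) = true := by decide +kernel
theorem t1690_rchk_542 : allR t1690_rf 352792 6 (542 * 2 ^ 6) = true := by decide +kernel
theorem t1690_rchk_543 : allR t1690_rf 352792 6 (543 * 2 ^ 6) = true := by decide +kernel
theorem t1690_rchk_544 : allR t1690_rf 352792 6 (544 * 2 ^ 6) = true := by decide +kernel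
theorem t1690_rchk_545 : allR t1690_rf 352792 6 (545 * 2 ^ 6) = true := by decide +kernel
theorem t1690_rchk_546 : allR t1690_rf 352792 6 (546 * 2 ^ 6) = true := by decide +kernel
theorem t1690_rchk_547 : allR t1690_rf 352792 6 (547 * 2 ^ 6) = true := by decide +kernel
theorem t1690_rchk_548 : allR t1690_rf 352792 6 (548 * 2 ^ 6) = true := by decide +kernel
theorem t1690_rchk_549 : allR t1690_rf 352792 6 (549 * 2 ^ 6) = true := by decide +kernel
theorem t1690_rchk_550 : allR t1690_rf 352792 6 (550 * 2 ^ 6) = true := by decide +kernel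
theorem t1690_rchk_551 : allR t1690_rf 352792 6 (551 * 2 ^ 6) = true := by decide +kernel
theorem t1690_rchk_552 : allR t1690_rf 352792 6 (552 * 2 ^ 6) = true := by decide +kernel
theorem t1690_rchk_553 : allR t1690_rf 352792 6 (553 * 2 ^ 6) = true := by decide +kernel
theorem t1690_rchk_554 : allR t1690_rf 352792 6 (554 * 2 ^ 6) = true := by decide +kernel
theorem t1690_rchk_555 : allR t1690_rf 352792 6 (555 * 2 ^ 6) = true := by decide +kernel
theorem t1690_rchk_556 : allR t1690_rf 352792 6 (556 * 2 ^ 6) = true := by decide +kernel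
theorem t1690_rchk_557 : allR t1690_rf 352792 6 (557 * 2 ^ 6) = true := by decide +kernel
theorem t1690_rchk_558 : allR t1690_rf 352792 6 (558 * 2 ^ 6) = true := by decide +kernel
theorem t1690_rchk_559 : allR t1690_rf 352792 6 (559 * 2 ^ 6) = true := by decide +kernel

theorem t1690_rfile_6 : ∀ k, k < 560 → 480 ≤ k → allR t1690_rf 352792 6 (k * 2 ^ 6) = true := by
  intro k h1 h2
  interval_cases k
  · exact t1690_rchk_480
  · exact t1690_rchk_481
  · exact t1690_rchk_482
  · exact t1690_rchk_483
  · exact t1690_rchk_484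
  · exact t1690_rchk_485
  · exact t1690_rchk_486
  · exact t1690_rchk_487
  · exact t1690_rchk_488
  · exact t1690_rchk_489
  · exact t1690_rchk_490
  · exact t1690_rchk_491
  · exact t1690_rchk_492
  · exact t1690_rchk_493
  · exact t1690_rchk_494
  · exact t1690_rchk_495
  · exact t1690_rchk_496
  · exact t1690_rchk_497
  · exact t1690_rchk_498
  · exact t1690_rchk_499
  · exact t1690_rchk_500
  · exact t1690_rchk_501
  · exact t1690_rchk_502
  · exact t1690_rchk_503
  · exact t1690_rchk_504
  · exact t1690_rchk_505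
  · exact t1690_rchk_506
  · exact t1690_rchk_507
  · exact t1690_rchk_508
  · exact t1690_rchk_509
  · exact t1690_rchk_510
  · exact t1690_rchk_511
  · exact t1690_rchk_512
  · exact t1690_rchk_513
  · exact t1690_rchk_514
  · exact t1690_rchk_515
  · exact t1690_rchk_516
  · exact t1690_rchk_517
  · exact t1690_rchk_518
  · exact t1690_rchk_519
  · exact t1690_rchk_520
  · exact t1690_rchk_521
  · exact t1690_rchk_522
  · exact t1690_rchk_523
  · exact t1690_rchk_524
  · exact t1690_rchk_525
  · exact t1690_rchk_526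
  · exact t1690_rchk_527
  · exact t1690_rchk_528
  · exact t1690_rchk_529
  · exact t1690_rchk_530
  · exact t1690_rchk_531
  · exact t1690_rchk_532
  · exact t1690_rchk_533
  · exact t1690_rchk_534
  · exact t1690_rchk_535
  · exact t1690_rchk_536
  · exact t1690_rchk_537
  · exact t1690_rchk_538
  · exact t1690_rchk_539
  · exact t1690_rchk_540
  · exact t1690_rchk_541
  · exact t1690_rchk_542
  · exact t1690_rchk_543
  · exact t1690_rchk_544
  · exact t1690_rchk_545
  · exact t1690_rchk_546
  · exact t1690_rchk_547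
  · exact t1690_rchk_548
  · exact t1690_rchk_549
  · exact t1690_rchk_550
  · exact t1690_rchk_551
  · exact t1690_rchk_552
  · exact t1690_rchk_553
  · exact t1690_rchk_554
  · exact t1690_rchk_555
  · exact t1690_rchk_556
  · exact t1690_rchk_557
  · exact t1690_rchk_558
  · exact t1690_rchk_559

end Cfsg.Agent.H35
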