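import Cfsg.Agent.H35.T1690.RTab

set_option autoImplicit false
set_option linter.all false
set_option Elab.async false

namespace Cfsg.Agent.H35

theorem t1690_rchk_4800 : allR t1690_rf 352792 6 (4800 * 2 ^ 6) = true := by decide +kernel
theorem t1690_rchk_4801 : allR t1690_rf 352792 6 (4801 * 2 ^ 6) = true := by decide +kernel
theorem t1690_rchk_4802 : allR t1690_rf 352792 6 (4802 * 2 ^ 6) = true := by decide +kernel
theorem t1690_rchk_4803 : allR t1690_rf 352792 6 (4803 * 2 ^ 6) = true := by decide +kernel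
theorem t1690_rchk_4804 : allR t1690_rf 352792 6 (4804 * 2 ^ 6) = true := by decide +kernel
theorem t1690_rchk_4805 : allR t1690_rf 352792 6 (4805 * 2 ^ 6) = true := by decide +kernel
theorem t1690_rchk_4806 : allR t1690_rf 352792 6 (4806 * 2 ^ 6) = true := by decide +kernel
theorem t1690_rchk_4807 : allR t1690_rf 352792 6 (4807 * 2 ^ 6) = true := by decide +kernel
theorem t1690_rchk_4808 : allR t1690_rf 352792 6 (4808 * 2 ^ 6) = true := by decide +kernel
theorem t1690_rchk_4809 : allR t1690_rf 352792 6 (4809 * 2 ^ 6) = true := by decide +kernel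
theorem t1690_rchk_4810 : allR t1690_rf 352792 6 (4810 * 2 ^ 6) = true := by decide +kernel
theorem t1690_rchk_4811 : allR t1690_rf 352792 6 (4811 * 2 ^ 6) = true := by decide +kernel
theorem t1690_rchk_4812 : allR t1690_rf 352792 6 (4812 * 2 ^ 6) = true := by decide +kernel
theorem t1690_rchk_4813 : allR t1690_rf 352792 6 (4813 * 2 ^ 6) = true := by decide +kernel
theorem t1690_rchk_4814 : allR t1690_rf 352792 6 (4814 * 2 ^ 6) = true := by decide +kernel
theorem t1690_rchk_4815 : allR t1690_rf 352792 6 (4815 * 2 ^ 6) = true := by decide +kernel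
theorem t1690_rchk_4816 : allR t1690_rf 352792 6 (4816 * 2 ^ 6) = true := by decide +kernel
theorem t1690_rchk_4817 : allR t1690_rf 352792 6 (4817 * 2 ^ 6) = true := by decide +kernel
theorem t1690_rchk_4818 : allR t1690_rf 352792 6 (4818 * 2 ^ 6) = true := by decide +kernel
theorem t1690_rchk_4819 : allR t1690_rf 352792 6 (4819 * 2 ^ 6) = true := by decide +kernel
theorem t1690_rchk_4820 : allR t1690_rf 352792 6 (4820 * 2 ^ 6) = true := by decide +kernel
theorem t1690_rchk_4821 : allR t1690_rf 352792 6 (4821 * 2 ^ 6) = true := by decide +kernel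
theorem t1690_rchk_4822 : allR t1690_rf 352792 6 (4822 * 2 ^ 6) = true := by decide +kernel
theorem t1690_rchk_4823 : allR t1690_rf 352792 6 (4823 * 2 ^ 6) = true := by decide +kernel
theorem t1690_rchk_4824 : allR t1690_rf 352792 6 (4824 * 2 ^ 6) = true := by decide +kernel
theorem t1690_rchk_4825 : allR t1690_rf 352792 6 (4825 * 2 ^ 6) = true := by decide +kernel
theorem t1690_rchk_4826 : allR t1690_rf 352792 6 (4826 * 2 ^ 6) = true := by decide +kernel
theorem t1690_rchk_4827 : allR t1690_rf 352792 6 (4827 * 2 ^ 6) = true := by decide +kernel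
theorem t1690_rchk_4828 : allR t1690_rf 352792 6 (4828 * 2 ^ 6) = true := by decide +kernel
theorem t1690_rchk_4829 : allR t1690_rf 352792 6 (4829 * 2 ^ 6) = true := by decide +kernel
theorem t1690_rchk_4830 : allR t1690_rf 352792 6 (4830 * 2 ^ 6) = true := by decide +kernel
theorem t1690_rchk_4831 : allR t1690_rf 352792 6 (4831 * 2 ^ 6) = true := by decide +kernel
theorem t1690_rchk_4832 : allR t1690_rf 352792 6 (4832 * 2 ^ 6) = true := by decide +kernel
theorem t1690_rchk_4833 : allR t1690_rf 352792 6 (4833 * 2 ^ 6) = true := by decide +kernel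
theorem t1690_rchk_4834 : allR t1690_rf 352792 6 (4834 * 2 ^ 6) = true := by decide +kernel
theorem t1690_rchk_4835 : allR t1690_rf 352792 6 (4835 * 2 ^ 6) = true := by decide +kernel
theorem t1690_rchk_4836 : allR t1690_rf 352792 6 (4836 * 2 ^ 6) = true := by decide +kernel
theorem t1690_rchk_4837 : allR t1690_rf 352792 6 (4837 * 2 ^ 6) = true := by decide +kernel
theorem t1690_rchk_4838 : allR t1690_rf 352792 6 (4838 * 2 ^ 6) = true := by decide +kernel
theorem t1690_rchk_4839 : allR t1690_rf 352792 6 (4839 * 2 ^ 6) = true := by decide +kernel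
theorem t1690_rchk_4840 : allR t1690_rf 352792 6 (4840 * 2 ^ 6) = true := by decide +kernel
theorem t1690_rchk_4841 : allR t1690_rf 352792 6 (4841 * 2 ^ 6) = true := by decide +kernel
theorem t1690_rchk_4842 : allR t1690_rf 352792 6 (4842 * 2 ^ 6) = true := by decide +kernel
theorem t1690_rchk_4843 : allR t1690_rf 352792 6 (4843 * 2 ^ 6) = true := by decide +kernel
theorem t1690_rchk_4844 : allR t1690_rf 352792 6 (4844 * 2 ^ 6) = true := by decide +kernel
theorem t1690_rchk_4845 : allR t1690_rf 352792 6 (4845 * 2 ^ 6) = true := by decide +kernel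
theorem t1690_rchk_4846 : allR t1690_rf 352792 6 (4846 * 2 ^ 6) = true := by decide +kernel
theorem t1690_rchk_4847 : allR t1690_rf 352792 6 (4847 * 2 ^ 6) = true := by decide +kernel
theorem t1690_rchk_4848 : allR t1690_rf 352792 6 (4848 * 2 ^ 6) = true := by decide +kernel
theorem t1690_rchk_4849 : allR t1690_rf 352792 6 (4849 * 2 ^ 6) = true := by decide +kernel
theorem t1690_rchk_4850 : allR t1690_rf 352792 6 (4850 * 2 ^ 6) = true := by decide +kernel
theorem t1690_rchk_4851 : allR t1690_rf 352792 6 (4851 * 2 ^ 6) = true := by decide +kernel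
theorem t1690_rchk_4852 : allR t1690_rf 352792 6 (4852 * 2 ^ 6) = true := by decide +kernel
theorem t1690_rchk_4853 : allR t1690_rf 352792 6 (4853 * 2 ^ 6) = true := by decide +kernel
theorem t1690_rchk_4854 : allR t1690_rf 352792 6 (4854 * 2 ^ 6) = true := by decide +kernel
theorem t1690_rchk_4855 : allR t1690_rf 352792 6 (4855 * 2 ^ 6) = true := by decide +kernel
theorem t1690_rchk_4856 : allR t1690_rf 352792 6 (4856 * 2 ^ 6) = true := by decide +kernel
theorem t1690_rchk_4857 : allR t1690_rf 352792 6 (4857 * 2 ^ 6) = true := by decide +kernel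
theorem t1690_rchk_4858 : allR t1690_rf 352792 6 (4858 * 2 ^ 6) = true := by decide +kernel
theorem t1690_rchk_4859 : allR t1690_rf 352792 6 (4859 * 2 ^ 6) = true := by decide +kernel
theorem t1690_rchk_4860 : allR t1690_rf 352792 6 (4860 * 2 ^ 6) = true := by decide +kernel
theorem t1690_rchk_4861 : allR t1690_rf 352792 6 (4861 * 2 ^ 6) = true := by decide +kernel
theorem t1690_rchk_4862 : allR t1690_rf 352792 6 (4862 * 2 ^ 6) = true := by decide +kernel
theorem t1690_rchk_4863 : allR t1690_rf 352792 6 (4863 * 2 ^ 6) = true := by decide +kernel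
theorem t1690_rchk_4864 : allR t1690_rf 352792 6 (4864 * 2 ^ 6) = true := by decide +kernel
theorem t1690_rchk_4865 : allR t1690_rf 352792 6 (4865 * 2 ^ 6) = true := by decide +kernel
theorem t1690_rchk_4866 : allR t1690_rf 352792 6 (4866 * 2 ^ 6) = true := by decide +kernel
theorem t1690_rchk_4867 : allR t1690_rf 352792 6 (4867 * 2 ^ 6) = true := by decide +kernel
theorem t1690_rchk_4868 : allR t1690_rf 352792 6 (4868 * 2 ^ 6) = true := by decide +kernel
theorem t1690_rchk_4869 : allR t1690_rf 352792 6 (4869 * 2 ^ 6) = true := by decide +kernel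
theorem t1690_rchk_4870 : allR t1690_rf 352792 6 (4870 * 2 ^ 6) = true := by decide +kernel
theorem t1690_rchk_4871 : allR t1690_rf 352792 6 (4871 * 2 ^ 6) = true := by decide +kernel
theorem t1690_rchk_4872 : allR t1690_rf 352792 6 (4872 * 2 ^ 6) = true := by decide +kernel
theorem t1690_rchk_4873 : allR t1690_rf 352792 6 (4873 * 2 ^ 6) = true := by decide +kernel
theorem t1690_rchk_4874 : allR t1690_rf 352792 6 (4874 * 2 ^ 6) = true := by decide +kernel
theorem t1690_rchk_4875 : allR t1690_rf 352792 6 (4875 * 2 ^ 6) = true := by decide +kernel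
theorem t1690_rchk_4876 : allR t1690_rf 352792 6 (4876 * 2 ^ 6) = true := by decide +kernel
theorem t1690_rchk_4877 : allR t1690_rf 352792 6 (4877 * 2 ^ 6) = true := by decide +kernel
theorem t1690_rchk_4878 : allR t1690_rf 352792 6 (4878 * 2 ^ 6) = true := by decide +kernel
theorem t1690_rchk_4879 : allR t1690_rf 352792 6 (4879 * 2 ^ 6) = true := by decide +kernel

theorem t1690_rfile_60 : ∀ k, k < 4880 → 4800 ≤ k → allR t1690_rf 352792 6 (k * 2 ^ 6) = true := by
  intro k h1 h2
  interval_cases k
  · exact t1690_rchk_4800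
  · exact t1690_rchk_4801
  · exact t1690_rchk_4802
  · exact t1690_rchk_4803
  · exact t1690_rchk_4804
  · exact t1690_rchk_4805
  · exact t1690_rchk_4806
  · exact t1690_rchk_4807
  · exact t1690_rchk_4808
  · exact t1690_rchk_4809
  · exact t1690_rchk_4810
  · exact t1690_rchk_4811
  · exact t1690_rchk_4812
  · exact t1690_rchk_4813
  · exact t1690_rchk_4814
  · exact t1690_rchk_4815
  · exact t1690_rchk_4816
  · exact t1690_rchk_4817
  · exact t1690_rchk_4818
  · exact t1690_rchk_4819
  · exact t1690_rchk_4820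
  · exact t1690_rchk_4821
  · exact t1690_rchk_4822
  · exact t1690_rchk_4823
  · exact t1690_rchk_4824
  · exact t1690_rchk_4825
  · exact t1690_rchk_4826
  · exact t1690_rchk_4827
  · exact t1690_rchk_4828
  · exact t1690_rchk_4829
  · exact t1690_rchk_4830
  · exact t1690_rchk_4831
  · exact t1690_rchk_4832
  · exact t1690_rchk_4833
  · exact t1690_rchk_4834
  · exact t1690_rchk_4835
  · exact t1690_rchk_4836
  · exact t1690_rchk_4837
  · exact t1690_rchk_4838
  · exact t1690_rchk_4839
  · exact t1690_rchk_4840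
  · exact t1690_rchk_4841
  · exact t1690_rchk_4842
  · exact t1690_rchk_4843
  · exact t1690_rchk_4844
  · exact t1690_rchk_4845
  · exact t1690_rchk_4846
  · exact t1690_rchk_4847
  · exact t1690_rchk_4848
  · exact t1690_rchk_4849
  · exact t1690_rchk_4850
  · exact t1690_rchk_4851
  · exact t1690_rchk_4852
  · exact t1690_rchk_4853
  · exact t1690_rchk_4854
  · exact t1690_rchk_4855
  · exact t1690_rchk_4856
  · exact t1690_rchk_4857
  · exact t1690_rchk_4858
  · exact t1690_rchk_4859
  · exact t1690_rchk_4860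
  · exact t1690_rchk_4861
  · exact t1690_rchk_4862
  · exact t1690_rchk_4863
  · exact t1690_rchk_4864
  · exact t1690_rchk_4865
  · exact t1690_rchk_4866
  · exact t1690_rchk_4867
  · exact t1690_rchk_4868
  · exact t1690_rchk_4869
  · exact t1690_rchk_4870
  · exact t1690_rchk_4871
  · exact t1690_rchk_4872
  · exact t1690_rchk_4873
  · exact t1690_rchk_4874
  · exact t1690_rchk_4875
  · exact t1690_rchk_4876
  · exact t1690_rchk_4877
  · exact t1690_rchk_4878
  · exact t1690_rchk_4879

end Cfsg.Agent.H35
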