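import Cfsg.Agent.H35.T1690.RTab

set_option autoImplicit false
set_option linter.all false
set_option Elab.async false

namespace Cfsg.Agent.H35

theorem t1690_rchk_4880 : allR t1690_rf 352792 6 (4880 * 2 ^ 6) = true := by decide +kernel
theorem t1690_rchk_4881 : allR t1690_rf 352792 6 (4881 * 2 ^ 6) = true := by decide +kernel
theorem t1690_rchk_4882 : allR t1690_rf 352792 6 (4882 * 2 ^ 6) = true := by decide +kernel
theorem t1690_rchk_4883 : allR t1690_rf 352792 6 (4883 * 2 ^ 6) = true := by decide +kernel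
theorem t1690_rchk_4884 : allR t1690_rf 352792 6 (4884 * 2 ^ 6) = true := by decide +kernel
theorem t1690_rchk_4885 : allR t1690_rf 352792 6 (4885 * 2 ^ 6) = true := by decide +kernel
theorem t1690_rchk_4886 : allR t1690_rf 352792 6 (4886 * 2 ^ 6) = true := by decide +kernel
theorem t1690_rchk_4887 : allR t1690_rf 352792 6 (4887 * 2 ^ 6) = true := by decide +kernel
theorem t1690_rchk_4888 : allR t1690_rf 352792 6 (4888 * 2 ^ 6) = true := by decide +kernel
theorem t1690_rchk_4889 : allR t1690_rf 352792 6 (4889 * 2 ^ 6) = true := by decide +kernel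
theorem t1690_rchk_4890 : allR t1690_rf 352792 6 (4890 * 2 ^ 6) = true := by decide +kernel
theorem t1690_rchk_4891 : allR t1690_rf 352792 6 (4891 * 2 ^ 6) = true := by decide +kernel
theorem t1690_rchk_4892 : allR t1690_rf 352792 6 (4892 * 2 ^ 6) = true := by decide +kernel
theorem t1690_rchk_4893 : allR t1690_rf 352792 6 (4893 * 2 ^ 6) = true := by decide +kernel
theorem t1690_rchk_4894 : allR t1690_rf 352792 6 (4894 * 2 ^ 6) = true := by decide +kernel
theorem t1690_rchk_4895 : allR t1690_rf 352792 6 (4895 * 2 ^ 6) = true := by decide +kernel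
theorem t1690_rchk_4896 : allR t1690_rf 352792 6 (4896 * 2 ^ 6) = true := by decide +kernel
theorem t1690_rchk_4897 : allR t1690_rf 352792 6 (4897 * 2 ^ 6) = true := by decide +kernel
theorem t1690_rchk_4898 : allR t1690_rf 352792 6 (4898 * 2 ^ 6) = true := by decide +kernel
theorem t1690_rchk_4899 : allR t1690_rf 352792 6 (4899 * 2 ^ 6) = true := by decide +kernel
theorem t1690_rchk_4900 : allR t1690_rf 352792 6 (4900 * 2 ^ 6) = true := by decide +kernel
theorem t1690_rchk_4901 : allR t1690_rf 352792 6 (4901 * 2 ^ 6) = true := by decide +kernel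
theorem t1690_rchk_4902 : allR t1690_rf 352792 6 (4902 * 2 ^ 6) = true := by decide +kernel
theorem t1690_rchk_4903 : allR t1690_rf 352792 6 (4903 * 2 ^ 6) = true := by decide +kernel
theorem t1690_rchk_4904 : allR t1690_rf 352792 6 (4904 * 2 ^ 6) = true := by decide +kernel
theorem t1690_rchk_4905 : allR t1690_rf 352792 6 (4905 * 2 ^ 6) = true := by decide +kernel
theorem t1690_rchk_4906 : allR t1690_rf 352792 6 (4906 * 2 ^ 6) = true := by decide +kernel
theorem t1690_rchk_4907 : allR t1690_rf 352792 6 (4907 * 2 ^ 6) = true := by decide +kernel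
theorem t1690_rchk_4908 : allR t1690_rf 352792 6 (4908 * 2 ^ 6) = true := by decide +kernel
theorem t1690_rchk_4909 : allR t1690_rf 352792 6 (4909 * 2 ^ 6) = true := by decide +kernel
theorem t1690_rchk_4910 : allR t1690_rf 352792 6 (4910 * 2 ^ 6) = true := by decide +kernel
theorem t1690_rchk_4911 : allR t1690_rf 352792 6 (4911 * 2 ^ 6) = true := by decide +kernel
theorem t1690_rchk_4912 : allR t1690_rf 352792 6 (4912 * 2 ^ 6) = true := by decide +kernel
theorem t1690_rchk_4913 : allR t1690_rf 352792 6 (4913 * 2 ^ 6) = true := by decide +kernel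
theorem t1690_rchk_4914 : allR t1690_rf 352792 6 (4914 * 2 ^ 6) = true := by decide +kernel
theorem t1690_rchk_4915 : allR t1690_rf 352792 6 (4915 * 2 ^ 6) = true := by decide +kernel
theorem t1690_rchk_4916 : allR t1690_rf 352792 6 (4916 * 2 ^ 6) = true := by decide +kernel
theorem t1690_rchk_4917 : allR t1690_rf 352792 6 (4917 * 2 ^ 6) = true := by decide +kernel
theorem t1690_rchk_4918 : allR t1690_rf 352792 6 (4918 * 2 ^ 6) = true := by decide +kernel
theorem t1690_rchk_4919 : allR t1690_rf 352792 6 (4919 * 2 ^ 6) = true := by decide +kernel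
theorem t1690_rchk_4920 : allR t1690_rf 352792 6 (4920 * 2 ^ 6) = true := by decide +kernel
theorem t1690_rchk_4921 : allR t1690_rf 352792 6 (4921 * 2 ^ 6) = true := by decide +kernel
theorem t1690_rchk_4922 : allR t1690_rf 352792 6 (4922 * 2 ^ 6) = true := by decide +kernel
theorem t1690_rchk_4923 : allR t1690_rf 352792 6 (4923 * 2 ^ 6) = true := by decide +kernel
theorem t1690_rchk_4924 : allR t1690_rf 352792 6 (4924 * 2 ^ 6) = true := by decide +kernel
theorem t1690_rchk_4925 : allR t1690_rf 352792 6 (4925 * 2 ^ 6) = true := by decide +kernel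
theorem t1690_rchk_4926 : allR t1690_rf 352792 6 (4926 * 2 ^ 6) = true := by decide +kernel
theorem t1690_rchk_4927 : allR t1690_rf 352792 6 (4927 * 2 ^ 6) = true := by decide +kernel
theorem t1690_rchk_4928 : allR t1690_rf 352792 6 (4928 * 2 ^ 6) = true := by decide +kernel
theorem t1690_rchk_4929 : allR t1690_rf 352792 6 (4929 * 2 ^ 6) = true := by decide +kernel
theorem t1690_rchk_4930 : allR t1690_rf 352792 6 (4930 * 2 ^ 6) = true := by decide +kernel
theorem t1690_rchk_4931 : allR t1690_rf 352792 6 (4931 * 2 ^ 6) = true := by decide +kernel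
theorem t1690_rchk_4932 : allR t1690_rf 352792 6 (4932 * 2 ^ 6) = true := by decide +kernel
theorem t1690_rchk_4933 : allR t1690_rf 352792 6 (4933 * 2 ^ 6) = true := by decide +kernel
theorem t1690_rchk_4934 : allR t1690_rf 352792 6 (4934 * 2 ^ 6) = true := by decide +kernel
theorem t1690_rchk_4935 : allR t1690_rf 352792 6 (4935 * 2 ^ 6) = true := by decide +kernel
theorem t1690_rchk_4936 : allR t1690_rf 352792 6 (4936 * 2 ^ 6) = true := by decide +kernel
theorem t1690_rchk_4937 : allR t1690_rf 352792 6 (4937 * 2 ^ 6) = true := by decide +kernel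
theorem t1690_rchk_4938 : allR t1690_rf 352792 6 (4938 * 2 ^ 6) = true := by decide +kernel
theorem t1690_rchk_4939 : allR t1690_rf 352792 6 (4939 * 2 ^ 6) = true := by decide +kernel
theorem t1690_rchk_4940 : allR t1690_rf 352792 6 (4940 * 2 ^ 6) = true := by decide +kernel
theorem t1690_rchk_4941 : allR t1690_rf 352792 6 (4941 * 2 ^ 6) = true := by decide +kernel
theorem t1690_rchk_4942 : allR t1690_rf 352792 6 (4942 * 2 ^ 6) = true := by decide +kernel
theorem t1690_rchk_4943 : allR t1690_rf 352792 6 (4943 * 2 ^ 6) = true := by decide +kernel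
theorem t1690_rchk_4944 : allR t1690_rf 352792 6 (4944 * 2 ^ 6) = true := by decide +kernel
theorem t1690_rchk_4945 : allR t1690_rf 352792 6 (4945 * 2 ^ 6) = true := by decide +kernel
theorem t1690_rchk_4946 : allR t1690_rf 352792 6 (4946 * 2 ^ 6) = true := by decide +kernel
theorem t1690_rchk_4947 : allR t1690_rf 352792 6 (4947 * 2 ^ 6) = true := by decide +kernel
theorem t1690_rchk_4948 : allR t1690_rf 352792 6 (4948 * 2 ^ 6) = true := by decide +kernel
theorem t1690_rchk_4949 : allR t1690_rf 352792 6 (4949 * 2 ^ 6) = true := by decide +kernel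
theorem t1690_rchk_4950 : allR t1690_rf 352792 6 (4950 * 2 ^ 6) = true := by decide +kernel
theorem t1690_rchk_4951 : allR t1690_rf 352792 6 (4951 * 2 ^ 6) = true := by decide +kernel
theorem t1690_rchk_4952 : allR t1690_rf 352792 6 (4952 * 2 ^ 6) = true := by decide +kernel
theorem t1690_rchk_4953 : allR t1690_rf 352792 6 (4953 * 2 ^ 6) = true := by decide +kernel
theorem t1690_rchk_4954 : allR t1690_rf 352792 6 (4954 * 2 ^ 6) = true := by decide +kernel
theorem t1690_rchk_4955 : allR t1690_rf 352792 6 (4955 * 2 ^ 6) = true := by decide +kernel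
theorem t1690_rchk_4956 : allR t1690_rf 352792 6 (4956 * 2 ^ 6) = true := by decide +kernel
theorem t1690_rchk_4957 : allR t1690_rf 352792 6 (4957 * 2 ^ 6) = true := by decide +kernel
theorem t1690_rchk_4958 : allR t1690_rf 352792 6 (4958 * 2 ^ 6) = true := by decide +kernel
theorem t1690_rchk_4959 : allR t1690_rf 352792 6 (4959 * 2 ^ 6) = true := by decide +kernel

theorem t1690_rfile_61 : ∀ k, k < 4960 → 4880 ≤ k → allR t1690_rf 352792 6 (k * 2 ^ 6) = true := by
  intro k h1 h2
  interval_cases k
  · exact t1690_rchk_4880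
  · exact t1690_rchk_4881
  · exact t1690_rchk_4882
  · exact t1690_rchk_4883
  · exact t1690_rchk_4884
  · exact t1690_rchk_4885
  · exact t1690_rchk_4886
  · exact t1690_rchk_4887
  · exact t1690_rchk_4888
  · exact t1690_rchk_4889
  · exact t1690_rchk_4890
  · exact t1690_rchk_4891
  · exact t1690_rchk_4892
  · exact t1690_rchk_4893
  · exact t1690_rchk_4894
  · exact t1690_rchk_4895
  · exact t1690_rchk_4896
  · exact t1690_rchk_4897
  · exact t1690_rchk_4898
  · exact t1690_rchk_4899
  · exact t1690_rchk_4900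
  · exact t1690_rchk_4901
  · exact t1690_rchk_4902
  · exact t1690_rchk_4903
  · exact t1690_rchk_4904
  · exact t1690_rchk_4905
  · exact t1690_rchk_4906
  · exact t1690_rchk_4907
  · exact t1690_rchk_4908
  · exact t1690_rchk_4909
  · exact t1690_rchk_4910
  · exact t1690_rchk_4911
  · exact t1690_rchk_4912
  · exact t1690_rchk_4913
  · exact t1690_rchk_4914
  · exact t1690_rchk_4915
  · exact t1690_rchk_4916
  · exact t1690_rchk_4917
  · exact t1690_rchk_4918
  · exact t1690_rchk_4919
  · exact t1690_rchk_4920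
  · exact t1690_rchk_4921
  · exact t1690_rchk_4922
  · exact t1690_rchk_4923
  · exact t1690_rchk_4924
  · exact t1690_rchk_4925
  · exact t1690_rchk_4926
  · exact t1690_rchk_4927
  · exact t1690_rchk_4928
  · exact t1690_rchk_4929
  · exact t1690_rchk_4930
  · exact t1690_rchk_4931
  · exact t1690_rchk_4932
  · exact t1690_rchk_4933
  · exact t1690_rchk_4934
  · exact t1690_rchk_4935
  · exact t1690_rchk_4936
  · exact t1690_rchk_4937
  · exact t1690_rchk_4938
  · exact t1690_rchk_4939
  · exact t1690_rchk_4940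
  · exact t1690_rchk_4941
  · exact t1690_rchk_4942
  · exact t1690_rchk_4943
  · exact t1690_rchk_4944
  · exact t1690_rchk_4945
  · exact t1690_rchk_4946
  · exact t1690_rchk_4947
  · exact t1690_rchk_4948
  · exact t1690_rchk_4949
  · exact t1690_rchk_4950
  · exact t1690_rchk_4951
  · exact t1690_rchk_4952
  · exact t1690_rchk_4953
  · exact t1690_rchk_4954
  · exact t1690_rchk_4955
  · exact t1690_rchk_4956
  · exact t1690_rchk_4957
  · exact t1690_rchk_4958
  · exact t1690_rchk_4959

end Cfsg.Agent.H35
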