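import Cfsg.Agent.H35.T1690.RTab

set_option autoImplicit false
set_option linter.all false
set_option Elab.async false

namespace Cfsg.Agent.H35

theorem t1690_rchk_4960 : allR t1690_rf 352792 6 (4960 * 2 ^ 6) = true := by decide +kernel
theorem t1690_rchk_4961 : allR t1690_rf 352792 6 (4961 * 2 ^ 6) = true := by decide +kernel
theorem t1690_rchk_4962 : allR t1690_rf 352792 6 (4962 * 2 ^ 6) = true := by decide +kernel
theorem t1690_rchk_4963 : allR t1690_rf 352792 6 (4963 * 2 ^ 6) = true := by decide +kernel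
theorem t1690_rchk_4964 : allR t1690_rf 352792 6 (4964 * 2 ^ 6) = true := by decide +kernel
theorem t1690_rchk_4965 : allR t1690_rf 352792 6 (4965 * 2 ^ 6) = true := by decide +kernel
theorem t1690_rchk_4966 : allR t1690_rf 352792 6 (4966 * 2 ^ 6) = true := by decide +kernel
theorem t1690_rchk_4967 : allR t1690_rf 352792 6 (4967 * 2 ^ 6) = true := by decide +kernel
theorem t1690_rchk_4968 : allR t1690_rf 352792 6 (4968 * 2 ^ 6) = true := by decide +kernel
theorem t1690_rchk_4969 : allR t1690_rf 352792 6 (4969 * 2 ^ 6) = true := by decide +kernel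
theorem t1690_rchk_4970 : allR t1690_rf 352792 6 (4970 * 2 ^ 6) = true := by decide +kernel
theorem t1690_rchk_4971 : allR t1690_rf 352792 6 (4971 * 2 ^ 6) = true := by decide +kernel
theorem t1690_rchk_4972 : allR t1690_rf 352792 6 (4972 * 2 ^ 6) = true := by decide +kernel
theorem t1690_rchk_4973 : allR t1690_rf 352792 6 (4973 * 2 ^ 6) = true := by decide +kernel
theorem t1690_rchk_4974 : allR t1690_rf 352792 6 (4974 * 2 ^ 6) = true := by decide +kernel
theorem t1690_rchk_4975 : allR t1690_rf 352792 6 (4975 * 2 ^ 6) = true := by decide +kernel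
theorem t1690_rchk_4976 : allR t1690_rf 352792 6 (4976 * 2 ^ 6) = true := by decide +kernel
theorem t1690_rchk_4977 : allR t1690_rf 352792 6 (4977 * 2 ^ 6) = true := by decide +kernel
theorem t1690_rchk_4978 : allR t1690_rf 352792 6 (4978 * 2 ^ 6) = true := by decide +kernel
theorem t1690_rchk_4979 : allR t1690_rf 352792 6 (4979 * 2 ^ 6) = true := by decide +kernel
theorem t1690_rchk_4980 : allR t1690_rf 352792 6 (4980 * 2 ^ 6) = true := by decide +kernel
theorem t1690_rchk_4981 : allR t1690_rf 352792 6 (4981 * 2 ^ 6) = true := by decide +kernel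
theorem t1690_rchk_4982 : allR t1690_rf 352792 6 (4982 * 2 ^ 6) = true := by decide +kernel
theorem t1690_rchk_4983 : allR t1690_rf 352792 6 (4983 * 2 ^ 6) = true := by decide +kernel
theorem t1690_rchk_4984 : allR t1690_rf 352792 6 (4984 * 2 ^ 6) = true := by decide +kernel
theorem t1690_rchk_4985 : allR t1690_rf 352792 6 (4985 * 2 ^ 6) = true := by decide +kernel
theorem t1690_rchk_4986 : allR t1690_rf 352792 6 (4986 * 2 ^ 6) = true := by decide +kernel
theorem t1690_rchk_4987 : allR t1690_rf 352792 6 (4987 * 2 ^ 6) = true := by decide +kernel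
theorem t1690_rchk_4988 : allR t1690_rf 352792 6 (4988 * 2 ^ 6) = true := by decide +kernel
theorem t1690_rchk_4989 : allR t1690_rf 352792 6 (4989 * 2 ^ 6) = true := by decide +kernel
theorem t1690_rchk_4990 : allR t1690_rf 352792 6 (4990 * 2 ^ 6) = true := by decide +kernel
theorem t1690_rchk_4991 : allR t1690_rf 352792 6 (4991 * 2 ^ 6) = true := by decide +kernel
theorem t1690_rchk_4992 : allR t1690_rf 352792 6 (4992 * 2 ^ 6) = true := by decide +kernel
theorem t1690_rchk_4993 : allR t1690_rf 352792 6 (4993 * 2 ^ 6) = true := by decide +kernel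
theorem t1690_rchk_4994 : allR t1690_rf 352792 6 (4994 * 2 ^ 6) = true := by decide +kernel
theorem t1690_rchk_4995 : allR t1690_rf 352792 6 (4995 * 2 ^ 6) = true := by decide +kernel
theorem t1690_rchk_4996 : allR t1690_rf 352792 6 (4996 * 2 ^ 6) = true := by decide +kernel
theorem t1690_rchk_4997 : allR t1690_rf 352792 6 (4997 * 2 ^ 6) = true := by decide +kernel
theorem t1690_rchk_4998 : allR t1690_rf 352792 6 (4998 * 2 ^ 6) = true := by decide +kernel
theorem t1690_rchk_4999 : allR t1690_rf 352792 6 (4999 * 2 ^ 6) = true := by decide +kernel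
theorem t1690_rchk_5000 : allR t1690_rf 352792 6 (5000 * 2 ^ 6) = true := by decide +kernel
theorem t1690_rchk_5001 : allR t1690_rf 352792 6 (5001 * 2 ^ 6) = true := by decide +kernel
theorem t1690_rchk_5002 : allR t1690_rf 352792 6 (5002 * 2 ^ 6) = true := by decide +kernel
theorem t1690_rchk_5003 : allR t1690_rf 352792 6 (5003 * 2 ^ 6) = true := by decide +kernel
theorem t1690_rchk_5004 : allR t1690_rf 352792 6 (5004 * 2 ^ 6) = true := by decide +kernel
theorem t1690_rchk_5005 : allR t1690_rf 352792 6 (5005 * 2 ^ 6) = true := by decide +kernel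
theorem t1690_rchk_5006 : allR t1690_rf 352792 6 (5006 * 2 ^ 6) = true := by decide +kernel
theorem t1690_rchk_5007 : allR t1690_rf 352792 6 (5007 * 2 ^ 6) = true := by decide +kernel
theorem t1690_rchk_5008 : allR t1690_rf 352792 6 (5008 * 2 ^ 6) = true := by decide +kernel
theorem t1690_rchk_5009 : allR t1690_rf 352792 6 (5009 * 2 ^ 6) = true := by decide +kernel
theorem t1690_rchk_5010 : allR t1690_rf 352792 6 (5010 * 2 ^ 6) = true := by decide +kernel
theorem t1690_rchk_5011 : allR t1690_rf 352792 6 (5011 * 2 ^ 6) = true := by decide +kernel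
theorem t1690_rchk_5012 : allR t1690_rf 352792 6 (5012 * 2 ^ 6) = true := by decide +kernel
theorem t1690_rchk_5013 : allR t1690_rf 352792 6 (5013 * 2 ^ 6) = true := by decide +kernel
theorem t1690_rchk_5014 : allR t1690_rf 352792 6 (5014 * 2 ^ 6) = true := by decide +kernel
theorem t1690_rchk_5015 : allR t1690_rf 352792 6 (5015 * 2 ^ 6) = true := by decide +kernel
theorem t1690_rchk_5016 : allR t1690_rf 352792 6 (5016 * 2 ^ 6) = true := by decide +kernel
theorem t1690_rchk_5017 : allR t1690_rf 352792 6 (5017 * 2 ^ 6) = true := by decide +kernel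
theorem t1690_rchk_5018 : allR t1690_rf 352792 6 (5018 * 2 ^ 6) = true := by decide +kernel
theorem t1690_rchk_5019 : allR t1690_rf 352792 6 (5019 * 2 ^ 6) = true := by decide +kernel
theorem t1690_rchk_5020 : allR t1690_rf 352792 6 (5020 * 2 ^ 6) = true := by decide +kernel
theorem t1690_rchk_5021 : allR t1690_rf 352792 6 (5021 * 2 ^ 6) = true := by decide +kernel
theorem t1690_rchk_5022 : allR t1690_rf 352792 6 (5022 * 2 ^ 6) = true := by decide +kernel
theorem t1690_rchk_5023 : allR t1690_rf 352792 6 (5023 * 2 ^ 6) = true := by decide +kernel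
theorem t1690_rchk_5024 : allR t1690_rf 352792 6 (5024 * 2 ^ 6) = true := by decide +kernel
theorem t1690_rchk_5025 : allR t1690_rf 352792 6 (5025 * 2 ^ 6) = true := by decide +kernel
theorem t1690_rchk_5026 : allR t1690_rf 352792 6 (5026 * 2 ^ 6) = true := by decide +kernel
theorem t1690_rchk_5027 : allR t1690_rf 352792 6 (5027 * 2 ^ 6) = true := by decide +kernel
theorem t1690_rchk_5028 : allR t1690_rf 352792 6 (5028 * 2 ^ 6) = true := by decide +kernel
theorem t1690_rchk_5029 : allR t1690_rf 352792 6 (5029 * 2 ^ 6) = true := by decide +kernel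
theorem t1690_rchk_5030 : allR t1690_rf 352792 6 (5030 * 2 ^ 6) = true := by decide +kernel
theorem t1690_rchk_5031 : allR t1690_rf 352792 6 (5031 * 2 ^ 6) = true := by decide +kernel
theorem t1690_rchk_5032 : allR t1690_rf 352792 6 (5032 * 2 ^ 6) = true := by decide +kernel
theorem t1690_rchk_5033 : allR t1690_rf 352792 6 (5033 * 2 ^ 6) = true := by decide +kernel
theorem t1690_rchk_5034 : allR t1690_rf 352792 6 (5034 * 2 ^ 6) = true := by decide +kernel
theorem t1690_rchk_5035 : allR t1690_rf 352792 6 (5035 * 2 ^ 6) = true := by decide +kernel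
theorem t1690_rchk_5036 : allR t1690_rf 352792 6 (5036 * 2 ^ 6) = true := by decide +kernel
theorem t1690_rchk_5037 : allR t1690_rf 352792 6 (5037 * 2 ^ 6) = true := by decide +kernel
theorem t1690_rchk_5038 : allR t1690_rf 352792 6 (5038 * 2 ^ 6) = true := by decide +kernel
theorem t1690_rchk_5039 : allR t1690_rf 352792 6 (5039 * 2 ^ 6) = true := by decide +kernel

theorem t1690_rfile_62 : ∀ k, k < 5040 → 4960 ≤ k → allR t1690_rf 352792 6 (k * 2 ^ 6) = true := by
  intro k h1 h2
  interval_cases k
  · exact t1690_rchk_4960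
  · exact t1690_rchk_4961
  · exact t1690_rchk_4962
  · exact t1690_rchk_4963
  · exact t1690_rchk_4964
  · exact t1690_rchk_4965
  · exact t1690_rchk_4966
  · exact t1690_rchk_4967
  · exact t1690_rchk_4968
  · exact t1690_rchk_4969
  · exact t1690_rchk_4970
  · exact t1690_rchk_4971
  · exact t1690_rchk_4972
  · exact t1690_rchk_4973
  · exact t1690_rchk_4974
  · exact t1690_rchk_4975
  · exact t1690_rchk_4976
  · exact t1690_rchk_4977
  · exact t1690_rchk_4978
  · exact t1690_rchk_4979
  · exact t1690_rchk_4980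
  · exact t1690_rchk_4981
  · exact t1690_rchk_4982
  · exact t1690_rchk_4983
  · exact t1690_rchk_4984
  · exact t1690_rchk_4985
  · exact t1690_rchk_4986
  · exact t1690_rchk_4987
  · exact t1690_rchk_4988
  · exact t1690_rchk_4989
  · exact t1690_rchk_4990
  · exact t1690_rchk_4991
  · exact t1690_rchk_4992
  · exact t1690_rchk_4993
  · exact t1690_rchk_4994
  · exact t1690_rchk_4995
  · exact t1690_rchk_4996
  · exact t1690_rchk_4997
  · exact t1690_rchk_4998
  · exact t1690_rchk_4999
  · exact t1690_rchk_5000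
  · exact t1690_rchk_5001
  · exact t1690_rchk_5002
  · exact t1690_rchk_5003
  · exact t1690_rchk_5004
  · exact t1690_rchk_5005
  · exact t1690_rchk_5006
  · exact t1690_rchk_5007
  · exact t1690_rchk_5008
  · exact t1690_rchk_5009
  · exact t1690_rchk_5010
  · exact t1690_rchk_5011
  · exact t1690_rchk_5012
  · exact t1690_rchk_5013
  · exact t1690_rchk_5014
  · exact t1690_rchk_5015
  · exact t1690_rchk_5016
  · exact t1690_rchk_5017
  · exact t1690_rchk_5018
  · exact t1690_rchk_5019
  · exact t1690_rchk_5020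
  · exact t1690_rchk_5021
  · exact t1690_rchk_5022
  · exact t1690_rchk_5023
  · exact t1690_rchk_5024
  · exact t1690_rchk_5025
  · exact t1690_rchk_5026
  · exact t1690_rchk_5027
  · exact t1690_rchk_5028
  · exact t1690_rchk_5029
  · exact t1690_rchk_5030
  · exact t1690_rchk_5031
  · exact t1690_rchk_5032
  · exact t1690_rchk_5033
  · exact t1690_rchk_5034
  · exact t1690_rchk_5035
  · exact t1690_rchk_5036
  · exact t1690_rchk_5037
  · exact t1690_rchk_5038
  · exact t1690_rchk_5039

end Cfsg.Agent.H35
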