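import Cfsg.Agent.H35.T1690.RTab

set_option autoImplicit false
set_option linter.all false
set_option Elab.async false

namespace Cfsg.Agent.H35

theorem t1690_rchk_5040 : allR t1690_rf 352792 6 (5040 * 2 ^ 6) = true := by decide +kernel
theorem t1690_rchk_5041 : allR t1690_rf 352792 6 (5041 * 2 ^ 6) = true := by decide +kernel
theorem t1690_rchk_5042 : allR t1690_rf 352792 6 (5042 * 2 ^ 6) = true := by decide +kernel
theorem t1690_rchk_5043 : allR t1690_rf 352792 6 (5043 * 2 ^ 6) = true := by decide +kernel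
theorem t1690_rchk_5044 : allR t1690_rf 352792 6 (5044 * 2 ^ 6) = true := by decide +kernel
theorem t1690_rchk_5045 : allR t1690_rf 352792 6 (5045 * 2 ^ 6) = true := by decide +kernel
theorem t1690_rchk_5046 : allR t1690_rf 352792 6 (5046 * 2 ^ 6) = true := by decide +kernel
theorem t1690_rchk_5047 : allR t1690_rf 352792 6 (5047 * 2 ^ 6) = true := by decide +kernel
theorem t1690_rchk_5048 : allR t1690_rf 352792 6 (5048 * 2 ^ 6) = true := by decide +kernel
theorem t1690_rchk_5049 : allR t1690_rf 352792 6 (5049 * 2 ^ 6) = true := by decide +kernel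
theorem t1690_rchk_5050 : allR t1690_rf 352792 6 (5050 * 2 ^ 6) = true := by decide +kernel
theorem t1690_rchk_5051 : allR t1690_rf 352792 6 (5051 * 2 ^ 6) = true := by decide +kernel
theorem t1690_rchk_5052 : allR t1690_rf 352792 6 (5052 * 2 ^ 6) = true := by decide +kernel
theorem t1690_rchk_5053 : allR t1690_rf 352792 6 (5053 * 2 ^ 6) = true := by decide +kernel
theorem t1690_rchk_5054 : allR t1690_rf 352792 6 (5054 * 2 ^ 6) = true := by decide +kernel
theorem t1690_rchk_5055 : allR t1690_rf 352792 6 (5055 * 2 ^ 6) = true := by decide +kernel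
theorem t1690_rchk_5056 : allR t1690_rf 352792 6 (5056 * 2 ^ 6) = true := by decide +kernel
theorem t1690_rchk_5057 : allR t1690_rf 352792 6 (5057 * 2 ^ 6) = true := by decide +kernel
theorem t1690_rchk_5058 : allR t1690_rf 352792 6 (5058 * 2 ^ 6) = true := by decide +kernel
theorem t1690_rchk_5059 : allR t1690_rf 352792 6 (5059 * 2 ^ 6) = true := by decide +kernel
theorem t1690_rchk_5060 : allR t1690_rf 352792 6 (5060 * 2 ^ 6) = true := by decide +kernel
theorem t1690_rchk_5061 : allR t1690_rf 352792 6 (5061 * 2 ^ 6) = true := by decide +kernel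
theorem t1690_rchk_5062 : allR t1690_rf 352792 6 (5062 * 2 ^ 6) = true := by decide +kernel
theorem t1690_rchk_5063 : allR t1690_rf 352792 6 (5063 * 2 ^ 6) = true := by decide +kernel
theorem t1690_rchk_5064 : allR t1690_rf 352792 6 (5064 * 2 ^ 6) = true := by decide +kernel
theorem t1690_rchk_5065 : allR t1690_rf 352792 6 (5065 * 2 ^ 6) = true := by decide +kernel
theorem t1690_rchk_5066 : allR t1690_rf 352792 6 (5066 * 2 ^ 6) = true := by decide +kernel
theorem t1690_rchk_5067 : allR t1690_rf 352792 6 (5067 * 2 ^ 6) = true := by decide +kernel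
theorem t1690_rchk_5068 : allR t1690_rf 352792 6 (5068 * 2 ^ 6) = true := by decide +kernel
theorem t1690_rchk_5069 : allR t1690_rf 352792 6 (5069 * 2 ^ 6) = true := by decide +kernel
theorem t1690_rchk_5070 : allR t1690_rf 352792 6 (5070 * 2 ^ 6) = true := by decide +kernel
theorem t1690_rchk_5071 : allR t1690_rf 352792 6 (5071 * 2 ^ 6) = true := by decide +kernel
theorem t1690_rchk_5072 : allR t1690_rf 352792 6 (5072 * 2 ^ 6) = true := by decide +kernel
theorem t1690_rchk_5073 : allR t1690_rf 352792 6 (5073 * 2 ^ 6) = true := by decide +kernel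
theorem t1690_rchk_5074 : allR t1690_rf 352792 6 (5074 * 2 ^ 6) = true := by decide +kernel
theorem t1690_rchk_5075 : allR t1690_rf 352792 6 (5075 * 2 ^ 6) = true := by decide +kernel
theorem t1690_rchk_5076 : allR t1690_rf 352792 6 (5076 * 2 ^ 6) = true := by decide +kernel
theorem t1690_rchk_5077 : allR t1690_rf 352792 6 (5077 * 2 ^ 6) = true := by decide +kernel
theorem t1690_rchk_5078 : allR t1690_rf 352792 6 (5078 * 2 ^ 6) = true := by decide +kernel
theorem t1690_rchk_5079 : allR t1690_rf 352792 6 (5079 * 2 ^ 6) = true := by decide +kernel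
theorem t1690_rchk_5080 : allR t1690_rf 352792 6 (5080 * 2 ^ 6) = true := by decide +kernel
theorem t1690_rchk_5081 : allR t1690_rf 352792 6 (5081 * 2 ^ 6) = true := by decide +kernel
theorem t1690_rchk_5082 : allR t1690_rf 352792 6 (5082 * 2 ^ 6) = true := by decide +kernel
theorem t1690_rchk_5083 : allR t1690_rf 352792 6 (5083 * 2 ^ 6) = true := by decide +kernel
theorem t1690_rchk_5084 : allR t1690_rf 352792 6 (5084 * 2 ^ 6) = true := by decide +kernel
theorem t1690_rchk_5085 : allR t1690_rf 352792 6 (5085 * 2 ^ 6) = true := by decide +kernel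
theorem t1690_rchk_5086 : allR t1690_rf 352792 6 (5086 * 2 ^ 6) = true := by decide +kernel
theorem t1690_rchk_5087 : allR t1690_rf 352792 6 (5087 * 2 ^ 6) = true := by decide +kernel
theorem t1690_rchk_5088 : allR t1690_rf 352792 6 (5088 * 2 ^ 6) = true := by decide +kernel
theorem t1690_rchk_5089 : allR t1690_rf 352792 6 (5089 * 2 ^ 6) = true := by decide +kernel
theorem t1690_rchk_5090 : allR t1690_rf 352792 6 (5090 * 2 ^ 6) = true := by decide +kernel
theorem t1690_rchk_5091 : allR t1690_rf 352792 6 (5091 * 2 ^ 6) = true := by decide +kernel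
theorem t1690_rchk_5092 : allR t1690_rf 352792 6 (5092 * 2 ^ 6) = true := by decide +kernel
theorem t1690_rchk_5093 : allR t1690_rf 352792 6 (5093 * 2 ^ 6) = true := by decide +kernel
theorem t1690_rchk_5094 : allR t1690_rf 352792 6 (5094 * 2 ^ 6) = true := by decide +kernel
theorem t1690_rchk_5095 : allR t1690_rf 352792 6 (5095 * 2 ^ 6) = true := by decide +kernel
theorem t1690_rchk_5096 : allR t1690_rf 352792 6 (5096 * 2 ^ 6) = true := by decide +kernel
theorem t1690_rchk_5097 : allR t1690_rf 352792 6 (5097 * 2 ^ 6) = true := by decide +kernel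
theorem t1690_rchk_5098 : allR t1690_rf 352792 6 (5098 * 2 ^ 6) = true := by decide +kernel
theorem t1690_rchk_5099 : allR t1690_rf 352792 6 (5099 * 2 ^ 6) = true := by decide +kernel
theorem t1690_rchk_5100 : allR t1690_rf 352792 6 (5100 * 2 ^ 6) = true := by decide +kernel
theorem t1690_rchk_5101 : allR t1690_rf 352792 6 (5101 * 2 ^ 6) = true := by decide +kernel
theorem t1690_rchk_5102 : allR t1690_rf 352792 6 (5102 * 2 ^ 6) = true := by decide +kernel
theorem t1690_rchk_5103 : allR t1690_rf 352792 6 (5103 * 2 ^ 6) = true := by decide +kernel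
theorem t1690_rchk_5104 : allR t1690_rf 352792 6 (5104 * 2 ^ 6) = true := by decide +kernel
theorem t1690_rchk_5105 : allR t1690_rf 352792 6 (5105 * 2 ^ 6) = true := by decide +kernel
theorem t1690_rchk_5106 : allR t1690_rf 352792 6 (5106 * 2 ^ 6) = true := by decide +kernel
theorem t1690_rchk_5107 : allR t1690_rf 352792 6 (5107 * 2 ^ 6) = true := by decide +kernel
theorem t1690_rchk_5108 : allR t1690_rf 352792 6 (5108 * 2 ^ 6) = true := by decide +kernel
theorem t1690_rchk_5109 : allR t1690_rf 352792 6 (5109 * 2 ^ 6) = true := by decide +kernel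
theorem t1690_rchk_5110 : allR t1690_rf 352792 6 (5110 * 2 ^ 6) = true := by decide +kernel
theorem t1690_rchk_5111 : allR t1690_rf 352792 6 (5111 * 2 ^ 6) = true := by decide +kernel
theorem t1690_rchk_5112 : allR t1690_rf 352792 6 (5112 * 2 ^ 6) = true := by decide +kernel
theorem t1690_rchk_5113 : allR t1690_rf 352792 6 (5113 * 2 ^ 6) = true := by decide +kernel
theorem t1690_rchk_5114 : allR t1690_rf 352792 6 (5114 * 2 ^ 6) = true := by decide +kernel
theorem t1690_rchk_5115 : allR t1690_rf 352792 6 (5115 * 2 ^ 6) = true := by decide +kernel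
theorem t1690_rchk_5116 : allR t1690_rf 352792 6 (5116 * 2 ^ 6) = true := by decide +kernel
theorem t1690_rchk_5117 : allR t1690_rf 352792 6 (5117 * 2 ^ 6) = true := by decide +kernel
theorem t1690_rchk_5118 : allR t1690_rf 352792 6 (5118 * 2 ^ 6) = true := by decide +kernel
theorem t1690_rchk_5119 : allR t1690_rf 352792 6 (5119 * 2 ^ 6) = true := by decide +kernel

theorem t1690_rfile_63 : ∀ k, k < 5120 → 5040 ≤ k → allR t1690_rf 352792 6 (k * 2 ^ 6) = true := by
  intro k h1 h2
  interval_cases k
  · exact t1690_rchk_5040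
  · exact t1690_rchk_5041
  · exact t1690_rchk_5042
  · exact t1690_rchk_5043
  · exact t1690_rchk_5044
  · exact t1690_rchk_5045
  · exact t1690_rchk_5046
  · exact t1690_rchk_5047
  · exact t1690_rchk_5048
  · exact t1690_rchk_5049
  · exact t1690_rchk_5050
  · exact t1690_rchk_5051
  · exact t1690_rchk_5052
  · exact t1690_rchk_5053
  · exact t1690_rchk_5054
  · exact t1690_rchk_5055
  · exact t1690_rchk_5056
  · exact t1690_rchk_5057
  · exact t1690_rchk_5058
  · exact t1690_rchk_5059
  · exact t1690_rchk_5060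
  · exact t1690_rchk_5061
  · exact t1690_rchk_5062
  · exact t1690_rchk_5063
  · exact t1690_rchk_5064
  · exact t1690_rchk_5065
  · exact t1690_rchk_5066
  · exact t1690_rchk_5067
  · exact t1690_rchk_5068
  · exact t1690_rchk_5069
  · exact t1690_rchk_5070
  · exact t1690_rchk_5071
  · exact t1690_rchk_5072
  · exact t1690_rchk_5073
  · exact t1690_rchk_5074
  · exact t1690_rchk_5075
  · exact t1690_rchk_5076
  · exact t1690_rchk_5077
  · exact t1690_rchk_5078
  · exact t1690_rchk_5079
  · exact t1690_rchk_5080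
  · exact t1690_rchk_5081
  · exact t1690_rchk_5082
  · exact t1690_rchk_5083
  · exact t1690_rchk_5084
  · exact t1690_rchk_5085
  · exact t1690_rchk_5086
  · exact t1690_rchk_5087
  · exact t1690_rchk_5088
  · exact t1690_rchk_5089
  · exact t1690_rchk_5090
  · exact t1690_rchk_5091
  · exact t1690_rchk_5092
  · exact t1690_rchk_5093
  · exact t1690_rchk_5094
  · exact t1690_rchk_5095
  · exact t1690_rchk_5096
  · exact t1690_rchk_5097
  · exact t1690_rchk_5098
  · exact t1690_rchk_5099
  · exact t1690_rchk_5100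
  · exact t1690_rchk_5101
  · exact t1690_rchk_5102
  · exact t1690_rchk_5103
  · exact t1690_rchk_5104
  · exact t1690_rchk_5105
  · exact t1690_rchk_5106
  · exact t1690_rchk_5107
  · exact t1690_rchk_5108
  · exact t1690_rchk_5109
  · exact t1690_rchk_5110
  · exact t1690_rchk_5111
  · exact t1690_rchk_5112
  · exact t1690_rchk_5113
  · exact t1690_rchk_5114
  · exact t1690_rchk_5115
  · exact t1690_rchk_5116
  · exact t1690_rchk_5117
  · exact t1690_rchk_5118
  · exact t1690_rchk_5119

end Cfsg.Agent.H35
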