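import Cfsg.Agent.H35.T1690.RTab

set_option autoImplicit false
set_option linter.all false
set_option Elab.async false

namespace Cfsg.Agent.H35

theorem t1690_rchk_5120 : allR t1690_rf 352792 6 (5120 * 2 ^ 6) = true := by decide +kernel
theorem t1690_rchk_5121 : allR t1690_rf 352792 6 (5121 * 2 ^ 6) = true := by decide +kernel
theorem t1690_rchk_5122 : allR t1690_rf 352792 6 (5122 * 2 ^ 6) = true := by decide +kernel
theorem t1690_rchk_5123 : allR t1690_rf 352792 6 (5123 * 2 ^ 6) = true := by decide +kernel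
theorem t1690_rchk_5124 : allR t1690_rf 352792 6 (5124 * 2 ^ 6) = true := by decide +kernel
theorem t1690_rchk_5125 : allR t1690_rf 352792 6 (5125 * 2 ^ 6) = true := by decide +kernel
theorem t1690_rchk_5126 : allR t1690_rf 352792 6 (5126 * 2 ^ 6) = true := by decide +kernel
theorem t1690_rchk_5127 : allR t1690_rf 352792 6 (5127 * 2 ^ 6) = true := by decide +kernel
theorem t1690_rchk_5128 : allR t1690_rf 352792 6 (5128 * 2 ^ 6) = true := by decide +kernel
theorem t1690_rchk_5129 : allR t1690_rf 352792 6 (5129 * 2 ^ 6) = true := by decide +kernel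
theorem t1690_rchk_5130 : allR t1690_rf 352792 6 (5130 * 2 ^ 6) = true := by decide +kernel
theorem t1690_rchk_5131 : allR t1690_rf 352792 6 (5131 * 2 ^ 6) = true := by decide +kernel
theorem t1690_rchk_5132 : allR t1690_rf 352792 6 (5132 * 2 ^ 6) = true := by decide +kernel
theorem t1690_rchk_5133 : allR t1690_rf 352792 6 (5133 * 2 ^ 6) = true := by decide +kernel
theorem t1690_rchk_5134 : allR t1690_rf 352792 6 (5134 * 2 ^ 6) = true := by decide +kernel
theorem t1690_rchk_5135 : allR t1690_rf 352792 6 (5135 * 2 ^ 6) = true := by decide +kernel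
theorem t1690_rchk_5136 : allR t1690_rf 352792 6 (5136 * 2 ^ 6) = true := by decide +kernel
theorem t1690_rchk_5137 : allR t1690_rf 352792 6 (5137 * 2 ^ 6) = true := by decide +kernel
theorem t1690_rchk_5138 : allR t1690_rf 352792 6 (5138 * 2 ^ 6) = true := by decide +kernel
theorem t1690_rchk_5139 : allR t1690_rf 352792 6 (5139 * 2 ^ 6) = true := by decide +kernel
theorem t1690_rchk_5140 : allR t1690_rf 352792 6 (5140 * 2 ^ 6) = true := by decide +kernel
theorem t1690_rchk_5141 : allR t1690_rf 352792 6 (5141 * 2 ^ 6) = true := by decide +kernel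
theorem t1690_rchk_5142 : allR t1690_rf 352792 6 (5142 * 2 ^ 6) = true := by decide +kernel
theorem t1690_rchk_5143 : allR t1690_rf 352792 6 (5143 * 2 ^ 6) = true := by decide +kernel
theorem t1690_rchk_5144 : allR t1690_rf 352792 6 (5144 * 2 ^ 6) = true := by decide +kernel
theorem t1690_rchk_5145 : allR t1690_rf 352792 6 (5145 * 2 ^ 6) = true := by decide +kernel
theorem t1690_rchk_5146 : allR t1690_rf 352792 6 (5146 * 2 ^ 6) = true := by decide +kernel
theorem t1690_rchk_5147 : allR t1690_rf 352792 6 (5147 * 2 ^ 6) = true := by decide +kernel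
theorem t1690_rchk_5148 : allR t1690_rf 352792 6 (5148 * 2 ^ 6) = true := by decide +kernel
theorem t1690_rchk_5149 : allR t1690_rf 352792 6 (5149 * 2 ^ 6) = true := by decide +kernel
theorem t1690_rchk_5150 : allR t1690_rf 352792 6 (5150 * 2 ^ 6) = true := by decide +kernel
theorem t1690_rchk_5151 : allR t1690_rf 352792 6 (5151 * 2 ^ 6) = true := by decide +kernel
theorem t1690_rchk_5152 : allR t1690_rf 352792 6 (5152 * 2 ^ 6) = true := by decide +kernel
theorem t1690_rchk_5153 : allR t1690_rf 352792 6 (5153 * 2 ^ 6) = true := by decide +kernel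
theorem t1690_rchk_5154 : allR t1690_rf 352792 6 (5154 * 2 ^ 6) = true := by decide +kernel
theorem t1690_rchk_5155 : allR t1690_rf 352792 6 (5155 * 2 ^ 6) = true := by decide +kernel
theorem t1690_rchk_5156 : allR t1690_rf 352792 6 (5156 * 2 ^ 6) = true := by decide +kernel
theorem t1690_rchk_5157 : allR t1690_rf 352792 6 (5157 * 2 ^ 6) = true := by decide +kernel
theorem t1690_rchk_5158 : allR t1690_rf 352792 6 (5158 * 2 ^ 6) = true := by decide +kernel
theorem t1690_rchk_5159 : allR t1690_rf 352792 6 (5159 * 2 ^ 6) = true := by decide +kernel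
theorem t1690_rchk_5160 : allR t1690_rf 352792 6 (5160 * 2 ^ 6) = true := by decide +kernel
theorem t1690_rchk_5161 : allR t1690_rf 352792 6 (5161 * 2 ^ 6) = true := by decide +kernel
theorem t1690_rchk_5162 : allR t1690_rf 352792 6 (5162 * 2 ^ 6) = true := by decide +kernel
theorem t1690_rchk_5163 : allR t1690_rf 352792 6 (5163 * 2 ^ 6) = true := by decide +kernel
theorem t1690_rchk_5164 : allR t1690_rf 352792 6 (5164 * 2 ^ 6) = true := by decide +kernel
theorem t1690_rchk_5165 : allR t1690_rf 352792 6 (5165 * 2 ^ 6) = true := by decide +kernel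
theorem t1690_rchk_5166 : allR t1690_rf 352792 6 (5166 * 2 ^ 6) = true := by decide +kernel
theorem t1690_rchk_5167 : allR t1690_rf 352792 6 (5167 * 2 ^ 6) = true := by decide +kernel
theorem t1690_rchk_5168 : allR t1690_rf 352792 6 (5168 * 2 ^ 6) = true := by decide +kernel
theorem t1690_rchk_5169 : allR t1690_rf 352792 6 (5169 * 2 ^ 6) = true := by decide +kernel
theorem t1690_rchk_5170 : allR t1690_rf 352792 6 (5170 * 2 ^ 6) = true := by decide +kernel
theorem t1690_rchk_5171 : allR t1690_rf 352792 6 (5171 * 2 ^ 6) = true := by decide +kernel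
theorem t1690_rchk_5172 : allR t1690_rf 352792 6 (5172 * 2 ^ 6) = true := by decide +kernel
theorem t1690_rchk_5173 : allR t1690_rf 352792 6 (5173 * 2 ^ 6) = true := by decide +kernel
theorem t1690_rchk_5174 : allR t1690_rf 352792 6 (5174 * 2 ^ 6) = true := by decide +kernel
theorem t1690_rchk_5175 : allR t1690_rf 352792 6 (5175 * 2 ^ 6) = true := by decide +kernel
theorem t1690_rchk_5176 : allR t1690_rf 352792 6 (5176 * 2 ^ 6) = true := by decide +kernel
theorem t1690_rchk_5177 : allR t1690_rf 352792 6 (5177 * 2 ^ 6) = true := by decide +kernel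
theorem t1690_rchk_5178 : allR t1690_rf 352792 6 (5178 * 2 ^ 6) = true := by decide +kernel
theorem t1690_rchk_5179 : allR t1690_rf 352792 6 (5179 * 2 ^ 6) = true := by decide +kernel
theorem t1690_rchk_5180 : allR t1690_rf 352792 6 (5180 * 2 ^ 6) = true := by decide +kernel
theorem t1690_rchk_5181 : allR t1690_rf 352792 6 (5181 * 2 ^ 6) = true := by decide +kernel
theorem t1690_rchk_5182 : allR t1690_rf 352792 6 (5182 * 2 ^ 6) = true := by decide +kernel
theorem t1690_rchk_5183 : allR t1690_rf 352792 6 (5183 * 2 ^ 6) = true := by decide +kernel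
theorem t1690_rchk_5184 : allR t1690_rf 352792 6 (5184 * 2 ^ 6) = true := by decide +kernel
theorem t1690_rchk_5185 : allR t1690_rf 352792 6 (5185 * 2 ^ 6) = true := by decide +kernel
theorem t1690_rchk_5186 : allR t1690_rf 352792 6 (5186 * 2 ^ 6) = true := by decide +kernel
theorem t1690_rchk_5187 : allR t1690_rf 352792 6 (5187 * 2 ^ 6) = true := by decide +kernel
theorem t1690_rchk_5188 : allR t1690_rf 352792 6 (5188 * 2 ^ 6) = true := by decide +kernel
theorem t1690_rchk_5189 : allR t1690_rf 352792 6 (5189 * 2 ^ 6) = true := by decide +kernel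
theorem t1690_rchk_5190 : allR t1690_rf 352792 6 (5190 * 2 ^ 6) = true := by decide +kernel
theorem t1690_rchk_5191 : allR t1690_rf 352792 6 (5191 * 2 ^ 6) = true := by decide +kernel
theorem t1690_rchk_5192 : allR t1690_rf 352792 6 (5192 * 2 ^ 6) = true := by decide +kernel
theorem t1690_rchk_5193 : allR t1690_rf 352792 6 (5193 * 2 ^ 6) = true := by decide +kernel
theorem t1690_rchk_5194 : allR t1690_rf 352792 6 (5194 * 2 ^ 6) = true := by decide +kernel
theorem t1690_rchk_5195 : allR t1690_rf 352792 6 (5195 * 2 ^ 6) = true := by decide +kernel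
theorem t1690_rchk_5196 : allR t1690_rf 352792 6 (5196 * 2 ^ 6) = true := by decide +kernel
theorem t1690_rchk_5197 : allR t1690_rf 352792 6 (5197 * 2 ^ 6) = true := by decide +kernel
theorem t1690_rchk_5198 : allR t1690_rf 352792 6 (5198 * 2 ^ 6) = true := by decide +kernel
theorem t1690_rchk_5199 : allR t1690_rf 352792 6 (5199 * 2 ^ 6) = true := by decide +kernel

theorem t1690_rfile_64 : ∀ k, k < 5200 → 5120 ≤ k → allR t1690_rf 352792 6 (k * 2 ^ 6) = true := by
  intro k h1 h2
  interval_cases k
  · exact t1690_rchk_5120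
  · exact t1690_rchk_5121
  · exact t1690_rchk_5122
  · exact t1690_rchk_5123
  · exact t1690_rchk_5124
  · exact t1690_rchk_5125
  · exact t1690_rchk_5126
  · exact t1690_rchk_5127
  · exact t1690_rchk_5128
  · exact t1690_rchk_5129
  · exact t1690_rchk_5130
  · exact t1690_rchk_5131
  · exact t1690_rchk_5132
  · exact t1690_rchk_5133
  · exact t1690_rchk_5134
  · exact t1690_rchk_5135
  · exact t1690_rchk_5136
  · exact t1690_rchk_5137
  · exact t1690_rchk_5138
  · exact t1690_rchk_5139
  · exact t1690_rchk_5140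
  · exact t1690_rchk_5141
  · exact t1690_rchk_5142
  · exact t1690_rchk_5143
  · exact t1690_rchk_5144
  · exact t1690_rchk_5145
  · exact t1690_rchk_5146
  · exact t1690_rchk_5147
  · exact t1690_rchk_5148
  · exact t1690_rchk_5149
  · exact t1690_rchk_5150
  · exact t1690_rchk_5151
  · exact t1690_rchk_5152
  · exact t1690_rchk_5153
  · exact t1690_rchk_5154
  · exact t1690_rchk_5155
  · exact t1690_rchk_5156
  · exact t1690_rchk_5157
  · exact t1690_rchk_5158
  · exact t1690_rchk_5159
  · exact t1690_rchk_5160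
  · exact t1690_rchk_5161
  · exact t1690_rchk_5162
  · exact t1690_rchk_5163
  · exact t1690_rchk_5164
  · exact t1690_rchk_5165
  · exact t1690_rchk_5166
  · exact t1690_rchk_5167
  · exact t1690_rchk_5168
  · exact t1690_rchk_5169
  · exact t1690_rchk_5170
  · exact t1690_rchk_5171
  · exact t1690_rchk_5172
  · exact t1690_rchk_5173
  · exact t1690_rchk_5174
  · exact t1690_rchk_5175
  · exact t1690_rchk_5176
  · exact t1690_rchk_5177
  · exact t1690_rchk_5178
  · exact t1690_rchk_5179
  · exact t1690_rchk_5180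
  · exact t1690_rchk_5181
  · exact t1690_rchk_5182
  · exact t1690_rchk_5183
  · exact t1690_rchk_5184
  · exact t1690_rchk_5185
  · exact t1690_rchk_5186
  · exact t1690_rchk_5187
  · exact t1690_rchk_5188
  · exact t1690_rchk_5189
  · exact t1690_rchk_5190
  · exact t1690_rchk_5191
  · exact t1690_rchk_5192
  · exact t1690_rchk_5193
  · exact t1690_rchk_5194
  · exact t1690_rchk_5195
  · exact t1690_rchk_5196
  · exact t1690_rchk_5197
  · exact t1690_rchk_5198
  · exact t1690_rchk_5199

end Cfsg.Agent.H35
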