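import Cfsg.Agent.H35.T1690.RTab

set_option autoImplicit false
set_option linter.all false
set_option Elab.async false

namespace Cfsg.Agent.H35

theorem t1690_rchk_5200 : allR t1690_rf 352792 6 (5200 * 2 ^ 6) = true := by decide +kernel
theorem t1690_rchk_5201 : allR t1690_rf 352792 6 (5201 * 2 ^ 6) = true := by decide +kernel
theorem t1690_rchk_5202 : allR t1690_rf 352792 6 (5202 * 2 ^ 6) = true := by decide +kernel
theorem t1690_rchk_5203 : allR t1690_rf 352792 6 (5203 * 2 ^ 6) = true := by decide +kernel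
theorem t1690_rchk_5204 : allR t1690_rf 352792 6 (5204 * 2 ^ 6) = true := by decide +kernel
theorem t1690_rchk_5205 : allR t1690_rf 352792 6 (5205 * 2 ^ 6) = true := by decide +kernel
theorem t1690_rchk_5206 : allR t1690_rf 352792 6 (5206 * 2 ^ 6) = true := by decide +kernel
theorem t1690_rchk_5207 : allR t1690_rf 352792 6 (5207 * 2 ^ 6) = true := by decide +kernel
theorem t1690_rchk_5208 : allR t1690_rf 352792 6 (5208 * 2 ^ 6) = true := by decide +kernel
theorem t1690_rchk_5209 : allR t1690_rf 352792 6 (5209 * 2 ^ 6) = true := by decide +kernel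
theorem t1690_rchk_5210 : allR t1690_rf 352792 6 (5210 * 2 ^ 6) = true := by decide +kernel
theorem t1690_rchk_5211 : allR t1690_rf 352792 6 (5211 * 2 ^ 6) = true := by decide +kernel
theorem t1690_rchk_5212 : allR t1690_rf 352792 6 (5212 * 2 ^ 6) = true := by decide +kernel
theorem t1690_rchk_5213 : allR t1690_rf 352792 6 (5213 * 2 ^ 6) = true := by decide +kernel
theorem t1690_rchk_5214 : allR t1690_rf 352792 6 (5214 * 2 ^ 6) = true := by decide +kernel
theorem t1690_rchk_5215 : allR t1690_rf 352792 6 (5215 * 2 ^ 6) = true := by decide +kernel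
theorem t1690_rchk_5216 : allR t1690_rf 352792 6 (5216 * 2 ^ 6) = true := by decide +kernel
theorem t1690_rchk_5217 : allR t1690_rf 352792 6 (5217 * 2 ^ 6) = true := by decide +kernel
theorem t1690_rchk_5218 : allR t1690_rf 352792 6 (5218 * 2 ^ 6) = true := by decide +kernel
theorem t1690_rchk_5219 : allR t1690_rf 352792 6 (5219 * 2 ^ 6) = true := by decide +kernel
theorem t1690_rchk_5220 : allR t1690_rf 352792 6 (5220 * 2 ^ 6) = true := by decide +kernel
theorem t1690_rchk_5221 : allR t1690_rf 352792 6 (5221 * 2 ^ 6) = true := by decide +kernel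
theorem t1690_rchk_5222 : allR t1690_rf 352792 6 (5222 * 2 ^ 6) = true := by decide +kernel
theorem t1690_rchk_5223 : allR t1690_rf 352792 6 (5223 * 2 ^ 6) = true := by decide +kernel
theorem t1690_rchk_5224 : allR t1690_rf 352792 6 (5224 * 2 ^ 6) = true := by decide +kernel
theorem t1690_rchk_5225 : allR t1690_rf 352792 6 (5225 * 2 ^ 6) = true := by decide +kernel
theorem t1690_rchk_5226 : allR t1690_rf 352792 6 (5226 * 2 ^ 6) = true := by decide +kernel
theorem t1690_rchk_5227 : allR t1690_rf 352792 6 (5227 * 2 ^ 6) = true := by decide +kernel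
theorem t1690_rchk_5228 : allR t1690_rf 352792 6 (5228 * 2 ^ 6) = true := by decide +kernel
theorem t1690_rchk_5229 : allR t1690_rf 352792 6 (5229 * 2 ^ 6) = true := by decide +kernel
theorem t1690_rchk_5230 : allR t1690_rf 352792 6 (5230 * 2 ^ 6) = true := by decide +kernel
theorem t1690_rchk_5231 : allR t1690_rf 352792 6 (5231 * 2 ^ 6) = true := by decide +kernel
theorem t1690_rchk_5232 : allR t1690_rf 352792 6 (5232 * 2 ^ 6) = true := by decide +kernel
theorem t1690_rchk_5233 : allR t1690_rf 352792 6 (5233 * 2 ^ 6) = true := by decide +kernel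
theorem t1690_rchk_5234 : allR t1690_rf 352792 6 (5234 * 2 ^ 6) = true := by decide +kernel
theorem t1690_rchk_5235 : allR t1690_rf 352792 6 (5235 * 2 ^ 6) = true := by decide +kernel
theorem t1690_rchk_5236 : allR t1690_rf 352792 6 (5236 * 2 ^ 6) = true := by decide +kernel
theorem t1690_rchk_5237 : allR t1690_rf 352792 6 (5237 * 2 ^ 6) = true := by decide +kernel
theorem t1690_rchk_5238 : allR t1690_rf 352792 6 (5238 * 2 ^ 6) = true := by decide +kernel
theorem t1690_rchk_5239 : allR t1690_rf 352792 6 (5239 * 2 ^ 6) = true := by decide +kernel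
theorem t1690_rchk_5240 : allR t1690_rf 352792 6 (5240 * 2 ^ 6) = true := by decide +kernel
theorem t1690_rchk_5241 : allR t1690_rf 352792 6 (5241 * 2 ^ 6) = true := by decide +kernel
theorem t1690_rchk_5242 : allR t1690_rf 352792 6 (5242 * 2 ^ 6) = true := by decide +kernel
theorem t1690_rchk_5243 : allR t1690_rf 352792 6 (5243 * 2 ^ 6) = true := by decide +kernel
theorem t1690_rchk_5244 : allR t1690_rf 352792 6 (5244 * 2 ^ 6) = true := by decide +kernel
theorem t1690_rchk_5245 : allR t1690_rf 352792 6 (5245 * 2 ^ 6) = true := by decide +kernel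
theorem t1690_rchk_5246 : allR t1690_rf 352792 6 (5246 * 2 ^ 6) = true := by decide +kernel
theorem t1690_rchk_5247 : allR t1690_rf 352792 6 (5247 * 2 ^ 6) = true := by decide +kernel
theorem t1690_rchk_5248 : allR t1690_rf 352792 6 (5248 * 2 ^ 6) = true := by decide +kernel
theorem t1690_rchk_5249 : allR t1690_rf 352792 6 (5249 * 2 ^ 6) = true := by decide +kernel
theorem t1690_rchk_5250 : allR t1690_rf 352792 6 (5250 * 2 ^ 6) = true := by decide +kernel
theorem t1690_rchk_5251 : allR t1690_rf 352792 6 (5251 * 2 ^ 6) = true := by decide +kernel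
theorem t1690_rchk_5252 : allR t1690_rf 352792 6 (5252 * 2 ^ 6) = true := by decide +kernel
theorem t1690_rchk_5253 : allR t1690_rf 352792 6 (5253 * 2 ^ 6) = true := by decide +kernel
theorem t1690_rchk_5254 : allR t1690_rf 352792 6 (5254 * 2 ^ 6) = true := by decide +kernel
theorem t1690_rchk_5255 : allR t1690_rf 352792 6 (5255 * 2 ^ 6) = true := by decide +kernel
theorem t1690_rchk_5256 : allR t1690_rf 352792 6 (5256 * 2 ^ 6) = true := by decide +kernel
theorem t1690_rchk_5257 : allR t1690_rf 352792 6 (5257 * 2 ^ 6) = true := by decide +kernel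
theorem t1690_rchk_5258 : allR t1690_rf 352792 6 (5258 * 2 ^ 6) = true := by decide +kernel
theorem t1690_rchk_5259 : allR t1690_rf 352792 6 (5259 * 2 ^ 6) = true := by decide +kernel
theorem t1690_rchk_5260 : allR t1690_rf 352792 6 (5260 * 2 ^ 6) = true := by decide +kernel
theorem t1690_rchk_5261 : allR t1690_rf 352792 6 (5261 * 2 ^ 6) = true := by decide +kernel
theorem t1690_rchk_5262 : allR t1690_rf 352792 6 (5262 * 2 ^ 6) = true := by decide +kernel
theorem t1690_rchk_5263 : allR t1690_rf 352792 6 (5263 * 2 ^ 6) = true := by decide +kernel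
theorem t1690_rchk_5264 : allR t1690_rf 352792 6 (5264 * 2 ^ 6) = true := by decide +kernel
theorem t1690_rchk_5265 : allR t1690_rf 352792 6 (5265 * 2 ^ 6) = true := by decide +kernel
theorem t1690_rchk_5266 : allR t1690_rf 352792 6 (5266 * 2 ^ 6) = true := by decide +kernel
theorem t1690_rchk_5267 : allR t1690_rf 352792 6 (5267 * 2 ^ 6) = true := by decide +kernel
theorem t1690_rchk_5268 : allR t1690_rf 352792 6 (5268 * 2 ^ 6) = true := by decide +kernel
theorem t1690_rchk_5269 : allR t1690_rf 352792 6 (5269 * 2 ^ 6) = true := by decide +kernel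
theorem t1690_rchk_5270 : allR t1690_rf 352792 6 (5270 * 2 ^ 6) = true := by decide +kernel
theorem t1690_rchk_5271 : allR t1690_rf 352792 6 (5271 * 2 ^ 6) = true := by decide +kernel
theorem t1690_rchk_5272 : allR t1690_rf 352792 6 (5272 * 2 ^ 6) = true := by decide +kernel
theorem t1690_rchk_5273 : allR t1690_rf 352792 6 (5273 * 2 ^ 6) = true := by decide +kernel
theorem t1690_rchk_5274 : allR t1690_rf 352792 6 (5274 * 2 ^ 6) = true := by decide +kernel
theorem t1690_rchk_5275 : allR t1690_rf 352792 6 (5275 * 2 ^ 6) = true := by decide +kernel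
theorem t1690_rchk_5276 : allR t1690_rf 352792 6 (5276 * 2 ^ 6) = true := by decide +kernel
theorem t1690_rchk_5277 : allR t1690_rf 352792 6 (5277 * 2 ^ 6) = true := by decide +kernel
theorem t1690_rchk_5278 : allR t1690_rf 352792 6 (5278 * 2 ^ 6) = true := by decide +kernel
theorem t1690_rchk_5279 : allR t1690_rf 352792 6 (5279 * 2 ^ 6) = true := by decide +kernel

theorem t1690_rfile_65 : ∀ k, k < 5280 → 5200 ≤ k → allR t1690_rf 352792 6 (k * 2 ^ 6) = true := by
  intro k h1 h2
  interval_cases k
  · exact t1690_rchk_5200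
  · exact t1690_rchk_5201
  · exact t1690_rchk_5202
  · exact t1690_rchk_5203
  · exact t1690_rchk_5204
  · exact t1690_rchk_5205
  · exact t1690_rchk_5206
  · exact t1690_rchk_5207
  · exact t1690_rchk_5208
  · exact t1690_rchk_5209
  · exact t1690_rchk_5210
  · exact t1690_rchk_5211
  · exact t1690_rchk_5212
  · exact t1690_rchk_5213
  · exact t1690_rchk_5214
  · exact t1690_rchk_5215
  · exact t1690_rchk_5216
  · exact t1690_rchk_5217
  · exact t1690_rchk_5218
  · exact t1690_rchk_5219
  · exact t1690_rchk_5220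
  · exact t1690_rchk_5221
  · exact t1690_rchk_5222
  · exact t1690_rchk_5223
  · exact t1690_rchk_5224
  · exact t1690_rchk_5225
  · exact t1690_rchk_5226
  · exact t1690_rchk_5227
  · exact t1690_rchk_5228
  · exact t1690_rchk_5229
  · exact t1690_rchk_5230
  · exact t1690_rchk_5231
  · exact t1690_rchk_5232
  · exact t1690_rchk_5233
  · exact t1690_rchk_5234
  · exact t1690_rchk_5235
  · exact t1690_rchk_5236
  · exact t1690_rchk_5237
  · exact t1690_rchk_5238
  · exact t1690_rchk_5239
  · exact t1690_rchk_5240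
  · exact t1690_rchk_5241
  · exact t1690_rchk_5242
  · exact t1690_rchk_5243
  · exact t1690_rchk_5244
  · exact t1690_rchk_5245
  · exact t1690_rchk_5246
  · exact t1690_rchk_5247
  · exact t1690_rchk_5248
  · exact t1690_rchk_5249
  · exact t1690_rchk_5250
  · exact t1690_rchk_5251
  · exact t1690_rchk_5252
  · exact t1690_rchk_5253
  · exact t1690_rchk_5254
  · exact t1690_rchk_5255
  · exact t1690_rchk_5256
  · exact t1690_rchk_5257
  · exact t1690_rchk_5258
  · exact t1690_rchk_5259
  · exact t1690_rchk_5260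
  · exact t1690_rchk_5261
  · exact t1690_rchk_5262
  · exact t1690_rchk_5263
  · exact t1690_rchk_5264
  · exact t1690_rchk_5265
  · exact t1690_rchk_5266
  · exact t1690_rchk_5267
  · exact t1690_rchk_5268
  · exact t1690_rchk_5269
  · exact t1690_rchk_5270
  · exact t1690_rchk_5271
  · exact t1690_rchk_5272
  · exact t1690_rchk_5273
  · exact t1690_rchk_5274
  · exact t1690_rchk_5275
  · exact t1690_rchk_5276
  · exact t1690_rchk_5277
  · exact t1690_rchk_5278
  · exact t1690_rchk_5279

end Cfsg.Agent.H35
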