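import Cfsg.Agent.H35.T1690.RTab

set_option autoImplicit false
set_option linter.all false
set_option Elab.async false

namespace Cfsg.Agent.H35

theorem t1690_rchk_5280 : allR t1690_rf 352792 6 (5280 * 2 ^ 6) = true := by decide +kernel
theorem t1690_rchk_5281 : allR t1690_rf 352792 6 (5281 * 2 ^ 6) = true := by decide +kernel
theorem t1690_rchk_5282 : allR t1690_rf 352792 6 (5282 * 2 ^ 6) = true := by decide +kernel
theorem t1690_rchk_5283 : allR t1690_rf 352792 6 (5283 * 2 ^ 6) = true := by decide +kernel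
theorem t1690_rchk_5284 : allR t1690_rf 352792 6 (5284 * 2 ^ 6) = true := by decide +kernel
theorem t1690_rchk_5285 : allR t1690_rf 352792 6 (5285 * 2 ^ 6) = true := by decide +kernel
theorem t1690_rchk_5286 : allR t1690_rf 352792 6 (5286 * 2 ^ 6) = true := by decide +kernel
theorem t1690_rchk_5287 : allR t1690_rf 352792 6 (5287 * 2 ^ 6) = true := by decide +kernel
theorem t1690_rchk_5288 : allR t1690_rf 352792 6 (5288 * 2 ^ 6) = true := by decide +kernel
theorem t1690_rchk_5289 : allR t1690_rf 352792 6 (5289 * 2 ^ 6) = true := by decide +kernel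
theorem t1690_rchk_5290 : allR t1690_rf 352792 6 (5290 * 2 ^ 6) = true := by decide +kernel
theorem t1690_rchk_5291 : allR t1690_rf 352792 6 (5291 * 2 ^ 6) = true := by decide +kernel
theorem t1690_rchk_5292 : allR t1690_rf 352792 6 (5292 * 2 ^ 6) = true := by decide +kernel
theorem t1690_rchk_5293 : allR t1690_rf 352792 6 (5293 * 2 ^ 6) = true := by decide +kernel
theorem t1690_rchk_5294 : allR t1690_rf 352792 6 (5294 * 2 ^ 6) = true := by decide +kernel
theorem t1690_rchk_5295 : allR t1690_rf 352792 6 (5295 * 2 ^ 6) = true := by decide +kernel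
theorem t1690_rchk_5296 : allR t1690_rf 352792 6 (5296 * 2 ^ 6) = true := by decide +kernel
theorem t1690_rchk_5297 : allR t1690_rf 352792 6 (5297 * 2 ^ 6) = true := by decide +kernel
theorem t1690_rchk_5298 : allR t1690_rf 352792 6 (5298 * 2 ^ 6) = true := by decide +kernel
theorem t1690_rchk_5299 : allR t1690_rf 352792 6 (5299 * 2 ^ 6) = true := by decide +kernel
theorem t1690_rchk_5300 : allR t1690_rf 352792 6 (5300 * 2 ^ 6) = true := by decide +kernel
theorem t1690_rchk_5301 : allR t1690_rf 352792 6 (5301 * 2 ^ 6) = true := by decide +kernel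
theorem t1690_rchk_5302 : allR t1690_rf 352792 6 (5302 * 2 ^ 6) = true := by decide +kernel
theorem t1690_rchk_5303 : allR t1690_rf 352792 6 (5303 * 2 ^ 6) = true := by decide +kernel
theorem t1690_rchk_5304 : allR t1690_rf 352792 6 (5304 * 2 ^ 6) = true := by decide +kernel
theorem t1690_rchk_5305 : allR t1690_rf 352792 6 (5305 * 2 ^ 6) = true := by decide +kernel
theorem t1690_rchk_5306 : allR t1690_rf 352792 6 (5306 * 2 ^ 6) = true := by decide +kernel
theorem t1690_rchk_5307 : allR t1690_rf 352792 6 (5307 * 2 ^ 6) = true := by decide +kernel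
theorem t1690_rchk_5308 : allR t1690_rf 352792 6 (5308 * 2 ^ 6) = true := by decide +kernel
theorem t1690_rchk_5309 : allR t1690_rf 352792 6 (5309 * 2 ^ 6) = true := by decide +kernel
theorem t1690_rchk_5310 : allR t1690_rf 352792 6 (5310 * 2 ^ 6) = true := by decide +kernel
theorem t1690_rchk_5311 : allR t1690_rf 352792 6 (5311 * 2 ^ 6) = true := by decide +kernel
theorem t1690_rchk_5312 : allR t1690_rf 352792 6 (5312 * 2 ^ 6) = true := by decide +kernel
theorem t1690_rchk_5313 : allR t1690_rf 352792 6 (5313 * 2 ^ 6) = true := by decide +kernel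
theorem t1690_rchk_5314 : allR t1690_rf 352792 6 (5314 * 2 ^ 6) = true := by decide +kernel
theorem t1690_rchk_5315 : allR t1690_rf 352792 6 (5315 * 2 ^ 6) = true := by decide +kernel
theorem t1690_rchk_5316 : allR t1690_rf 352792 6 (5316 * 2 ^ 6) = true := by decide +kernel
theorem t1690_rchk_5317 : allR t1690_rf 352792 6 (5317 * 2 ^ 6) = true := by decide +kernel
theorem t1690_rchk_5318 : allR t1690_rf 352792 6 (5318 * 2 ^ 6) = true := by decide +kernel
theorem t1690_rchk_5319 : allR t1690_rf 352792 6 (5319 * 2 ^ 6) = true := by decide +kernel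
theorem t1690_rchk_5320 : allR t1690_rf 352792 6 (5320 * 2 ^ 6) = true := by decide +kernel
theorem t1690_rchk_5321 : allR t1690_rf 352792 6 (5321 * 2 ^ 6) = true := by decide +kernel
theorem t1690_rchk_5322 : allR t1690_rf 352792 6 (5322 * 2 ^ 6) = true := by decide +kernel
theorem t1690_rchk_5323 : allR t1690_rf 352792 6 (5323 * 2 ^ 6) = true := by decide +kernel
theorem t1690_rchk_5324 : allR t1690_rf 352792 6 (5324 * 2 ^ 6) = true := by decide +kernel
theorem t1690_rchk_5325 : allR t1690_rf 352792 6 (5325 * 2 ^ 6) = true := by decide +kernel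
theorem t1690_rchk_5326 : allR t1690_rf 352792 6 (5326 * 2 ^ 6) = true := by decide +kernel
theorem t1690_rchk_5327 : allR t1690_rf 352792 6 (5327 * 2 ^ 6) = true := by decide +kernel
theorem t1690_rchk_5328 : allR t1690_rf 352792 6 (5328 * 2 ^ 6) = true := by decide +kernel
theorem t1690_rchk_5329 : allR t1690_rf 352792 6 (5329 * 2 ^ 6) = true := by decide +kernel
theorem t1690_rchk_5330 : allR t1690_rf 352792 6 (5330 * 2 ^ 6) = true := by decide +kernel
theorem t1690_rchk_5331 : allR t1690_rf 352792 6 (5331 * 2 ^ 6) = true := by decide +kernel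
theorem t1690_rchk_5332 : allR t1690_rf 352792 6 (5332 * 2 ^ 6) = true := by decide +kernel
theorem t1690_rchk_5333 : allR t1690_rf 352792 6 (5333 * 2 ^ 6) = true := by decide +kernel
theorem t1690_rchk_5334 : allR t1690_rf 352792 6 (5334 * 2 ^ 6) = true := by decide +kernel
theorem t1690_rchk_5335 : allR t1690_rf 352792 6 (5335 * 2 ^ 6) = true := by decide +kernel
theorem t1690_rchk_5336 : allR t1690_rf 352792 6 (5336 * 2 ^ 6) = true := by decide +kernel
theorem t1690_rchk_5337 : allR t1690_rf 352792 6 (5337 * 2 ^ 6) = true := by decide +kernel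
theorem t1690_rchk_5338 : allR t1690_rf 352792 6 (5338 * 2 ^ 6) = true := by decide +kernel
theorem t1690_rchk_5339 : allR t1690_rf 352792 6 (5339 * 2 ^ 6) = true := by decide +kernel
theorem t1690_rchk_5340 : allR t1690_rf 352792 6 (5340 * 2 ^ 6) = true := by decide +kernel
theorem t1690_rchk_5341 : allR t1690_rf 352792 6 (5341 * 2 ^ 6) = true := by decide +kernel
theorem t1690_rchk_5342 : allR t1690_rf 352792 6 (5342 * 2 ^ 6) = true := by decide +kernel
theorem t1690_rchk_5343 : allR t1690_rf 352792 6 (5343 * 2 ^ 6) = true := by decide +kernel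
theorem t1690_rchk_5344 : allR t1690_rf 352792 6 (5344 * 2 ^ 6) = true := by decide +kernel
theorem t1690_rchk_5345 : allR t1690_rf 352792 6 (5345 * 2 ^ 6) = true := by decide +kernel
theorem t1690_rchk_5346 : allR t1690_rf 352792 6 (5346 * 2 ^ 6) = true := by decide +kernel
theorem t1690_rchk_5347 : allR t1690_rf 352792 6 (5347 * 2 ^ 6) = true := by decide +kernel
theorem t1690_rchk_5348 : allR t1690_rf 352792 6 (5348 * 2 ^ 6) = true := by decide +kernel
theorem t1690_rchk_5349 : allR t1690_rf 352792 6 (5349 * 2 ^ 6) = true := by decide +kernel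
theorem t1690_rchk_5350 : allR t1690_rf 352792 6 (5350 * 2 ^ 6) = true := by decide +kernel
theorem t1690_rchk_5351 : allR t1690_rf 352792 6 (5351 * 2 ^ 6) = true := by decide +kernel
theorem t1690_rchk_5352 : allR t1690_rf 352792 6 (5352 * 2 ^ 6) = true := by decide +kernel
theorem t1690_rchk_5353 : allR t1690_rf 352792 6 (5353 * 2 ^ 6) = true := by decide +kernel
theorem t1690_rchk_5354 : allR t1690_rf 352792 6 (5354 * 2 ^ 6) = true := by decide +kernel
theorem t1690_rchk_5355 : allR t1690_rf 352792 6 (5355 * 2 ^ 6) = true := by decide +kernel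
theorem t1690_rchk_5356 : allR t1690_rf 352792 6 (5356 * 2 ^ 6) = true := by decide +kernel
theorem t1690_rchk_5357 : allR t1690_rf 352792 6 (5357 * 2 ^ 6) = true := by decide +kernel
theorem t1690_rchk_5358 : allR t1690_rf 352792 6 (5358 * 2 ^ 6) = true := by decide +kernel
theorem t1690_rchk_5359 : allR t1690_rf 352792 6 (5359 * 2 ^ 6) = true := by decide +kernel

theorem t1690_rfile_66 : ∀ k, k < 5360 → 5280 ≤ k → allR t1690_rf 352792 6 (k * 2 ^ 6) = true := by
  intro k h1 h2
  interval_cases k
  · exact t1690_rchk_5280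
  · exact t1690_rchk_5281
  · exact t1690_rchk_5282
  · exact t1690_rchk_5283
  · exact t1690_rchk_5284
  · exact t1690_rchk_5285
  · exact t1690_rchk_5286
  · exact t1690_rchk_5287
  · exact t1690_rchk_5288
  · exact t1690_rchk_5289
  · exact t1690_rchk_5290
  · exact t1690_rchk_5291
  · exact t1690_rchk_5292
  · exact t1690_rchk_5293
  · exact t1690_rchk_5294
  · exact t1690_rchk_5295
  · exact t1690_rchk_5296
  · exact t1690_rchk_5297
  · exact t1690_rchk_5298
  · exact t1690_rchk_5299
  · exact t1690_rchk_5300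
  · exact t1690_rchk_5301
  · exact t1690_rchk_5302
  · exact t1690_rchk_5303
  · exact t1690_rchk_5304
  · exact t1690_rchk_5305
  · exact t1690_rchk_5306
  · exact t1690_rchk_5307
  · exact t1690_rchk_5308
  · exact t1690_rchk_5309
  · exact t1690_rchk_5310
  · exact t1690_rchk_5311
  · exact t1690_rchk_5312
  · exact t1690_rchk_5313
  · exact t1690_rchk_5314
  · exact t1690_rchk_5315
  · exact t1690_rchk_5316
  · exact t1690_rchk_5317
  · exact t1690_rchk_5318
  · exact t1690_rchk_5319
  · exact t1690_rchk_5320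
  · exact t1690_rchk_5321
  · exact t1690_rchk_5322
  · exact t1690_rchk_5323
  · exact t1690_rchk_5324
  · exact t1690_rchk_5325
  · exact t1690_rchk_5326
  · exact t1690_rchk_5327
  · exact t1690_rchk_5328
  · exact t1690_rchk_5329
  · exact t1690_rchk_5330
  · exact t1690_rchk_5331
  · exact t1690_rchk_5332
  · exact t1690_rchk_5333
  · exact t1690_rchk_5334
  · exact t1690_rchk_5335
  · exact t1690_rchk_5336
  · exact t1690_rchk_5337
  · exact t1690_rchk_5338
  · exact t1690_rchk_5339
  · exact t1690_rchk_5340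
  · exact t1690_rchk_5341
  · exact t1690_rchk_5342
  · exact t1690_rchk_5343
  · exact t1690_rchk_5344
  · exact t1690_rchk_5345
  · exact t1690_rchk_5346
  · exact t1690_rchk_5347
  · exact t1690_rchk_5348
  · exact t1690_rchk_5349
  · exact t1690_rchk_5350
  · exact t1690_rchk_5351
  · exact t1690_rchk_5352
  · exact t1690_rchk_5353
  · exact t1690_rchk_5354
  · exact t1690_rchk_5355
  · exact t1690_rchk_5356
  · exact t1690_rchk_5357
  · exact t1690_rchk_5358
  · exact t1690_rchk_5359

end Cfsg.Agent.H35
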