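import Cfsg.Agent.H35.T1690.RTab

set_option autoImplicit false
set_option linter.all false
set_option Elab.async false

namespace Cfsg.Agent.H35

theorem t1690_rchk_5360 : allR t1690_rf 352792 6 (5360 * 2 ^ 6) = true := by decide +kernel
theorem t1690_rchk_5361 : allR t1690_rf 352792 6 (5361 * 2 ^ 6) = true := by decide +kernel
theorem t1690_rchk_5362 : allR t1690_rf 352792 6 (5362 * 2 ^ 6) = true := by decide +kernel
theorem t1690_rchk_5363 : allR t1690_rf 352792 6 (5363 * 2 ^ 6) = true := by decide +kernel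
theorem t1690_rchk_5364 : allR t1690_rf 352792 6 (5364 * 2 ^ 6) = true := by decide +kernel
theorem t1690_rchk_5365 : allR t1690_rf 352792 6 (5365 * 2 ^ 6) = true := by decide +kernel
theorem t1690_rchk_5366 : allR t1690_rf 352792 6 (5366 * 2 ^ 6) = true := by decide +kernel
theorem t1690_rchk_5367 : allR t1690_rf 352792 6 (5367 * 2 ^ 6) = true := by decide +kernel
theorem t1690_rchk_5368 : allR t1690_rf 352792 6 (5368 * 2 ^ 6) = true := by decide +kernel
theorem t1690_rchk_5369 : allR t1690_rf 352792 6 (5369 * 2 ^ 6) = true := by decide +kernel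
theorem t1690_rchk_5370 : allR t1690_rf 352792 6 (5370 * 2 ^ 6) = true := by decide +kernel
theorem t1690_rchk_5371 : allR t1690_rf 352792 6 (5371 * 2 ^ 6) = true := by decide +kernel
theorem t1690_rchk_5372 : allR t1690_rf 352792 6 (5372 * 2 ^ 6) = true := by decide +kernel
theorem t1690_rchk_5373 : allR t1690_rf 352792 6 (5373 * 2 ^ 6) = true := by decide +kernel
theorem t1690_rchk_5374 : allR t1690_rf 352792 6 (5374 * 2 ^ 6) = true := by decide +kernel
theorem t1690_rchk_5375 : allR t1690_rf 352792 6 (5375 * 2 ^ 6) = true := by decide +kernel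
theorem t1690_rchk_5376 : allR t1690_rf 352792 6 (5376 * 2 ^ 6) = true := by decide +kernel
theorem t1690_rchk_5377 : allR t1690_rf 352792 6 (5377 * 2 ^ 6) = true := by decide +kernel
theorem t1690_rchk_5378 : allR t1690_rf 352792 6 (5378 * 2 ^ 6) = true := by decide +kernel
theorem t1690_rchk_5379 : allR t1690_rf 352792 6 (5379 * 2 ^ 6) = true := by decide +kernel
theorem t1690_rchk_5380 : allR t1690_rf 352792 6 (5380 * 2 ^ 6) = true := by decide +kernel
theorem t1690_rchk_5381 : allR t1690_rf 352792 6 (5381 * 2 ^ 6) = true := by decide +kernel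
theorem t1690_rchk_5382 : allR t1690_rf 352792 6 (5382 * 2 ^ 6) = true := by decide +kernel
theorem t1690_rchk_5383 : allR t1690_rf 352792 6 (5383 * 2 ^ 6) = true := by decide +kernel
theorem t1690_rchk_5384 : allR t1690_rf 352792 6 (5384 * 2 ^ 6) = true := by decide +kernel
theorem t1690_rchk_5385 : allR t1690_rf 352792 6 (5385 * 2 ^ 6) = true := by decide +kernel
theorem t1690_rchk_5386 : allR t1690_rf 352792 6 (5386 * 2 ^ 6) = true := by decide +kernel
theorem t1690_rchk_5387 : allR t1690_rf 352792 6 (5387 * 2 ^ 6) = true := by decide +kernel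
theorem t1690_rchk_5388 : allR t1690_rf 352792 6 (5388 * 2 ^ 6) = true := by decide +kernel
theorem t1690_rchk_5389 : allR t1690_rf 352792 6 (5389 * 2 ^ 6) = true := by decide +kernel
theorem t1690_rchk_5390 : allR t1690_rf 352792 6 (5390 * 2 ^ 6) = true := by decide +kernel
theorem t1690_rchk_5391 : allR t1690_rf 352792 6 (5391 * 2 ^ 6) = true := by decide +kernel
theorem t1690_rchk_5392 : allR t1690_rf 352792 6 (5392 * 2 ^ 6) = true := by decide +kernel
theorem t1690_rchk_5393 : allR t1690_rf 352792 6 (5393 * 2 ^ 6) = true := by decide +kernel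
theorem t1690_rchk_5394 : allR t1690_rf 352792 6 (5394 * 2 ^ 6) = true := by decide +kernel
theorem t1690_rchk_5395 : allR t1690_rf 352792 6 (5395 * 2 ^ 6) = true := by decide +kernel
theorem t1690_rchk_5396 : allR t1690_rf 352792 6 (5396 * 2 ^ 6) = true := by decide +kernel
theorem t1690_rchk_5397 : allR t1690_rf 352792 6 (5397 * 2 ^ 6) = true := by decide +kernel
theorem t1690_rchk_5398 : allR t1690_rf 352792 6 (5398 * 2 ^ 6) = true := by decide +kernel
theorem t1690_rchk_5399 : allR t1690_rf 352792 6 (5399 * 2 ^ 6) = true := by decide +kernel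
theorem t1690_rchk_5400 : allR t1690_rf 352792 6 (5400 * 2 ^ 6) = true := by decide +kernel
theorem t1690_rchk_5401 : allR t1690_rf 352792 6 (5401 * 2 ^ 6) = true := by decide +kernel
theorem t1690_rchk_5402 : allR t1690_rf 352792 6 (5402 * 2 ^ 6) = true := by decide +kernel
theorem t1690_rchk_5403 : allR t1690_rf 352792 6 (5403 * 2 ^ 6) = true := by decide +kernel
theorem t1690_rchk_5404 : allR t1690_rf 352792 6 (5404 * 2 ^ 6) = true := by decide +kernel
theorem t1690_rchk_5405 : allR t1690_rf 352792 6 (5405 * 2 ^ 6) = true := by decide +kernel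
theorem t1690_rchk_5406 : allR t1690_rf 352792 6 (5406 * 2 ^ 6) = true := by decide +kernel
theorem t1690_rchk_5407 : allR t1690_rf 352792 6 (5407 * 2 ^ 6) = true := by decide +kernel
theorem t1690_rchk_5408 : allR t1690_rf 352792 6 (5408 * 2 ^ 6) = true := by decide +kernel
theorem t1690_rchk_5409 : allR t1690_rf 352792 6 (5409 * 2 ^ 6) = true := by decide +kernel
theorem t1690_rchk_5410 : allR t1690_rf 352792 6 (5410 * 2 ^ 6) = true := by decide +kernel
theorem t1690_rchk_5411 : allR t1690_rf 352792 6 (5411 * 2 ^ 6) = true := by decide +kernel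
theorem t1690_rchk_5412 : allR t1690_rf 352792 6 (5412 * 2 ^ 6) = true := by decide +kernel
theorem t1690_rchk_5413 : allR t1690_rf 352792 6 (5413 * 2 ^ 6) = true := by decide +kernel
theorem t1690_rchk_5414 : allR t1690_rf 352792 6 (5414 * 2 ^ 6) = true := by decide +kernel
theorem t1690_rchk_5415 : allR t1690_rf 352792 6 (5415 * 2 ^ 6) = true := by decide +kernel
theorem t1690_rchk_5416 : allR t1690_rf 352792 6 (5416 * 2 ^ 6) = true := by decide +kernel
theorem t1690_rchk_5417 : allR t1690_rf 352792 6 (5417 * 2 ^ 6) = true := by decide +kernel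
theorem t1690_rchk_5418 : allR t1690_rf 352792 6 (5418 * 2 ^ 6) = true := by decide +kernel
theorem t1690_rchk_5419 : allR t1690_rf 352792 6 (5419 * 2 ^ 6) = true := by decide +kernel
theorem t1690_rchk_5420 : allR t1690_rf 352792 6 (5420 * 2 ^ 6) = true := by decide +kernel
theorem t1690_rchk_5421 : allR t1690_rf 352792 6 (5421 * 2 ^ 6) = true := by decide +kernel
theorem t1690_rchk_5422 : allR t1690_rf 352792 6 (5422 * 2 ^ 6) = true := by decide +kernel
theorem t1690_rchk_5423 : allR t1690_rf 352792 6 (5423 * 2 ^ 6) = true := by decide +kernel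
theorem t1690_rchk_5424 : allR t1690_rf 352792 6 (5424 * 2 ^ 6) = true := by decide +kernel
theorem t1690_rchk_5425 : allR t1690_rf 352792 6 (5425 * 2 ^ 6) = true := by decide +kernel
theorem t1690_rchk_5426 : allR t1690_rf 352792 6 (5426 * 2 ^ 6) = true := by decide +kernel
theorem t1690_rchk_5427 : allR t1690_rf 352792 6 (5427 * 2 ^ 6) = true := by decide +kernel
theorem t1690_rchk_5428 : allR t1690_rf 352792 6 (5428 * 2 ^ 6) = true := by decide +kernel
theorem t1690_rchk_5429 : allR t1690_rf 352792 6 (5429 * 2 ^ 6) = true := by decide +kernel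
theorem t1690_rchk_5430 : allR t1690_rf 352792 6 (5430 * 2 ^ 6) = true := by decide +kernel
theorem t1690_rchk_5431 : allR t1690_rf 352792 6 (5431 * 2 ^ 6) = true := by decide +kernel
theorem t1690_rchk_5432 : allR t1690_rf 352792 6 (5432 * 2 ^ 6) = true := by decide +kernel
theorem t1690_rchk_5433 : allR t1690_rf 352792 6 (5433 * 2 ^ 6) = true := by decide +kernel
theorem t1690_rchk_5434 : allR t1690_rf 352792 6 (5434 * 2 ^ 6) = true := by decide +kernel
theorem t1690_rchk_5435 : allR t1690_rf 352792 6 (5435 * 2 ^ 6) = true := by decide +kernel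
theorem t1690_rchk_5436 : allR t1690_rf 352792 6 (5436 * 2 ^ 6) = true := by decide +kernel
theorem t1690_rchk_5437 : allR t1690_rf 352792 6 (5437 * 2 ^ 6) = true := by decide +kernel
theorem t1690_rchk_5438 : allR t1690_rf 352792 6 (5438 * 2 ^ 6) = true := by decide +kernel
theorem t1690_rchk_5439 : allR t1690_rf 352792 6 (5439 * 2 ^ 6) = true := by decide +kernel

theorem t1690_rfile_67 : ∀ k, k < 5440 → 5360 ≤ k → allR t1690_rf 352792 6 (k * 2 ^ 6) = true := by
  intro k h1 h2
  interval_cases k
  · exact t1690_rchk_5360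
  · exact t1690_rchk_5361
  · exact t1690_rchk_5362
  · exact t1690_rchk_5363
  · exact t1690_rchk_5364
  · exact t1690_rchk_5365
  · exact t1690_rchk_5366
  · exact t1690_rchk_5367
  · exact t1690_rchk_5368
  · exact t1690_rchk_5369
  · exact t1690_rchk_5370
  · exact t1690_rchk_5371
  · exact t1690_rchk_5372
  · exact t1690_rchk_5373
  · exact t1690_rchk_5374
  · exact t1690_rchk_5375
  · exact t1690_rchk_5376
  · exact t1690_rchk_5377
  · exact t1690_rchk_5378
  · exact t1690_rchk_5379
  · exact t1690_rchk_5380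
  · exact t1690_rchk_5381
  · exact t1690_rchk_5382
  · exact t1690_rchk_5383
  · exact t1690_rchk_5384
  · exact t1690_rchk_5385
  · exact t1690_rchk_5386
  · exact t1690_rchk_5387
  · exact t1690_rchk_5388
  · exact t1690_rchk_5389
  · exact t1690_rchk_5390
  · exact t1690_rchk_5391
  · exact t1690_rchk_5392
  · exact t1690_rchk_5393
  · exact t1690_rchk_5394
  · exact t1690_rchk_5395
  · exact t1690_rchk_5396
  · exact t1690_rchk_5397
  · exact t1690_rchk_5398
  · exact t1690_rchk_5399
  · exact t1690_rchk_5400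
  · exact t1690_rchk_5401
  · exact t1690_rchk_5402
  · exact t1690_rchk_5403
  · exact t1690_rchk_5404
  · exact t1690_rchk_5405
  · exact t1690_rchk_5406
  · exact t1690_rchk_5407
  · exact t1690_rchk_5408
  · exact t1690_rchk_5409
  · exact t1690_rchk_5410
  · exact t1690_rchk_5411
  · exact t1690_rchk_5412
  · exact t1690_rchk_5413
  · exact t1690_rchk_5414
  · exact t1690_rchk_5415
  · exact t1690_rchk_5416
  · exact t1690_rchk_5417
  · exact t1690_rchk_5418
  · exact t1690_rchk_5419
  · exact t1690_rchk_5420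
  · exact t1690_rchk_5421
  · exact t1690_rchk_5422
  · exact t1690_rchk_5423
  · exact t1690_rchk_5424
  · exact t1690_rchk_5425
  · exact t1690_rchk_5426
  · exact t1690_rchk_5427
  · exact t1690_rchk_5428
  · exact t1690_rchk_5429
  · exact t1690_rchk_5430
  · exact t1690_rchk_5431
  · exact t1690_rchk_5432
  · exact t1690_rchk_5433
  · exact t1690_rchk_5434
  · exact t1690_rchk_5435
  · exact t1690_rchk_5436
  · exact t1690_rchk_5437
  · exact t1690_rchk_5438
  · exact t1690_rchk_5439

end Cfsg.Agent.H35
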