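import Cfsg.Agent.H35.T1690.RTab

set_option autoImplicit false
set_option linter.all false
set_option Elab.async false

namespace Cfsg.Agent.H35

theorem t1690_rchk_5440 : allR t1690_rf 352792 6 (5440 * 2 ^ 6) = true := by decide +kernel
theorem t1690_rchk_5441 : allR t1690_rf 352792 6 (5441 * 2 ^ 6) = true := by decide +kernel
theorem t1690_rchk_5442 : allR t1690_rf 352792 6 (5442 * 2 ^ 6) = true := by decide +kernel
theorem t1690_rchk_5443 : allR t1690_rf 352792 6 (5443 * 2 ^ 6) = true := by decide +kernel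
theorem t1690_rchk_5444 : allR t1690_rf 352792 6 (5444 * 2 ^ 6) = true := by decide +kernel
theorem t1690_rchk_5445 : allR t1690_rf 352792 6 (5445 * 2 ^ 6) = true := by decide +kernel
theorem t1690_rchk_5446 : allR t1690_rf 352792 6 (5446 * 2 ^ 6) = true := by decide +kernel
theorem t1690_rchk_5447 : allR t1690_rf 352792 6 (5447 * 2 ^ 6) = true := by decide +kernel
theorem t1690_rchk_5448 : allR t1690_rf 352792 6 (5448 * 2 ^ 6) = true := by decide +kernel
theorem t1690_rchk_5449 : allR t1690_rf 352792 6 (5449 * 2 ^ 6) = true := by decide +kernel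
theorem t1690_rchk_5450 : allR t1690_rf 352792 6 (5450 * 2 ^ 6) = true := by decide +kernel
theorem t1690_rchk_5451 : allR t1690_rf 352792 6 (5451 * 2 ^ 6) = true := by decide +kernel
theorem t1690_rchk_5452 : allR t1690_rf 352792 6 (5452 * 2 ^ 6) = true := by decide +kernel
theorem t1690_rchk_5453 : allR t1690_rf 352792 6 (5453 * 2 ^ 6) = true := by decide +kernel
theorem t1690_rchk_5454 : allR t1690_rf 352792 6 (5454 * 2 ^ 6) = true := by decide +kernel
theorem t1690_rchk_5455 : allR t1690_rf 352792 6 (5455 * 2 ^ 6) = true := by decide +kernel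
theorem t1690_rchk_5456 : allR t1690_rf 352792 6 (5456 * 2 ^ 6) = true := by decide +kernel
theorem t1690_rchk_5457 : allR t1690_rf 352792 6 (5457 * 2 ^ 6) = true := by decide +kernel
theorem t1690_rchk_5458 : allR t1690_rf 352792 6 (5458 * 2 ^ 6) = true := by decide +kernel
theorem t1690_rchk_5459 : allR t1690_rf 352792 6 (5459 * 2 ^ 6) = true := by decide +kernel
theorem t1690_rchk_5460 : allR t1690_rf 352792 6 (5460 * 2 ^ 6) = true := by decide +kernel
theorem t1690_rchk_5461 : allR t1690_rf 352792 6 (5461 * 2 ^ 6) = true := by decide +kernel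
theorem t1690_rchk_5462 : allR t1690_rf 352792 6 (5462 * 2 ^ 6) = true := by decide +kernel
theorem t1690_rchk_5463 : allR t1690_rf 352792 6 (5463 * 2 ^ 6) = true := by decide +kernel
theorem t1690_rchk_5464 : allR t1690_rf 352792 6 (5464 * 2 ^ 6) = true := by decide +kernel
theorem t1690_rchk_5465 : allR t1690_rf 352792 6 (5465 * 2 ^ 6) = true := by decide +kernel
theorem t1690_rchk_5466 : allR t1690_rf 352792 6 (5466 * 2 ^ 6) = true := by decide +kernel
theorem t1690_rchk_5467 : allR t1690_rf 352792 6 (5467 * 2 ^ 6) = true := by decide +kernel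
theorem t1690_rchk_5468 : allR t1690_rf 352792 6 (5468 * 2 ^ 6) = true := by decide +kernel
theorem t1690_rchk_5469 : allR t1690_rf 352792 6 (5469 * 2 ^ 6) = true := by decide +kernel
theorem t1690_rchk_5470 : allR t1690_rf 352792 6 (5470 * 2 ^ 6) = true := by decide +kernel
theorem t1690_rchk_5471 : allR t1690_rf 352792 6 (5471 * 2 ^ 6) = true := by decide +kernel
theorem t1690_rchk_5472 : allR t1690_rf 352792 6 (5472 * 2 ^ 6) = true := by decide +kernel
theorem t1690_rchk_5473 : allR t1690_rf 352792 6 (5473 * 2 ^ 6) = true := by decide +kernel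
theorem t1690_rchk_5474 : allR t1690_rf 352792 6 (5474 * 2 ^ 6) = true := by decide +kernel
theorem t1690_rchk_5475 : allR t1690_rf 352792 6 (5475 * 2 ^ 6) = true := by decide +kernel
theorem t1690_rchk_5476 : allR t1690_rf 352792 6 (5476 * 2 ^ 6) = true := by decide +kernel
theorem t1690_rchk_5477 : allR t1690_rf 352792 6 (5477 * 2 ^ 6) = true := by decide +kernel
theorem t1690_rchk_5478 : allR t1690_rf 352792 6 (5478 * 2 ^ 6) = true := by decide +kernel
theorem t1690_rchk_5479 : allR t1690_rf 352792 6 (5479 * 2 ^ 6) = true := by decide +kernel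
theorem t1690_rchk_5480 : allR t1690_rf 352792 6 (5480 * 2 ^ 6) = true := by decide +kernel
theorem t1690_rchk_5481 : allR t1690_rf 352792 6 (5481 * 2 ^ 6) = true := by decide +kernel
theorem t1690_rchk_5482 : allR t1690_rf 352792 6 (5482 * 2 ^ 6) = true := by decide +kernel
theorem t1690_rchk_5483 : allR t1690_rf 352792 6 (5483 * 2 ^ 6) = true := by decide +kernel
theorem t1690_rchk_5484 : allR t1690_rf 352792 6 (5484 * 2 ^ 6) = true := by decide +kernel
theorem t1690_rchk_5485 : allR t1690_rf 352792 6 (5485 * 2 ^ 6) = true := by decide +kernel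
theorem t1690_rchk_5486 : allR t1690_rf 352792 6 (5486 * 2 ^ 6) = true := by decide +kernel
theorem t1690_rchk_5487 : allR t1690_rf 352792 6 (5487 * 2 ^ 6) = true := by decide +kernel
theorem t1690_rchk_5488 : allR t1690_rf 352792 6 (5488 * 2 ^ 6) = true := by decide +kernel
theorem t1690_rchk_5489 : allR t1690_rf 352792 6 (5489 * 2 ^ 6) = true := by decide +kernel
theorem t1690_rchk_5490 : allR t1690_rf 352792 6 (5490 * 2 ^ 6) = true := by decide +kernel
theorem t1690_rchk_5491 : allR t1690_rf 352792 6 (5491 * 2 ^ 6) = true := by decide +kernel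
theorem t1690_rchk_5492 : allR t1690_rf 352792 6 (5492 * 2 ^ 6) = true := by decide +kernel
theorem t1690_rchk_5493 : allR t1690_rf 352792 6 (5493 * 2 ^ 6) = true := by decide +kernel
theorem t1690_rchk_5494 : allR t1690_rf 352792 6 (5494 * 2 ^ 6) = true := by decide +kernel
theorem t1690_rchk_5495 : allR t1690_rf 352792 6 (5495 * 2 ^ 6) = true := by decide +kernel
theorem t1690_rchk_5496 : allR t1690_rf 352792 6 (5496 * 2 ^ 6) = true := by decide +kernel
theorem t1690_rchk_5497 : allR t1690_rf 352792 6 (5497 * 2 ^ 6) = true := by decide +kernel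
theorem t1690_rchk_5498 : allR t1690_rf 352792 6 (5498 * 2 ^ 6) = true := by decide +kernel
theorem t1690_rchk_5499 : allR t1690_rf 352792 6 (5499 * 2 ^ 6) = true := by decide +kernel
theorem t1690_rchk_5500 : allR t1690_rf 352792 6 (5500 * 2 ^ 6) = true := by decide +kernel
theorem t1690_rchk_5501 : allR t1690_rf 352792 6 (5501 * 2 ^ 6) = true := by decide +kernel
theorem t1690_rchk_5502 : allR t1690_rf 352792 6 (5502 * 2 ^ 6) = true := by decide +kernel
theorem t1690_rchk_5503 : allR t1690_rf 352792 6 (5503 * 2 ^ 6) = true := by decide +kernel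
theorem t1690_rchk_5504 : allR t1690_rf 352792 6 (5504 * 2 ^ 6) = true := by decide +kernel
theorem t1690_rchk_5505 : allR t1690_rf 352792 6 (5505 * 2 ^ 6) = true := by decide +kernel
theorem t1690_rchk_5506 : allR t1690_rf 352792 6 (5506 * 2 ^ 6) = true := by decide +kernel
theorem t1690_rchk_5507 : allR t1690_rf 352792 6 (5507 * 2 ^ 6) = true := by decide +kernel
theorem t1690_rchk_5508 : allR t1690_rf 352792 6 (5508 * 2 ^ 6) = true := by decide +kernel
theorem t1690_rchk_5509 : allR t1690_rf 352792 6 (5509 * 2 ^ 6) = true := by decide +kernel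
theorem t1690_rchk_5510 : allR t1690_rf 352792 6 (5510 * 2 ^ 6) = true := by decide +kernel
theorem t1690_rchk_5511 : allR t1690_rf 352792 6 (5511 * 2 ^ 6) = true := by decide +kernel
theorem t1690_rchk_5512 : allR t1690_rf 352792 6 (5512 * 2 ^ 6) = true := by decide +kernel

theorem t1690_rfile_68 : ∀ k, k < 5513 → 5440 ≤ k → allR t1690_rf 352792 6 (k * 2 ^ 6) = true := by
  intro k h1 h2
  interval_cases k
  · exact t1690_rchk_5440
  · exact t1690_rchk_5441
  · exact t1690_rchk_5442
  · exact t1690_rchk_5443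
  · exact t1690_rchk_5444
  · exact t1690_rchk_5445
  · exact t1690_rchk_5446
  · exact t1690_rchk_5447
  · exact t1690_rchk_5448
  · exact t1690_rchk_5449
  · exact t1690_rchk_5450
  · exact t1690_rchk_5451
  · exact t1690_rchk_5452
  · exact t1690_rchk_5453
  · exact t1690_rchk_5454
  · exact t1690_rchk_5455
  · exact t1690_rchk_5456
  · exact t1690_rchk_5457
  · exact t1690_rchk_5458
  · exact t1690_rchk_5459
  · exact t1690_rchk_5460
  · exact t1690_rchk_5461
  · exact t1690_rchk_5462
  · exact t1690_rchk_5463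
  · exact t1690_rchk_5464
  · exact t1690_rchk_5465
  · exact t1690_rchk_5466
  · exact t1690_rchk_5467
  · exact t1690_rchk_5468
  · exact t1690_rchk_5469
  · exact t1690_rchk_5470
  · exact t1690_rchk_5471
  · exact t1690_rchk_5472
  · exact t1690_rchk_5473
  · exact t1690_rchk_5474
  · exact t1690_rchk_5475
  · exact t1690_rchk_5476
  · exact t1690_rchk_5477
  · exact t1690_rchk_5478
  · exact t1690_rchk_5479
  · exact t1690_rchk_5480
  · exact t1690_rchk_5481
  · exact t1690_rchk_5482
  · exact t1690_rchk_5483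
  · exact t1690_rchk_5484
  · exact t1690_rchk_5485
  · exact t1690_rchk_5486
  · exact t1690_rchk_5487
  · exact t1690_rchk_5488
  · exact t1690_rchk_5489
  · exact t1690_rchk_5490
  · exact t1690_rchk_5491
  · exact t1690_rchk_5492
  · exact t1690_rchk_5493
  · exact t1690_rchk_5494
  · exact t1690_rchk_5495
  · exact t1690_rchk_5496
  · exact t1690_rchk_5497
  · exact t1690_rchk_5498
  · exact t1690_rchk_5499
  · exact t1690_rchk_5500
  · exact t1690_rchk_5501
  · exact t1690_rchk_5502
  · exact t1690_rchk_5503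
  · exact t1690_rchk_5504
  · exact t1690_rchk_5505
  · exact t1690_rchk_5506
  · exact t1690_rchk_5507
  · exact t1690_rchk_5508
  · exact t1690_rchk_5509
  · exact t1690_rchk_5510
  · exact t1690_rchk_5511
  · exact t1690_rchk_5512

end Cfsg.Agent.H35
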