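import Cfsg.Agent.H35.T1690.RTab

set_option autoImplicit false
set_option linter.all false
set_option Elab.async false

namespace Cfsg.Agent.H35

theorem t1690_rchk_560 : allR t1690_rf 352792 6 (560 * 2 ^ 6) = true := by decide +kernel
theorem t1690_rchk_561 : allR t1690_rf 352792 6 (561 * 2 ^ 6) = true := by decide +kernel
theorem t1690_rchk_562 : allR t1690_rf 352792 6 (562 * 2 ^ 6) = true := by decide +kernel
theorem t1690_rchk_563 : allR t1690_rf 352792 6 (563 * 2 ^ 6) = true := by decide +kernel
theorem t1690_rchk_564 : allR t1690_rf 352792 6 (564 * 2 ^ 6) = true := by decide +kernel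
theorem t1690_rchk_565 : allR t1690_rf 352792 6 (565 * 2 ^ 6) = true := by decide +kernel
theorem t1690_rchk_566 : allR t1690_rf 352792 6 (566 * 2 ^ 6) = true := by decide +kernel
theorem t1690_rchk_567 : allR t1690_rf 352792 6 (567 * 2 ^ 6) = true := by decide +kernel
theorem t1690_rchk_568 : allR t1690_rf 352792 6 (568 * 2 ^ 6) = true := by decide +kernel
theorem t1690_rchk_569 : allR t1690_rf 352792 6 (569 * 2 ^ 6) = true := by decide +kernel
theorem t1690_rchk_570 : allR t1690_rf 352792 6 (570 * 2 ^ 6) = true := by decide +kernel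
theorem t1690_rchk_571 : allR t1690_rf 352792 6 (571 * 2 ^ 6) = true := by decide +kernel
theorem t1690_rchk_572 : allR t1690_rf 352792 6 (572 * 2 ^ 6) = true := by decide +kernel
theorem t1690_rchk_573 : allR t1690_rf 352792 6 (573 * 2 ^ 6) = true := by decide +kernel
theorem t1690_rchk_574 : allR t1690_rf 352792 6 (574 * 2 ^ 6) = true := by decide +kernel
theorem t1690_rchk_575 : allR t1690_rf 352792 6 (575 * 2 ^ 6) = true := by decide +kernel
theorem t1690_rchk_576 : allR t1690_rf 352792 6 (576 * 2 ^ 6) = true := by decide +kernel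
theorem t1690_rchk_577 : allR t1690_rf 352792 6 (577 * 2 ^ 6) = true := by decide +kernel
theorem t1690_rchk_578 : allR t1690_rf 352792 6 (578 * 2 ^ 6) = true := by decide +kernel
theorem t1690_rchk_579 : allR t1690_rf 352792 6 (579 * 2 ^ 6) = true := by decide +kernel
theorem t1690_rchk_580 : allR t1690_rf 352792 6 (580 * 2 ^ 6) = true := by decide +kernel
theorem t1690_rchk_581 : allR t1690_rf 352792 6 (581 * 2 ^ 6) = true := by decide +kernel
theorem t1690_rchk_582 : allR t1690_rf 352792 6 (582 * 2 ^ 6) = true := by decide +kernel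
theorem t1690_rchk_583 : allR t1690_rf 352792 6 (583 * 2 ^ 6) = true := by decide +kernel
theorem t1690_rchk_584 : allR t1690_rf 352792 6 (584 * 2 ^ 6) = true := by decide +kernel
theorem t1690_rchk_585 : allR t1690_rf 352792 6 (585 * 2 ^ 6) = true := by decide +kernel
theorem t1690_rchk_586 : allR t1690_rf 352792 6 (586 * 2 ^ 6) = true := by decide +kernel
theorem t1690_rchk_587 : allR t1690_rf 352792 6 (587 * 2 ^ 6) = true := by decide +kernel
theorem t1690_rchk_588 : allR t1690_rf 352792 6 (588 * 2 ^ 6) = true := by decide +kernel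
theorem t1690_rchk_589 : allR t1690_rf 352792 6 (589 * 2 ^ 6) = true := by decide +kernel
theorem t1690_rchk_590 : allR t1690_rf 352792 6 (590 * 2 ^ 6) = true := by decide +kernel
theorem t1690_rchk_591 : allR t1690_rf 352792 6 (591 * 2 ^ 6) = true := by decide +kernel
theorem t1690_rchk_592 : allR t1690_rf 352792 6 (592 * 2 ^ 6) = true := by decide +kernel
theorem t1690_rchk_593 : allR t1690_rf 352792 6 (593 * 2 ^ 6) = true := by decide +kernel
theorem t1690_rchk_594 : allR t1690_rf 352792 6 (594 * 2 ^ 6) = true := by decide +kernel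
theorem t1690_rchk_595 : allR t1690_rf 352792 6 (595 * 2 ^ 6) = true := by decide +kernel
theorem t1690_rchk_596 : allR t1690_rf 352792 6 (596 * 2 ^ 6) = true := by decide +kernel
theorem t1690_rchk_597 : allR t1690_rf 352792 6 (597 * 2 ^ 6) = true := by decide +kernel
theorem t1690_rchk_598 : allR t1690_rf 352792 6 (598 * 2 ^ 6) = true := by decide +kernel
theorem t1690_rchk_599 : allR t1690_rf 352792 6 (599 * 2 ^ 6) = true := by decide +kernel
theorem t1690_rchk_600 : allR t1690_rf 352792 6 (600 * 2 ^ 6) = true := by decide +kernel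
theorem t1690_rchk_601 : allR t1690_rf 352792 6 (601 * 2 ^ 6) = true := by decide +kernel
theorem t1690_rchk_602 : allR t1690_rf 352792 6 (602 * 2 ^ 6) = true := by decide +kernel
theorem t1690_rchk_603 : allR t1690_rf 352792 6 (603 * 2 ^ 6) = true := by decide +kernel
theorem t1690_rchk_604 : allR t1690_rf 352792 6 (604 * 2 ^ 6) = true := by decide +kernel
theorem t1690_rchk_605 : allR t1690_rf 352792 6 (605 * 2 ^ 6) = true := by decide +kernel
theorem t1690_rchk_606 : allR t1690_rf 352792 6 (606 * 2 ^ 6) = true := by decide +kernel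
theorem t1690_rchk_607 : allR t1690_rf 352792 6 (607 * 2 ^ 6) = true := by decide +kernel
theorem t1690_rchk_608 : allR t1690_rf 352792 6 (608 * 2 ^ 6) = true := by decide +kernel
theorem t1690_rchk_609 : allR t1690_rf 352792 6 (609 * 2 ^ 6) = true := by decide +kernel
theorem t1690_rchk_610 : allR t1690_rf 352792 6 (610 * 2 ^ 6) = true := by decide +kernel
theorem t1690_rchk_611 : allR t1690_rf 352792 6 (611 * 2 ^ 6) = true := by decide +kernel
theorem t1690_rchk_612 : allR t1690_rf 352792 6 (612 * 2 ^ 6) = true := by decide +kernel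
theorem t1690_rchk_613 : allR t1690_rf 352792 6 (613 * 2 ^ 6) = true := by decide +kernel
theorem t1690_rchk_614 : allR t1690_rf 352792 6 (614 * 2 ^ 6) = true := by decide +kernel
theorem t1690_rchk_615 : allR t1690_rf 352792 6 (615 * 2 ^ 6) = true := by decide +kernel
theorem t1690_rchk_616 : allR t1690_rf 352792 6 (616 * 2 ^ 6) = true := by decide +kernel
theorem t1690_rchk_617 : allR t1690_rf 352792 6 (617 * 2 ^ 6) = true := by decide +kernel
theorem t1690_rchk_618 : allR t1690_rf 352792 6 (618 * 2 ^ 6) = true := by decide +kernel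
theorem t1690_rchk_619 : allR t1690_rf 352792 6 (619 * 2 ^ 6) = true := by decide +kernel
theorem t1690_rchk_620 : allR t1690_rf 352792 6 (620 * 2 ^ 6) = true := by decide +kernel
theorem t1690_rchk_621 : allR t1690_rf 352792 6 (621 * 2 ^ 6) = true := by decide +kernel
theorem t1690_rchk_622 : allR t1690_rf 352792 6 (622 * 2 ^ 6) = true := by decide +kernel
theorem t1690_rchk_623 : allR t1690_rf 352792 6 (623 * 2 ^ 6) = true := by decide +kernel
theorem t1690_rchk_624 : allR t1690_rf 352792 6 (624 * 2 ^ 6) = true := by decide +kernel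
theorem t1690_rchk_625 : allR t1690_rf 352792 6 (625 * 2 ^ 6) = true := by decide +kernel
theorem t1690_rchk_626 : allR t1690_rf 352792 6 (626 * 2 ^ 6) = true := by decide +kernel
theorem t1690_rchk_627 : allR t1690_rf 352792 6 (627 * 2 ^ 6) = true := by decide +kernel
theorem t1690_rchk_628 : allR t1690_rf 352792 6 (628 * 2 ^ 6) = true := by decide +kernel
theorem t1690_rchk_629 : allR t1690_rf 352792 6 (629 * 2 ^ 6) = true := by decide +kernel
theorem t1690_rchk_630 : allR t1690_rf 352792 6 (630 * 2 ^ 6) = true := by decide +kernel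
theorem t1690_rchk_631 : allR t1690_rf 352792 6 (631 * 2 ^ 6) = true := by decide +kernel
theorem t1690_rchk_632 : allR t1690_rf 352792 6 (632 * 2 ^ 6) = true := by decide +kernel
theorem t1690_rchk_633 : allR t1690_rf 352792 6 (633 * 2 ^ 6) = true := by decide +kernel
theorem t1690_rchk_634 : allR t1690_rf 352792 6 (634 * 2 ^ 6) = true := by decide +kernel
theorem t1690_rchk_635 : allR t1690_rf 352792 6 (635 * 2 ^ 6) = true := by decide +kernel
theorem t1690_rchk_636 : allR t1690_rf 352792 6 (636 * 2 ^ 6) = true := by decide +kernel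
theorem t1690_rchk_637 : allR t1690_rf 352792 6 (637 * 2 ^ 6) = true := by decide +kernel
theorem t1690_rchk_638 : allR t1690_rf 352792 6 (638 * 2 ^ 6) = true := by decide +kernel
theorem t1690_rchk_639 : allR t1690_rf 352792 6 (639 * 2 ^ 6) = true := by decide +kernel

theorem t1690_rfile_7 : ∀ k, k < 640 → 560 ≤ k → allR t1690_rf 352792 6 (k * 2 ^ 6) = true := by
  intro k h1 h2
  interval_cases k
  · exact t1690_rchk_560
  · exact t1690_rchk_561
  · exact t1690_rchk_562
  · exact t1690_rchk_563
  · exact t1690_rchk_564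
  · exact t1690_rchk_565
  · exact t1690_rchk_566
  · exact t1690_rchk_567
  · exact t1690_rchk_568
  · exact t1690_rchk_569
  · exact t1690_rchk_570
  · exact t1690_rchk_571
  · exact t1690_rchk_572
  · exact t1690_rchk_573
  · exact t1690_rchk_574
  · exact t1690_rchk_575
  · exact t1690_rchk_576
  · exact t1690_rchk_577
  · exact t1690_rchk_578
  · exact t1690_rchk_579
  · exact t1690_rchk_580
  · exact t1690_rchk_581
  · exact t1690_rchk_582
  · exact t1690_rchk_583
  · exact t1690_rchk_584
  · exact t1690_rchk_585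
  · exact t1690_rchk_586
  · exact t1690_rchk_587
  · exact t1690_rchk_588
  · exact t1690_rchk_589
  · exact t1690_rchk_590
  · exact t1690_rchk_591
  · exact t1690_rchk_592
  · exact t1690_rchk_593
  · exact t1690_rchk_594
  · exact t1690_rchk_595
  · exact t1690_rchk_596
  · exact t1690_rchk_597
  · exact t1690_rchk_598
  · exact t1690_rchk_599
  · exact t1690_rchk_600
  · exact t1690_rchk_601
  · exact t1690_rchk_602
  · exact t1690_rchk_603
  · exact t1690_rchk_604
  · exact t1690_rchk_605
  · exact t1690_rchk_606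
  · exact t1690_rchk_607
  · exact t1690_rchk_608
  · exact t1690_rchk_609
  · exact t1690_rchk_610
  · exact t1690_rchk_611
  · exact t1690_rchk_612
  · exact t1690_rchk_613
  · exact t1690_rchk_614
  · exact t1690_rchk_615
  · exact t1690_rchk_616
  · exact t1690_rchk_617
  · exact t1690_rchk_618
  · exact t1690_rchk_619
  · exact t1690_rchk_620
  · exact t1690_rchk_621
  · exact t1690_rchk_622
  · exact t1690_rchk_623
  · exact t1690_rchk_624
  · exact t1690_rchk_625
  · exact t1690_rchk_626
  · exact t1690_rchk_627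
  · exact t1690_rchk_628
  · exact t1690_rchk_629
  · exact t1690_rchk_630
  · exact t1690_rchk_631
  · exact t1690_rchk_632
  · exact t1690_rchk_633
  · exact t1690_rchk_634
  · exact t1690_rchk_635
  · exact t1690_rchk_636
  · exact t1690_rchk_637
  · exact t1690_rchk_638
  · exact t1690_rchk_639

end Cfsg.Agent.H35
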