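import Cfsg.Agent.H35.T1690.RTab

set_option autoImplicit false
set_option linter.all false
set_option Elab.async false

namespace Cfsg.Agent.H35

theorem t1690_rchk_640 : allR t1690_rf 352792 6 (640 * 2 ^ 6) = true := by decide +kernel
theorem t1690_rchk_641 : allR t1690_rf 352792 6 (641 * 2 ^ 6) = true := by decide +kernel
theorem t1690_rchk_642 : allR t1690_rf 352792 6 (642 * 2 ^ 6) = true := by decide +kernel
theorem t1690_rchk_643 : allR t1690_rf 352792 6 (643 * 2 ^ 6) = true := by decide +kernel
theorem t1690_rchk_644 : allR t1690_rf 352792 6 (644 * 2 ^ 6) = true := by decide +kernel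
theorem t1690_rchk_645 : allR t1690_rf 352792 6 (645 * 2 ^ 6) = true := by decide +kernel
theorem t1690_rchk_646 : allR t1690_rf 352792 6 (646 * 2 ^ 6) = true := by decide +kernel
theorem t1690_rchk_647 : allR t1690_rf 352792 6 (647 * 2 ^ 6) = true := by decide +kernel
theorem t1690_rchk_648 : allR t1690_rf 352792 6 (648 * 2 ^ 6) = true := by decide +kernel
theorem t1690_rchk_649 : allR t1690_rf 352792 6 (649 * 2 ^ 6) = true := by decide +kernel
theorem t1690_rchk_650 : allR t1690_rf 352792 6 (650 * 2 ^ 6) = true := by decide +kernel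
theorem t1690_rchk_651 : allR t1690_rf 352792 6 (651 * 2 ^ 6) = true := by decide +kernel
theorem t1690_rchk_652 : allR t1690_rf 352792 6 (652 * 2 ^ 6) = true := by decide +kernel
theorem t1690_rchk_653 : allR t1690_rf 352792 6 (653 * 2 ^ 6) = true := by decide +kernel
theorem t1690_rchk_654 : allR t1690_rf 352792 6 (654 * 2 ^ 6) = true := by decide +kernel
theorem t1690_rchk_655 : allR t1690_rf 352792 6 (655 * 2 ^ 6) = true := by decide +kernel
theorem t1690_rchk_656 : allR t1690_rf 352792 6 (656 * 2 ^ 6) = true := by decide +kernel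
theorem t1690_rchk_657 : allR t1690_rf 352792 6 (657 * 2 ^ 6) = true := by decide +kernel
theorem t1690_rchk_658 : allR t1690_rf 352792 6 (658 * 2 ^ 6) = true := by decide +kernel
theorem t1690_rchk_659 : allR t1690_rf 352792 6 (659 * 2 ^ 6) = true := by decide +kernel
theorem t1690_rchk_660 : allR t1690_rf 352792 6 (660 * 2 ^ 6) = true := by decide +kernel
theorem t1690_rchk_661 : allR t1690_rf 352792 6 (661 * 2 ^ 6) = true := by decide +kernel
theorem t1690_rchk_662 : allR t1690_rf 352792 6 (662 * 2 ^ 6) = true := by decide +kernel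
theorem t1690_rchk_663 : allR t1690_rf 352792 6 (663 * 2 ^ 6) = true := by decide +kernel
theorem t1690_rchk_664 : allR t1690_rf 352792 6 (664 * 2 ^ 6) = true := by decide +kernel
theorem t1690_rchk_665 : allR t1690_rf 352792 6 (665 * 2 ^ 6) = true := by decide +kernel
theorem t1690_rchk_666 : allR t1690_rf 352792 6 (666 * 2 ^ 6) = true := by decide +kernel
theorem t1690_rchk_667 : allR t1690_rf 352792 6 (667 * 2 ^ 6) = true := by decide +kernel
theorem t1690_rchk_668 : allR t1690_rf 352792 6 (668 * 2 ^ 6) = true := by decide +kernel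
theorem t1690_rchk_669 : allR t1690_rf 352792 6 (669 * 2 ^ 6) = true := by decide +kernel
theorem t1690_rchk_670 : allR t1690_rf 352792 6 (670 * 2 ^ 6) = true := by decide +kernel
theorem t1690_rchk_671 : allR t1690_rf 352792 6 (671 * 2 ^ 6) = true := by decide +kernel
theorem t1690_rchk_672 : allR t1690_rf 352792 6 (672 * 2 ^ 6) = true := by decide +kernel
theorem t1690_rchk_673 : allR t1690_rf 352792 6 (673 * 2 ^ 6) = true := by decide +kernel
theorem t1690_rchk_674 : allR t1690_rf 352792 6 (674 * 2 ^ 6) = true := by decide +kernel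
theorem t1690_rchk_675 : allR t1690_rf 352792 6 (675 * 2 ^ 6) = true := by decide +kernel
theorem t1690_rchk_676 : allR t1690_rf 352792 6 (676 * 2 ^ 6) = true := by decide +kernel
theorem t1690_rchk_677 : allR t1690_rf 352792 6 (677 * 2 ^ 6) = true := by decide +kernel
theorem t1690_rchk_678 : allR t1690_rf 352792 6 (678 * 2 ^ 6) = true := by decide +kernel
theorem t1690_rchk_679 : allR t1690_rf 352792 6 (679 * 2 ^ 6) = true := by decide +kernel
theorem t1690_rchk_680 : allR t1690_rf 352792 6 (680 * 2 ^ 6) = true := by decide +kernel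
theorem t1690_rchk_681 : allR t1690_rf 352792 6 (681 * 2 ^ 6) = true := by decide +kernel
theorem t1690_rchk_682 : allR t1690_rf 352792 6 (682 * 2 ^ 6) = true := by decide +kernel
theorem t1690_rchk_683 : allR t1690_rf 352792 6 (683 * 2 ^ 6) = true := by decide +kernel
theorem t1690_rchk_684 : allR t1690_rf 352792 6 (684 * 2 ^ 6) = true := by decide +kernel
theorem t1690_rchk_685 : allR t1690_rf 352792 6 (685 * 2 ^ 6) = true := by decide +kernel
theorem t1690_rchk_686 : allR t1690_rf 352792 6 (686 * 2 ^ 6) = true := by decide +kernel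
theorem t1690_rchk_687 : allR t1690_rf 352792 6 (687 * 2 ^ 6) = true := by decide +kernel
theorem t1690_rchk_688 : allR t1690_rf 352792 6 (688 * 2 ^ 6) = true := by decide +kernel
theorem t1690_rchk_689 : allR t1690_rf 352792 6 (689 * 2 ^ 6) = true := by decide +kernel
theorem t1690_rchk_690 : allR t1690_rf 352792 6 (690 * 2 ^ 6) = true := by decide +kernel
theorem t1690_rchk_691 : allR t1690_rf 352792 6 (691 * 2 ^ 6) = true := by decide +kernel
theorem t1690_rchk_692 : allR t1690_rf 352792 6 (692 * 2 ^ 6) = true := by decide +kernel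
theorem t1690_rchk_693 : allR t1690_rf 352792 6 (693 * 2 ^ 6) = true := by decide +kernel
theorem t1690_rchk_694 : allR t1690_rf 352792 6 (694 * 2 ^ 6) = true := by decide +kernel
theorem t1690_rchk_695 : allR t1690_rf 352792 6 (695 * 2 ^ 6) = true := by decide +kernel
theorem t1690_rchk_696 : allR t1690_rf 352792 6 (696 * 2 ^ 6) = true := by decide +kernel
theorem t1690_rchk_697 : allR t1690_rf 352792 6 (697 * 2 ^ 6) = true := by decide +kernel
theorem t1690_rchk_698 : allR t1690_rf 352792 6 (698 * 2 ^ 6) = true := by decide +kernel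
theorem t1690_rchk_699 : allR t1690_rf 352792 6 (699 * 2 ^ 6) = true := by decide +kernel
theorem t1690_rchk_700 : allR t1690_rf 352792 6 (700 * 2 ^ 6) = true := by decide +kernel
theorem t1690_rchk_701 : allR t1690_rf 352792 6 (701 * 2 ^ 6) = true := by decide +kernel
theorem t1690_rchk_702 : allR t1690_rf 352792 6 (702 * 2 ^ 6) = true := by decide +kernel
theorem t1690_rchk_703 : allR t1690_rf 352792 6 (703 * 2 ^ 6) = true := by decide +kernel
theorem t1690_rchk_704 : allR t1690_rf 352792 6 (704 * 2 ^ 6) = true := by decide +kernel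
theorem t1690_rchk_705 : allR t1690_rf 352792 6 (705 * 2 ^ 6) = true := by decide +kernel
theorem t1690_rchk_706 : allR t1690_rf 352792 6 (706 * 2 ^ 6) = true := by decide +kernel
theorem t1690_rchk_707 : allR t1690_rf 352792 6 (707 * 2 ^ 6) = true := by decide +kernel
theorem t1690_rchk_708 : allR t1690_rf 352792 6 (708 * 2 ^ 6) = true := by decide +kernel
theorem t1690_rchk_709 : allR t1690_rf 352792 6 (709 * 2 ^ 6) = true := by decide +kernel
theorem t1690_rchk_710 : allR t1690_rf 352792 6 (710 * 2 ^ 6) = true := by decide +kernel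
theorem t1690_rchk_711 : allR t1690_rf 352792 6 (711 * 2 ^ 6) = true := by decide +kernel
theorem t1690_rchk_712 : allR t1690_rf 352792 6 (712 * 2 ^ 6) = true := by decide +kernel
theorem t1690_rchk_713 : allR t1690_rf 352792 6 (713 * 2 ^ 6) = true := by decide +kernel
theorem t1690_rchk_714 : allR t1690_rf 352792 6 (714 * 2 ^ 6) = true := by decide +kernel
theorem t1690_rchk_715 : allR t1690_rf 352792 6 (715 * 2 ^ 6) = true := by decide +kernel
theorem t1690_rchk_716 : allR t1690_rf 352792 6 (716 * 2 ^ 6) = true := by decide +kernel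
theorem t1690_rchk_717 : allR t1690_rf 352792 6 (717 * 2 ^ 6) = true := by decide +kernel
theorem t1690_rchk_718 : allR t1690_rf 352792 6 (718 * 2 ^ 6) = true := by decide +kernel
theorem t1690_rchk_719 : allR t1690_rf 352792 6 (719 * 2 ^ 6) = true := by decide +kernel

theorem t1690_rfile_8 : ∀ k, k < 720 → 640 ≤ k → allR t1690_rf 352792 6 (k * 2 ^ 6) = true := by
  intro k h1 h2
  interval_cases k
  · exact t1690_rchk_640
  · exact t1690_rchk_641
  · exact t1690_rchk_642
  · exact t1690_rchk_643
  · exact t1690_rchk_644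
  · exact t1690_rchk_645
  · exact t1690_rchk_646
  · exact t1690_rchk_647
  · exact t1690_rchk_648
  · exact t1690_rchk_649
  · exact t1690_rchk_650
  · exact t1690_rchk_651
  · exact t1690_rchk_652
  · exact t1690_rchk_653
  · exact t1690_rchk_654
  · exact t1690_rchk_655
  · exact t1690_rchk_656
  · exact t1690_rchk_657
  · exact t1690_rchk_658
  · exact t1690_rchk_659
  · exact t1690_rchk_660
  · exact t1690_rchk_661
  · exact t1690_rchk_662
  · exact t1690_rchk_663
  · exact t1690_rchk_664
  · exact t1690_rchk_665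
  · exact t1690_rchk_666
  · exact t1690_rchk_667
  · exact t1690_rchk_668
  · exact t1690_rchk_669
  · exact t1690_rchk_670
  · exact t1690_rchk_671
  · exact t1690_rchk_672
  · exact t1690_rchk_673
  · exact t1690_rchk_674
  · exact t1690_rchk_675
  · exact t1690_rchk_676
  · exact t1690_rchk_677
  · exact t1690_rchk_678
  · exact t1690_rchk_679
  · exact t1690_rchk_680
  · exact t1690_rchk_681
  · exact t1690_rchk_682
  · exact t1690_rchk_683
  · exact t1690_rchk_684
  · exact t1690_rchk_685
  · exact t1690_rchk_686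
  · exact t1690_rchk_687
  · exact t1690_rchk_688
  · exact t1690_rchk_689
  · exact t1690_rchk_690
  · exact t1690_rchk_691
  · exact t1690_rchk_692
  · exact t1690_rchk_693
  · exact t1690_rchk_694
  · exact t1690_rchk_695
  · exact t1690_rchk_696
  · exact t1690_rchk_697
  · exact t1690_rchk_698
  · exact t1690_rchk_699
  · exact t1690_rchk_700
  · exact t1690_rchk_701
  · exact t1690_rchk_702
  · exact t1690_rchk_703
  · exact t1690_rchk_704
  · exact t1690_rchk_705
  · exact t1690_rchk_706
  · exact t1690_rchk_707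
  · exact t1690_rchk_708
  · exact t1690_rchk_709
  · exact t1690_rchk_710
  · exact t1690_rchk_711
  · exact t1690_rchk_712
  · exact t1690_rchk_713
  · exact t1690_rchk_714
  · exact t1690_rchk_715
  · exact t1690_rchk_716
  · exact t1690_rchk_717
  · exact t1690_rchk_718
  · exact t1690_rchk_719

end Cfsg.Agent.H35
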