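import Cfsg.Agent.H35.T1690.RChk0
import Cfsg.Agent.H35.T1690.RChk1
import Cfsg.Agent.H35.T1690.RChk2
import Cfsg.Agent.H35.T1690.RChk3
import Cfsg.Agent.H35.T1690.RChk4
import Cfsg.Agent.H35.T1690.RChk5
import Cfsg.Agent.H35.T1690.RChk6
import Cfsg.Agent.H35.T1690.RChk7
import Cfsg.Agent.H35.T1690.RChk8
import Cfsg.Agent.H35.T1690.RChk9
import Cfsg.Agent.H35.T1690.RChk10
import Cfsg.Agent.H35.T1690.RChk11
import Cfsg.Agent.H35.T1690.RChk12
import Cfsg.Agent.H35.T1690.RChk13
import Cfsg.Agent.H35.T1690.RChk14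
import Cfsg.Agent.H35.T1690.RChk15
import Cfsg.Agent.H35.T1690.RChk16
import Cfsg.Agent.H35.T1690.RChk17
import Cfsg.Agent.H35.T1690.RChk18
import Cfsg.Agent.H35.T1690.RChk19
import Cfsg.Agent.H35.T1690.RChk20
import Cfsg.Agent.H35.T1690.RChk21
import Cfsg.Agent.H35.T1690.RChk22
import Cfsg.Agent.H35.T1690.RChk23
import Cfsg.Agent.H35.T1690.RChk24
import Cfsg.Agent.H35.T1690.RChk25
import Cfsg.Agent.H35.T1690.RChk26
import Cfsg.Agent.H35.T1690.RChk27
import Cfsg.Agent.H35.T1690.RChk28
import Cfsg.Agent.H35.T1690.RChk29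
import Cfsg.Agent.H35.T1690.RChk30
import Cfsg.Agent.H35.T1690.RChk31
import Cfsg.Agent.H35.T1690.RChk32
import Cfsg.Agent.H35.T1690.RChk33
import Cfsg.Agent.H35.T1690.RChk34
import Cfsg.Agent.H35.T1690.RChk35
import Cfsg.Agent.H35.T1690.RChk36
import Cfsg.Agent.H35.T1690.RChk37
import Cfsg.Agent.H35.T1690.RChk38
import Cfsg.Agent.H35.T1690.RChk39
import Cfsg.Agent.H35.T1690.RChk40
import Cfsg.Agent.H35.T1690.RChk41
import Cfsg.Agent.H35.T1690.RChk42
import Cfsg.Agent.H35.T1690.RChk43
import Cfsg.Agent.H35.T1690.RChk44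
import Cfsg.Agent.H35.T1690.RChk45
import Cfsg.Agent.H35.T1690.RChk46
import Cfsg.Agent.H35.T1690.RChk47
import Cfsg.Agent.H35.T1690.RChk48
import Cfsg.Agent.H35.T1690.RChk49
import Cfsg.Agent.H35.T1690.RChk50
import Cfsg.Agent.H35.T1690.RChk51
import Cfsg.Agent.H35.T1690.RChk52
import Cfsg.Agent.H35.T1690.RChk53
import Cfsg.Agent.H35.T1690.RChk54
import Cfsg.Agent.H35.T1690.RChk55
import Cfsg.Agent.H35.T1690.RChk56
import Cfsg.Agent.H35.T1690.RChk57
import Cfsg.Agent.H35.T1690.RChk58
import Cfsg.Agent.H35.T1690.RChk59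
import Cfsg.Agent.H35.T1690.RChk60
import Cfsg.Agent.H35.T1690.RChk61
import Cfsg.Agent.H35.T1690.RChk62
import Cfsg.Agent.H35.T1690.RChk63
import Cfsg.Agent.H35.T1690.RChk64
import Cfsg.Agent.H35.T1690.RChk65
import Cfsg.Agent.H35.T1690.RChk66
import Cfsg.Agent.H35.T1690.RChk67
import Cfsg.Agent.H35.T1690.RChk68

set_option autoImplicit false
set_option linter.all false

namespace Cfsg.Agent.H35

theorem t1690_rall : ∀ p, p < 352792 → t1690_rf p = true := by
  apply allR_blocks t1690_rf 352792 6 5513 _ (by decide)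
  intro k hk
  by_cases h0 : k < 80
  · exact t1690_rfile_0 k h0 (by omega)
  by_cases h1 : k < 160
  · exact t1690_rfile_1 k h1 (by omega)
  by_cases h2 : k < 240
  · exact t1690_rfile_2 k h2 (by omega)
  by_cases h3 : k < 320
  · exact t1690_rfile_3 k h3 (by omega)
  by_cases h4 : k < 400
  · exact t1690_rfile_4 k h4 (by omega)
  by_cases h5 : k < 480
  · exact t1690_rfile_5 k h5 (by omega)
  by_cases h6 : k < 560
  · exact t1690_rfile_6 k h6 (by omega)
  by_cases h7 : k < 640
  · exact t1690_rfile_7 k h7 (by omega)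
  by_cases h8 : k < 720
  · exact t1690_rfile_8 k h8 (by omega)
  by_cases h9 : k < 800
  · exact t1690_rfile_9 k h9 (by omega)
  by_cases h10 : k < 880
  · exact t1690_rfile_10 k h10 (by omega)
  by_cases h11 : k < 960
  · exact t1690_rfile_11 k h11 (by omega)
  by_cases h12 : k < 1040
  · exact t1690_rfile_12 k h12 (by omega)
  by_cases h13 : k < 1120
  · exact t1690_rfile_13 k h13 (by omega)
  by_cases h14 : k < 1200
  · exact t1690_rfile_14 k h14 (by omega)
  by_cases h15 : k < 1280
  · exact t1690_rfile_15 k h15 (by omega)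
  by_cases h16 : k < 1360
  · exact t1690_rfile_16 k h16 (by omega)
  by_cases h17 : k < 1440
  · exact t1690_rfile_17 k h17 (by omega)
  by_cases h18 : k < 1520
  · exact t1690_rfile_18 k h18 (by omega)
  by_cases h19 : k < 1600
  · exact t1690_rfile_19 k h19 (by omega)
  by_cases h20 : k < 1680
  · exact t1690_rfile_20 k h20 (by omega)
  by_cases h21 : k < 1760
  · exact t1690_rfile_21 k h21 (by omega)
  by_cases h22 : k < 1840
  · exact t1690_rfile_22 k h22 (by omega)
  by_cases h23 : k < 1920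
  · exact t1690_rfile_23 k h23 (by omega)
  by_cases h24 : k < 2000
  · exact t1690_rfile_24 k h24 (by omega)
  by_cases h25 : k < 2080
  · exact t1690_rfile_25 k h25 (by omega)
  by_cases h26 : k < 2160
  · exact t1690_rfile_26 k h26 (by omega)
  by_cases h27 : k < 2240
  · exact t1690_rfile_27 k h27 (by omega)
  by_cases h28 : k < 2320
  · exact t1690_rfile_28 k h28 (by omega)
  by_cases h29 : k < 2400
  · exact t1690_rfile_29 k h29 (by omega)
  by_cases h30 : k < 2480
  · exact t1690_rfile_30 k h30 (by omega)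
  by_cases h31 : k < 2560
  · exact t1690_rfile_31 k h31 (by omega)
  by_cases h32 : k < 2640
  · exact t1690_rfile_32 k h32 (by omega)
  by_cases h33 : k < 2720
  · exact t1690_rfile_33 k h33 (by omega)
  by_cases h34 : k < 2800
  · exact t1690_rfile_34 k h34 (by omega)
  by_cases h35 : k < 2880
  · exact t1690_rfile_35 k h35 (by omega)
  by_cases h36 : k < 2960
  · exact t1690_rfile_36 k h36 (by omega)
  by_cases h37 : k < 3040
  · exact t1690_rfile_37 k h37 (by omega)
  by_cases h38 : k < 3120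
  · exact t1690_rfile_38 k h38 (by omega)
  by_cases h39 : k < 3200
  · exact t1690_rfile_39 k h39 (by omega)
  by_cases h40 : k < 3280
  · exact t1690_rfile_40 k h40 (by omega)
  by_cases h41 : k < 3360
  · exact t1690_rfile_41 k h41 (by omega)
  by_cases h42 : k < 3440
  · exact t1690_rfile_42 k h42 (by omega)
  by_cases h43 : k < 3520
  · exact t1690_rfile_43 k h43 (by omega)
  by_cases h44 : k < 3600
  · exact t1690_rfile_44 k h44 (by omega)
  by_cases h45 : k < 3680
  · exact t1690_rfile_45 k h45 (by omega)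
  by_cases h46 : k < 3760
  · exact t1690_rfile_46 k h46 (by omega)
  by_cases h47 : k < 3840
  · exact t1690_rfile_47 k h47 (by omega)
  by_cases h48 : k < 3920
  · exact t1690_rfile_48 k h48 (by omega)
  by_cases h49 : k < 4000
  · exact t1690_rfile_49 k h49 (by omega)
  by_cases h50 : k < 4080
  · exact t1690_rfile_50 k h50 (by omega)
  by_cases h51 : k < 4160
  · exact t1690_rfile_51 k h51 (by omega)
  by_cases h52 : k < 4240
  · exact t1690_rfile_52 k h52 (by omega)
  by_cases h53 : k < 4320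
  · exact t1690_rfile_53 k h53 (by omega)
  by_cases h54 : k < 4400
  · exact t1690_rfile_54 k h54 (by omega)
  by_cases h55 : k < 4480
  · exact t1690_rfile_55 k h55 (by omega)
  by_cases h56 : k < 4560
  · exact t1690_rfile_56 k h56 (by omega)
  by_cases h57 : k < 4640
  · exact t1690_rfile_57 k h57 (by omega)
  by_cases h58 : k < 4720
  · exact t1690_rfile_58 k h58 (by omega)
  by_cases h59 : k < 4800
  · exact t1690_rfile_59 k h59 (by omega)
  by_cases h60 : k < 4880
  · exact t1690_rfile_60 k h60 (by omega)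
  by_cases h61 : k < 4960
  · exact t1690_rfile_61 k h61 (by omega)
  by_cases h62 : k < 5040
  · exact t1690_rfile_62 k h62 (by omega)
  by_cases h63 : k < 5120
  · exact t1690_rfile_63 k h63 (by omega)
  by_cases h64 : k < 5200
  · exact t1690_rfile_64 k h64 (by omega)
  by_cases h65 : k < 5280
  · exact t1690_rfile_65 k h65 (by omega)
  by_cases h66 : k < 5360
  · exact t1690_rfile_66 k h66 (by omega)
  by_cases h67 : k < 5440
  · exact t1690_rfile_67 k h67 (by omega)
  by_cases h68 : k < 5513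
  · exact t1690_rfile_68 k h68 (by omega)
  exact absurd hk (by omega)

theorem t1690_circ_ok : circChk (fullW fi24_rws fi24_prels) t1690_circT 0 t1690_ccert = true := by decide +kernel
theorem t1690_hc_ok : allR (fun c => hcChk t1690_rsw t1690_hc1T t1690_hc2T c) 11 4 0 = true := by decide +kernel
theorem t1690_h0 : W.RData.aord (t1690_rd.ent 0 1) = 0 := by decide +kernel

end Cfsg.Agent.H35
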