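import Cfsg.Agent.H35.T1690.RTab

set_option autoImplicit false
set_option linter.all false
set_option Elab.async false

namespace Cfsg.Agent.H35

theorem t1690_rchk_3520 : allR t1690_rf 352792 6 (3520 * 2 ^ 6) = true := by decide +kernel
theorem t1690_rchk_3521 : allR t1690_rf 352792 6 (3521 * 2 ^ 6) = true := by decide +kernel
theorem t1690_rchk_3522 : allR t1690_rf 352792 6 (3522 * 2 ^ 6) = true := by decide +kernel
theorem t1690_rchk_3523 : allR t1690_rf 352792 6 (3523 * 2 ^ 6) = true := by decide +kernel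
theorem t1690_rchk_3524 : allR t1690_rf 352792 6 (3524 * 2 ^ 6) = true := by decide +kernel
theorem t1690_rchk_3525 : allR t1690_rf 352792 6 (3525 * 2 ^ 6) = true := by decide +kernel
theorem t1690_rchk_3526 : allR t1690_rf 352792 6 (3526 * 2 ^ 6) = true := by decide +kernel
theorem t1690_rchk_3527 : allR t1690_rf 352792 6 (3527 * 2 ^ 6) = true := by decide +kernel
theorem t1690_rchk_3528 : allR t1690_rf 352792 6 (3528 * 2 ^ 6) = true := by decide +kernel
theorem t1690_rchk_3529 : allR t1690_rf 352792 6 (3529 * 2 ^ 6) = true := by decide +kernel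
theorem t1690_rchk_3530 : allR t1690_rf 352792 6 (3530 * 2 ^ 6) = true := by decide +kernel
theorem t1690_rchk_3531 : allR t1690_rf 352792 6 (3531 * 2 ^ 6) = true := by decide +kernel
theorem t1690_rchk_3532 : allR t1690_rf 352792 6 (3532 * 2 ^ 6) = true := by decide +kernel
theorem t1690_rchk_3533 : allR t1690_rf 352792 6 (3533 * 2 ^ 6) = true := by decide +kernel
theorem t1690_rchk_3534 : allR t1690_rf 352792 6 (3534 * 2 ^ 6) = true := by decide +kernel
theorem t1690_rchk_3535 : allR t1690_rf 352792 6 (3535 * 2 ^ 6) = true := by decide +kernel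
theorem t1690_rchk_3536 : allR t1690_rf 352792 6 (3536 * 2 ^ 6) = true := by decide +kernel
theorem t1690_rchk_3537 : allR t1690_rf 352792 6 (3537 * 2 ^ 6) = true := by decide +kernel
theorem t1690_rchk_3538 : allR t1690_rf 352792 6 (3538 * 2 ^ 6) = true := by decide +kernel
theorem t1690_rchk_3539 : allR t1690_rf 352792 6 (3539 * 2 ^ 6) = true := by decide +kernel
theorem t1690_rchk_3540 : allR t1690_rf 352792 6 (3540 * 2 ^ 6) = true := by decide +kernel
theorem t1690_rchk_3541 : allR t1690_rf 352792 6 (3541 * 2 ^ 6) = true := by decide +kernel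
theorem t1690_rchk_3542 : allR t1690_rf 352792 6 (3542 * 2 ^ 6) = true := by decide +kernel
theorem t1690_rchk_3543 : allR t1690_rf 352792 6 (3543 * 2 ^ 6) = true := by decide +kernel
theorem t1690_rchk_3544 : allR t1690_rf 352792 6 (3544 * 2 ^ 6) = true := by decide +kernel
theorem t1690_rchk_3545 : allR t1690_rf 352792 6 (3545 * 2 ^ 6) = true := by decide +kernel
theorem t1690_rchk_3546 : allR t1690_rf 352792 6 (3546 * 2 ^ 6) = true := by decide +kernel
theorem t1690_rchk_3547 : allR t1690_rf 352792 6 (3547 * 2 ^ 6) = true := by decide +kernel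
theorem t1690_rchk_3548 : allR t1690_rf 352792 6 (3548 * 2 ^ 6) = true := by decide +kernel
theorem t1690_rchk_3549 : allR t1690_rf 352792 6 (3549 * 2 ^ 6) = true := by decide +kernel
theorem t1690_rchk_3550 : allR t1690_rf 352792 6 (3550 * 2 ^ 6) = true := by decide +kernel
theorem t1690_rchk_3551 : allR t1690_rf 352792 6 (3551 * 2 ^ 6) = true := by decide +kernel
theorem t1690_rchk_3552 : allR t1690_rf 352792 6 (3552 * 2 ^ 6) = true := by decide +kernel
theorem t1690_rchk_3553 : allR t1690_rf 352792 6 (3553 * 2 ^ 6) = true := by decide +kernel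
theorem t1690_rchk_3554 : allR t1690_rf 352792 6 (3554 * 2 ^ 6) = true := by decide +kernel
theorem t1690_rchk_3555 : allR t1690_rf 352792 6 (3555 * 2 ^ 6) = true := by decide +kernel
theorem t1690_rchk_3556 : allR t1690_rf 352792 6 (3556 * 2 ^ 6) = true := by decide +kernel
theorem t1690_rchk_3557 : allR t1690_rf 352792 6 (3557 * 2 ^ 6) = true := by decide +kernel
theorem t1690_rchk_3558 : allR t1690_rf 352792 6 (3558 * 2 ^ 6) = true := by decide +kernel
theorem t1690_rchk_3559 : allR t1690_rf 352792 6 (3559 * 2 ^ 6) = true := by decide +kernel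
theorem t1690_rchk_3560 : allR t1690_rf 352792 6 (3560 * 2 ^ 6) = true := by decide +kernel
theorem t1690_rchk_3561 : allR t1690_rf 352792 6 (3561 * 2 ^ 6) = true := by decide +kernel
theorem t1690_rchk_3562 : allR t1690_rf 352792 6 (3562 * 2 ^ 6) = true := by decide +kernel
theorem t1690_rchk_3563 : allR t1690_rf 352792 6 (3563 * 2 ^ 6) = true := by decide +kernel
theorem t1690_rchk_3564 : allR t1690_rf 352792 6 (3564 * 2 ^ 6) = true := by decide +kernel
theorem t1690_rchk_3565 : allR t1690_rf 352792 6 (3565 * 2 ^ 6) = true := by decide +kernel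
theorem t1690_rchk_3566 : allR t1690_rf 352792 6 (3566 * 2 ^ 6) = true := by decide +kernel
theorem t1690_rchk_3567 : allR t1690_rf 352792 6 (3567 * 2 ^ 6) = true := by decide +kernel
theorem t1690_rchk_3568 : allR t1690_rf 352792 6 (3568 * 2 ^ 6) = true := by decide +kernel
theorem t1690_rchk_3569 : allR t1690_rf 352792 6 (3569 * 2 ^ 6) = true := by decide +kernel
theorem t1690_rchk_3570 : allR t1690_rf 352792 6 (3570 * 2 ^ 6) = true := by decide +kernel
theorem t1690_rchk_3571 : allR t1690_rf 352792 6 (3571 * 2 ^ 6) = true := by decide +kernel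
theorem t1690_rchk_3572 : allR t1690_rf 352792 6 (3572 * 2 ^ 6) = true := by decide +kernel
theorem t1690_rchk_3573 : allR t1690_rf 352792 6 (3573 * 2 ^ 6) = true := by decide +kernel
theorem t1690_rchk_3574 : allR t1690_rf 352792 6 (3574 * 2 ^ 6) = true := by decide +kernel
theorem t1690_rchk_3575 : allR t1690_rf 352792 6 (3575 * 2 ^ 6) = true := by decide +kernel
theorem t1690_rchk_3576 : allR t1690_rf 352792 6 (3576 * 2 ^ 6) = true := by decide +kernel
theorem t1690_rchk_3577 : allR t1690_rf 352792 6 (3577 * 2 ^ 6) = true := by decide +kernel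
theorem t1690_rchk_3578 : allR t1690_rf 352792 6 (3578 * 2 ^ 6) = true := by decide +kernel
theorem t1690_rchk_3579 : allR t1690_rf 352792 6 (3579 * 2 ^ 6) = true := by decide +kernel
theorem t1690_rchk_3580 : allR t1690_rf 352792 6 (3580 * 2 ^ 6) = true := by decide +kernel
theorem t1690_rchk_3581 : allR t1690_rf 352792 6 (3581 * 2 ^ 6) = true := by decide +kernel
theorem t1690_rchk_3582 : allR t1690_rf 352792 6 (3582 * 2 ^ 6) = true := by decide +kernel
theorem t1690_rchk_3583 : allR t1690_rf 352792 6 (3583 * 2 ^ 6) = true := by decide +kernel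
theorem t1690_rchk_3584 : allR t1690_rf 352792 6 (3584 * 2 ^ 6) = true := by decide +kernel
theorem t1690_rchk_3585 : allR t1690_rf 352792 6 (3585 * 2 ^ 6) = true := by decide +kernel
theorem t1690_rchk_3586 : allR t1690_rf 352792 6 (3586 * 2 ^ 6) = true := by decide +kernel
theorem t1690_rchk_3587 : allR t1690_rf 352792 6 (3587 * 2 ^ 6) = true := by decide +kernel
theorem t1690_rchk_3588 : allR t1690_rf 352792 6 (3588 * 2 ^ 6) = true := by decide +kernel
theorem t1690_rchk_3589 : allR t1690_rf 352792 6 (3589 * 2 ^ 6) = true := by decide +kernel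
theorem t1690_rchk_3590 : allR t1690_rf 352792 6 (3590 * 2 ^ 6) = true := by decide +kernel
theorem t1690_rchk_3591 : allR t1690_rf 352792 6 (3591 * 2 ^ 6) = true := by decide +kernel
theorem t1690_rchk_3592 : allR t1690_rf 352792 6 (3592 * 2 ^ 6) = true := by decide +kernel
theorem t1690_rchk_3593 : allR t1690_rf 352792 6 (3593 * 2 ^ 6) = true := by decide +kernel
theorem t1690_rchk_3594 : allR t1690_rf 352792 6 (3594 * 2 ^ 6) = true := by decide +kernel
theorem t1690_rchk_3595 : allR t1690_rf 352792 6 (3595 * 2 ^ 6) = true := by decide +kernel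
theorem t1690_rchk_3596 : allR t1690_rf 352792 6 (3596 * 2 ^ 6) = true := by decide +kernel
theorem t1690_rchk_3597 : allR t1690_rf 352792 6 (3597 * 2 ^ 6) = true := by decide +kernel
theorem t1690_rchk_3598 : allR t1690_rf 352792 6 (3598 * 2 ^ 6) = true := by decide +kernel
theorem t1690_rchk_3599 : allR t1690_rf 352792 6 (3599 * 2 ^ 6) = true := by decide +kernel

theorem t1690_rfile_44 : ∀ k, k < 3600 → 3520 ≤ k → allR t1690_rf 352792 6 (k * 2 ^ 6) = true := by
  intro k h1 h2
  interval_cases k
  · exact t1690_rchk_3520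
  · exact t1690_rchk_3521
  · exact t1690_rchk_3522
  · exact t1690_rchk_3523
  · exact t1690_rchk_3524
  · exact t1690_rchk_3525
  · exact t1690_rchk_3526
  · exact t1690_rchk_3527
  · exact t1690_rchk_3528
  · exact t1690_rchk_3529
  · exact t1690_rchk_3530
  · exact t1690_rchk_3531
  · exact t1690_rchk_3532
  · exact t1690_rchk_3533
  · exact t1690_rchk_3534
  · exact t1690_rchk_3535
  · exact t1690_rchk_3536
  · exact t1690_rchk_3537
  · exact t1690_rchk_3538
  · exact t1690_rchk_3539
  · exact t1690_rchk_3540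
  · exact t1690_rchk_3541
  · exact t1690_rchk_3542
  · exact t1690_rchk_3543
  · exact t1690_rchk_3544
  · exact t1690_rchk_3545
  · exact t1690_rchk_3546
  · exact t1690_rchk_3547
  · exact t1690_rchk_3548
  · exact t1690_rchk_3549
  · exact t1690_rchk_3550
  · exact t1690_rchk_3551
  · exact t1690_rchk_3552
  · exact t1690_rchk_3553
  · exact t1690_rchk_3554
  · exact t1690_rchk_3555
  · exact t1690_rchk_3556
  · exact t1690_rchk_3557
  · exact t1690_rchk_3558
  · exact t1690_rchk_3559
  · exact t1690_rchk_3560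
  · exact t1690_rchk_3561
  · exact t1690_rchk_3562
  · exact t1690_rchk_3563
  · exact t1690_rchk_3564
  · exact t1690_rchk_3565
  · exact t1690_rchk_3566
  · exact t1690_rchk_3567
  · exact t1690_rchk_3568
  · exact t1690_rchk_3569
  · exact t1690_rchk_3570
  · exact t1690_rchk_3571
  · exact t1690_rchk_3572
  · exact t1690_rchk_3573
  · exact t1690_rchk_3574
  · exact t1690_rchk_3575
  · exact t1690_rchk_3576
  · exact t1690_rchk_3577
  · exact t1690_rchk_3578
  · exact t1690_rchk_3579
  · exact t1690_rchk_3580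
  · exact t1690_rchk_3581
  · exact t1690_rchk_3582
  · exact t1690_rchk_3583
  · exact t1690_rchk_3584
  · exact t1690_rchk_3585
  · exact t1690_rchk_3586
  · exact t1690_rchk_3587
  · exact t1690_rchk_3588
  · exact t1690_rchk_3589
  · exact t1690_rchk_3590
  · exact t1690_rchk_3591
  · exact t1690_rchk_3592
  · exact t1690_rchk_3593
  · exact t1690_rchk_3594
  · exact t1690_rchk_3595
  · exact t1690_rchk_3596
  · exact t1690_rchk_3597
  · exact t1690_rchk_3598
  · exact t1690_rchk_3599

end Cfsg.Agent.H35
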