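import Cfsg.Agent.H35.T1690.RTab

set_option autoImplicit false
set_option linter.all false
set_option Elab.async false

namespace Cfsg.Agent.H35

theorem t1690_rchk_4720 : allR t1690_rf 352792 6 (4720 * 2 ^ 6) = true := by decide +kernel
theorem t1690_rchk_4721 : allR t1690_rf 352792 6 (4721 * 2 ^ 6) = true := by decide +kernel
theorem t1690_rchk_4722 : allR t1690_rf 352792 6 (4722 * 2 ^ 6) = true := by decide +kernel
theorem t1690_rchk_4723 : allR t1690_rf 352792 6 (4723 * 2 ^ 6) = true := by decide +kernel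
theorem t1690_rchk_4724 : allR t1690_rf 352792 6 (4724 * 2 ^ 6) = true := by decide +kernel
theorem t1690_rchk_4725 : allR t1690_rf 352792 6 (4725 * 2 ^ 6) = true := by decide +kernel
theorem t1690_rchk_4726 : allR t1690_rf 352792 6 (4726 * 2 ^ 6) = true := by decide +kernel
theorem t1690_rchk_4727 : allR t1690_rf 352792 6 (4727 * 2 ^ 6) = true := by decide +kernel
theorem t1690_rchk_4728 : allR t1690_rf 352792 6 (4728 * 2 ^ 6) = true := by decide +kernel
theorem t1690_rchk_4729 : allR t1690_rf 352792 6 (4729 * 2 ^ 6) = true := by decide +kernel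
theorem t1690_rchk_4730 : allR t1690_rf 352792 6 (4730 * 2 ^ 6) = true := by decide +kernel
theorem t1690_rchk_4731 : allR t1690_rf 352792 6 (4731 * 2 ^ 6) = true := by decide +kernel
theorem t1690_rchk_4732 : allR t1690_rf 352792 6 (4732 * 2 ^ 6) = true := by decide +kernel
theorem t1690_rchk_4733 : allR t1690_rf 352792 6 (4733 * 2 ^ 6) = true := by decide +kernel
theorem t1690_rchk_4734 : allR t1690_rf 352792 6 (4734 * 2 ^ 6) = true := by decide +kernel
theorem t1690_rchk_4735 : allR t1690_rf 352792 6 (4735 * 2 ^ 6) = true := by decide +kernel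
theorem t1690_rchk_4736 : allR t1690_rf 352792 6 (4736 * 2 ^ 6) = true := by decide +kernel
theorem t1690_rchk_4737 : allR t1690_rf 352792 6 (4737 * 2 ^ 6) = true := by decide +kernel
theorem t1690_rchk_4738 : allR t1690_rf 352792 6 (4738 * 2 ^ 6) = true := by decide +kernel
theorem t1690_rchk_4739 : allR t1690_rf 352792 6 (4739 * 2 ^ 6) = true := by decide +kernel
theorem t1690_rchk_4740 : allR t1690_rf 352792 6 (4740 * 2 ^ 6) = true := by decide +kernel
theorem t1690_rchk_4741 : allR t1690_rf 352792 6 (4741 * 2 ^ 6) = true := by decide +kernel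
theorem t1690_rchk_4742 : allR t1690_rf 352792 6 (4742 * 2 ^ 6) = true := by decide +kernel
theorem t1690_rchk_4743 : allR t1690_rf 352792 6 (4743 * 2 ^ 6) = true := by decide +kernel
theorem t1690_rchk_4744 : allR t1690_rf 352792 6 (4744 * 2 ^ 6) = true := by decide +kernel
theorem t1690_rchk_4745 : allR t1690_rf 352792 6 (4745 * 2 ^ 6) = true := by decide +kernel
theorem t1690_rchk_4746 : allR t1690_rf 352792 6 (4746 * 2 ^ 6) = true := by decide +kernel
theorem t1690_rchk_4747 : allR t1690_rf 352792 6 (4747 * 2 ^ 6) = true := by decide +kernel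
theorem t1690_rchk_4748 : allR t1690_rf 352792 6 (4748 * 2 ^ 6) = true := by decide +kernel
theorem t1690_rchk_4749 : allR t1690_rf 352792 6 (4749 * 2 ^ 6) = true := by decide +kernel
theorem t1690_rchk_4750 : allR t1690_rf 352792 6 (4750 * 2 ^ 6) = true := by decide +kernel
theorem t1690_rchk_4751 : allR t1690_rf 352792 6 (4751 * 2 ^ 6) = true := by decide +kernel
theorem t1690_rchk_4752 : allR t1690_rf 352792 6 (4752 * 2 ^ 6) = true := by decide +kernel
theorem t1690_rchk_4753 : allR t1690_rf 352792 6 (4753 * 2 ^ 6) = true := by decide +kernel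
theorem t1690_rchk_4754 : allR t1690_rf 352792 6 (4754 * 2 ^ 6) = true := by decide +kernel
theorem t1690_rchk_4755 : allR t1690_rf 352792 6 (4755 * 2 ^ 6) = true := by decide +kernel
theorem t1690_rchk_4756 : allR t1690_rf 352792 6 (4756 * 2 ^ 6) = true := by decide +kernel
theorem t1690_rchk_4757 : allR t1690_rf 352792 6 (4757 * 2 ^ 6) = true := by decide +kernel
theorem t1690_rchk_4758 : allR t1690_rf 352792 6 (4758 * 2 ^ 6) = true := by decide +kernel
theorem t1690_rchk_4759 : allR t1690_rf 352792 6 (4759 * 2 ^ 6) = true := by decide +kernel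
theorem t1690_rchk_4760 : allR t1690_rf 352792 6 (4760 * 2 ^ 6) = true := by decide +kernel
theorem t1690_rchk_4761 : allR t1690_rf 352792 6 (4761 * 2 ^ 6) = true := by decide +kernel
theorem t1690_rchk_4762 : allR t1690_rf 352792 6 (4762 * 2 ^ 6) = true := by decide +kernel
theorem t1690_rchk_4763 : allR t1690_rf 352792 6 (4763 * 2 ^ 6) = true := by decide +kernel
theorem t1690_rchk_4764 : allR t1690_rf 352792 6 (4764 * 2 ^ 6) = true := by decide +kernel
theorem t1690_rchk_4765 : allR t1690_rf 352792 6 (4765 * 2 ^ 6) = true := by decide +kernel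
theorem t1690_rchk_4766 : allR t1690_rf 352792 6 (4766 * 2 ^ 6) = true := by decide +kernel
theorem t1690_rchk_4767 : allR t1690_rf 352792 6 (4767 * 2 ^ 6) = true := by decide +kernel
theorem t1690_rchk_4768 : allR t1690_rf 352792 6 (4768 * 2 ^ 6) = true := by decide +kernel
theorem t1690_rchk_4769 : allR t1690_rf 352792 6 (4769 * 2 ^ 6) = true := by decide +kernel
theorem t1690_rchk_4770 : allR t1690_rf 352792 6 (4770 * 2 ^ 6) = true := by decide +kernel
theorem t1690_rchk_4771 : allR t1690_rf 352792 6 (4771 * 2 ^ 6) = true := by decide +kernel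
theorem t1690_rchk_4772 : allR t1690_rf 352792 6 (4772 * 2 ^ 6) = true := by decide +kernel
theorem t1690_rchk_4773 : allR t1690_rf 352792 6 (4773 * 2 ^ 6) = true := by decide +kernel
theorem t1690_rchk_4774 : allR t1690_rf 352792 6 (4774 * 2 ^ 6) = true := by decide +kernel
theorem t1690_rchk_4775 : allR t1690_rf 352792 6 (4775 * 2 ^ 6) = true := by decide +kernel
theorem t1690_rchk_4776 : allR t1690_rf 352792 6 (4776 * 2 ^ 6) = true := by decide +kernel
theorem t1690_rchk_4777 : allR t1690_rf 352792 6 (4777 * 2 ^ 6) = true := by decide +kernel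
theorem t1690_rchk_4778 : allR t1690_rf 352792 6 (4778 * 2 ^ 6) = true := by decide +kernel
theorem t1690_rchk_4779 : allR t1690_rf 352792 6 (4779 * 2 ^ 6) = true := by decide +kernel
theorem t1690_rchk_4780 : allR t1690_rf 352792 6 (4780 * 2 ^ 6) = true := by decide +kernel
theorem t1690_rchk_4781 : allR t1690_rf 352792 6 (4781 * 2 ^ 6) = true := by decide +kernel
theorem t1690_rchk_4782 : allR t1690_rf 352792 6 (4782 * 2 ^ 6) = true := by decide +kernel
theorem t1690_rchk_4783 : allR t1690_rf 352792 6 (4783 * 2 ^ 6) = true := by decide +kernel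
theorem t1690_rchk_4784 : allR t1690_rf 352792 6 (4784 * 2 ^ 6) = true := by decide +kernel
theorem t1690_rchk_4785 : allR t1690_rf 352792 6 (4785 * 2 ^ 6) = true := by decide +kernel
theorem t1690_rchk_4786 : allR t1690_rf 352792 6 (4786 * 2 ^ 6) = true := by decide +kernel
theorem t1690_rchk_4787 : allR t1690_rf 352792 6 (4787 * 2 ^ 6) = true := by decide +kernel
theorem t1690_rchk_4788 : allR t1690_rf 352792 6 (4788 * 2 ^ 6) = true := by decide +kernel
theorem t1690_rchk_4789 : allR t1690_rf 352792 6 (4789 * 2 ^ 6) = true := by decide +kernel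
theorem t1690_rchk_4790 : allR t1690_rf 352792 6 (4790 * 2 ^ 6) = true := by decide +kernel
theorem t1690_rchk_4791 : allR t1690_rf 352792 6 (4791 * 2 ^ 6) = true := by decide +kernel
theorem t1690_rchk_4792 : allR t1690_rf 352792 6 (4792 * 2 ^ 6) = true := by decide +kernel
theorem t1690_rchk_4793 : allR t1690_rf 352792 6 (4793 * 2 ^ 6) = true := by decide +kernel
theorem t1690_rchk_4794 : allR t1690_rf 352792 6 (4794 * 2 ^ 6) = true := by decide +kernel
theorem t1690_rchk_4795 : allR t1690_rf 352792 6 (4795 * 2 ^ 6) = true := by decide +kernel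
theorem t1690_rchk_4796 : allR t1690_rf 352792 6 (4796 * 2 ^ 6) = true := by decide +kernel
theorem t1690_rchk_4797 : allR t1690_rf 352792 6 (4797 * 2 ^ 6) = true := by decide +kernel
theorem t1690_rchk_4798 : allR t1690_rf 352792 6 (4798 * 2 ^ 6) = true := by decide +kernel
theorem t1690_rchk_4799 : allR t1690_rf 352792 6 (4799 * 2 ^ 6) = true := by decide +kernel

theorem t1690_rfile_59 : ∀ k, k < 4800 → 4720 ≤ k → allR t1690_rf 352792 6 (k * 2 ^ 6) = true := by
  intro k h1 h2
  interval_cases k
  · exact t1690_rchk_4720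
  · exact t1690_rchk_4721
  · exact t1690_rchk_4722
  · exact t1690_rchk_4723
  · exact t1690_rchk_4724
  · exact t1690_rchk_4725
  · exact t1690_rchk_4726
  · exact t1690_rchk_4727
  · exact t1690_rchk_4728
  · exact t1690_rchk_4729
  · exact t1690_rchk_4730
  · exact t1690_rchk_4731
  · exact t1690_rchk_4732
  · exact t1690_rchk_4733
  · exact t1690_rchk_4734
  · exact t1690_rchk_4735
  · exact t1690_rchk_4736
  · exact t1690_rchk_4737
  · exact t1690_rchk_4738
  · exact t1690_rchk_4739
  · exact t1690_rchk_4740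
  · exact t1690_rchk_4741
  · exact t1690_rchk_4742
  · exact t1690_rchk_4743
  · exact t1690_rchk_4744
  · exact t1690_rchk_4745
  · exact t1690_rchk_4746
  · exact t1690_rchk_4747
  · exact t1690_rchk_4748
  · exact t1690_rchk_4749
  · exact t1690_rchk_4750
  · exact t1690_rchk_4751
  · exact t1690_rchk_4752
  · exact t1690_rchk_4753
  · exact t1690_rchk_4754
  · exact t1690_rchk_4755
  · exact t1690_rchk_4756
  · exact t1690_rchk_4757
  · exact t1690_rchk_4758
  · exact t1690_rchk_4759
  · exact t1690_rchk_4760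
  · exact t1690_rchk_4761
  · exact t1690_rchk_4762
  · exact t1690_rchk_4763
  · exact t1690_rchk_4764
  · exact t1690_rchk_4765
  · exact t1690_rchk_4766
  · exact t1690_rchk_4767
  · exact t1690_rchk_4768
  · exact t1690_rchk_4769
  · exact t1690_rchk_4770
  · exact t1690_rchk_4771
  · exact t1690_rchk_4772
  · exact t1690_rchk_4773
  · exact t1690_rchk_4774
  · exact t1690_rchk_4775
  · exact t1690_rchk_4776
  · exact t1690_rchk_4777
  · exact t1690_rchk_4778
  · exact t1690_rchk_4779
  · exact t1690_rchk_4780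
  · exact t1690_rchk_4781
  · exact t1690_rchk_4782
  · exact t1690_rchk_4783
  · exact t1690_rchk_4784
  · exact t1690_rchk_4785
  · exact t1690_rchk_4786
  · exact t1690_rchk_4787
  · exact t1690_rchk_4788
  · exact t1690_rchk_4789
  · exact t1690_rchk_4790
  · exact t1690_rchk_4791
  · exact t1690_rchk_4792
  · exact t1690_rchk_4793
  · exact t1690_rchk_4794
  · exact t1690_rchk_4795
  · exact t1690_rchk_4796
  · exact t1690_rchk_4797
  · exact t1690_rchk_4798
  · exact t1690_rchk_4799

end Cfsg.Agent.H35
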