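import Cfsg.Agent.H35.T1690.RTab0
import Cfsg.Agent.H35.T1690.RTab1
import Cfsg.Agent.H35.T1690.RTab2
import Cfsg.Agent.H35.T1690.RTab3
import Cfsg.Agent.H35.T1690.RTab4
import Cfsg.Agent.H35.T1690.RTab5
import Cfsg.Agent.H35.T1690.RTab6
import Cfsg.Agent.H35.T1690.RTab7
import Cfsg.Agent.H35.T1690.RTab8
import Cfsg.Agent.H35.T1690.RTab9
import Cfsg.Agent.H35.T1690.RTab10
import Cfsg.Agent.H35.T1690.RTab11
import Cfsg.Agent.H35.T1690.RTab12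
import Cfsg.Agent.H35.T1690.RTab13
import Cfsg.Agent.H35.T1690.RTab14
import Cfsg.Agent.H35.T1690.RTab15
import Cfsg.Agent.H35.T1690.RTab16
import Cfsg.Agent.H35.T1690.RTab17
import Cfsg.Agent.H35.T1690.RTab18
import Cfsg.Agent.H35.T1690.RTab19
import Cfsg.Agent.H35.T1690.RTab20
import Cfsg.Agent.H35.T1690.RTab21

set_option autoImplicit false
set_option linter.all false

namespace Cfsg.Agent.H35

noncomputable def t1690_rrowT_t : ℕ → ℕ := (nd (nat_lit 344) (nd (nat_lit 168) (nd (nat_lit 80) (nd (nat_lit 40) (nd (nat_lit 16) (nd (nat_lit 8) t1690_rrowT_t_c0 t1690_rrowT_t_c1) (nd (nat_lit 24) t1690_rrowT_t_c2 (nd (nat_lit 32) t1690_rrowT_t_c3 t1690_rrowT_t_c4))) (nd (nat_lit 56) (nd (nat_lit 48) t1690_rrowT_t_c5 t1690_rrowT_t_c6) (nd (nat_lit 64) t1690_rrowT_t_c7 (nd (nat_lit 72) t1690_rrowT_t_c8 t1690_rrowT_t_c9)))) (nd (nat_lit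 120) (nd (nat_lit 96) (nd (nat_lit 88) t1690_rrowT_t_c10 t1690_rrowT_t_c11) (nd (nat_lit 104) t1690_rrowT_t_c12 (nd (nat_lit 112) t1690_rrowT_t_c13 t1690_rrowT_t_c14))) (nd (nat_lit 144) (nd (nat_lit 128) t1690_rrowT_t_c15 (nd (nat_lit 136) t1690_rrowT_t_c16 t1690_rrowT_t_c17)) (nd (nat_lit 152) t1690_rrowT_t_c18 (nd (nat_lit 160) t1690_rrowT_t_c19 t1690_rrowT_t_c20))))) (nd (nat_lit 256) (nd (nat_lit 208) (nd (nat_lit 184) (nd (nat_lit 176) t1690_rrowT_t_c21 t1690_rrowT_t_c22) (nd (nat_lit 192) t1690_rrowT_t_c23 (nd (nat_lit 200) t1690_rrowT_t_c24 t1690_rrowT_t_c25))) (nd (nat_lit 232) (nd (nat_lit 216) t1690_rrowT_t_c26 (nd (nat_lit 224) t1690_rrowT_t_c27 t1690_rrowT_t_c28)) (nd (nat_lit 240) t1690_rrowT_t_c29 (nd (nat_lit 248) t1690_rrowT_t_c30 t1690_rrowT_t_c31)))) (nd (nat_lit 296) (nd (nat_lit 272) (nd (nat_lit 264) t1690_rrowT_t_c32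 t1690_rrowT_t_c33) (nd (nat_lit 280) t1690_rrowT_t_c34 (nd (nat_lit 288) t1690_rrowT_t_c35 t1690_rrowT_t_c36))) (nd (nat_lit 320) (nd (nat_lit 304) t1690_rrowT_t_c37 (nd (nat_lit 312) t1690_rrowT_t_c38 t1690_rrowT_t_c39)) (nd (nat_lit 328) t1690_rrowT_t_c40 (nd (nat_lit 336) t1690_rrowT_t_c41 t1690_rrowT_t_c42)))))) (nd (nat_lit 520) (nd (nat_lit 432) (nd (nat_lit 384) (nd (nat_lit 360) (nd (nat_lit 352) t1690_rrowT_t_c43 t1690_rrowT_t_c44) (nd (nat_lit 368) t1690_rrowT_t_c45 (nd (nat_lit 376) t1690_rrowT_t_c46 t1690_rrowT_t_c47))) (nd (nat_lit 408) (nd (nat_lit 392) t1690_rrowT_t_c48 (nd (nat_lit 400) t1690_rrowT_t_c49 t1690_rrowT_t_c50)) (nd (nat_lit 416) t1690_rrowT_t_c51 (nd (nat_lit 424) t1690_rrowT_t_c52 t1690_rrowT_t_c53)))) (nd (nat_lit 472) (nd (nat_lit 448) (nd (nat_lit 440) t1690_rrowT_t_c54 t1690_rrowT_t_c55) (nd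 (nat_lit 456) t1690_rrowT_t_c56 (nd (nat_lit 464) t1690_rrowT_t_c57 t1690_rrowT_t_c58))) (nd (nat_lit 496) (nd (nat_lit 480) t1690_rrowT_t_c59 (nd (nat_lit 488) t1690_rrowT_t_c60 t1690_rrowT_t_c61)) (nd (nat_lit 504) t1690_rrowT_t_c62 (nd (nat_lit 512) t1690_rrowT_t_c63 t1690_rrowT_t_c64))))) (nd (nat_lit 608) (nd (nat_lit 560) (nd (nat_lit 536) (nd (nat_lit 528) t1690_rrowT_t_c65 t1690_rrowT_t_c66) (nd (nat_lit 544) t1690_rrowT_t_c67 (nd (nat_lit 552) t1690_rrowT_t_c68 t1690_rrowT_t_c69))) (nd (nat_lit 584) (nd (nat_lit 568) t1690_rrowT_t_c70 (nd (nat_lit 576) t1690_rrowT_t_c71 t1690_rrowT_t_c72)) (nd (nat_lit 592) t1690_rrowT_t_c73 (nd (nat_lit 600) t1690_rrowT_t_c74 t1690_rrowT_t_c75)))) (nd (nat_lit 648) (nd (nat_lit 624) (nd (nat_lit 616) t1690_rrowT_t_c76 t1690_rrowT_t_c77) (nd (nat_lit 632) t1690_rrowT_t_c78 (nd (nat_lit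 640) t1690_rrowT_t_c79 t1690_rrowT_t_c80))) (nd (nat_lit 672) (nd (nat_lit 656) t1690_rrowT_t_c81 (nd (nat_lit 664) t1690_rrowT_t_c82 t1690_rrowT_t_c83)) (nd (nat_lit 680) t1690_rrowT_t_c84 (nd (nat_lit 688) t1690_rrowT_t_c85 t1690_rrowT_t_c86)))))))
noncomputable def t1690_rrowT : ℕ → ℕ := fun p => Nat.land (Nat.shiftRight (t1690_rrowT_t (Nat.shiftRight p (nat_lit 9))) (Nat.mul (nat_lit 1344) (Nat.land p (nat_lit 511)))) (nat_lit 383984923062992702193107238768305990575971314802788874095145673202075995393018055488645297669674812185833211621938100469973519720714697045576788566898683254440275883795786334484525778054071087861396060398229434719927672395650215231472663143090071728679350725089418264731278276442800414037787428461842409521168393903855600900323733353159466811689332335765898192891862061280747855198528180896166938113212415)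

noncomputable def t1690_circT_c0 : ℕ → List Cfsg.Spor.Fi24.Gen := (nd 32 (nd 16 (nd 8 (nd 4 (nd 2 (nd 1 (lf [.b, .k, .b, .k]) (lf [.c, .k, .c, .k])) (nd 3 (lf [.d, .k, .d, .k]) (lf [.e, .k, .e, .k]))) (nd 6 (nd 5 (lf [.f, .k, .f, .k]) (lf [.g, .k, .g, .k])) (nd 7 (lf [.j, .k, .j, .k]) (lf [.h, .k, .h, .k])))) (nd 12 (nd 10 (nd 9 (lf [.i, .k, .i, .k]) (lf [.k, .l, .k, .l, .k, .l])) (nd 11 (lf [.b, .l, .b, .l]) (lf [.c, .l, .c, .l]))) (nd 14 (nd 13 (lf [.d, .l, .d, .l]) (lf [.e, .l, .e, .l])) (nd 15 (lf [.f, .l, .f, .l]) (lf [.g, .l, .g, .l]))))) (nd 24 (nd 20 (nd 18 (nd 17 (lf [.j, .l, .j, .l]) (lf [.h, .l, .h, .l])) (nd 19 (lf [.i, .l, .i, .l]) (lf [.k, .a, .k, .a, .k, .a]))) (nd 22 (nd 21 (lf [.c, .a, .c, .a]) (lf [.d, .a, .d, .a])) (nd 23 (lf [.e, .a, .e, .a]) (lf [.f, .a, .f, .a])))) (nd 28 (nd 26 (nd 25 (lf [.g, .a, .g,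 .a]) (lf [.j, .a, .j, .a])) (nd 27 (lf [.h, .a, .h, .a]) (lf [.i, .a, .i, .a]))) (nd 30 (nd 29 (lf [.l, .a, .l, .a]) (lf [.l, .l])) (nd 31 (lf [.k, .b, .k, .b]) (lf [.a, .b, .a, .b, .a, .b])))))) (nd 48 (nd 40 (nd 36 (nd 34 (nd 33 (lf [.d, .b, .d, .b]) (lf [.e, .b, .e, .b])) (nd 35 (lf [.f, .b, .f, .b]) (lf [.g, .b, .g, .b]))) (nd 38 (nd 37 (lf [.j, .b, .j, .b]) (lf [.h, .b, .h, .b])) (nd 39 (lf [.i, .b, .i, .b]) (lf [.l, .k, .l, .k, .l, .k])))) (nd 44 (nd 42 (nd 41 (lf [.a, .k, .a, .k, .a, .k]) (lf [.l, .b, .l, .b])) (nd 43 (lf [.k, .c, .k, .c]) (lf [.a, .c, .a, .c]))) (nd 46 (nd 45 (lf [.b, .c, .b, .c, .b, .c]) (lf [.e, .c, .e, .c])) (nd 47 (lf [.f, .c, .f, .c]) (lf [.g, .c, .g, .c]))))) (nd 56 (nd 52 (nd 50 (nd 49 (lf [.j, .c, .j, .c]) (lf [.h, .c, .h, .c])) (nd 51 (lf [.i, .c, .i, .c]) (lf [.k, .k]))) (nd 54 (nd 53 (lf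 [.l, .c, .l, .c]) (lf [.k, .d, .k, .d])) (nd 55 (lf [.a, .d, .a, .d]) (lf [.b, .d, .b, .d])))) (nd 60 (nd 58 (nd 57 (lf [.c, .d, .c, .d, .c, .d]) (lf [.f, .d, .f, .d])) (nd 59 (lf [.g, .d, .g, .d]) (lf [.j, .d, .j, .d]))) (nd 62 (nd 61 (lf [.i, .d, .i, .d]) (lf [.b, .a, .b, .a, .b, .a])) (nd 63 (lf [.l, .d, .l, .d]) (lf [.k, .e, .k, .e])))))))
noncomputable def t1690_circT_c1 : ℕ → List Cfsg.Spor.Fi24.Gen := (nd 96 (nd 80 (nd 72 (nd 68 (nd 66 (nd 65 (lf [.a, .e, .a, .e]) (lf [.b, .e, .b, .e])) (nd 67 (lf [.c, .e, .c, .e]) (lf [.d, .e, .d, .e, .d, .e]))) (nd 70 (nd 69 (lf [.g, .e, .g, .e]) (lf [.j, .e, .j, .e])) (nd 71 (lf [.i, .e, .i, .e]) (lf [.k, .h, .k, .h])))) (nd 76 (nd 74 (nd 73 (lf [.a, .h, .a, .h]) (lf [.b, .h, .b, .h])) (nd 75 (lf [.c, .h, .c, .h]) (lf [.d, .h, .d, .h, .d, .h]))) (nd 78 (nd 77 (lf [.f, .h, .f, .h])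 (lf [.g, .h, .g, .h])) (nd 79 (lf [.j, .h, .j, .h]) (lf [.a, .a]))))) (nd 88 (nd 84 (nd 82 (nd 81 (lf [.l, .e, .l, .e]) (lf [.l, .h, .l, .h])) (nd 83 (lf [.k, .f, .k, .f]) (lf [.a, .f, .a, .f]))) (nd 86 (nd 85 (lf [.b, .f, .b, .f]) (lf [.c, .f, .c, .f])) (nd 87 (lf [.d, .f, .d, .f]) (lf [.e, .f, .e, .f, .e, .f])))) (nd 92 (nd 90 (nd 89 (lf [.j, .f, .j, .f]) (lf [.i, .f, .i, .f])) (nd 91 (lf [.e, .h, .e, .h]) (lf [.e, .e]))) (nd 94 (nd 93 (lf [.k, .i, .k, .i]) (lf [.a, .i, .a, .i])) (nd 95 (lf [.b, .i, .b, .i]) (lf [.c, .i, .c, .i])))))) (nd 112 (nd 104 (nd 100 (nd 98 (nd 97 (lf [.d, .i, .d, .i]) (lf [.f, .i, .f, .i])) (nd 99 (lf [.g, .i, .g, .i]) (lf [.j, .i, .j, .i]))) (nd 102 (nd 101 (lf [.h, .i, .h, .i, .h, .i]) (lf [.c, .b, .c, .b, .c, .b])) (nd 103 (lf [.l, .f, .l, .f]) (lf [.l, .i, .l, .i])))) (nd 108 (nd 106 (nd 105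 (lf [.k, .g, .k, .g]) (lf [.a, .g, .a, .g])) (nd 107 (lf [.b, .g, .b, .g]) (lf [.c, .g, .c, .g]))) (nd 110 (nd 109 (lf [.d, .g, .d, .g]) (lf [.e, .g, .e, .g])) (nd 111 (lf [.f, .g, .f, .g, .f, .g]) (lf [.i, .g, .i, .g]))))) (nd 120 (nd 116 (nd 114 (nd 113 (lf [.f, .f]) (lf [.e, .d, .e, .d, .e, .d])) (nd 115 (lf [.h, .d, .h, .d, .h, .d]) (lf [.e, .i, .e, .i]))) (nd 118 (nd 117 (lf [.b, .b]) (lf [.l, .g, .l, .g])) (nd 119 (lf [.k, .j, .k, .j]) (lf [.a, .j, .a, .j])))) (nd 124 (nd 122 (nd 121 (lf [.b, .j, .b, .j]) (lf [.c, .j, .c, .j])) (nd 123 (lf [.d, .j, .d, .j]) (lf [.e, .j, .e, .j]))) (nd 126 (nd 125 (lf [.f, .j, .f, .j]) (lf [.g, .j, .g, .j, .g, .j])) (nd 127 (lf [.i, .j, .i, .j]) (lf [.g, .g])))))))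
noncomputable def t1690_circT_c2 : ℕ → List Cfsg.Spor.Fi24.Gen := (nd 160 (nd 144 (nd 136 (nd 132 (nd 130 (nd 129 (lf [.d, .c, .d, .c, .d, .c]) (lf [.d, .d])) (nd 131 (lf [.l, .j, .l, .j]) (lf [.j, .j]))) (nd 134 (nd 133 (lf [.f, .e, .f, .e, .f, .e]) (lf [.h, .e, .h, .e])) (nd 135 (lf [.c, .c]) (lf [.i, .h, .i, .h, .i, .h])))) (nd 140 (nd 138 (nd 137 (lf [.g, .f, .g, .f, .g, .f]) (lf [.h, .f, .h, .f])) (nd 139 (lf [.a, .l, .a, .l]) (lf [.h, .h]))) (nd 142 (nd 141 (lf [.j, .g, .j, .g, .j, .g]) (lf [.h, .g, .h, .g])) (nd 143 (lf [.c, .b, .a, .h, .f, .e, .d, .c, .b, .a, .h, .f, .e, .d, .c, .b, .a, .h, .f, .e, .d, .c, .b, .a, .h, .f, .e, .d, .c, .b, .a, .h, .f, .e, .d, .c, .b, .a, .h, .f, .e, .d, .c, .b, .a, .h, .f, .e, .d, .c, .b, .a, .h, .f, .e, .d, .c, .b, .a, .l, .h, .f, .e, .d]) (lf [.i, .i]))))) (nd 152 (nd 148 (nd 146 (nd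 145 (lf [.h, .j, .h, .j]) (lf [.b, .a, .h, .f, .e, .d, .c, .b, .a, .h, .f, .e, .d, .c, .b, .a, .h, .f, .e, .d, .c, .b, .a, .h, .f, .e, .d, .c, .b, .a, .h, .f, .e, .d, .c, .b, .a, .h, .f, .e, .d, .c, .b, .a, .h, .f, .e, .d, .c, .b, .a, .h, .f, .e, .d, .c, .b, .a, .l, .h, .f, .e, .d, .c])) (nd 147 (lf [.h, .a, .b, .c, .d, .e, .f, .h, .a, .b, .c, .d, .e, .f, .h, .a, .b, .c, .d, .e, .f, .h, .a, .b, .c, .d, .e, .f, .h, .a, .b, .c, .d, .e, .f, .h, .a, .b, .c, .d, .e, .f, .h, .a, .b, .c, .d, .e, .f, .h, .l, .a, .b, .c, .d, .e, .f, .h, .a, .b, .c, .d, .e, .f]) (lf [.h, .a, .b, .c, .d, .e, .f, .h, .a, .b, .c, .d, .e, .f, .h, .a, .b, .c, .d, .e, .f, .h, .a, .b, .c, .d, .e, .f, .h, .a, .b, .c, .d, .e, .f, .h, .a, .b, .c, .d, .e, .f, .h, .a, .b, .c, .d, .e, .f, .h, .a, .b, .c, .d, .e, .f, .h, .l, .a, .b, .c, .d, .e, .f]))) (nd 150 (nd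 149 (lf [.e, .d, .c, .b, .a, .h, .f, .e, .d, .c, .b, .a, .h, .f, .e, .d, .c, .b, .a, .h, .f, .e, .d, .c, .b, .a, .h, .f, .e, .d, .c, .b, .a, .h, .f, .e, .d, .c, .b, .a, .h, .f, .e, .d, .c, .b, .a, .h, .f, .e, .d, .c, .b, .a, .l, .h, .f, .e, .d, .c, .b, .a, .h, .f]) (lf [.c, .d, .e, .f, .h, .a, .b, .c, .d, .e, .f, .h, .a, .b, .c, .d, .e, .f, .h, .a, .b, .c, .d, .e, .f, .h, .a, .b, .c, .d, .e, .f, .h, .a, .b, .c, .d, .e, .f, .h, .a, .b, .c, .d, .e, .f, .h, .a, .b, .c, .d, .e, .f, .h, .a, .b, .c, .d, .e, .f, .h, .l, .a, .b])) (nd 151 (lf [.h, .l, .a, .b, .c, .d, .e, .f, .h, .a, .b, .c, .d, .e, .f, .h, .a, .b, .c, .d, .e, .f, .h, .a, .b, .c, .d, .e, .f, .h, .a, .b, .c, .d, .e, .f, .h, .a, .b, .c, .d, .e, .f, .h, .a, .b, .c, .d, .e, .f, .h, .a, .b, .c, .d, .e, .f, .h, .a, .b, .c, .d, .e, .f]) (lf [.b, .a, .h, .f, .e, .d, .c, .b,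 .a, .h, .f, .e, .d, .c, .b, .a, .h, .f, .e, .d, .c, .b, .a, .h, .f, .e, .d, .c, .b, .a, .h, .f, .e, .d, .c, .b, .a, .h, .f, .e, .d, .c, .b, .a, .l, .h, .f, .e, .d, .c, .b, .a, .h, .f, .e, .d, .c, .b, .a, .h, .f, .e, .d, .c])))) (nd 156 (nd 154 (nd 153 (lf [.f, .h, .a, .b, .c, .d, .e, .f, .h, .a, .b, .c, .d, .e, .f, .h, .a, .b, .c, .d, .e, .f, .h, .a, .b, .c, .d, .e, .f, .h, .a, .b, .c, .d, .e, .f, .h, .a, .b, .c, .d, .e, .f, .h, .a, .b, .c, .d, .e, .f, .h, .a, .b, .c, .d, .e, .f, .h, .l, .a, .b, .c, .d, .e]) (lf [.f, .e, .d, .c, .b, .a, .h, .f, .e, .d, .c, .b, .a, .h, .f, .e, .d, .c, .b, .a, .h, .f, .e, .d, .c, .b, .a, .h, .f, .e, .d, .c, .b, .a, .h, .f, .e, .d, .c, .b, .a, .h, .f, .e, .d, .c, .b, .a, .h, .f, .e, .d, .c, .b, .a, .h, .f, .e, .d, .c, .b, .a, .l, .h])) (nd 155 (lf [.b, .a, .h, .f, .e, .d, .c, .b, .a, .h, .f, .e,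 .d, .c, .b, .a, .h, .f, .e, .d, .c, .b, .a, .h, .f, .e, .d, .c, .b, .a, .h, .f, .e, .d, .c, .b, .a, .l, .h, .f, .e, .d, .c, .b, .a, .h, .f, .e, .d, .c, .b, .a, .h, .f, .e, .d, .c, .b, .a, .h, .f, .e, .d, .c]) (lf [.d, .c, .b, .a, .h, .f, .e, .d, .c, .b, .a, .h, .f, .e, .d, .c, .b, .a, .h, .f, .e, .d, .c, .b, .a, .h, .f, .e, .d, .c, .b, .a, .h, .f, .e, .d, .c, .b, .a, .h, .f, .e, .d, .c, .b, .a, .h, .f, .e, .d, .c, .b, .a, .l, .h, .f, .e, .d, .c, .b, .a, .h, .f, .e]))) (nd 158 (nd 157 (lf [.f, .h, .a, .b, .c, .d, .e, .f, .h, .a, .b, .c, .d, .e, .f, .h, .a, .b, .c, .d, .e, .f, .h, .a, .b, .c, .d, .e, .f, .h, .a, .b, .c, .d, .e, .f, .h, .a, .b, .c, .d, .e, .f, .h, .a, .b, .c, .d, .e, .f, .h, .l, .a, .b, .c, .d, .e, .f, .h, .a, .b, .c, .d, .e]) (lf [.d, .c, .b, .a, .h, .f, .e, .d, .c, .b, .a, .h, .f, .e, .d, .c, .b, .a, .h, .f,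 .e, .d, .c, .b, .a, .h, .f, .e, .d, .c, .b, .a, .h, .f, .e, .d, .c, .b, .a, .h, .f, .e, .d, .c, .b, .a, .h, .f, .e, .d, .c, .b, .a, .h, .f, .e, .d, .c, .b, .a, .l, .h, .f, .e])) (nd 159 (lf [.h, .f, .e, .d, .c, .b, .a, .h, .f, .e, .d, .c, .b, .a, .h, .f, .e, .d, .c, .b, .a, .h, .f, .e, .d, .c, .b, .a, .h, .f, .e, .d, .c, .b, .a, .h, .f, .e, .d, .c, .b, .a, .h, .f, .e, .d, .c, .b, .a, .h, .f, .e, .d, .c, .b, .a, .h, .f, .e, .d, .c, .b, .a, .l]) (lf [.h, .f, .e, .d, .c, .b, .a, .h, .f, .e, .d, .c, .b, .a, .l, .h, .f, .e, .d, .c, .b, .a, .h, .f, .e, .d, .c, .b, .a, .h, .f, .e, .d, .c, .b, .a, .h, .f, .e, .d, .c, .b, .a, .h, .f, .e, .d, .c, .b, .a, .h, .f, .e, .d, .c, .b, .a, .h, .f, .e, .d, .c, .b, .a])))))) (nd 176 (nd 168 (nd 164 (nd 162 (nd 161 (lf [.e, .f, .h, .a, .b, .c, .d, .e, .f, .h, .a, .b, .c, .d, .e, .f, .h, .a, .b,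 .c, .d, .e, .f, .h, .a, .b, .c, .d, .e, .f, .h, .a, .b, .c, .d, .e, .f, .h, .a, .b, .c, .d, .e, .f, .h, .a, .b, .c, .d, .e, .f, .h, .a, .b, .c, .d, .e, .f, .h, .l, .a, .b, .c, .d]) (lf [.l, .a, .b, .c, .d, .e, .f, .h, .a, .b, .c, .d, .e, .f, .h, .a, .b, .c, .d, .e, .f, .h, .a, .b, .c, .d, .e, .f, .h, .a, .b, .c, .d, .e, .f, .h, .a, .b, .c, .d, .e, .f, .h, .a, .b, .c, .d, .e, .f, .h, .a, .b, .c, .d, .e, .f, .h, .a, .b, .c, .d, .e, .f, .h])) (nd 163 (lf [.h, .f, .e, .d, .c, .b, .a, .h, .f, .e, .d, .c, .b, .a, .h, .f, .e, .d, .c, .b, .a, .h, .f, .e, .d, .c, .b, .a, .h, .f, .e, .d, .c, .b, .a, .h, .f, .e, .d, .c, .b, .a, .h, .f, .e, .d, .c, .b, .a, .h, .f, .e, .d, .c, .b, .a, .l, .h, .f, .e, .d, .c, .b, .a]) (lf [.d, .e, .f, .h, .a, .b, .c, .d, .e, .f, .h, .l, .a, .b, .c, .d, .e, .f, .h, .a, .b, .c, .d, .e, .f, .h, .a, .b, .c,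 .d, .e, .f, .h, .a, .b, .c, .d, .e, .f, .h, .a, .b, .c, .d, .e, .f, .h, .a, .b, .c, .d, .e, .f, .h, .a, .b, .c, .d, .e, .f, .h, .a, .b, .c]))) (nd 166 (nd 165 (lf [.d, .e, .f, .h, .l, .a, .b, .c, .d, .e, .f, .h, .a, .b, .c, .d, .e, .f, .h, .a, .b, .c, .d, .e, .f, .h, .a, .b, .c, .d, .e, .f, .h, .a, .b, .c, .d, .e, .f, .h, .a, .b, .c, .d, .e, .f, .h, .a, .b, .c, .d, .e, .f, .h, .a, .b, .c, .d, .e, .f, .h, .a, .b, .c]) (lf [.f, .e, .d, .c, .b, .a, .h, .f, .e, .d, .c, .b, .a, .h, .f, .e, .d, .c, .b, .a, .h, .f, .e, .d, .c, .b, .a, .h, .f, .e, .d, .c, .b, .a, .h, .f, .e, .d, .c, .b, .a, .h, .f, .e, .d, .c, .b, .a, .h, .f, .e, .d, .c, .b, .a, .l, .h, .f, .e, .d, .c, .b, .a, .h])) (nd 167 (lf [.a, .b, .c, .d, .e, .f, .h, .a, .b, .c, .d, .e, .f, .h, .a, .b, .c, .d, .e, .f, .h, .a, .b, .c, .d, .e, .f, .h, .a, .b, .c, .d, .e, .f, .h,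 .a, .b, .c, .d, .e, .f, .h, .a, .b, .c, .d, .e, .f, .h, .a, .b, .c, .d, .e, .f, .h, .a, .b, .c, .d, .e, .f, .h, .l]) (lf [.e, .d, .c, .b, .a, .h, .f, .e, .d, .c, .b, .a, .h, .f, .e, .d, .c, .b, .a, .h, .f, .e, .d, .c, .b, .a, .h, .f, .e, .d, .c, .b, .a, .h, .f, .e, .d, .c, .b, .a, .h, .f, .e, .d, .c, .b, .a, .h, .f, .e, .d, .c, .b, .a, .h, .f, .e, .d, .c, .b, .a, .l, .h, .f])))) (nd 172 (nd 170 (nd 169 (lf [.e, .f, .h, .a, .b, .c, .d, .e, .f, .h, .l, .a, .b, .c, .d, .e, .f, .h, .a, .b, .c, .d, .e, .f, .h, .a, .b, .c, .d, .e, .f, .h, .a, .b, .c, .d, .e, .f, .h, .a, .b, .c, .d, .e, .f, .h, .a, .b, .c, .d, .e, .f, .h, .a, .b, .c, .d, .e, .f, .h, .a, .b, .c, .d]) (lf [.b, .a, .h, .f, .e, .d, .c, .b, .a, .h, .f, .e, .d, .c, .b, .a, .l, .h, .f, .e, .d, .c, .b, .a, .h, .f, .e, .d, .c, .b, .a, .h, .f, .e, .d, .c, .b, .a, .h, .f, .e,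 .d, .c, .b, .a, .h, .f, .e, .d, .c, .b, .a, .h, .f, .e, .d, .c, .b, .a, .h, .f, .e, .d, .c])) (nd 171 (lf [.f, .h, .a, .b, .c, .d, .e, .f, .h, .a, .b, .c, .d, .e, .f, .h, .a, .b, .c, .d, .e, .f, .h, .a, .b, .c, .d, .e, .f, .h, .a, .b, .c, .d, .e, .f, .h, .a, .b, .c, .d, .e, .f, .h, .l, .a, .b, .c, .d, .e, .f, .h, .a, .b, .c, .d, .e, .f, .h, .a, .b, .c, .d, .e]) (lf [.f, .h, .l, .a, .b, .c, .d, .e, .f, .h, .a, .b, .c, .d, .e, .f, .h, .a, .b, .c, .d, .e, .f, .h, .a, .b, .c, .d, .e, .f, .h, .a, .b, .c, .d, .e, .f, .h, .a, .b, .c, .d, .e, .f, .h, .a, .b, .c, .d, .e, .f, .h, .a, .b, .c, .d, .e, .f, .h, .a, .b, .c, .d, .e]))) (nd 174 (nd 173 (lf [.a, .h, .f, .e, .d, .c, .b, .a, .h, .f, .e, .d, .c, .b, .a, .h, .f, .e, .d, .c, .b, .a, .h, .f, .e, .d, .c, .b, .a, .h, .f, .e, .d, .c, .b, .a, .h, .f, .e, .d, .c, .b, .a, .h, .f, .e, .d,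 .c, .b, .a, .h, .f, .e, .d, .c, .b, .a, .l, .h, .f, .e, .d, .c, .b]) (lf [.e, .f, .h, .l, .a, .b, .c, .d, .e, .f, .h, .a, .b, .c, .d, .e, .f, .h, .a, .b, .c, .d, .e, .f, .h, .a, .b, .c, .d, .e, .f, .h, .a, .b, .c, .d, .e, .f, .h, .a, .b, .c, .d, .e, .f, .h, .a, .b, .c, .d, .e, .f, .h, .a, .b, .c, .d, .e, .f, .h, .a, .b, .c, .d])) (nd 175 (lf [.a, .l, .h, .f, .e, .d, .c, .b, .a, .h, .f, .e, .d, .c, .b, .a, .h, .f, .e, .d, .c, .b, .a, .h, .f, .e, .d, .c, .b, .a, .h, .f, .e, .d, .c, .b, .a, .h, .f, .e, .d, .c, .b, .a, .h, .f, .e, .d, .c, .b, .a, .h, .f, .e, .d, .c, .b, .a, .h, .f, .e, .d, .c, .b]) (lf [.b, .a, .l, .h, .f, .e, .d, .c, .b, .a, .h, .f, .e, .d, .c, .b, .a, .h, .f, .e, .d, .c, .b, .a, .h, .f, .e, .d, .c, .b, .a, .h, .f, .e, .d, .c, .b, .a, .h, .f, .e, .d, .c, .b, .a, .h, .f, .e, .d, .c, .b, .a, .h, .f, .e, .d, .c,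 .b, .a, .h, .f, .e, .d, .c]))))) (nd 184 (nd 180 (nd 178 (nd 177 (lf [.e, .f, .h, .a, .b, .c, .d, .e, .f, .h, .a, .b, .c, .d, .e, .f, .h, .a, .b, .c, .d, .e, .f, .h, .a, .b, .c, .d, .e, .f, .h, .a, .b, .c, .d, .e, .f, .h, .a, .b, .c, .d, .e, .f, .h, .l, .a, .b, .c, .d, .e, .f, .h, .a, .b, .c, .d, .e, .f, .h, .a, .b, .c, .d]) (lf [.l, .h, .f, .e, .d, .c, .b, .a, .h, .f, .e, .d, .c, .b, .a, .h, .f, .e, .d, .c, .b, .a, .h, .f, .e, .d, .c, .b, .a, .h, .f, .e, .d, .c, .b, .a, .h, .f, .e, .d, .c, .b, .a, .h, .f, .e, .d, .c, .b, .a, .h, .f, .e, .d, .c, .b, .a, .h, .f, .e, .d, .c, .b, .a])) (nd 179 (lf [.a, .h, .f, .e, .d, .c, .b, .a, .h, .f, .e, .d, .c, .b, .a, .l, .h, .f, .e, .d, .c, .b, .a, .h, .f, .e, .d, .c, .b, .a, .h, .f, .e, .d, .c, .b, .a, .h, .f, .e, .d, .c, .b, .a, .h, .f, .e, .d, .c, .b, .a, .h, .f, .e, .d, .c, .b, .a,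 .h, .f, .e, .d, .c, .b]) (lf [.c, .b, .a, .k, .l, .d, .e, .f, .g, .j, .d, .h, .i, .d, .c, .b, .a, .k, .l, .d, .e, .f, .g, .j, .d, .h, .i, .d, .c, .b, .a, .k, .l, .d, .e, .f, .g, .j, .d, .h, .i, .d, .c, .b, .a, .k, .l, .d, .e, .f, .g, .j, .d, .h, .i, .d, .c, .b, .a, .k, .l, .d, .e, .f, .g, .j, .d, .h, .i, .d, .c, .b, .a, .k, .l, .d, .e, .f, .g, .j, .d, .h, .i, .d, .c, .b, .a, .k, .l, .d, .e, .f, .g, .j, .d, .h, .i, .d, .c, .b, .a, .k, .l, .d, .e, .f, .g, .j, .d, .h, .i, .d, .c, .b, .a, .k, .l, .d, .e, .f, .g, .j, .d, .h, .i, .d, .c, .b, .a, .k, .l, .d, .e, .f, .g, .j, .d, .h, .i, .d, .c, .b, .a, .k, .l, .d, .e, .f, .g, .j, .d, .h, .i, .d, .c, .b, .a, .k, .l, .d, .e, .f, .g, .j, .d, .h, .i, .d, .c, .b, .a, .k, .l, .d, .e, .f, .g, .j, .d, .h, .i, .d, .c, .b, .a, .k, .l, .d, .e, .f, .g, .j, .d, .h, .i, .d, .c, .b, .a, .k, .l, .d,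 .e, .f, .g, .j, .d, .h, .i, .d, .c, .b, .a, .k, .l, .d, .e, .f, .g, .j, .d, .h, .i, .d, .c, .b, .a, .k, .l, .d, .e, .f, .g, .j, .d, .h, .i, .d]))) (nd 182 (nd 181 (lf [.a, .h, .f, .e, .d, .c, .b, .a, .h, .f, .e, .d, .c, .b, .a, .h, .f, .e, .d, .c, .b, .a, .h, .f, .e, .d, .c, .b, .a, .h, .f, .e, .d, .c, .b, .a, .h, .f, .e, .d, .c, .b, .a, .l, .h, .f, .e, .d, .c, .b, .a, .h, .f, .e, .d, .c, .b, .a, .h, .f, .e, .d, .c, .b]) (lf [.a, .k, .l, .d, .e, .f, .g, .j, .d, .h, .i, .d, .c, .b, .a, .k, .l, .d, .e, .f, .g, .j, .d, .h, .i, .d, .c, .b, .a, .k, .l, .d, .e, .f, .g, .j, .d, .h, .i, .d, .c, .b, .a, .k, .l, .d, .e, .f, .g, .j, .d, .h, .i, .d, .c, .b, .a, .k, .l, .d, .e, .f, .g, .j, .d, .h, .i, .d, .c, .b, .a, .k, .l, .d, .e, .f, .g, .j, .d, .h, .i, .d, .c, .b, .a, .k, .l, .d, .e, .f, .g, .j, .d, .h, .i, .d, .c, .b, .a, .k, .l, .d,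 .e, .f, .g, .j, .d, .h, .i, .d, .c, .b, .a, .k, .l, .d, .e, .f, .g, .j, .d, .h, .i, .d, .c, .b, .a, .k, .l, .d, .e, .f, .g, .j, .d, .h, .i, .d, .c, .b, .a, .k, .l, .d, .e, .f, .g, .j, .d, .h, .i, .d, .c, .b, .a, .k, .l, .d, .e, .f, .g, .j, .d, .h, .i, .d, .c, .b, .a, .k, .l, .d, .e, .f, .g, .j, .d, .h, .i, .d, .c, .b, .a, .k, .l, .d, .e, .f, .g, .j, .d, .h, .i, .d, .c, .b, .a, .k, .l, .d, .e, .f, .g, .j, .d, .h, .i, .d, .c, .b, .a, .k, .l, .d, .e, .f, .g, .j, .d, .h, .i, .d, .c, .b, .a, .k, .l, .d, .e, .f, .g, .j, .d, .h, .i, .d, .c, .b])) (nd 183 (lf [.f, .h, .a, .b, .c, .d, .e, .f, .h, .l, .a, .b, .c, .d, .e, .f, .h, .a, .b, .c, .d, .e, .f, .h, .a, .b, .c, .d, .e, .f, .h, .a, .b, .c, .d, .e, .f, .h, .a, .b, .c, .d, .e, .f, .h, .a, .b, .c, .d, .e, .f, .h, .a, .b, .c, .d, .e, .f, .h, .a, .b, .c, .d, .e]) (lf [.f, .h, .a, .b,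 .c, .d, .e, .f, .h, .a, .b, .c, .d, .e, .f, .h, .a, .b, .c, .d, .e, .f, .h, .a, .b, .c, .d, .e, .f, .h, .l, .a, .b, .c, .d, .e, .f, .h, .a, .b, .c, .d, .e, .f, .h, .a, .b, .c, .d, .e, .f, .h, .a, .b, .c, .d, .e, .f, .h, .a, .b, .c, .d, .e])))) (nd 188 (nd 186 (nd 185 (lf [.d, .l, .k, .a, .b, .c, .d, .i, .h, .d, .j, .g, .f, .e, .d, .l, .k, .a, .b, .c, .d, .i, .h, .d, .j, .g, .f, .e, .d, .l, .k, .a, .b, .c, .d, .i, .h, .d, .j, .g, .f, .e, .d, .l, .k, .a, .b, .c, .d, .i, .h, .d, .j, .g, .f, .e, .d, .l, .k, .a, .b, .c, .d, .i, .h, .d, .j, .g, .f, .e, .d, .l, .k, .a, .b, .c, .d, .i, .h, .d, .j, .g, .f, .e, .d, .l, .k, .a, .b, .c, .d, .i, .h, .d, .j, .g, .f, .e, .d, .l, .k, .a, .b, .c, .d, .i, .h, .d, .j, .g, .f, .e, .d, .l, .k, .a, .b, .c, .d, .i, .h, .d, .j, .g, .f, .e, .d, .l, .k, .a, .b, .c, .d, .i, .h, .d, .j, .g, .f, .e, .d,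 .l, .k, .a, .b, .c, .d, .i, .h, .d, .j, .g, .f, .e, .d, .l, .k, .a, .b, .c, .d, .i, .h, .d, .j, .g, .f, .e, .d, .l, .k, .a, .b, .c, .d, .i, .h, .d, .j, .g, .f, .e, .d, .l, .k, .a, .b, .c, .d, .i, .h, .d, .j, .g, .f, .e, .d, .l, .k, .a, .b, .c, .d, .i, .h, .d, .j, .g, .f, .e, .d, .l, .k, .a, .b, .c, .d, .i, .h, .d, .j, .g, .f, .e, .d, .l, .k, .a, .b, .c, .d, .i, .h, .d, .j, .g, .f, .e]) (lf [.g, .j, .d, .h, .i, .d, .c, .b, .a, .k, .l, .d, .e, .f, .g, .j, .d, .h, .i, .d, .c, .b, .a, .k, .l, .d, .e, .f, .g, .j, .d, .h, .i, .d, .c, .b, .a, .k, .l, .d, .e, .f, .g, .j, .d, .h, .i, .d, .c, .b, .a, .k, .l, .d, .e, .f, .g, .j, .d, .h, .i, .d, .c, .b, .a, .k, .l, .d, .e, .f, .g, .j, .d, .h, .i, .d, .c, .b, .a, .k, .l, .d, .e, .f, .g, .j, .d, .h, .i, .d, .c, .b, .a, .k, .l, .d, .e, .f, .g, .j, .d, .h, .i, .d, .c, .b, .a, .k, .l, .d, .e,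 .f, .g, .j, .d, .h, .i, .d, .c, .b, .a, .k, .l, .d, .e, .f, .g, .j, .d, .h, .i, .d, .c, .b, .a, .k, .l, .d, .e, .f, .g, .j, .d, .h, .i, .d, .c, .b, .a, .k, .l, .d, .e, .f, .g, .j, .d, .h, .i, .d, .c, .b, .a, .k, .l, .d, .e, .f, .g, .j, .d, .h, .i, .d, .c, .b, .a, .k, .l, .d, .e, .f, .g, .j, .d, .h, .i, .d, .c, .b, .a, .k, .l, .d, .e, .f, .g, .j, .d, .h, .i, .d, .c, .b, .a, .k, .l, .d, .e, .f, .g, .j, .d, .h, .i, .d, .c, .b, .a, .k, .l, .d, .e, .f, .g, .j, .d, .h, .i, .d, .c, .b, .a, .k, .l, .d, .e, .f])) (nd 187 (lf [.i, .d, .c, .b, .a, .k, .l, .d, .e, .f, .g, .j, .d, .h, .i, .d, .c, .b, .a, .k, .l, .d, .e, .f, .g, .j, .d, .h, .i, .d, .c, .b, .a, .k, .l, .d, .e, .f, .g, .j, .d, .h, .i, .d, .c, .b, .a, .k, .l, .d, .e, .f, .g, .j, .d, .h, .i, .d, .c, .b, .a, .k, .l, .d, .e, .f, .g, .j, .d, .h, .i, .d, .c, .b, .a, .k, .l, .d,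 .e, .f, .g, .j, .d, .h, .i, .d, .c, .b, .a, .k, .l, .d, .e, .f, .g, .j, .d, .h, .i, .d, .c, .b, .a, .k, .l, .d, .e, .f, .g, .j, .d, .h, .i, .d, .c, .b, .a, .k, .l, .d, .e, .f, .g, .j, .d, .h, .i, .d, .c, .b, .a, .k, .l, .d, .e, .f, .g, .j, .d, .h, .i, .d, .c, .b, .a, .k, .l, .d, .e, .f, .g, .j, .d, .h, .i, .d, .c, .b, .a, .k, .l, .d, .e, .f, .g, .j, .d, .h, .i, .d, .c, .b, .a, .k, .l, .d, .e, .f, .g, .j, .d, .h, .i, .d, .c, .b, .a, .k, .l, .d, .e, .f, .g, .j, .d, .h, .i, .d, .c, .b, .a, .k, .l, .d, .e, .f, .g, .j, .d, .h, .i, .d, .c, .b, .a, .k, .l, .d, .e, .f, .g, .j, .d, .h, .i, .d, .c, .b, .a, .k, .l, .d, .e, .f, .g, .j, .d, .h]) (lf [.b, .a, .h, .f, .e, .d, .c, .b, .a, .h, .f, .e, .d, .c, .b, .a, .h, .f, .e, .d, .c, .b, .a, .h, .f, .e, .d, .c, .b, .a, .h, .f, .e, .d, .c, .b, .a, .h, .f, .e, .d, .c, .b, .a, .h, .f, .e, .d,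 .c, .b, .a, .l, .h, .f, .e, .d, .c, .b, .a, .h, .f, .e, .d, .c]))) (nd 190 (nd 189 (lf [.d, .c, .b, .a, .h, .f, .e, .d, .c, .b, .a, .h, .f, .e, .d, .c, .b, .a, .h, .f, .e, .d, .c, .b, .a, .h, .f, .e, .d, .c, .b, .a, .l, .h, .f, .e, .d, .c, .b, .a, .h, .f, .e, .d, .c, .b, .a, .h, .f, .e, .d, .c, .b, .a, .h, .f, .e, .d, .c, .b, .a, .h, .f, .e]) (lf [.a, .h, .f, .e, .d, .c, .b, .a, .h, .f, .e, .d, .c, .b, .a, .h, .f, .e, .d, .c, .b, .a, .h, .f, .e, .d, .c, .b, .a, .h, .f, .e, .d, .c, .b, .a, .l, .h, .f, .e, .d, .c, .b, .a, .h, .f, .e, .d, .c, .b, .a, .h, .f, .e, .d, .c, .b, .a, .h, .f, .e, .d, .c, .b])) (nd 191 (lf [.k, .l, .d, .e, .f, .g, .j, .d, .h, .i, .d, .c, .b, .a, .k, .l, .d, .e, .f, .g, .j, .d, .h, .i, .d, .c, .b, .a, .k, .l, .d, .e, .f, .g, .j, .d, .h, .i, .d, .c, .b, .a, .k, .l, .d, .e, .f, .g, .j, .d, .h, .i, .d, .c,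 .b, .a, .k, .l, .d, .e, .f, .g, .j, .d, .h, .i, .d, .c, .b, .a, .k, .l, .d, .e, .f, .g, .j, .d, .h, .i, .d, .c, .b, .a, .k, .l, .d, .e, .f, .g, .j, .d, .h, .i, .d, .c, .b, .a, .k, .l, .d, .e, .f, .g, .j, .d, .h, .i, .d, .c, .b, .a, .k, .l, .d, .e, .f, .g, .j, .d, .h, .i, .d, .c, .b, .a, .k, .l, .d, .e, .f, .g, .j, .d, .h, .i, .d, .c, .b, .a, .k, .l, .d, .e, .f, .g, .j, .d, .h, .i, .d, .c, .b, .a, .k, .l, .d, .e, .f, .g, .j, .d, .h, .i, .d, .c, .b, .a, .k, .l, .d, .e, .f, .g, .j, .d, .h, .i, .d, .c, .b, .a, .k, .l, .d, .e, .f, .g, .j, .d, .h, .i, .d, .c, .b, .a, .k, .l, .d, .e, .f, .g, .j, .d, .h, .i, .d, .c, .b, .a, .k, .l, .d, .e, .f, .g, .j, .d, .h, .i, .d, .c, .b, .a, .k, .l, .d, .e, .f, .g, .j, .d, .h, .i, .d, .c, .b, .a]) (lf [.e, .d, .c, .b, .a, .h, .f, .e, .d, .c, .b, .a, .h, .f, .e, .d, .c, .b, .a, .l, .h, .f, .e, .d,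 .c, .b, .a, .h, .f, .e, .d, .c, .b, .a, .h, .f, .e, .d, .c, .b, .a, .h, .f, .e, .d, .c, .b, .a, .h, .f, .e, .d, .c, .b, .a, .h, .f, .e, .d, .c, .b, .a, .h, .f])))))))
noncomputable def t1690_circT_c3 : ℕ → List Cfsg.Spor.Fi24.Gen := (nd 198 (nd 195 (nd 193 (lf [.d, .j, .g, .f, .e, .d, .l, .k, .a, .b, .c, .d, .i, .h, .d, .j, .g, .f, .e, .d, .l, .k, .a, .b, .c, .d, .i, .h, .d, .j, .g, .f, .e, .d, .l, .k, .a, .b, .c, .d, .i, .h, .d, .j, .g, .f, .e, .d, .l, .k, .a, .b, .c, .d, .i, .h, .d, .j, .g, .f, .e, .d, .l, .k, .a, .b, .c, .d, .i, .h, .d, .j, .g, .f, .e, .d, .l, .k, .a, .b, .c, .d, .i, .h, .d, .j, .g, .f, .e, .d, .l, .k, .a, .b, .c, .d, .i, .h, .d, .j, .g, .f, .e, .d, .l, .k, .a, .b, .c, .d, .i, .h, .d, .j, .g, .f, .e, .d, .l, .k, .a, .b, .c, .d, .i, .h, .d, .j, .g, .f, .e, .d, .l, .k, .a, .b, .c, .d, .i, .h, .d, .j, .g, .f,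 .e, .d, .l, .k, .a, .b, .c, .d, .i, .h, .d, .j, .g, .f, .e, .d, .l, .k, .a, .b, .c, .d, .i, .h, .d, .j, .g, .f, .e, .d, .l, .k, .a, .b, .c, .d, .i, .h, .d, .j, .g, .f, .e, .d, .l, .k, .a, .b, .c, .d, .i, .h, .d, .j, .g, .f, .e, .d, .l, .k, .a, .b, .c, .d, .i, .h, .d, .j, .g, .f, .e, .d, .l, .k, .a, .b, .c, .d, .i, .h, .d, .j, .g, .f, .e, .d, .l, .k, .a, .b, .c, .d, .i, .h]) (nd 194 (lf [.f, .g, .j, .d, .h, .i, .d, .c, .b, .a, .k, .l, .d, .e, .f, .g, .j, .d, .h, .i, .d, .c, .b, .a, .k, .l, .d, .e, .f, .g, .j, .d, .h, .i, .d, .c, .b, .a, .k, .l, .d, .e, .f, .g, .j, .d, .h, .i, .d, .c, .b, .a, .k, .l, .d, .e, .f, .g, .j, .d, .h, .i, .d, .c, .b, .a, .k, .l, .d, .e, .f, .g, .j, .d, .h, .i, .d, .c, .b, .a, .k, .l, .d, .e, .f, .g, .j, .d, .h, .i, .d, .c, .b, .a, .k, .l, .d, .e, .f, .g, .j, .d, .h, .i, .d, .c, .b, .a, .k, .l, .d, .e,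 .f, .g, .j, .d, .h, .i, .d, .c, .b, .a, .k, .l, .d, .e, .f, .g, .j, .d, .h, .i, .d, .c, .b, .a, .k, .l, .d, .e, .f, .g, .j, .d, .h, .i, .d, .c, .b, .a, .k, .l, .d, .e, .f, .g, .j, .d, .h, .i, .d, .c, .b, .a, .k, .l, .d, .e, .f, .g, .j, .d, .h, .i, .d, .c, .b, .a, .k, .l, .d, .e, .f, .g, .j, .d, .h, .i, .d, .c, .b, .a, .k, .l, .d, .e, .f, .g, .j, .d, .h, .i, .d, .c, .b, .a, .k, .l, .d, .e, .f, .g, .j, .d, .h, .i, .d, .c, .b, .a, .k, .l, .d, .e, .f, .g, .j, .d, .h, .i, .d, .c, .b, .a, .k, .l, .d, .e]) (lf [.h, .i, .d, .c, .b, .a, .k, .l, .d, .e, .f, .g, .j, .d, .h, .i, .d, .c, .b, .a, .k, .l, .d, .e, .f, .g, .j, .d, .h, .i, .d, .c, .b, .a, .k, .l, .d, .e, .f, .g, .j, .d, .h, .i, .d, .c, .b, .a, .k, .l, .d, .e, .f, .g, .j, .d, .h, .i, .d, .c, .b, .a, .k, .l, .d, .e, .f, .g, .j, .d, .h, .i, .d, .c, .b, .a, .k, .l, .d, .e, .f, .g,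 .j, .d, .h, .i, .d, .c, .b, .a, .k, .l, .d, .e, .f, .g, .j, .d, .h, .i, .d, .c, .b, .a, .k, .l, .d, .e, .f, .g, .j, .d, .h, .i, .d, .c, .b, .a, .k, .l, .d, .e, .f, .g, .j, .d, .h, .i, .d, .c, .b, .a, .k, .l, .d, .e, .f, .g, .j, .d, .h, .i, .d, .c, .b, .a, .k, .l, .d, .e, .f, .g, .j, .d, .h, .i, .d, .c, .b, .a, .k, .l, .d, .e, .f, .g, .j, .d, .h, .i, .d, .c, .b, .a, .k, .l, .d, .e, .f, .g, .j, .d, .h, .i, .d, .c, .b, .a, .k, .l, .d, .e, .f, .g, .j, .d, .h, .i, .d, .c, .b, .a, .k, .l, .d, .e, .f, .g, .j, .d, .h, .i, .d, .c, .b, .a, .k, .l, .d, .e, .f, .g, .j, .d, .h, .i, .d, .c, .b, .a, .k, .l, .d, .e, .f, .g, .j, .d]))) (nd 196 (lf [.j, .d, .h, .i, .d, .c, .b, .a, .k, .l, .d, .e, .f, .g, .j, .d, .h, .i, .d, .c, .b, .a, .k, .l, .d, .e, .f, .g, .j, .d, .h, .i, .d, .c, .b, .a, .k, .l, .d, .e, .f, .g, .j, .d, .h, .i, .d, .c, .b,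 .a, .k, .l, .d, .e, .f, .g, .j, .d, .h, .i, .d, .c, .b, .a, .k, .l, .d, .e, .f, .g, .j, .d, .h, .i, .d, .c, .b, .a, .k, .l, .d, .e, .f, .g, .j, .d, .h, .i, .d, .c, .b, .a, .k, .l, .d, .e, .f, .g, .j, .d, .h, .i, .d, .c, .b, .a, .k, .l, .d, .e, .f, .g, .j, .d, .h, .i, .d, .c, .b, .a, .k, .l, .d, .e, .f, .g, .j, .d, .h, .i, .d, .c, .b, .a, .k, .l, .d, .e, .f, .g, .j, .d, .h, .i, .d, .c, .b, .a, .k, .l, .d, .e, .f, .g, .j, .d, .h, .i, .d, .c, .b, .a, .k, .l, .d, .e, .f, .g, .j, .d, .h, .i, .d, .c, .b, .a, .k, .l, .d, .e, .f, .g, .j, .d, .h, .i, .d, .c, .b, .a, .k, .l, .d, .e, .f, .g, .j, .d, .h, .i, .d, .c, .b, .a, .k, .l, .d, .e, .f, .g, .j, .d, .h, .i, .d, .c, .b, .a, .k, .l, .d, .e, .f, .g, .j, .d, .h, .i, .d, .c, .b, .a, .k, .l, .d, .e, .f, .g]) (nd 197 (lf [.f, .h, .a, .b, .c, .d, .e, .f, .h, .a, .b, .c, .d, .e, .f, .h, .l,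 .a, .b, .c, .d, .e, .f, .h, .a, .b, .c, .d, .e, .f, .h, .a, .b, .c, .d, .e, .f, .h, .a, .b, .c, .d, .e, .f, .h, .a, .b, .c, .d, .e, .f, .h, .a, .b, .c, .d, .e, .f, .h, .a, .b, .c, .d, .e]) (lf [.c, .b, .a, .l, .h, .f, .e, .d, .c, .b, .a, .h, .f, .e, .d, .c, .b, .a, .h, .f, .e, .d, .c, .b, .a, .h, .f, .e, .d, .c, .b, .a, .h, .f, .e, .d, .c, .b, .a, .h, .f, .e, .d, .c, .b, .a, .h, .f, .e, .d, .c, .b, .a, .h, .f, .e, .d, .c, .b, .a, .h, .f, .e, .d])))) (nd 201 (nd 199 (lf [.e, .d, .c, .b, .a, .l, .h, .f, .e, .d, .c, .b, .a, .h, .f, .e, .d, .c, .b, .a, .h, .f, .e, .d, .c, .b, .a, .h, .f, .e, .d, .c, .b, .a, .h, .f, .e, .d, .c, .b, .a, .h, .f, .e, .d, .c, .b, .a, .h, .f, .e, .d, .c, .b, .a, .h, .f, .e, .d, .c, .b, .a, .h, .f]) (nd 200 (lf [.d, .i, .h, .d, .j, .g, .f, .e, .d, .l, .k, .a, .b, .c, .d, .i, .h, .d, .j, .g, .f, .e, .d,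 .l, .k, .a, .b, .c, .d, .i, .h, .d, .j, .g, .f, .e, .d, .l, .k, .a, .b, .c, .d, .i, .h, .d, .j, .g, .f, .e, .d, .l, .k, .a, .b, .c, .d, .i, .h, .d, .j, .g, .f, .e, .d, .l, .k, .a, .b, .c, .d, .i, .h, .d, .j, .g, .f, .e, .d, .l, .k, .a, .b, .c, .d, .i, .h, .d, .j, .g, .f, .e, .d, .l, .k, .a, .b, .c, .d, .i, .h, .d, .j, .g, .f, .e, .d, .l, .k, .a, .b, .c, .d, .i, .h, .d, .j, .g, .f, .e, .d, .l, .k, .a, .b, .c, .d, .i, .h, .d, .j, .g, .f, .e, .d, .l, .k, .a, .b, .c, .d, .i, .h, .d, .j, .g, .f, .e, .d, .l, .k, .a, .b, .c, .d, .i, .h, .d, .j, .g, .f, .e, .d, .l, .k, .a, .b, .c, .d, .i, .h, .d, .j, .g, .f, .e, .d, .l, .k, .a, .b, .c, .d, .i, .h, .d, .j, .g, .f, .e, .d, .l, .k, .a, .b, .c, .d, .i, .h, .d, .j, .g, .f, .e, .d, .l, .k, .a, .b, .c, .d, .i, .h, .d, .j, .g, .f, .e, .d, .l, .k, .a, .b, .c, .d, .i, .h, .d, .j, .g, .f, .e,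 .d, .l, .k, .a, .b, .c]) (lf [.d, .c, .b, .a, .k, .l, .d, .e, .f, .g, .j, .d, .h, .i, .d, .c, .b, .a, .k, .l, .d, .e, .f, .g, .j, .d, .h, .i, .d, .c, .b, .a, .k, .l, .d, .e, .f, .g, .j, .d, .h, .i, .d, .c, .b, .a, .k, .l, .d, .e, .f, .g, .j, .d, .h, .i, .d, .c, .b, .a, .k, .l, .d, .e, .f, .g, .j, .d, .h, .i, .d, .c, .b, .a, .k, .l, .d, .e, .f, .g, .j, .d, .h, .i, .d, .c, .b, .a, .k, .l, .d, .e, .f, .g, .j, .d, .h, .i, .d, .c, .b, .a, .k, .l, .d, .e, .f, .g, .j, .d, .h, .i, .d, .c, .b, .a, .k, .l, .d, .e, .f, .g, .j, .d, .h, .i, .d, .c, .b, .a, .k, .l, .d, .e, .f, .g, .j, .d, .h, .i, .d, .c, .b, .a, .k, .l, .d, .e, .f, .g, .j, .d, .h, .i, .d, .c, .b, .a, .k, .l, .d, .e, .f, .g, .j, .d, .h, .i, .d, .c, .b, .a, .k, .l, .d, .e, .f, .g, .j, .d, .h, .i, .d, .c, .b, .a, .k, .l, .d, .e, .f, .g, .j, .d, .h, .i, .d, .c, .b, .a, .k, .l,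 .d, .e, .f, .g, .j, .d, .h, .i, .d, .c, .b, .a, .k, .l, .d, .e, .f, .g, .j, .d, .h, .i, .d, .c, .b, .a, .k, .l, .d, .e, .f, .g, .j, .d, .h, .i]))) (nd 202 (lf [.e, .d, .l, .k, .a, .b, .c, .d, .i, .h, .d, .j, .g, .f, .e, .d, .l, .k, .a, .b, .c, .d, .i, .h, .d, .j, .g, .f, .e, .d, .l, .k, .a, .b, .c, .d, .i, .h, .d, .j, .g, .f, .e, .d, .l, .k, .a, .b, .c, .d, .i, .h, .d, .j, .g, .f, .e, .d, .l, .k, .a, .b, .c, .d, .i, .h, .d, .j, .g, .f, .e, .d, .l, .k, .a, .b, .c, .d, .i, .h, .d, .j, .g, .f, .e, .d, .l, .k, .a, .b, .c, .d, .i, .h, .d, .j, .g, .f, .e, .d, .l, .k, .a, .b, .c, .d, .i, .h, .d, .j, .g, .f, .e, .d, .l, .k, .a, .b, .c, .d, .i, .h, .d, .j, .g, .f, .e, .d, .l, .k, .a, .b, .c, .d, .i, .h, .d, .j, .g, .f, .e, .d, .l, .k, .a, .b, .c, .d, .i, .h, .d, .j, .g, .f, .e, .d, .l, .k, .a, .b, .c, .d, .i, .h, .d, .j, .g, .f, .e,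 .d, .l, .k, .a, .b, .c, .d, .i, .h, .d, .j, .g, .f, .e, .d, .l, .k, .a, .b, .c, .d, .i, .h, .d, .j, .g, .f, .e, .d, .l, .k, .a, .b, .c, .d, .i, .h, .d, .j, .g, .f, .e, .d, .l, .k, .a, .b, .c, .d, .i, .h, .d, .j, .g, .f, .e, .d, .l, .k, .a, .b, .c, .d, .i, .h, .d, .j, .g, .f]) (nd 203 (lf [.l, .d, .e, .f, .g, .j, .d, .h, .i, .d, .c, .b, .a, .k, .l, .d, .e, .f, .g, .j, .d, .h, .i, .d, .c, .b, .a, .k, .l, .d, .e, .f, .g, .j, .d, .h, .i, .d, .c, .b, .a, .k, .l, .d, .e, .f, .g, .j, .d, .h, .i, .d, .c, .b, .a, .k, .l, .d, .e, .f, .g, .j, .d, .h, .i, .d, .c, .b, .a, .k, .l, .d, .e, .f, .g, .j, .d, .h, .i, .d, .c, .b, .a, .k, .l, .d, .e, .f, .g, .j, .d, .h, .i, .d, .c, .b, .a, .k, .l, .d, .e, .f, .g, .j, .d, .h, .i, .d, .c, .b, .a, .k, .l, .d, .e, .f, .g, .j, .d, .h, .i, .d, .c, .b, .a, .k, .l, .d, .e, .f, .g, .j, .d, .h, .i, .d, .c,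 .b, .a, .k, .l, .d, .e, .f, .g, .j, .d, .h, .i, .d, .c, .b, .a, .k, .l, .d, .e, .f, .g, .j, .d, .h, .i, .d, .c, .b, .a, .k, .l, .d, .e, .f, .g, .j, .d, .h, .i, .d, .c, .b, .a, .k, .l, .d, .e, .f, .g, .j, .d, .h, .i, .d, .c, .b, .a, .k, .l, .d, .e, .f, .g, .j, .d, .h, .i, .d, .c, .b, .a, .k, .l, .d, .e, .f, .g, .j, .d, .h, .i, .d, .c, .b, .a, .k, .l, .d, .e, .f, .g, .j, .d, .h, .i, .d, .c, .b, .a, .k]) (lf [.c, .b, .a, .h, .f, .e, .d, .c, .b, .a, .h, .f, .e, .d, .c, .b, .a, .h, .f, .e, .d, .c, .b, .a, .h, .f, .e, .d, .c, .b, .a, .h, .f, .e, .d, .c, .b, .a, .h, .f, .e, .d, .c, .b, .a, .h, .f, .e, .d, .c, .b, .a, .l, .h, .f, .e, .d, .c, .b, .a, .h, .f, .e, .d])))))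
noncomputable def t1690_circT : ℕ → List Cfsg.Spor.Fi24.Gen := (nd 128 (nd 64 t1690_circT_c0 t1690_circT_c1) (nd 192 t1690_circT_c2 t1690_circT_c3))
def t1690_ccert : List (ℕ × ℕ × Bool) := [(15, 1, false), (16, 1, false), (17, 1, false), (18, 1, false), (19, 1, false), (20, 1, false), (21, 1, false), (22, 1, false), (23, 1, false), (1, 1, false), (3, 1, false), (4, 1, false), (5, 1, false), (6, 1, false), (7, 1, false), (8, 1, false), (9, 1, false), (10, 1, false), (11, 1, false), (14, 0, false), (28, 1, false), (29, 1, false), (30, 1, false), (31, 1, false), (32, 1, false), (33, 1, false), (34, 1, false), (35, 1, false), (2, 0, false), (0, 0, false), (15, 0, false), (27, 0, false), (41, 1, false), (42, 1, false), (43, 1, false), (44, 1, false), (45, 1, false), (46, 1, false), (47, 1, false), (1, 0, false), (14, 1, false),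 (3, 0, false), (16, 0, false), (28, 0, false), (40, 0, false), (54, 1, false), (55, 1, false), (56, 1, false), (57, 1, false), (58, 1, false), (59, 1, false), (13, 0, false), (4, 0, false), (17, 0, false), (29, 0, false), (41, 0, false), (53, 0, false), (67, 1, false), (68, 1, false), (69, 1, false), (71, 1, false), (27, 1, false), (5, 0, false), (18, 0, false), (30, 0, false), (42, 0, false), (54, 0, false), (66, 0, false), (80, 1, false), (81, 1, false), (83, 1, false), (22, 0, false), (34, 0, false), (46, 0, false), (58, 0, false), (70, 0, false), (94, 0, false), (106, 0, false), (118, 0, false), (26, 0, false), (6, 0, false), (10, 0, false), (19, 0, false), (31, 0, false), (43, 0, false), (55, 0, false), (67, 0, false), (79, 0, false), (93, 1, false), (95, 1, false), (82, 0, false), (78, 0, false), (23, 0, false), (35,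 0, false), (47, 0, false), (59, 0, false), (71, 0, false), (95, 0, false), (107, 0, false), (119, 0, false), (131, 0, false), (40, 1, false), (7, 0, false), (11, 0, false), (20, 0, false), (32, 0, false), (44, 0, false), (56, 0, false), (68, 0, false), (80, 0, false), (92, 0, false), (107, 1, false), (91, 0, false), (66, 1, false), (70, 1, false), (83, 0, false), (39, 0, false), (8, 0, false), (21, 0, false), (33, 0, false), (45, 0, false), (57, 0, false), (69, 0, false), (81, 0, false), (93, 0, false), (105, 0, false), (119, 1, false), (104, 0, false), (53, 1, false), (65, 0, false), (9, 0, false), (117, 0, false), (79, 1, false), (82, 1, false), (52, 0, false), (131, 1, false), (92, 1, false), (94, 1, false), (2, 1, false), (130, 0, false), (105, 1, false), (106, 1, false), (144, 5, false), (143, 0, false), (118, 1, false),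 (144, 6, false), (144, 13, true), (144, 6, true), (144, 10, false), (144, 2, true), (144, 62, true), (144, 20, false), (144, 5, true), (144, 2, false), (144, 27, false), (144, 11, false), (144, 12, true), (144, 4, false), (144, 1, false), (144, 50, false), (144, 4, true), (144, 63, true), (144, 8, false), (144, 52, true), (144, 59, true), (144, 9, false), (144, 0, true), (144, 3, false), (144, 53, true), (144, 48, false), (144, 19, true), (144, 61, true), (144, 7, false), (144, 60, true), (144, 63, false), (144, 62, false), (144, 18, true), (144, 0, false), (144, 49, false), (145, 1, false), (144, 21, false), (145, 3, false), (144, 54, true), (144, 33, true), (145, 7, true), (145, 9, false), (145, 13, false), (144, 13, false), (144, 32, false), (144, 28, false), (145, 4, false), (144, 45, false), (145, 2, true), (145, 8, false),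 (145, 12, false), (145, 10, false), (144, 47, true), (144, 61, false), (144, 59, false), (145, 13, true), (145, 0, false), (145, 6, true), (145, 5, false), (144, 12, false)]
noncomputable def t1690_hc1T_c0 : ℕ → List Cfsg.Spor.Fi24.Gen := (nd 5 (nd 2 (nd 1 (lf [.a]) (lf [.b])) (nd 3 (lf [.c]) (nd 4 (lf [.d]) (lf [.e])))) (nd 8 (nd 6 (lf [.f]) (nd 7 (lf [.g]) (lf [.h]))) (nd 9 (lf [.i]) (nd 10 (lf [.j]) (lf [.l])))))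
noncomputable def t1690_hc1T : ℕ → List Cfsg.Spor.Fi24.Gen := t1690_hc1T_c0
noncomputable def t1690_hc2T_c0 : ℕ → List Cfsg.Spor.Fi24.Gen := (nd 5 (nd 2 (nd 1 (lf []) (lf [])) (nd 3 (lf []) (nd 4 (lf []) (lf [])))) (nd 8 (nd 6 (lf []) (nd 7 (lf []) (lf []))) (nd 9 (lf []) (nd 10 (lf []) (lf [])))))
noncomputable def t1690_hc2T : ℕ → List Cfsg.Spor.Fi24.Gen := t1690_hc2T_c0

noncomputable def t1690_rd : W.RData Cfsg.Spor.Fi24.Gen := ⟨wrapRow 352792 t1690_rrowT, 352792, 306936, fi24_gi, fi24_gof, fi24_gens, circTab 204 t1690_circT, circTab 11 t1690_hc1T, circTab 11 t1690_hc2T, 4⟩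
noncomputable def t1690_rf (p : ℕ) : Bool := t1690_rd.chk p
def t1690_rsw : List (List Cfsg.Spor.Fi24.Gen) := [[.a], [.b], [.c], [.d], [.e], [.f], [.g], [.h], [.i], [.j], [.l]]

end Cfsg.Agent.H35
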